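import Mathlib
import Cfsg.Prelude.Def_Local
import Cfsg.Agent.Lib.helper66.PLengthSeries
import Cfsg.Agent.Lib.helper1.Coprime

/-!
# PIECE B for S1444 (B-G Theorem 3.6, helper3's proof): quotient bookkeeping

* `plength_one_of_chain` (B1)
* `exists_chain_of_plength_one_map` (B2)
* `quot_hyps` (B3)
-/

set_option autoImplicit false

namespace Cfsg.Agent.Lib.helper30

open Subgroup
open Cfsg.Agent.Lib.helper66
open scoped commutatorElement

/-- (B1) a chain `L ≤ M ≤ H` of `H`-invariant subgroups with `|L|` prime to `p`, `|M : L|` a power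
of `p` and `|H : M|` prime to `p` shows that `H` has `p`-length at most one. -/
theorem plength_one_of_chain {G : Type*} [Group G] [Finite G] {p : ℕ} [Fact p.Prime]
    (H L M : Subgroup G) (hLM : L ≤ M) (hMH : M ≤ H)
    (hL : H ≤ Subgroup.normalizer (L : Set G)) (hM : H ≤ Subgroup.normalizer (M : Set G))
    (h1 : (Nat.card L).Coprime p) (h2 : ∃ m : ℕ, L.relIndex M = p ^ m)
    (h3 : (M.relIndex H).Coprime p) : Cfsg.PLengthLE p 1 ↥H := by
  have hLH : L ≤ H := hLM.trans hMH
  have nL : (L.subgroupOf H).Normal := (Subgroup.normal_subgroupOf_iff_le_normalizer hLH).mpr hL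
  have nM : (M.subgroupOf H).Normal := (Subgroup.normal_subgroupOf_iff_le_normalizer hMH).mpr hM
  -- step 1
  have s1 : L.subgroupOf H ≤ (Cfsg.upperPSeries p ↥H 1).1 := by
    apply le_upperPSeries_succ p 0 ⊥ (L.subgroupOf H)
    · exact bot_le
    · rw [isStepFactor_of_even (by decide), Subgroup.relIndex_bot_left]
      have : Nat.card (L.subgroupOf H) = Nat.card L :=
        Nat.card_congr (Subgroup.subgroupOfEquivOfLe hLH).toEquiv
      rw [this]; exact h1
  -- step 2
  have s2 : M.subgroupOf H ≤ (Cfsg.upperPSeries p ↥H 2).1 := by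
    apply le_upperPSeries_succ p 1 (L.subgroupOf H) (M.subgroupOf H) s1
    rw [isStepFactor_of_not_even (by decide), Subgroup.relIndex_subgroupOf hMH]
    exact h2
  -- step 3
  have s3 : (⊤ : Subgroup ↥H) ≤ (Cfsg.upperPSeries p ↥H 3).1 := by
    apply le_upperPSeries_succ p 2 (M.subgroupOf H) ⊤ s2
    rw [isStepFactor_of_even (by decide), Subgroup.relIndex_top_right]
    exact h3
  exact top_le_iff.mp s3

/-- (B2) conversely, if the image of `H` in `G ⧸ N₀` has `p`-length at most one, the preimages of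
the first two terms of its upper `p`-series form a chain as in (B1) above `N₀`. -/
theorem exists_chain_of_plength_one_map {G : Type*} [Group G] [Finite G] {p : ℕ} [Fact p.Prime]
    (H N₀ : Subgroup G) [N₀.Normal] (hN₀ : N₀ ≤ H)
    (h : Cfsg.PLengthLE p 1 ↥(H.map (QuotientGroup.mk' N₀))) :
    ∃ L M : Subgroup G, N₀ ≤ L ∧ L ≤ M ∧ M ≤ H ∧ H ≤ Subgroup.normalizer (L : Set G) ∧
      H ≤ Subgroup.normalizer (M : Set G) ∧ (N₀.relIndex L).Coprime p ∧
      (∃ m : ℕ, L.relIndex M = p ^ m) ∧ (M.relIndex H).Coprime p := by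
  set π := QuotientGroup.mk' N₀ with hπ
  have hπs : Function.Surjective π := QuotientGroup.mk'_surjective N₀
  set Hb : Subgroup (G ⧸ N₀) := H.map π with hHb
  have hker : π.ker = N₀ := QuotientGroup.ker_mk' N₀
  have hcomapH : Hb.comap π = H := by
    rw [hHb, Subgroup.comap_map_eq, hker]
    exact sup_eq_left.mpr hN₀
  -- the series in `↥Hb`
  set U1 : Subgroup ↥Hb := (Cfsg.upperPSeries p ↥Hb 1).1 with hU1
  set U2 : Subgroup ↥Hb := (Cfsg.upperPSeries p ↥Hb 2).1 with hU2
  have nU1 : U1.Normal := (Cfsg.upperPSeries p ↥Hb 1).2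
  have nU2 : U2.Normal := (Cfsg.upperPSeries p ↥Hb 2).2
  have hU12 : U1 ≤ U2 := upperPSeries_le_succ p ↥Hb 1
  have hU3 : (Cfsg.upperPSeries p ↥Hb 3).1 = ⊤ := h
  set V1 : Subgroup (G ⧸ N₀) := U1.map Hb.subtype with hV1
  set V2 : Subgroup (G ⧸ N₀) := U2.map Hb.subtype with hV2
  have hV1le : V1 ≤ Hb := Subgroup.map_subtype_le U1
  have hV2le : V2 ≤ Hb := Subgroup.map_subtype_le U2
  have hV12 : V1 ≤ V2 := Subgroup.map_mono hU12
  have hsub1 : V1.subgroupOf Hb = U1 := by
    rw [hV1, Subgroup.subgroupOf, Subgroup.comap_map_eq_self_of_injective Hb.subtype_injective]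
  have hsub2 : V2.subgroupOf Hb = U2 := by
    rw [hV2, Subgroup.subgroupOf, Subgroup.comap_map_eq_self_of_injective Hb.subtype_injective]
  have hn1 : Hb ≤ Subgroup.normalizer (V1 : Set (G ⧸ N₀)) := by
    rw [← Subgroup.normal_subgroupOf_iff_le_normalizer hV1le, hsub1]; exact nU1
  have hn2 : Hb ≤ Subgroup.normalizer (V2 : Set (G ⧸ N₀)) := by
    rw [← Subgroup.normal_subgroupOf_iff_le_normalizer hV2le, hsub2]; exact nU2
  refine ⟨V1.comap π, V2.comap π, ?_, Subgroup.comap_mono hV12, ?_, ?_, ?_, ?_, ?_, ?_⟩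
  · exact le_comap_mk' N₀ V1
  · rw [← hcomapH]; exact Subgroup.comap_mono hV2le
  · calc H = Hb.comap π := hcomapH.symm
      _ ≤ (Subgroup.normalizer (V1 : Set (G ⧸ N₀))).comap π := Subgroup.comap_mono hn1
      _ ≤ Subgroup.normalizer ((V1.comap π : Subgroup G) : Set G) := Subgroup.le_normalizer_comap π
  · calc H = Hb.comap π := hcomapH.symm
      _ ≤ (Subgroup.normalizer (V2 : Set (G ⧸ N₀))).comap π := Subgroup.comap_mono hn2
      _ ≤ Subgroup.normalizer ((V2.comap π : Subgroup G) : Set G) := Subgroup.le_normalizer_comap π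
  · -- `|L : N₀| = |U1|`
    rw [← card_map_mk'_eq_relIndex, ← hπ, Subgroup.map_comap_eq_self_of_surjective hπs]
    have hc : Nat.card V1 = Nat.card U1 :=
      Nat.card_congr (U1.equivMapOfInjective Hb.subtype Hb.subtype_injective).symm.toEquiv
    rw [hc]
    have hs := isStepFactor_upperPSeries (G := ↥Hb) p 0
    rw [isStepFactor_of_even (by decide)] at hs
    have h0 : (Cfsg.upperPSeries p ↥Hb 0).1 = ⊥ := rfl
    rw [h0, Subgroup.relIndex_bot_left] at hs
    exact hs
  · rw [Subgroup.relIndex_comap, Subgroup.map_comap_eq_self_of_surjective hπs, hV1, hV2,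
      Subgroup.relIndex_map_map_of_injective _ _ Hb.subtype_injective]
    have hs := isStepFactor_upperPSeries (G := ↥Hb) p 1
    rw [isStepFactor_of_not_even (by decide)] at hs
    exact hs
  · rw [Subgroup.relIndex_comap]
    have hHb' : H.map π = (⊤ : Subgroup ↥Hb).map Hb.subtype := by
      rw [← MonoidHom.range_eq_map, Subgroup.range_subtype]
    rw [hHb', hV2, Subgroup.relIndex_map_map_of_injective _ _ Hb.subtype_injective]
    have hs := isStepFactor_upperPSeries (G := ↥Hb) p 2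
    rw [isStepFactor_of_even (by decide), hU3] at hs
    exact hs

/-- (B3) the hypotheses of B-G Theorem 3.6 pass to a quotient by a normal subgroup `N₀ ≤ H`. -/
theorem quot_hyps {G : Type*} [Group G] [Finite G] (H R R₀ N₀ : Subgroup G) [N₀.Normal]
    (hN₀ : N₀ ≤ H) (hHR : H ⊔ R = ⊤) (hRH : R ≤ Subgroup.normalizer (H : Set G))
    (hcop : (Nat.card H).Coprime (Nat.card R)) (hR₀ : R₀ ≤ R) (hr : (Nat.card R₀).Prime)
    (hZ : IsZGroup ↥(H ⊓ Subgroup.centralizer (R₀ : Set G))) (hHc : ⁅H, R⁆ = H) :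
    H.map (QuotientGroup.mk' N₀) ⊔ R.map (QuotientGroup.mk' N₀) = ⊤ ∧
    R.map (QuotientGroup.mk' N₀) ≤
      Subgroup.normalizer ((H.map (QuotientGroup.mk' N₀) : Subgroup (G ⧸ N₀)) : Set (G ⧸ N₀)) ∧
    (Nat.card ↥(H.map (QuotientGroup.mk' N₀))).Coprime
      (Nat.card ↥(R.map (QuotientGroup.mk' N₀))) ∧
    R₀.map (QuotientGroup.mk' N₀) ≤ R.map (QuotientGroup.mk' N₀) ∧
    (Nat.card ↥(R₀.map (QuotientGroup.mk' N₀))).Prime ∧
    IsZGroup ↥(H.map (QuotientGroup.mk' N₀) ⊓
      Subgroup.centralizer ((R₀.map (QuotientGroup.mk' N₀) : Subgroup (G ⧸ N₀)) : Set (G ⧸ N₀))) ∧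
    ⁅H.map (QuotientGroup.mk' N₀), R.map (QuotientGroup.mk' N₀)⁆ =
      H.map (QuotientGroup.mk' N₀) := by
  set π := QuotientGroup.mk' N₀ with hπ
  have hπs : Function.Surjective π := QuotientGroup.mk'_surjective N₀
  have hker : π.ker = N₀ := QuotientGroup.ker_mk' N₀
  have hcopR₀N : (Nat.card R₀).Coprime (Nat.card N₀) :=
    (hcop.coprime_dvd_left (Subgroup.card_dvd_of_le hN₀)).symm.coprime_dvd_left
      (Subgroup.card_dvd_of_le hR₀)
  refine ⟨?_, ?_, ?_, Subgroup.map_mono hR₀, ?_, ?_, ?_⟩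
  · rw [← Subgroup.map_sup, hHR, ← MonoidHom.range_eq_map, MonoidHom.range_eq_top]
    exact hπs
  · exact (Subgroup.map_mono hRH).trans (Subgroup.le_normalizer_map π)
  · exact (hcop.coprime_dvd_left (Subgroup.card_map_dvd H π)).coprime_dvd_right
      (Subgroup.card_map_dvd R π)
  · have hdvd : Nat.card ↥(R₀.map π) ∣ Nat.card R₀ := Subgroup.card_map_dvd R₀ π
    rcases (Nat.dvd_prime hr).mp hdvd with h1 | h1
    · exfalso
      have hbot : R₀.map π = ⊥ := Subgroup.card_eq_one.mp h1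
      have hle : R₀ ≤ N₀ := by
        rw [← hker]
        exact (Subgroup.map_eq_bot_iff R₀).mp hbot
      have h2 : Nat.card R₀ ∣ Nat.card N₀ := Subgroup.card_dvd_of_le hle
      have h3 : Nat.card R₀ = 1 := Nat.Coprime.eq_one_of_dvd hcopR₀N h2
      exact hr.one_lt.ne' h3
    · rw [h1]; exact hr
  · -- the centralizer of the image is the image of the centralizer
    have hR₀solv : Group.IsSolvable R₀ := by
      have : Fact (Nat.card R₀).Prime := ⟨hr⟩
      have hc : IsCyclic R₀ := isCyclic_of_prime_card (p := Nat.card R₀) rfl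
      have hcomm : ∀ a b : R₀, a * b = b * a := fun a b =>
        (IsCyclic.isMulCommutative (α := ↥R₀)).is_comm.comm a b
      exact Group.isSolvable_of_comm hcomm
    have hle : H.map π ⊓ Subgroup.centralizer ((R₀.map π : Subgroup (G ⧸ N₀)) : Set (G ⧸ N₀)) ≤
        (H ⊓ Subgroup.centralizer (R₀ : Set G)).map π := by
      rintro x ⟨hx1, hx2⟩
      obtain ⟨h, hh, rfl⟩ := hx1
      have hx2' := Subgroup.mem_centralizer_iff.mp hx2
      have hg : ∀ a ∈ R₀, a * h * a⁻¹ * h⁻¹ ∈ N₀ := by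
        intro a ha
        have e := hx2' (π a) (Subgroup.mem_map_of_mem π ha)
        rw [← hker, MonoidHom.mem_ker]
        rw [map_mul, map_mul, map_mul, map_inv, map_inv, e]
        group
      obtain ⟨c, hc, hck⟩ := Cfsg.Agent.Lib.helper1.coset_fixed R₀ N₀
        (by rw [Subgroup.normalizer_eq_top]; exact le_top) hcopR₀N (Or.inl hR₀solv) h hg
      refine ⟨c, ⟨?_, hc⟩, ?_⟩
      · have : c = (c * h⁻¹) * h := by group
        rw [this]
        exact H.mul_mem (hN₀ hck) hh
      · have : π (c * h⁻¹) = 1 := by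
          rw [← MonoidHom.mem_ker, hker]; exact hck
        rw [map_mul, map_inv, mul_inv_eq_one] at this
        exact this
    have hZ' : IsZGroup ↥((H ⊓ Subgroup.centralizer (R₀ : Set G)).map π) :=
      IsZGroup.of_surjective (f := π.subgroupMap (H ⊓ Subgroup.centralizer (R₀ : Set G)))
        (π.subgroupMap_surjective _)
    exact IsZGroup.of_injective (f := Subgroup.inclusion hle) (Subgroup.inclusion_injective hle)
  · rw [← Subgroup.map_commutator, hHc]

end Cfsg.Agent.Lib.helper30
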