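import Mathlib
import Cfsg.Agent.Lib.helper30.Critical
import Cfsg.Agent.Lib.helper30.SectionAction

set_option autoImplicit false

namespace Cfsg.Agent.Lib.helper30

open scoped commutatorElement

theorem pgroup_lt_card {G : Type*} [Group G] [Finite G] (p : ℕ) [Fact p.Prime] (H K : Subgroup G)
    (hK : IsPGroup p K) (hHK : H < K) : p * Nat.card H ≤ Nat.card K := by
  have hpp : p.Prime := Fact.out
  obtain ⟨k, hk⟩ := (IsPGroup.iff_card).mp hK
  obtain ⟨h, hh⟩ := (IsPGroup.iff_card).mp (hK.to_le hHK.le)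
  have hlt : Nat.card H < Nat.card K := by
    by_contra hge
    push Not at hge
    exact hHK.ne (Subgroup.eq_of_le_of_card_ge hHK.le hge)
  rw [hk, hh] at hlt ⊢
  have hhk : h < k := (Nat.pow_lt_pow_iff_right hpp.one_lt).mp hlt
  calc p * p ^ h = p ^ (h + 1) := by ring
    _ ≤ p ^ k := Nat.pow_le_pow_right hpp.pos hhk

theorem closure_comm {G : Type*} [Group G] (S : Set G) (h : ∀ s ∈ S, ∀ t ∈ S, s * t = t * s) :
    ∀ u ∈ Subgroup.closure S, ∀ v ∈ Subgroup.closure S, u * v = v * u := by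
  intro u hu v hv
  have h1 : Subgroup.closure S ≤ Subgroup.centralizer S := by
    rw [Subgroup.closure_le]
    intro s hs
    refine Subgroup.mem_centralizer_iff.mpr ?_
    intro t ht
    exact h t ht s hs
  have h2 := Subgroup.closure_le_centralizer_centralizer S hu
  exact (Subgroup.mem_centralizer_iff.mp h2 v (h1 hv)).symm

/-- Enlarging an abelian subgroup by an element centralizing it. -/
theorem abelian_extend {G : Type*} [Group G] (B E : Subgroup G) (hEB : E ≤ B)
    (hEab : ∀ u ∈ E, ∀ v ∈ E, u * v = v * u) (c : G) (hcB : c ∈ B)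
    (hcE : ∀ e ∈ E, c * e = e * c) :
    ∃ E' : Subgroup G, E ≤ E' ∧ c ∈ E' ∧ E' ≤ B ∧ (∀ u ∈ E', ∀ v ∈ E', u * v = v * u) ∧
      ∀ w : G, (∀ e ∈ E, w * e = e * w) → w * c = c * w → ∀ e ∈ E', w * e = e * w := by
  refine ⟨Subgroup.closure ((E : Set G) ∪ {c}), ?_, ?_, ?_, ?_, ?_⟩
  · intro e he
    exact Subgroup.subset_closure (Or.inl he)
  · exact Subgroup.subset_closure (Or.inr rfl)
  · rw [Subgroup.closure_le]
    rintro s (hs | hs)
    · exact hEB hs
    · rw [Set.mem_singleton_iff] at hs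
      rw [hs]; exact hcB
  · apply closure_comm
    rintro s (hs | hs) t (ht | ht)
    · exact hEab s hs t ht
    · rw [Set.mem_singleton_iff] at ht
      rw [ht]; exact (hcE s hs).symm
    · rw [Set.mem_singleton_iff] at hs
      rw [hs]; exact hcE t ht
    · rw [Set.mem_singleton_iff] at hs ht
      rw [hs, ht]
  · intro w hwE hwc
    have : Subgroup.closure ((E : Set G) ∪ {c}) ≤ Subgroup.centralizer ({w} : Set G) := by
      rw [Subgroup.closure_le]
      rintro s (hs | hs)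
      · refine Subgroup.mem_centralizer_iff.mpr ?_
        intro w' hw'
        rw [Set.mem_singleton_iff] at hw'
        rw [hw']; exact hwE s hs
      · rw [Set.mem_singleton_iff] at hs
        refine Subgroup.mem_centralizer_iff.mpr ?_
        intro w' hw'
        rw [Set.mem_singleton_iff] at hw'
        rw [hw', hs]; exact hwc
    intro e he
    exact Subgroup.mem_centralizer_iff.mp (this he) w rfl

/-- A `p`-group `B` of class at most two in which every abelian subgroup has order at most `p ^ 2`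
has `|B : B'|` dividing `p ^ 2`. -/
theorem relIndex_commutator_dvd {G : Type*} [Group G] [Finite G] (p : ℕ) [Fact p.Prime]
    (B : Subgroup G) (hB : IsPGroup p B)
    (hcl : ∀ x ∈ B, ∀ y ∈ B, ∀ z ∈ B, (x * y * x⁻¹ * y⁻¹) * z = z * (x * y * x⁻¹ * y⁻¹))
    (hrank : ∀ E : Subgroup G, E ≤ B → (∀ x ∈ E, ∀ y ∈ E, x * y = y * x) → Nat.card E ≤ p ^ 2) :
    (⁅B, B⁆).relIndex B ∣ p ^ 2 := by
  have hpp : p.Prime := Fact.out
  have hsuff : Nat.card B ≤ p ^ 2 * Nat.card (⁅B, B⁆ : Subgroup G) → (⁅B, B⁆).relIndex B ∣ p ^ 2 := by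
    intro hle
    have h1 : Nat.card (⁅B, B⁆ : Subgroup G) * (⁅B, B⁆).relIndex B = Nat.card B := by
      have := Subgroup.relIndex_mul_relIndex (H := ⊥) (K := ⁅B, B⁆) (L := B) bot_le
        (Subgroup.commutator_le_self B)
      rwa [Subgroup.relIndex_bot_left, Subgroup.relIndex_bot_left] at this
    obtain ⟨n, hn⟩ := (IsPGroup.iff_card).mp hB
    have h2 : (⁅B, B⁆).relIndex B ∣ p ^ n := by rw [← hn]; exact Subgroup.relIndex_dvd_card _ _
    obtain ⟨m, -, hm⟩ := (Nat.dvd_prime_pow hpp).mp h2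
    rw [hm]
    apply pow_dvd_pow
    have hpos : 0 < Nat.card (⁅B, B⁆ : Subgroup G) := Nat.card_pos
    have h3 : (⁅B, B⁆).relIndex B ≤ p ^ 2 := by
      by_contra hgt
      push Not at hgt
      have h4 : Nat.card (⁅B, B⁆ : Subgroup G) * p ^ 2 < Nat.card (⁅B, B⁆ : Subgroup G) * (⁅B, B⁆).relIndex B :=
        Nat.mul_lt_mul_of_pos_left hgt hpos
      rw [h1] at h4
      rw [mul_comm] at h4
      omega
    rw [hm] at h3
    exact (Nat.pow_le_pow_iff_right hpp.one_lt).mp h3
  by_cases hab : ∀ x ∈ B, ∀ y ∈ B, x * y = y * x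
  · apply hsuff
    calc Nat.card B ≤ p ^ 2 := hrank B le_rfl hab
      _ ≤ p ^ 2 * Nat.card (⁅B, B⁆ : Subgroup G) := Nat.le_mul_of_pos_right _ Nat.card_pos
  · push Not at hab
    obtain ⟨b, hb, y, hy, hby⟩ := hab
    -- the centre is nontrivial
    have hZB : B ⊓ Subgroup.centralizer (B : Set G) ≤ B := inf_le_left
    have hZab : ∀ u ∈ B ⊓ Subgroup.centralizer (B : Set G),
        ∀ v ∈ B ⊓ Subgroup.centralizer (B : Set G), u * v = v * u := by
      intro u hu v hv
      exact Subgroup.mem_centralizer_iff.mp hv.2 u hu.1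
    have hZne : B ⊓ Subgroup.centralizer (B : Set G) ≠ ⊥ := by
      have hnt : Nontrivial B := by
        refine ⟨⟨⟨b, hb⟩, ⟨y, hy⟩, ?_⟩⟩
        intro h
        have : b = y := congrArg Subtype.val h
        rw [this] at hby
        exact hby rfl
      have hcn : Nontrivial (Subgroup.center B) := hB.center_nontrivial
      obtain ⟨z, hz⟩ := exists_ne (1 : Subgroup.center B)
      intro hbot
      have hzmem : ((z : B) : G) ∈ B ⊓ Subgroup.centralizer (B : Set G) := by
        refine ⟨(z : B).2, ?_⟩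
        refine Subgroup.mem_centralizer_iff.mpr ?_
        intro c hc
        have := Subgroup.mem_center_iff.mp z.2 ⟨c, hc⟩
        exact congrArg Subtype.val this
      rw [hbot, Subgroup.mem_bot] at hzmem
      apply hz
      ext
      simpa using hzmem
    have hZcard : p ≤ Nat.card (B ⊓ Subgroup.centralizer (B : Set G) : Subgroup G) := by
      have := pgroup_lt_card p ⊥ _ (hB.to_le hZB) (bot_lt_iff_ne_bot.mpr hZne)
      rwa [Subgroup.card_bot, mul_one] at this
    -- elements of `B` commuting with `b` commute with each other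
    have hK : ∀ x ∈ B, ∀ x' ∈ B, x * b = b * x → x' * b = b * x' → x * x' = x' * x := by
      intro x hx x' hx' hxb hx'b
      by_contra hne
      have hbZ : ∀ e ∈ B ⊓ Subgroup.centralizer (B : Set G), ∀ w ∈ B, w * e = e * w := by
        intro e he w hw
        exact Subgroup.mem_centralizer_iff.mp he.2 w hw
      obtain ⟨E₁, hZE₁, hbE₁, hE₁B, hE₁ab, hE₁c⟩ :=
        abelian_extend B _ hZB hZab b hb (fun e he => hbZ e he b hb)
      have hxE₁ : ∀ e ∈ E₁, x * e = e * x := hE₁c x (fun e he => hbZ e he x hx) hxb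
      have hx'E₁ : ∀ e ∈ E₁, x' * e = e * x' := hE₁c x' (fun e he => hbZ e he x' hx') hx'b
      have hxnot : x ∉ E₁ := by
        intro hxin
        exact hne (hx'E₁ x hxin).symm
      obtain ⟨E₂, hE₁E₂, hxE₂, hE₂B, hE₂ab, -⟩ := abelian_extend B E₁ hE₁B hE₁ab x hx hxE₁
      have hlt1 : B ⊓ Subgroup.centralizer (B : Set G) < E₁ := by
        refine lt_of_le_of_ne hZE₁ ?_
        intro heq
        rw [← heq] at hbE₁
        exact hby (Subgroup.mem_centralizer_iff.mp hbE₁.2 y hy).symm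
      have hlt2 : E₁ < E₂ := by
        refine lt_of_le_of_ne hE₁E₂ ?_
        intro heq
        rw [← heq] at hxE₂
        exact hxnot hxE₂
      have c1 := pgroup_lt_card p _ E₁ (hB.to_le hE₁B) hlt1
      have c2 := pgroup_lt_card p E₁ E₂ (hB.to_le hE₂B) hlt2
      have c3 := hrank E₂ hE₂B hE₂ab
      have c4 : p ^ 3 ≤ p ^ 2 := by
        calc p ^ 3 = p * (p * p) := by ring
          _ ≤ p * (p * Nat.card (B ⊓ Subgroup.centralizer (B : Set G) : Subgroup G)) :=
              Nat.mul_le_mul_left _ (Nat.mul_le_mul_left _ hZcard)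
          _ ≤ p * Nat.card E₁ := Nat.mul_le_mul_left _ c1
          _ ≤ Nat.card E₂ := c2
          _ ≤ p ^ 2 := c3
      have := (Nat.pow_le_pow_iff_right hpp.one_lt).mp c4
      omega
    -- the commutator homomorphism
    have hcb : ∀ x ∈ B, x * b * x⁻¹ * b⁻¹ ∈ B := fun x hx =>
      B.mul_mem (B.mul_mem (B.mul_mem hx hb) (B.inv_mem hx)) (B.inv_mem hb)
    let f : B →* G := MonoidHom.mk' (fun x => (x : G) * b * (x : G)⁻¹ * b⁻¹) (by
      intro x y
      have h1 : ((x * y : B) : G) * b * ((x * y : B) : G)⁻¹ * b⁻¹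
          = (x : G) * ((y : G) * b * (y : G)⁻¹ * b⁻¹) * (x : G)⁻¹ * ((x : G) * b * (x : G)⁻¹ * b⁻¹) := by
        rw [Subgroup.coe_mul]; group
      have h2 : (x : G) * ((y : G) * b * (y : G)⁻¹ * b⁻¹) * (x : G)⁻¹ = (y : G) * b * (y : G)⁻¹ * b⁻¹ := by
        have := hcl y y.2 b hb x x.2
        rw [← this]; group
      have h3 := hcl x x.2 b hb _ (hcb y y.2)
      rw [h1, h2, h3])
    have hfapp : ∀ x : B, f x = (x : G) * b * (x : G)⁻¹ * b⁻¹ := fun x => rfl
    have hrange : f.range ≤ ⁅B, B⁆ := by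
      rintro _ ⟨x, rfl⟩
      rw [hfapp, ← commutatorElement_def]
      exact Subgroup.commutator_mem_commutator x.2 hb
    have hkerab : ∀ u ∈ f.ker.map B.subtype, ∀ v ∈ f.ker.map B.subtype, u * v = v * u := by
      rintro _ ⟨u, hu, rfl⟩ _ ⟨v, hv, rfl⟩
      have hu := MonoidHom.mem_ker.mp hu
      have hv := MonoidHom.mem_ker.mp hv
      rw [hfapp] at hu hv
      have hu' : (u : G) * b = b * (u : G) := by
        have : (u : G) * b = ((u : G) * b * (u : G)⁻¹ * b⁻¹) * (b * (u : G)) := by group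
        rw [this, hu, one_mul]
      have hv' : (v : G) * b = b * (v : G) := by
        have : (v : G) * b = ((v : G) * b * (v : G)⁻¹ * b⁻¹) * (b * (v : G)) := by group
        rw [this, hv, one_mul]
      exact hK _ u.2 _ v.2 hu' hv'
    have hkerB : f.ker.map B.subtype ≤ B := by
      rintro _ ⟨u, -, rfl⟩
      exact u.2
    have hkercard : Nat.card f.ker ≤ p ^ 2 := by
      rw [← Subgroup.card_map_of_injective (K := f.ker) B.subtype_injective]
      exact hrank _ hkerB hkerab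
    apply hsuff
    calc Nat.card B = Nat.card f.ker * f.ker.index := (Subgroup.card_mul_index _).symm
      _ = Nat.card f.ker * Nat.card f.range := by rw [Subgroup.index_ker]
      _ ≤ p ^ 2 * Nat.card (⁅B, B⁆ : Subgroup G) := Nat.mul_le_mul hkercard (Subgroup.card_le_of_le hrange)

theorem comm_mul_central {G : Type*} [Group G] (x y z₁ z₂ : G) (h2x : Commute z₂ x)
    (h1y : Commute z₁ y) (h12 : Commute z₁ z₂) (h1w : Commute z₁ (x * y * x⁻¹ * y⁻¹))
    (h2w : Commute z₂ (x * y * x⁻¹ * y⁻¹)) :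
    (z₁ * x) * (z₂ * y) * (z₁ * x)⁻¹ * (z₂ * y)⁻¹ = x * y * x⁻¹ * y⁻¹ := by
  have e1 : (z₁ * x) * (z₂ * y) = (z₁ * z₂) * (x * y) := by
    calc (z₁ * x) * (z₂ * y) = z₁ * (x * z₂) * y := by group
      _ = z₁ * (z₂ * x) * y := by rw [h2x.eq]
      _ = (z₁ * z₂) * (x * y) := by group
  have e2 : (z₂ * y) * (z₁ * x) = (z₁ * z₂) * (y * x) := by
    calc (z₂ * y) * (z₁ * x) = z₂ * (y * z₁) * x := by group
      _ = z₂ * (z₁ * y) * x := by rw [h1y.eq]
      _ = (z₂ * z₁) * (y * x) := by group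
      _ = (z₁ * z₂) * (y * x) := by rw [h12.eq]
  have e3 : Commute (z₁ * z₂) (x * y * x⁻¹ * y⁻¹) := h1w.mul_left h2w
  have e4 : (z₁ * x) * (z₂ * y) = (x * y * x⁻¹ * y⁻¹) * ((z₂ * y) * (z₁ * x)) := by
    rw [e1, e2]
    calc (z₁ * z₂) * (x * y) = ((z₁ * z₂) * (x * y * x⁻¹ * y⁻¹)) * (y * x) := by group
      _ = ((x * y * x⁻¹ * y⁻¹) * (z₁ * z₂)) * (y * x) := by rw [e3.eq]
      _ = (x * y * x⁻¹ * y⁻¹) * ((z₁ * z₂) * (y * x)) := by rw [mul_assoc]
  have e5 : (z₁ * x) * (z₂ * y) * (z₁ * x)⁻¹ * (z₂ * y)⁻¹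
      = ((z₁ * x) * (z₂ * y)) * ((z₂ * y) * (z₁ * x))⁻¹ := by group
  rw [e5, e4]; group

/-- A `p'`-element acting trivially on `B / B'`, where the `p`-group `B` has class at most two,
centralizes `B`. -/
theorem centralizes_of_trivial_on_frattini {G : Type*} [Group G] [Finite G] (p : ℕ) [Fact p.Prime]
    (B : Subgroup G) (hB : IsPGroup p B)
    (hcl : ∀ x ∈ B, ∀ y ∈ B, ∀ z ∈ B, (x * y * x⁻¹ * y⁻¹) * z = z * (x * y * x⁻¹ * y⁻¹))
    (a : G) (hcop : (orderOf a).Coprime p)
    (ha : ∀ u ∈ B, a * u * a⁻¹ * u⁻¹ ∈ ⁅B, B⁆) : ∀ u ∈ B, a * u = u * a := by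
  have hB'B : ⁅B, B⁆ ≤ B := Subgroup.commutator_le_self B
  -- `B'` is central in `B`
  have hcen : ∀ z ∈ ⁅B, B⁆, ∀ u ∈ B, Commute z u := by
    have h1 : ⁅B, B⁆ ≤ Subgroup.centralizer (B : Set G) := by
      rw [Subgroup.commutator_le]
      intro x hx y hy
      refine Subgroup.mem_centralizer_iff.mpr ?_
      intro u hu
      rw [commutatorElement_def]
      exact (hcl x hx y hy u hu).symm
    intro z hz u hu
    exact (Subgroup.mem_centralizer_iff.mp (h1 hz) u hu).symm
  -- `a` centralizes `B'`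
  have haB' : ∀ z ∈ ⁅B, B⁆, a * z = z * a := by
    have h1 : ⁅B, B⁆ ≤ Subgroup.centralizer ({a} : Set G) := by
      rw [Subgroup.commutator_le]
      intro x hx y hy
      refine Subgroup.mem_centralizer_iff.mpr ?_
      intro a' ha'
      rw [Set.mem_singleton_iff] at ha'
      subst ha'
      rw [commutatorElement_def]
      have hz1 := ha x hx
      have hz2 := ha y hy
      have hw : x * y * x⁻¹ * y⁻¹ ∈ B :=
        B.mul_mem (B.mul_mem (B.mul_mem hx hy) (B.inv_mem hx)) (B.inv_mem hy)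
      have e5 : a' * (x * y * x⁻¹ * y⁻¹)
          = ((a' * x * a'⁻¹ * x⁻¹) * x) * ((a' * y * a'⁻¹ * y⁻¹) * y) * ((a' * x * a'⁻¹ * x⁻¹) * x)⁻¹
            * ((a' * y * a'⁻¹ * y⁻¹) * y)⁻¹ * a' := by group
      rw [e5, comm_mul_central x y _ _ (hcen _ hz2 x hx) (hcen _ hz1 y hy)
        (hcen _ hz1 _ (hB'B hz2)) (hcen _ hz1 _ hw) (hcen _ hz2 _ hw)]
    intro z hz
    exact Subgroup.mem_centralizer_iff.mp (h1 hz) a rfl
  intro u hu
  have hz : u * a * u⁻¹ * a⁻¹ ∈ ⁅B, B⁆ := by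
    have h1 : u * a * u⁻¹ * a⁻¹ = (a * u * a⁻¹ * u⁻¹)⁻¹ := by group
    rw [h1]
    exact Subgroup.inv_mem _ (ha u hu)
  obtain ⟨k, hk⟩ : ∃ k, orderOf (u * a * u⁻¹ * a⁻¹) = p ^ k := by
    obtain ⟨k, hk⟩ := (IsPGroup.iff_orderOf.mp hB) ⟨_, hB'B hz⟩
    exact ⟨k, by rw [← hk, ← Subgroup.orderOf_coe]⟩
  have hcop' : (orderOf a).Coprime (orderOf (u * a * u⁻¹ * a⁻¹)) := by
    rw [hk]; exact Nat.Coprime.pow_right _ hcop
  have h1 := Cfsg.Agent.S1441.comm_eq_one_of_coprime a u _ rfl (haB' _ hz) hcop'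
  have h2 : u * a = (u * a * u⁻¹ * a⁻¹) * (a * u) := by group
  rw [h1, one_mul] at h2
  exact h2.symm

/-- For an odd prime `p` and a `p`-subgroup `R` of rank at most two there is a subgroup `B ≤ R`
of exponent `p`, invariant under `N_G(R)`, with `|B : B'|` dividing `p ^ 2`, such that every
`p'`-element of `N_G(R)` acting trivially on `B / B'` centralizes `R`. -/
theorem exists_small_section {G : Type*} [Group G] [Finite G] (p : ℕ) [Fact p.Prime] (hp : p ≠ 2)
    (R : Subgroup G) (hR : IsPGroup p R) (hr : Cfsg.PRankLE p 2 R) :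
    ∃ B : Subgroup G, B ≤ R ∧ Subgroup.normalizer (R : Set G) ≤ Subgroup.normalizer (B : Set G) ∧
      (∀ b ∈ B, b ^ p = 1) ∧ (⁅B, B⁆).relIndex B ∣ p ^ 2 ∧
      ∀ a ∈ Subgroup.normalizer (R : Set G), (orderOf a).Coprime p →
        (∀ u ∈ B, a * u * a⁻¹ * u⁻¹ ∈ ⁅B, B⁆) → ∀ r ∈ R, a * r = r * a := by
  obtain ⟨C, hCR, hCN, hCcl, hCcrit⟩ := exists_critical p R hR
  obtain ⟨B, hBmem⟩ := exists_omega p hp C hCcl
  have hBC : B ≤ C := fun x hx => ((hBmem x).mp hx).1
  have hBR : B ≤ R := hBC.trans hCR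
  have hBp : IsPGroup p B := hR.to_le hBR
  have hBcl : ∀ x ∈ B, ∀ y ∈ B, ∀ z ∈ B, (x * y * x⁻¹ * y⁻¹) * z = z * (x * y * x⁻¹ * y⁻¹) :=
    fun x hx y hy z hz => hCcl x (hBC hx) y (hBC hy) z (hBC hz)
  have hBN : Subgroup.normalizer (R : Set G) ≤ Subgroup.normalizer (B : Set G) := by
    intro n hn
    have hnC := hCN hn
    apply mem_normalizer_of_conj
    · intro x hx
      obtain ⟨hxC, hxp⟩ := (hBmem x).mp hx
      refine (hBmem _).mpr ⟨(Subgroup.mem_normalizer_iff.mp hnC x).mp hxC, ?_⟩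
      rw [conj_pow, hxp]; group
    · intro x hx
      obtain ⟨hxC, hxp⟩ := (hBmem x).mp hx
      refine (hBmem _).mpr ⟨(Subgroup.mem_normalizer_iff''.mp hnC x).mp hxC, ?_⟩
      have h1 : (n⁻¹ * x * n) ^ p = n⁻¹ * x ^ p * n := by
        have := conj_pow (i := p) (a := n⁻¹) (b := x)
        rwa [inv_inv] at this
      rw [h1, hxp]; group
  have hBexp : ∀ b ∈ B, b ^ p = 1 := fun b hb => ((hBmem b).mp hb).2
  have hrank : ∀ E : Subgroup G, E ≤ B → (∀ x ∈ E, ∀ y ∈ E, x * y = y * x) →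
      Nat.card E ≤ p ^ 2 := by
    intro E hEB hEab
    have hER : E ≤ R := hEB.trans hBR
    have h1 := hr (E.subgroupOf R) ?_ ?_
    · rwa [Nat.card_congr (Subgroup.subgroupOfEquivOfLe hER).toEquiv] at h1
    · rw [isMulCommutative_iff]
      intro u v
      apply Subtype.ext
      apply Subtype.ext
      exact hEab _ (Subgroup.mem_subgroupOf.mp u.2) _ (Subgroup.mem_subgroupOf.mp v.2)
    · intro u hu
      apply Subtype.ext
      rw [Subgroup.coe_pow]
      exact hBexp _ (hEB (Subgroup.mem_subgroupOf.mp hu))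
  refine ⟨B, hBR, hBN, hBexp, relIndex_commutator_dvd p B hBp hBcl hrank, ?_⟩
  intro a haR hcop hact
  have haB := centralizes_of_trivial_on_frattini p B hBp hBcl a hcop hact
  have haC : ∀ x ∈ C, a * x = x * a := by
    refine Cfsg.Agent.S1443.main p hp a hcop (Nat.card C) C ⊥ rfl (hR.to_le hCR) (hCN haR) bot_le
      ?_ ?_ ?_
    · intro e he f hf
      rw [Subgroup.mem_bot] at he hf
      rw [he, hf]
    · intro e he
      rw [Subgroup.mem_bot] at he
      rw [he, one_pow]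
    · intro x hx hxp
      exact haB x ((hBmem x).mpr ⟨hx.1, hxp⟩)
  exact hCcrit a haR hcop haC

/-- Let `p` be an odd prime, `R` a `p`-subgroup of rank at most two and `A` a solvable subgroup of odd
order normalizing `R`.  Then every `p'`-element of `A'` centralizes `R`. -/
theorem commutator_centralizes {G : Type*} [Group G] [Finite G] (p : ℕ) [Fact p.Prime] (hp : p ≠ 2)
    (R A : Subgroup G) (hR : IsPGroup p R) (hr : Cfsg.PRankLE p 2 R)
    (hA : A ≤ Subgroup.normalizer (R : Set G)) (hAs : Group.IsSolvable A)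
    (hAodd : Odd (Nat.card A)) :
    ∀ c ∈ ⁅A, A⁆, (orderOf c).Coprime p → ∀ r ∈ R, c * r = r * c := by
  obtain ⟨B, hBR, hBN, hBexp, hBidx, hBcrit⟩ := exists_small_section p hp R hR hr
  have hAB : A ≤ Subgroup.normalizer (B : Set G) := hA.trans hBN
  have hnorm : ∀ n ∈ Subgroup.normalizer (B : Set G),
      n ∈ Subgroup.normalizer ((⁅B, B⁆ : Subgroup G) : Set G) := by
    have hconj : ∀ n ∈ Subgroup.normalizer (B : Set G), ∀ x ∈ ⁅B, B⁆, n * x * n⁻¹ ∈ ⁅B, B⁆ := by
      intro n hn x hx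
      have h1 : (⁅B, B⁆).map (MulAut.conj n).toMonoidHom ≤ ⁅B, B⁆ := by
        rw [Subgroup.map_commutator]
        have h2 : B.map (MulAut.conj n).toMonoidHom ≤ B := by
          rintro _ ⟨y, hy, rfl⟩
          exact (Subgroup.mem_normalizer_iff.mp hn y).mp hy
        exact Subgroup.commutator_mono h2 h2
      exact h1 ⟨x, hx, rfl⟩
    intro n hn
    apply mem_normalizer_of_conj
    · exact hconj n hn
    · intro x hx
      have := hconj n⁻¹ (Subgroup.inv_mem _ hn) x hx
      rwa [inv_inv] at this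
  have key := section_commutator_pow p hp B ⁅B, B⁆ A (Subgroup.commutator_le_self B)
    (fun b hb => hnorm b (Subgroup.le_normalizer hb)) hAB (fun a ha => hnorm a (hAB ha))
    (fun u hu v hv => by
      rw [← commutatorElement_def]; exact Subgroup.commutator_mem_commutator hu hv)
    (fun u hu => by rw [hBexp u hu]; exact Subgroup.one_mem _) hBidx hAodd hAs
  intro c hc hcop r hr'
  have hcA : c ∈ A := Subgroup.commutator_le_self A hc
  have hcp : ∀ r ∈ R, c ^ p * r = r * c ^ p := by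
    apply hBcrit (c ^ p) (Subgroup.pow_mem _ (hA hcA) p)
    · exact Nat.Coprime.coprime_dvd_left (orderOf_pow_dvd p) hcop
    · exact key c hc
  obtain ⟨m, hm⟩ := exists_pow_eq_self_of_coprime (x := c) (n := p) hcop.symm
  have h1 : Commute (c ^ p) r := hcp r hr'
  have h2 : Commute ((c ^ p) ^ m) r := h1.pow_left m
  rw [hm] at h2
  exact h2.eq

end Cfsg.Agent.Lib.helper30
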