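import Mathlib
import Cfsg.Agent.Lib.helper30.SectionAction

set_option autoImplicit false

namespace Cfsg.Agent.Lib.helper30

open scoped commutatorElement

universe u

/-- The action of `A` on the section `U / W` by conjugation, as a homomorphism into the automorphism
group of an abstract group `V` of order `|U : W|`, with its kernel described. -/
theorem exists_section_action {G : Type u} [Group G] (U W A : Subgroup G)
    (hWU : W ≤ U) (hUW : U ≤ Subgroup.normalizer (W : Set G))
    (hAU : A ≤ Subgroup.normalizer (U : Set G)) (hAW : A ≤ Subgroup.normalizer (W : Set G)) :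
    ∃ (V : Type u) (_ : Group V) (ρ : A →* MulAut V), Nat.card V = W.relIndex U ∧
      ∀ a : A, ρ a = 1 ↔ ∀ u ∈ U, (a : G) * u * (a : G)⁻¹ * u⁻¹ ∈ W := by
  have hn : (W.subgroupOf U).Normal := (Subgroup.normal_subgroupOf_iff_le_normalizer hWU).mpr hUW
  let ρ : A →* MulAut (U ⧸ W.subgroupOf U) := MonoidHom.mk'
    (fun a => QuotientGroup.congr (W.subgroupOf U) (W.subgroupOf U) (conjAut U a (hAU a.2))
      (conjAut_map_subgroupOf U W a (hAU a.2) (hAW a.2)))
    (by
      intro a b
      ext x
      induction x using QuotientGroup.induction_on with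
      | H u =>
        rw [MulAut.mul_apply, QuotientGroup.congr_mk, QuotientGroup.congr_mk, QuotientGroup.congr_mk]
        congr 1
        ext
        simp [conjAut_apply, mul_assoc])
  refine ⟨U ⧸ W.subgroupOf U, inferInstance, ρ, ?_, ?_⟩
  · rw [← Subgroup.index_eq_card]
    rfl
  · intro a
    constructor
    · intro h u hu
      have h2 := congrArg (fun σ : MulAut (U ⧸ W.subgroupOf U) => σ (QuotientGroup.mk ⟨u, hu⟩)) h
      simp only [ρ, MonoidHom.mk'_apply, QuotientGroup.congr_mk, MulAut.one_apply] at h2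
      rw [eq_comm, QuotientGroup.eq, Subgroup.mem_subgroupOf] at h2
      simp only [Subgroup.coe_mul, Subgroup.coe_inv, conjAut_apply] at h2
      have h3 := (Subgroup.mem_normalizer_iff.mp (hUW hu) _).mp h2
      simpa [mul_assoc] using h3
    · intro h
      ext x
      induction x using QuotientGroup.induction_on with
      | H u =>
        simp only [ρ, MonoidHom.mk'_apply, QuotientGroup.congr_mk, MulAut.one_apply]
        rw [eq_comm, QuotientGroup.eq, Subgroup.mem_subgroupOf]
        simp only [Subgroup.coe_mul, Subgroup.coe_inv, conjAut_apply]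
        have h1 := h u u.2
        have h2 := (Subgroup.mem_normalizer_iff''.mp (hUW u.2) _).mp h1
        have h3 : (u : G)⁻¹ * ((a : G) * u * (a : G)⁻¹ * (u : G)⁻¹) * u
            = (u : G)⁻¹ * ((a : G) * u * (a : G)⁻¹) := by group
        rwa [h3] at h2

/-- An automorphism of prime order `q > p` (`p`, `q` odd) of a group of order dividing `p ^ 2` is
trivial. -/
theorem mulAut_eq_one_of_prime_order (p q : ℕ) [Fact p.Prime] [Fact q.Prime] (hpq : p < q)
    (hp2 : p ≠ 2) (hq2 : q ≠ 2) {V : Type*} [Group V] [Finite V] (hcard : Nat.card V ∣ p ^ 2)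
    (σ : MulAut V) (hσ : σ ^ q = 1) : σ = 1 := by
  have hpp : p.Prime := Fact.out
  have hqq : q.Prime := Fact.out
  let F : Subgroup V :=
    { carrier := {v | σ v = v}
      one_mem' := map_one σ
      mul_mem' := by
        intro a b ha hb
        simp only [Set.mem_ofPred_eq] at *
        rw [map_mul, ha, hb]
      inv_mem' := by
        intro a ha
        simp only [Set.mem_ofPred_eq] at *
        rw [map_inv, ha] }
  have hFmem : ∀ v : V, v ∈ F ↔ σ v = v := fun v => Iff.rfl
  have hZ : IsPGroup q (Subgroup.zpowers σ) := by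
    intro g
    refine ⟨1, ?_⟩
    obtain ⟨n, hn⟩ := Subgroup.mem_zpowers_iff.mp g.2
    apply Subtype.ext
    rw [Subgroup.coe_pow, pow_one, ← hn, Subgroup.coe_one, ← zpow_natCast, ← zpow_mul, mul_comm,
      zpow_mul, zpow_natCast, hσ, one_zpow]
  have hmod := hZ.card_modEq_card_fixedPoints V
  have hfix : Nat.card (MulAction.fixedPoints (Subgroup.zpowers σ) V) = Nat.card F := by
    apply Nat.card_congr
    refine Equiv.subtypeEquivRight ?_
    intro v
    constructor
    · intro h
      exact h ⟨σ, Subgroup.mem_zpowers σ⟩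
    · intro h τ
      have hle : Subgroup.zpowers σ ≤ MulAction.stabilizer (MulAut V) v := by
        rw [Subgroup.zpowers_le]
        exact h
      exact hle τ.2
  rw [hfix] at hmod
  have hFV : Nat.card F ∣ Nat.card V := Subgroup.card_subgroup_dvd_card F
  obtain ⟨i, hi2, hi⟩ := (Nat.dvd_prime_pow hpp).mp hcard
  obtain ⟨j, hji, hj⟩ := (Nat.dvd_prime_pow hpp).mp (hi ▸ hFV)
  have hle : Nat.card F ≤ Nat.card V := Nat.le_of_dvd Nat.card_pos hFV
  have hdvd : q ∣ Nat.card V - Nat.card F := (Nat.modEq_iff_dvd' hle).mp hmod.symm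
  have hp3 : 3 ≤ p := by
    have := hpp.two_le
    omega
  have hq1 : ¬ q ∣ p := fun h => absurd (Nat.le_of_dvd hpp.pos h) (by omega)
  have hq2' : ¬ q ∣ p - 1 := fun h => absurd (Nat.le_of_dvd (by omega) h) (by omega)
  have hq3 : ¬ q ∣ p + 1 := by
    intro h
    have h1 := Nat.le_of_dvd (by omega) h
    have h2 : q = p + 1 := by omega
    have hpodd : Odd p := hpp.odd_of_ne_two hp2
    have hqodd : Odd q := hqq.odd_of_ne_two hq2
    rw [h2] at hqodd
    obtain ⟨a, ha⟩ := hpodd
    obtain ⟨b, hb⟩ := hqodd
    omega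
  have heq : Nat.card F = Nat.card V := by
    by_contra hne
    rw [hi, hj] at hdvd hne
    have hlt : j < i := by
      rcases Nat.lt_or_ge j i with h | h
      · exact h
      · exact absurd (by rw [le_antisymm hji h]) hne
    obtain ⟨m, rfl⟩ : ∃ m, p = m + 1 := ⟨p - 1, by omega⟩
    interval_cases i <;> interval_cases j
    · -- i = 1, j = 0
      apply hq2'
      simpa using hdvd
    · -- i = 2, j = 0
      have h1 : (m + 1) ^ 2 - (m + 1) ^ 0 = m * (m + 1 + 1) := by
        have : (m + 1) ^ 2 = m * (m + 1 + 1) + 1 := by ring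
        rw [this]; simp
      rw [h1] at hdvd
      rcases (Nat.Prime.dvd_mul hqq).mp hdvd with h | h
      · apply hq2'; simpa using h
      · exact hq3 h
    · -- i = 2, j = 1
      have h1 : (m + 1) ^ 2 - (m + 1) ^ 1 = (m + 1) * m := by
        have : (m + 1) ^ 2 = (m + 1) * m + (m + 1) ^ 1 := by ring
        rw [this]; simp
      rw [h1] at hdvd
      rcases (Nat.Prime.dvd_mul hqq).mp hdvd with h | h
      · exact hq1 h
      · apply hq2'; simpa using h
  have hFtop : F = ⊤ := Subgroup.eq_top_of_card_eq F heq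
  ext v
  have : v ∈ F := by rw [hFtop]; exact Subgroup.mem_top v
  exact (hFmem v).mp this

end Cfsg.Agent.Lib.helper30
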