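import Mathlib
import Cfsg.Agent.Lib.helper30.RankTwo
import Cfsg.Agent.Lib.helper30.SectionAction2

set_option autoImplicit false

namespace Cfsg.Agent.Lib.helper30

open scoped commutatorElement

theorem normalizer_le_normalizer_commutator {G : Type*} [Group G] (B : Subgroup G) :
    Subgroup.normalizer (B : Set G) ≤ Subgroup.normalizer ((⁅B, B⁆ : Subgroup G) : Set G) := by
  have hconj : ∀ n ∈ Subgroup.normalizer (B : Set G), ∀ x ∈ ⁅B, B⁆, n * x * n⁻¹ ∈ ⁅B, B⁆ := by
    intro n hn x hx
    have h1 : (⁅B, B⁆).map (MulAut.conj n).toMonoidHom ≤ ⁅B, B⁆ := by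
      rw [Subgroup.map_commutator]
      have h2 : B.map (MulAut.conj n).toMonoidHom ≤ B := by
        rintro _ ⟨y, hy, rfl⟩
        exact (Subgroup.mem_normalizer_iff.mp hn y).mp hy
      exact Subgroup.commutator_mono h2 h2
    exact h1 ⟨x, hx, rfl⟩
  intro n hn
  apply mem_normalizer_of_conj
  · exact hconj n hn
  · intro x hx
    have := hconj n⁻¹ (Subgroup.inv_mem _ hn) x hx
    rwa [inv_inv] at this

/-- Let `p < q` be odd primes and `R` a `p`-subgroup of rank at most two.  Every element `a` of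
`N_G(R)` with `a ^ q = 1` centralizes `R`. -/
theorem centralizes_of_prime_order_gt {G : Type*} [Group G] [Finite G] (p q : ℕ) [Fact p.Prime]
    [Fact q.Prime] (hp : p ≠ 2) (hq : q ≠ 2) (hpq : p < q) (R : Subgroup G) (hR : IsPGroup p R)
    (hr : Cfsg.PRankLE p 2 R) (a : G) (haR : a ∈ Subgroup.normalizer (R : Set G))
    (ha : a ^ q = 1) : ∀ r ∈ R, a * r = r * a := by
  have hpp : p.Prime := Fact.out
  have hqq : q.Prime := Fact.out
  obtain ⟨B, hBR, hBN, hBexp, hBidx, hBcrit⟩ := exists_small_section p hp R hR hr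
  apply hBcrit a haR
  · exact Nat.Coprime.coprime_dvd_left (orderOf_dvd_of_pow_eq_one ha)
      ((Nat.coprime_primes hqq hpp).mpr (ne_of_gt hpq))
  · have haB : a ∈ Subgroup.normalizer (B : Set G) := hBN haR
    have hzB : Subgroup.zpowers a ≤ Subgroup.normalizer (B : Set G) := by
      rw [Subgroup.zpowers_le]; exact haB
    obtain ⟨V, hV, ρ, hcardV, hρ⟩ := exists_section_action B ⁅B, B⁆ (Subgroup.zpowers a)
      (Subgroup.commutator_le_self B)
      (fun b hb => normalizer_le_normalizer_commutator B (Subgroup.le_normalizer hb)) hzB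
      (hzB.trans (normalizer_le_normalizer_commutator B))
    have hcard : Nat.card V ∣ p ^ 2 := by rw [hcardV]; exact hBidx
    have hfin : Finite V := Nat.finite_of_card_ne_zero (by
      intro h0
      rw [h0] at hcard
      exact (pow_pos hpp.pos 2).ne' (Nat.eq_zero_of_zero_dvd hcard))
    have h1 : (ρ ⟨a, Subgroup.mem_zpowers a⟩) ^ q = 1 := by
      rw [← map_pow]
      have : (⟨a, Subgroup.mem_zpowers a⟩ : Subgroup.zpowers a) ^ q = 1 := by
        apply Subtype.ext
        rw [Subgroup.coe_pow, Subgroup.coe_one]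
        exact ha
      rw [this, map_one]
    have h2 := mulAut_eq_one_of_prime_order p q hpq hp hq hcard _ h1
    exact (hρ ⟨a, Subgroup.mem_zpowers a⟩).mp h2

theorem prankLE_subgroup {G : Type*} [Group G] (p k : ℕ) (H : Subgroup G)
    (hr : Cfsg.PRankLE p k G) : Cfsg.PRankLE p k H := by
  intro E hEc hEe
  have h1 := hr (E.map H.subtype) ?_ ?_
  · rwa [Subgroup.card_map_of_injective H.subtype_injective] at h1
  · rw [isMulCommutative_iff]
    rintro ⟨_, a, ha, rfl⟩ ⟨_, b, hb, rfl⟩
    apply Subtype.ext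
    have h2 := isMulCommutative_iff.mp hEc ⟨a, ha⟩ ⟨b, hb⟩
    exact congrArg (fun x : E => ((x : H) : G)) h2
  · rintro _ ⟨a, ha, rfl⟩
    rw [← map_pow, hEe a ha, map_one]

/-- The `p`-rank does not grow on passing to the quotient by a normal `p'`-subgroup. -/
theorem prankLE_quotient {G : Type*} [Group G] [Finite G] (p k : ℕ) [Fact p.Prime] (K : Subgroup G)
    [K.Normal] (hK : (Nat.card K).Coprime p) (hr : Cfsg.PRankLE p k G) :
    Cfsg.PRankLE p k (G ⧸ K) := by
  intro E hEc hEe
  have hpp : p.Prime := Fact.out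
  have hEp : IsPGroup p E := by
    intro e
    refine ⟨1, ?_⟩
    rw [pow_one]
    exact Subtype.ext (hEe e e.2)
  obtain ⟨n, hn⟩ := IsPGroup.iff_card.mp hEp
  have hsurj := QuotientGroup.mk'_surjective K
  have hle : K ≤ E.comap (QuotientGroup.mk' K) := by
    intro x hx
    rw [Subgroup.mem_comap]
    have : QuotientGroup.mk' K x = 1 := by
      rw [QuotientGroup.mk'_apply, QuotientGroup.eq_one_iff]; exact hx
    rw [this]; exact one_mem _
  have hHcard : Nat.card (E.comap (QuotientGroup.mk' K)) = Nat.card K * Nat.card E := by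
    have h1 := Subgroup.relIndex_mul_relIndex (⊥ : Subgroup G) _ _ bot_le hle
    rw [Subgroup.relIndex_bot_left, Subgroup.relIndex_bot_left] at h1
    have h2 := Subgroup.relIndex_ker (QuotientGroup.mk' K) (K := E.comap (QuotientGroup.mk' K))
    rw [QuotientGroup.ker_mk', Subgroup.map_comap_eq_self_of_surjective hsurj] at h2
    rw [← h1, h2]
  obtain ⟨S⟩ : Nonempty (Sylow p (E.comap (QuotientGroup.mk' K))) := inferInstance
  have hKnd : ¬ p ∣ Nat.card K := by
    rw [← Nat.Prime.coprime_iff_not_dvd hpp]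
    exact hK.symm
  have hScard : Nat.card S = p ^ n := by
    rw [Sylow.card_eq_multiplicity, hHcard, hn,
      Nat.factorization_mul Nat.card_pos.ne' (pow_pos hpp.pos n).ne', Finsupp.add_apply,
      Nat.factorization_eq_zero_of_not_dvd hKnd, Nat.factorization_pow, Finsupp.smul_apply,
      hpp.factorization_self]
    simp
  have hS'card : Nat.card ((S : Subgroup (E.comap (QuotientGroup.mk' K))).map
      (E.comap (QuotientGroup.mk' K)).subtype) = p ^ n := by
    rw [Subgroup.card_map_of_injective (Subgroup.subtype_injective _)]; exact hScard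
  have hS'p : IsPGroup p ((S : Subgroup (E.comap (QuotientGroup.mk' K))).map
      (E.comap (QuotientGroup.mk' K)).subtype) := IsPGroup.of_card hS'card
  have htriv : ∀ x ∈ (S : Subgroup (E.comap (QuotientGroup.mk' K))).map
      (E.comap (QuotientGroup.mk' K)).subtype, x ∈ K → x = 1 := by
    intro x hx hxK
    obtain ⟨j, hj⟩ := (IsPGroup.iff_orderOf.mp hS'p) ⟨x, hx⟩
    rw [Subgroup.orderOf_mk] at hj
    have h1 : orderOf x ∣ Nat.card K := Subgroup.orderOf_dvd_natCard K hxK
    have h2 : (orderOf x).Coprime p := Nat.Coprime.coprime_dvd_left h1 hK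
    rw [hj] at h2
    rcases Nat.eq_zero_or_pos j with h0 | hpos
    · rw [h0, pow_zero] at hj
      exact orderOf_eq_one_iff.mp hj
    · exfalso
      have h3 : p ∣ p ^ j := dvd_pow_self p hpos.ne'
      have h4 := Nat.Coprime.eq_one_of_dvd h2.symm h3
      exact hpp.one_lt.ne' h4
  have hS'E : ∀ x ∈ (S : Subgroup (E.comap (QuotientGroup.mk' K))).map
      (E.comap (QuotientGroup.mk' K)).subtype, QuotientGroup.mk' K x ∈ E := by
    rintro _ ⟨s, -, rfl⟩
    exact s.2
  have hEcomm : ∀ a ∈ E, ∀ b ∈ E, a * b = b * a := by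
    intro a ha b hb
    have h2 := isMulCommutative_iff.mp hEc ⟨a, ha⟩ ⟨b, hb⟩
    exact congrArg Subtype.val h2
  have h1 := hr ((S : Subgroup (E.comap (QuotientGroup.mk' K))).map
      (E.comap (QuotientGroup.mk' K)).subtype) ?_ ?_
  · rw [hn]; rwa [hS'card] at h1
  · rw [isMulCommutative_iff]
    intro s t
    apply Subtype.ext
    have h2 : (s : G) * t * ((t : G) * s)⁻¹ ∈ K := by
      rw [← QuotientGroup.eq_one_iff]
      have h3 := hEcomm _ (hS'E s s.2) _ (hS'E t t.2)
      simp only [QuotientGroup.mk'_apply] at h3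
      rw [QuotientGroup.mk_mul, QuotientGroup.mk_inv, QuotientGroup.mk_mul, QuotientGroup.mk_mul, h3]
      group
    have h4 := htriv _ (Subgroup.mul_mem _ (Subgroup.mul_mem _ s.2 t.2)
      (Subgroup.inv_mem _ (Subgroup.mul_mem _ t.2 s.2))) h2
    exact mul_inv_eq_one.mp h4
  · intro s hs
    apply htriv _ (Subgroup.pow_mem _ hs p)
    rw [← QuotientGroup.eq_one_iff, QuotientGroup.mk_pow]
    exact hEe _ (hS'E s hs)

end Cfsg.Agent.Lib.helper30
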