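import Mathlib
import Cfsg.Agent.Lib.helper30.RankTwoB
import Cfsg.Agent.Lib.helper40.Cores
import Cfsg.Agent.Lib.helper28.Fitting
import Cfsg.Agent.Lib.helper65.Fitting

set_option autoImplicit false

namespace Cfsg.Agent.Lib.helper30

open scoped commutatorElement

theorem prankLE_of_le {G : Type*} [Group G] (p k : ℕ) {H K : Subgroup G} (hHK : H ≤ K)
    (hr : Cfsg.PRankLE p k K) : Cfsg.PRankLE p k H := by
  intro E hEc hEe
  have h1 := hr (E.map (Subgroup.inclusion hHK)) ?_ ?_
  · rwa [Subgroup.card_map_of_injective (Subgroup.inclusion_injective hHK)] at h1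
  · rw [isMulCommutative_iff]
    rintro ⟨_, a, ha, rfl⟩ ⟨_, b, hb, rfl⟩
    apply Subtype.ext
    have h2 := isMulCommutative_iff.mp hEc ⟨a, ha⟩ ⟨b, hb⟩
    have h3 := congrArg (fun x : E => Subgroup.inclusion hHK (x : H)) h2
    simpa using h3
  · rintro _ ⟨a, ha, rfl⟩
    rw [← map_pow, hEe a ha, map_one]

/-- An element all of whose powers of prime power order lie in a subgroup `K` lies in `K`. -/
theorem mem_of_prime_pow_parts {G : Type*} [Group G] [Finite G] (K : Subgroup G) (g : G)
    (h : ∀ z ∈ Subgroup.zpowers g, ∀ p k : ℕ, p.Prime → orderOf z = p ^ k → z ∈ K) : g ∈ K := by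
  have htop := Cfsg.Agent.Lib.helper65.iSup_sylow_eq_top (Subgroup.zpowers g)
  have hle : (⊤ : Subgroup (Subgroup.zpowers g)) ≤ K.subgroupOf (Subgroup.zpowers g) := by
    rw [← htop]
    apply iSup_le
    intro p
    apply iSup_le
    intro P z hz
    rw [Subgroup.mem_subgroupOf]
    have : Fact (p : ℕ).Prime := ⟨p.2⟩
    obtain ⟨k, hk⟩ := (IsPGroup.iff_orderOf.mp P.isPGroup') ⟨z, hz⟩
    rw [Subgroup.orderOf_mk] at hk
    exact h z z.2 p k p.2 (by rw [Subgroup.orderOf_coe]; exact hk)
  have h1 := hle (Subgroup.mem_top ⟨g, Subgroup.mem_zpowers g⟩)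
  exact Subgroup.mem_subgroupOf.mp h1

/-- The `p`-elements of the Fitting subgroup lie in `O_p(G)`. -/
theorem mem_pCore_of_mem_fittingSubgroup {G : Type*} [Group G] [Finite G] (p : ℕ) [Fact p.Prime]
    (z : G) (hz : z ∈ Cfsg.fittingSubgroup G) (k : ℕ) (hk : orderOf z = p ^ k) :
    z ∈ Cfsg.pCore p G := by
  have hnil := Cfsg.Agent.Lib.helper28.fittingSubgroup_isNilpotent G
  have hzp : IsPGroup p (Subgroup.zpowers (⟨z, hz⟩ : Cfsg.fittingSubgroup G)) := by
    apply IsPGroup.of_card (n := k)
    rw [Nat.card_zpowers, Subgroup.orderOf_mk, hk]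
  obtain ⟨Q, hQ⟩ := hzp.exists_le_sylow
  have hall : ∀ (p : ℕ) (_ : Fact p.Prime) (P : Sylow p (Cfsg.fittingSubgroup G)),
      (P : Subgroup (Cfsg.fittingSubgroup G)).Normal := by
    have htfae := Group.isNilpotent_of_finite_tfae (G := Cfsg.fittingSubgroup G)
    exact (htfae.out 0 3).mp hnil
  have hQn : (Q : Subgroup (Cfsg.fittingSubgroup G)).Normal := hall p inferInstance Q
  have hQc : (Q : Subgroup (Cfsg.fittingSubgroup G)).Characteristic :=
    Q.characteristic_of_normal hQn
  have hn : ((Q : Subgroup (Cfsg.fittingSubgroup G)).map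
      (Cfsg.fittingSubgroup G).subtype).Normal := ConjAct.normal_of_characteristic_of_normal
  have hle := Cfsg.Agent.Lib.helper40.le_pCore _ hn (Q.isPGroup'.map _)
  exact hle ⟨⟨z, hz⟩, hQ (Subgroup.mem_zpowers _), rfl⟩

/-- A finite group whose `q'`-elements are all central is nilpotent. -/
theorem isNilpotent_of_pprime_central {T : Type*} [Group T] [Finite T] (q : ℕ) [Fact q.Prime]
    (h : ∀ y : T, (orderOf y).Coprime q → y ∈ Subgroup.center T) : Group.IsNilpotent T := by
  have hqq : q.Prime := Fact.out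
  apply Group.of_quotient_center_nilpotent
  have hq : IsPGroup q (T ⧸ Subgroup.center T) := by
    intro x
    induction x using QuotientGroup.induction_on with
    | H t =>
      obtain ⟨k, m, hm, hkm⟩ := Nat.exists_eq_pow_mul_and_not_dvd (orderOf_pos t).ne' q hqq.ne_one
      refine ⟨k, ?_⟩
      rw [← QuotientGroup.mk_pow, QuotientGroup.eq_one_iff]
      apply h
      have hdm : (t ^ q ^ k) ^ m = 1 := by rw [← pow_mul, ← hkm, pow_orderOf_eq_one]
      have h1 : orderOf (t ^ q ^ k) ∣ m := orderOf_dvd_of_pow_eq_one hdm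
      have h2 : m.Coprime q := ((Nat.Prime.coprime_iff_not_dvd hqq).mpr hm).symm
      exact Nat.Coprime.coprime_dvd_left h1 h2
  exact hq.isNilpotent

theorem pCore_commute {G : Type*} [Group G] [Finite G] (p q : ℕ) [Fact p.Prime] [Fact q.Prime]
    (hpq : p ≠ q) (x y : G) (hx : x ∈ Cfsg.pCore p G) (hy : y ∈ Cfsg.pCore q G) :
    x * y = y * x :=
  (Subgroup.commute_of_normal_of_disjoint _ _ (Cfsg.Agent.Lib.helper40.pCore_normal' p G)
    (Cfsg.Agent.Lib.helper40.pCore_normal' q G)
    (IsPGroup.disjoint_of_ne p q hpq _ _ (Cfsg.Agent.Lib.helper40.pCore_isPGroup p G)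
      (Cfsg.Agent.Lib.helper40.pCore_isPGroup q G)) x y hx hy).eq

/-- In a group of order prime to `p`, `O_p` is trivial. -/
theorem eq_one_of_mem_pCore_of_not_dvd {G : Type*} [Group G] [Finite G] (p : ℕ) [Fact p.Prime]
    (hp : ¬ p ∣ Nat.card G) (x : G) (hx : x ∈ Cfsg.pCore p G) : x = 1 := by
  obtain ⟨j, hj⟩ := (IsPGroup.iff_orderOf.mp (Cfsg.Agent.Lib.helper40.pCore_isPGroup p G)) ⟨x, hx⟩
  rw [Subgroup.orderOf_mk] at hj
  rcases Nat.eq_zero_or_pos j with h0 | hpos
  · rw [h0, pow_zero] at hj
    exact orderOf_eq_one_iff.mp hj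
  · exfalso
    apply hp
    have h3 : p ∣ p ^ j := dvd_pow_self p hpos.ne'
    rw [← hj] at h3
    exact h3.trans (orderOf_dvd_natCard x)

/-- Let `p < q` be odd primes and `R` a `p`-subgroup of rank at most two.  A `p'`-element `a` of
`N_G(R)` such that `a ^ q` centralizes `R` centralizes `R`. -/
theorem centralizes_of_pow_prime_gt {G : Type*} [Group G] [Finite G] (p q : ℕ) [Fact p.Prime]
    [Fact q.Prime] (hp : p ≠ 2) (hq : q ≠ 2) (hpq : p < q) (R : Subgroup G) (hR : IsPGroup p R)
    (hr : Cfsg.PRankLE p 2 R) (a : G) (haR : a ∈ Subgroup.normalizer (R : Set G))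
    (hcop : (orderOf a).Coprime p) (ha : ∀ r ∈ R, a ^ q * r = r * a ^ q) :
    ∀ r ∈ R, a * r = r * a := by
  have hpp : p.Prime := Fact.out
  obtain ⟨B, hBR, hBN, hBexp, hBidx, hBcrit⟩ := exists_small_section p hp R hR hr
  apply hBcrit a haR hcop
  have haB : a ∈ Subgroup.normalizer (B : Set G) := hBN haR
  have hzB : Subgroup.zpowers a ≤ Subgroup.normalizer (B : Set G) := by
    rw [Subgroup.zpowers_le]; exact haB
  obtain ⟨V, hV, ρ, hcardV, hρ⟩ := exists_section_action B ⁅B, B⁆ (Subgroup.zpowers a)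
    (Subgroup.commutator_le_self B)
    (fun b hb => normalizer_le_normalizer_commutator B (Subgroup.le_normalizer hb)) hzB
    (hzB.trans (normalizer_le_normalizer_commutator B))
  have hcard : Nat.card V ∣ p ^ 2 := by rw [hcardV]; exact hBidx
  have hfin : Finite V := Nat.finite_of_card_ne_zero (by
    intro h0
    rw [h0] at hcard
    exact (pow_pos hpp.pos 2).ne' (Nat.eq_zero_of_zero_dvd hcard))
  have h1 : (ρ ⟨a, Subgroup.mem_zpowers a⟩) ^ q = 1 := by
    rw [← map_pow]
    apply (hρ _).mpr
    intro u hu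
    have h2 : (((⟨a, Subgroup.mem_zpowers a⟩ : Subgroup.zpowers a) ^ q : Subgroup.zpowers a) : G)
        = a ^ q := by
      rw [Subgroup.coe_pow]
    rw [h2]
    have h3 : a ^ q * u * (a ^ q)⁻¹ * u⁻¹ = 1 := by
      rw [ha u (hBR hu)]; group
    rw [h3]
    exact Subgroup.one_mem _
  have h2 := mulAut_eq_one_of_prime_order p q hpq hp hq hcard _ h1
  exact (hρ ⟨a, Subgroup.mem_zpowers a⟩).mp h2

/-- In a solvable group of odd order, the `p'`-elements of `G'` centralize `O_p(G)` when `O_p(G)` has
rank at most two. -/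
theorem commutator_centralizes_pCore {G : Type*} [Group G] [Finite G] [Group.IsSolvable G]
    (hodd : Odd (Nat.card G)) (p : ℕ) [Fact p.Prime] (hr : Cfsg.PRankLE p 2 (Cfsg.pCore p G)) :
    ∀ c ∈ commutator G, (orderOf c).Coprime p → ∀ r ∈ Cfsg.pCore p G, c * r = r * c := by
  intro c hc hcop r hr'
  by_cases hp2 : p = 2
  · have h1 : r = 1 := by
      apply eq_one_of_mem_pCore_of_not_dvd p _ r hr'
      rw [hp2]
      intro h2
      exact (Nat.not_even_iff_odd.mpr hodd) (even_iff_two_dvd.mpr h2)
    rw [h1, mul_one, one_mul]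
  · have hPn : (Cfsg.pCore p G).Normal := Cfsg.Agent.Lib.helper40.pCore_normal' p G
    have hsolvTop : Group.IsSolvable (⊤ : Subgroup G) := inferInstance
    have hoddTop : Odd (Nat.card (⊤ : Subgroup G)) := by
      rw [Subgroup.card_top]; exact hodd
    rw [commutator_def] at hc
    exact commutator_centralizes p hp2 (Cfsg.pCore p G) ⊤
      (Cfsg.Agent.Lib.helper40.pCore_isPGroup p G) hr
      (by rw [Subgroup.normalizer_eq_top]) hsolvTop hoddTop c hc hcop r hr'

/-- In a group of odd order, a subgroup `H` all of whose prime divisors exceed `r` centralizes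
`O_r(G)` when `O_r(G)` has rank at most two. -/
theorem centralizes_pCore_of_large_primes {G : Type*} [Group G] [Finite G]
    (hodd : Odd (Nat.card G)) (r : ℕ) [Fact r.Prime] (hr : Cfsg.PRankLE r 2 (Cfsg.pCore r G))
    (H : Subgroup G) (hH : ∀ s : ℕ, s.Prime → s ∣ Nat.card H → r < s) :
    ∀ h ∈ H, ∀ x ∈ Cfsg.pCore r G, h * x = x * h := by
  have hrr : r.Prime := Fact.out
  by_cases hr2 : r = 2
  · intro h _ x hx
    have h1 : x = 1 := by
      apply eq_one_of_mem_pCore_of_not_dvd r _ x hx
      rw [hr2]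
      intro h2
      exact (Nat.not_even_iff_odd.mpr hodd) (even_iff_two_dvd.mpr h2)
    rw [h1, mul_one, one_mul]
  · have hPn : (Cfsg.pCore r G).Normal := Cfsg.Agent.Lib.helper40.pCore_normal' r G
    have key : ∀ n : ℕ, ∀ h ∈ H, orderOf h = n → ∀ x ∈ Cfsg.pCore r G, h * x = x * h := by
      intro n
      induction n using Nat.strong_induction_on with
      | _ n ih =>
      intro h hh hn
      by_cases h1 : h = 1
      · intro x _
        rw [h1, mul_one, one_mul]
      · have hn1 : orderOf h ≠ 1 := fun h0 => h1 (orderOf_eq_one_iff.mp h0)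
        have hs : (orderOf h).minFac.Prime := Nat.minFac_prime hn1
        have hsd : (orderOf h).minFac ∣ orderOf h := Nat.minFac_dvd _
        have hsH : (orderOf h).minFac ∣ Nat.card H :=
          hsd.trans (Subgroup.orderOf_dvd_natCard H hh)
        have hrs : r < (orderOf h).minFac := hH _ hs hsH
        have hs2 : (orderOf h).minFac ≠ 2 := by
          intro h2
          rw [h2] at hsH
          have h3 : 2 ∣ Nat.card G := hsH.trans (Subgroup.card_subgroup_dvd_card H)
          exact (Nat.not_even_iff_odd.mpr hodd) (even_iff_two_dvd.mpr h3)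
        have hord : orderOf (h ^ (orderOf h).minFac) = orderOf h / (orderOf h).minFac :=
          orderOf_pow_of_dvd hs.ne_zero hsd
        have hlt : orderOf (h ^ (orderOf h).minFac) < n := by
          rw [hord, ← hn]
          exact Nat.div_lt_self (orderOf_pos h) hs.one_lt
        have hpow := ih _ hlt (h ^ (orderOf h).minFac) (H.pow_mem hh _) rfl
        have hcop : (orderOf h).Coprime r := by
          rw [Nat.coprime_comm, Nat.Prime.coprime_iff_not_dvd hrr]
          intro hd
          have := hH r hrr (hd.trans (Subgroup.orderOf_dvd_natCard H hh))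
          exact lt_irrefl _ this
        have : Fact (orderOf h).minFac.Prime := ⟨hs⟩
        exact centralizes_of_pow_prime_gt r (orderOf h).minFac hr2 hs2 hrs (Cfsg.pCore r G)
          (Cfsg.Agent.Lib.helper40.pCore_isPGroup r G) hr h
          (by rw [Subgroup.normalizer_eq_top]; exact Subgroup.mem_top h) hcop hpow
    intro h hh
    exact key _ h hh rfl

/-- A subgroup containing the commutator subgroup is normal. -/
theorem normal_of_commutator_le {G : Type*} [Group G] (H : Subgroup G)
    (h : commutator G ≤ H) : H.Normal := by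
  constructor
  intro n hn g
  have e1 : g * n * g⁻¹ = (g * n * g⁻¹ * n⁻¹) * n := by group
  rw [e1]
  apply Subgroup.mul_mem _ _ hn
  apply h
  rw [commutator_def, ← commutatorElement_def]
  exact Subgroup.commutator_mem_commutator (Subgroup.mem_top g) (Subgroup.mem_top n)

end Cfsg.Agent.Lib.helper30
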