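import Mathlib
import Cfsg.Agent.Lib.helper30.FittingRank

/-!
# Transport of rank conditions and narrowness

* `prankLE_of_injective` : `p`-rank bounds pull back along injective homomorphisms.
* `isNarrow_of_mulEquiv` : narrowness is invariant under isomorphism.
* `prankLE_of_sylow` : the `p`-rank of a finite group is that of a Sylow `p`-subgroup.
-/

set_option autoImplicit false

namespace Cfsg.Agent.Lib.helper30

theorem prankLE_of_injective {R R' : Type*} [Group R] [Group R'] (p k : ℕ) (f : R →* R')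
    (hf : Function.Injective f) (h : Cfsg.PRankLE p k R') : Cfsg.PRankLE p k R := by
  intro A hAc hAe
  have h1 := h (A.map f) ?_ ?_
  · rwa [Subgroup.card_map_of_injective hf] at h1
  · rw [isMulCommutative_iff]
    rintro ⟨_, a, ha, rfl⟩ ⟨_, b, hb, rfl⟩
    apply Subtype.ext
    show f a * f b = f b * f a
    have := congrArg Subtype.val (isMulCommutative_iff.mp hAc ⟨a, ha⟩ ⟨b, hb⟩)
    have h2 : a * b = b * a := this
    rw [← map_mul, h2, map_mul]
  · rintro _ ⟨a, ha, rfl⟩
    rw [← map_pow, hAe a ha, map_one]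

theorem isNarrow_of_mulEquiv {R R' : Type*} [Group R] [Group R'] (p : ℕ) (e : R ≃* R')
    (h : Cfsg.IsNarrow p R) : Cfsg.IsNarrow p R' := by
  rcases h with h | ⟨R₀, R₁, hc, hcyc, hinf, hcomm, hsup⟩
  · left
    exact prankLE_of_injective p 2 e.symm.toMonoidHom e.symm.injective h
  · right
    refine ⟨R₀.map e.toMonoidHom, R₁.map e.toMonoidHom, ?_, ?_, ?_, ?_, ?_⟩
    · rw [Subgroup.card_map_of_injective e.injective]
      exact hc
    · have hs : Function.Surjective (e.toMonoidHom.subgroupMap R₁) :=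
        e.toMonoidHom.subgroupMap_surjective R₁
      exact isCyclic_of_surjective (e.toMonoidHom.subgroupMap R₁) hs
    · rw [← Subgroup.map_inf_eq _ _ _ e.injective, hinf, Subgroup.map_bot]
    · rintro _ ⟨a, ha, rfl⟩ _ ⟨b, hb, rfl⟩
      show e a * e b = e b * e a
      rw [← map_mul, hcomm a ha b hb, map_mul]
    · rw [← Subgroup.map_sup, hsup]
      ext x
      constructor
      · rintro ⟨c, hc', rfl⟩
        rw [Subgroup.mem_centralizer_iff]
        rintro _ ⟨a, ha, rfl⟩
        show e a * e c = e c * e a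
        rw [← map_mul, Subgroup.mem_centralizer_iff.mp hc' a ha, map_mul]
      · intro hx
        refine ⟨e.symm x, ?_, e.apply_symm_apply x⟩
        show e.symm x ∈ Subgroup.centralizer (R₀ : Set R)
        rw [Subgroup.mem_centralizer_iff]
        intro a ha
        have h1 := Subgroup.mem_centralizer_iff.mp hx (e a) ⟨a, ha, rfl⟩
        apply e.injective
        rw [map_mul, map_mul, e.apply_symm_apply]
        exact h1

/-- The `p`-rank of a finite group is bounded by that of a Sylow `p`-subgroup. -/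
theorem prankLE_of_sylow {G : Type*} [Group G] [Finite G] (p k : ℕ) [Fact p.Prime] (S : Sylow p G)
    (h : Cfsg.PRankLE p k ↥(S : Subgroup G)) : Cfsg.PRankLE p k G := by
  intro A hAc hAe
  have hA : IsPGroup p A := by
    intro a
    refine ⟨1, ?_⟩
    rw [pow_one]
    exact Subtype.ext (hAe a a.2)
  obtain ⟨Q, hQ⟩ := hA.exists_le_sylow
  obtain ⟨g, hg⟩ := MulAction.exists_smul_eq G Q S
  have hle : A.map (MulAut.conj g).toMonoidHom ≤ (S : Subgroup G) := by
    rintro _ ⟨a, ha, rfl⟩
    rw [← hg, Sylow.smul_def, Sylow.pointwise_smul_def]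
    exact Subgroup.smul_mem_pointwise_smul _ _ _ (hQ ha)
  have h1 : Cfsg.PRankLE p k ↥(A.map (MulAut.conj g).toMonoidHom) := prankLE_of_le p k hle h
  have h2 := h1 ⊤ ?_ ?_
  · rwa [Subgroup.card_top, Subgroup.card_map_of_injective (MulAut.conj g).injective] at h2
  · rw [isMulCommutative_iff]
    rintro ⟨⟨_, a, ha, rfl⟩, -⟩ ⟨⟨_, b, hb, rfl⟩, -⟩
    apply Subtype.ext
    apply Subtype.ext
    show (MulAut.conj g) a * (MulAut.conj g) b = (MulAut.conj g) b * (MulAut.conj g) a
    have := congrArg Subtype.val (isMulCommutative_iff.mp hAc ⟨a, ha⟩ ⟨b, hb⟩)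
    have h3 : a * b = b * a := this
    rw [← map_mul, h3, map_mul]
  · rintro ⟨_, a, ha, rfl⟩ -
    apply Subtype.ext
    show (MulAut.conj g) a ^ p = 1
    rw [← map_pow, hAe a ha, map_one]

end Cfsg.Agent.Lib.helper30
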