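import Mathlib
import Cfsg.Prelude.Def_OddOrderLocal
import Cfsg.Prelude.Def_PLocal
import Cfsg.Agent.Lib.helper65.MetaBasic

/-!
# Infrastructure for automorphism groups of metacyclic `p`-groups

* `quotAut` : the automorphism of `R ⧸ K` induced by an automorphism of `R`, `K` characteristic.
* `isMetacyclic_quotient`, `isMetacyclic_subgroup`, `isMetacyclic_of_mulEquiv`.
* `card_sup_zpowers`, `exists_pow_mul_of_mem_sup` : a normal subgroup extended by one element.
* `pair_char` : the character identity for a commutator pairing.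
* `fixed_mem_of_comm_top` : the norm argument for coprime action on an abelian quotient.
-/

set_option autoImplicit false

namespace Cfsg.Agent.Lib.helper30

open scoped commutatorElement

universe u

theorem char_map_eq {R : Type*} [Group R] (K : Subgroup R) [hK : K.Characteristic]
    (φ : R ≃* R) : Subgroup.map (φ : R →* R) K = K :=
  Subgroup.characteristic_iff_map_eq.mp hK φ

/-- The automorphism of `R ⧸ K` induced by an automorphism of `R`, for characteristic `K`. -/
noncomputable def quotAut {R : Type*} [Group R] (K : Subgroup R) [hK : K.Characteristic] :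
    MulAut R →* MulAut (R ⧸ K) :=
  MonoidHom.mk'
    (fun φ => QuotientGroup.congr K K φ (char_map_eq K φ))
    (by
      intro φ ψ
      ext x
      induction x using QuotientGroup.induction_on with
      | H r =>
        rw [MulAut.mul_apply, QuotientGroup.congr_mk, QuotientGroup.congr_mk,
          QuotientGroup.congr_mk]
        rfl)

theorem quotAut_mk {R : Type*} [Group R] (K : Subgroup R) [hK : K.Characteristic] (φ : MulAut R)
    (r : R) : quotAut K φ (QuotientGroup.mk r) = QuotientGroup.mk (φ r) := by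
  unfold quotAut
  rw [MonoidHom.mk'_apply, QuotientGroup.congr_mk]

theorem omegaOne_top_characteristic (p : ℕ) (R : Type*) [Group R] :
    (Cfsg.omegaOne p (⊤ : Subgroup R)).Characteristic := by
  rw [Subgroup.characteristic_iff_map_le]
  intro φ
  unfold Cfsg.omegaOne
  rw [MonoidHom.map_closure]
  apply Subgroup.closure_mono
  rintro _ ⟨x, ⟨-, hx⟩, rfl⟩
  refine ⟨Subgroup.mem_top _, ?_⟩
  show (φ x) ^ p = 1
  rw [← map_pow, hx, map_one]

theorem isMetacyclic_quotient {R : Type u} [Group R] (h : Cfsg.IsMetacyclic R) (K : Subgroup R)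
    [K.Normal] : Cfsg.IsMetacyclic (R ⧸ K) := by
  obtain ⟨N, hNn, hNc, hQc⟩ := h
  have hsurj := QuotientGroup.mk'_surjective K
  have hNn' : (N.map (QuotientGroup.mk' K)).Normal := hNn.map _ hsurj
  refine ⟨N.map (QuotientGroup.mk' K), hNn', ?_, ?_⟩
  · exact isCyclic_of_surjective ((QuotientGroup.mk' K).subgroupMap N)
      ((QuotientGroup.mk' K).subgroupMap_surjective N)
  · have hle : N ≤ (N.map (QuotientGroup.mk' K)).comap (QuotientGroup.mk' K) :=
      Subgroup.le_comap_map _ _
    let f : R ⧸ N →* (R ⧸ K) ⧸ N.map (QuotientGroup.mk' K) :=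
      QuotientGroup.map N (N.map (QuotientGroup.mk' K)) (QuotientGroup.mk' K) hle
    have hf : Function.Surjective f := by
      intro y
      obtain ⟨y', rfl⟩ := QuotientGroup.mk'_surjective _ y
      obtain ⟨r, rfl⟩ := hsurj y'
      exact ⟨QuotientGroup.mk r, rfl⟩
    exact isCyclic_of_surjective f hf

theorem isMetacyclic_subgroup {R : Type u} [Group R] (h : Cfsg.IsMetacyclic R) (H : Subgroup R) :
    Cfsg.IsMetacyclic ↥H := by
  obtain ⟨N, hNn, hNc, hQc⟩ := h
  have hn : (N.subgroupOf H).Normal := inferInstance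
  refine ⟨N.subgroupOf H, hn, ?_, ?_⟩
  · -- `N ⊓ H` is cyclic
    have h1 : IsCyclic ↥((N.subgroupOf H).map H.subtype) := by
      have hle : (N.subgroupOf H).map H.subtype ≤ N := by
        rintro _ ⟨x, hx, rfl⟩
        exact Subgroup.mem_subgroupOf.mp hx
      exact Subgroup.isCyclic_of_le hle
    let e : ↥(N.subgroupOf H) ≃* ↥((N.subgroupOf H).map H.subtype) :=
      (N.subgroupOf H).equivMapOfInjective H.subtype H.subtype_injective
    exact isCyclic_of_surjective e.symm e.symm.surjective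
  · -- `H / (N ⊓ H)` embeds in `R / N`
    let f : ↥H ⧸ N.subgroupOf H →* R ⧸ N :=
      QuotientGroup.map (N.subgroupOf H) N H.subtype (by
        intro x hx
        exact Subgroup.mem_subgroupOf.mp hx)
    have hf : Function.Injective f := by
      rw [injective_iff_map_eq_one]
      intro y hy
      induction y using QuotientGroup.induction_on with
      | H r =>
        have hy' : (QuotientGroup.mk (H.subtype r) : R ⧸ N) = 1 := hy
        rw [QuotientGroup.eq_one_iff] at hy'
        rw [QuotientGroup.eq_one_iff]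
        exact Subgroup.mem_subgroupOf.mpr hy'
    have h2 : IsCyclic ↥f.range := Subgroup.isCyclic_of_le (le_top : f.range ≤ ⊤)
    let e : (↥H ⧸ N.subgroupOf H) ≃* ↥f.range := MonoidHom.ofInjective hf
    exact isCyclic_of_surjective e.symm e.symm.surjective

theorem isMetacyclic_of_mulEquiv {R R' : Type u} [Group R] [Group R'] (e : R ≃* R')
    (h : Cfsg.IsMetacyclic R) : Cfsg.IsMetacyclic R' := by
  obtain ⟨N, hNn, hNc, hQc⟩ := h
  have hNn' : (N.map e.toMonoidHom).Normal := hNn.map _ e.surjective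
  refine ⟨N.map e.toMonoidHom, hNn', ?_, ?_⟩
  · exact isCyclic_of_surjective (e.toMonoidHom.subgroupMap N)
      (e.toMonoidHom.subgroupMap_surjective N)
  · let f : R ⧸ N ≃* R' ⧸ N.map e.toMonoidHom := QuotientGroup.congr N _ e rfl
    exact isCyclic_of_surjective f f.surjective

/-- Extending a normal subgroup by an element whose `p`-th power lies in it. -/
theorem card_sup_zpowers {R : Type*} [Group R] [Finite R] (p : ℕ) [Fact p.Prime]
    (H : Subgroup R) [H.Normal] (x : R) (hx : x ∉ H) (hxp : x ^ p ∈ H) :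
    Nat.card ↥(H ⊔ Subgroup.zpowers x) = p * Nat.card H := by
  have hpp : p.Prime := Fact.out
  have h1 := Cfsg.Agent.Lib.helper65.card_eq_card_inf_mul_card_map H (H ⊔ Subgroup.zpowers x)
  have h2 : (H ⊔ Subgroup.zpowers x) ⊓ H = H := inf_eq_right.mpr le_sup_left
  have h3 : (H ⊔ Subgroup.zpowers x).map (QuotientGroup.mk' H)
      = Subgroup.zpowers (QuotientGroup.mk' H x) := by
    rw [Subgroup.map_sup, MonoidHom.map_zpowers]
    have : H.map (QuotientGroup.mk' H) = ⊥ := by
      rw [eq_bot_iff]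
      rintro _ ⟨h, hh, rfl⟩
      rw [Subgroup.mem_bot, QuotientGroup.mk'_apply, QuotientGroup.eq_one_iff]
      exact hh
    rw [this, bot_sup_eq]
  have h4 : orderOf (QuotientGroup.mk' H x) = p := by
    apply orderOf_eq_prime
    · rw [← map_pow, QuotientGroup.mk'_apply, QuotientGroup.eq_one_iff]
      exact hxp
    · rw [QuotientGroup.mk'_apply, ne_eq, QuotientGroup.eq_one_iff]
      exact hx
  rw [h2, h3, Nat.card_zpowers, h4] at h1
  rw [h1, mul_comm]

theorem exists_pow_mul_of_mem_sup {R : Type*} [Group R] [Finite R]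
    (H : Subgroup R) [H.Normal] (x : R) (k : R) (hk : k ∈ H ⊔ Subgroup.zpowers x) :
    ∃ i : ℕ, ∃ h ∈ H, k = x ^ i * h := by
  rw [sup_comm] at hk
  have h1 : k ∈ ((Subgroup.zpowers x ⊔ H : Subgroup R) : Set R) := hk
  rw [Subgroup.mul_normal] at h1
  obtain ⟨a, ha, h, hh, rfl⟩ := Set.mem_mul.mp h1
  have ha' : a ∈ Submonoid.powers x := (mem_powers_iff_mem_zpowers).mpr ha
  obtain ⟨i, rfl⟩ := ha'
  exact ⟨i, h, hh, rfl⟩

/-- If `H` is normal of index `p` in the subgroup `K`, every element of `K` outside `H`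
generates `K` modulo `H`. -/
theorem exists_pow_mul_of_card {R : Type*} [Group R] [Finite R] (p : ℕ) [Fact p.Prime]
    (H K : Subgroup R) [H.Normal] (hHK : H ≤ K) (hcard : Nat.card K = p * Nat.card H)
    (x : R) (hxK : x ∈ K) (hx : x ∉ H) :
    ∀ k ∈ K, ∃ i : ℕ, ∃ h ∈ H, k = x ^ i * h := by
  have hpp : p.Prime := Fact.out
  have hxp : x ^ p ∈ H := by
    -- the image of `K` in `R ⧸ H` has order `p`
    have h1 := Cfsg.Agent.Lib.helper65.card_eq_card_inf_mul_card_map H K
    have h2 : K ⊓ H = H := inf_eq_right.mpr hHK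
    rw [h2, hcard, mul_comm] at h1
    have h3 : Nat.card ↥(K.map (QuotientGroup.mk' H)) = p :=
      (Nat.eq_of_mul_eq_mul_left Nat.card_pos h1).symm
    have h4 : (QuotientGroup.mk' H x) ∈ K.map (QuotientGroup.mk' H) := ⟨x, hxK, rfl⟩
    have h5 : (⟨QuotientGroup.mk' H x, h4⟩ : ↥(K.map (QuotientGroup.mk' H))) ^ p = 1 := by
      rw [← h3]
      exact pow_card_eq_one'
    have h6 := congrArg Subtype.val h5
    rw [Subgroup.coe_pow, Subgroup.coe_one, ← map_pow, QuotientGroup.mk'_apply,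
      QuotientGroup.eq_one_iff] at h6
    exact h6
  have h7 := card_sup_zpowers p H x hx hxp
  have h8 : H ⊔ Subgroup.zpowers x ≤ K := sup_le hHK (Subgroup.zpowers_le.mpr hxK)
  have h9 : H ⊔ Subgroup.zpowers x = K := by
    apply Subgroup.eq_of_le_of_card_ge h8
    rw [h7, hcard]
  intro k hk
  rw [← h9] at hk
  exact exists_pow_mul_of_mem_sup H x k hk

/-- Commutators of powers when the commutator commutes with both elements. -/
theorem commutatorElement_pow_pow {R : Type*} [Group R] (x y : R)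
    (hzx : ⁅x, y⁆ * x = x * ⁅x, y⁆) (hzy : ⁅x, y⁆ * y = y * ⁅x, y⁆) (s t : ℕ) :
    ⁅x ^ s, y ^ t⁆ = ⁅x, y⁆ ^ (s * t) := by
  have hcx : Commute ⁅x, y⁆ x := hzx
  have hcy : Commute ⁅x, y⁆ y := hzy
  have h0 : x * y = ⁅x, y⁆ * y * x := by
    rw [commutatorElement_def]; group
  have h1 : ∀ s : ℕ, x ^ s * y = ⁅x, y⁆ ^ s * y * x ^ s := by
    intro s
    induction s with
    | zero => simp
    | succ s ih =>
      calc x ^ (s + 1) * y = x * (x ^ s * y) := by rw [pow_succ']; group
        _ = x * (⁅x, y⁆ ^ s * y * x ^ s) := by rw [ih]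
        _ = (x * ⁅x, y⁆ ^ s) * y * x ^ s := by group
        _ = (⁅x, y⁆ ^ s * x) * y * x ^ s := by rw [(hcx.pow_left s).eq]
        _ = ⁅x, y⁆ ^ s * (x * y) * x ^ s := by group
        _ = ⁅x, y⁆ ^ s * (⁅x, y⁆ * y * x) * x ^ s := by rw [← h0]
        _ = ⁅x, y⁆ ^ (s + 1) * y * x ^ (s + 1) := by
          rw [pow_succ, pow_succ']; group
  have h2 : ∀ t : ℕ, x ^ s * y ^ t = ⁅x, y⁆ ^ (s * t) * y ^ t * x ^ s := by
    intro t
    induction t with
    | zero => simp
    | succ t ih =>
      calc x ^ s * y ^ (t + 1) = (x ^ s * y ^ t) * y := by rw [pow_succ]; group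
        _ = ⁅x, y⁆ ^ (s * t) * y ^ t * (x ^ s * y) := by rw [ih]; group
        _ = ⁅x, y⁆ ^ (s * t) * y ^ t * (⁅x, y⁆ ^ s * y * x ^ s) := by rw [h1 s]
        _ = ⁅x, y⁆ ^ (s * t) * (y ^ t * ⁅x, y⁆ ^ s) * y * x ^ s := by group
        _ = ⁅x, y⁆ ^ (s * t) * (⁅x, y⁆ ^ s * y ^ t) * y * x ^ s := by
          rw [((hcy.pow_left s).pow_right t).eq]
        _ = ⁅x, y⁆ ^ (s * (t + 1)) * y ^ (t + 1) * x ^ s := by
          rw [mul_add, mul_one, pow_add, pow_succ]; group
  rw [commutatorElement_def, h2 t]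
  group

theorem commutatorElement_mul_right_central {R : Type*} [Group R] (g c w : R)
    (hw : w ∈ Subgroup.center R) : ⁅g, c * w⁆ = ⁅g, c⁆ := by
  have h1 : Commute w g := (Subgroup.mem_center_iff.mp hw g).symm
  have h2 : Commute w c := (Subgroup.mem_center_iff.mp hw c).symm
  rw [commutatorElement_def, commutatorElement_def, mul_inv_rev]
  calc g * (c * w) * g⁻¹ * (w⁻¹ * c⁻¹) = g * c * (w * g⁻¹) * w⁻¹ * c⁻¹ := by group
    _ = g * c * (g⁻¹ * w) * w⁻¹ * c⁻¹ := by rw [h1.inv_right.eq]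
    _ = g * c * g⁻¹ * c⁻¹ := by group

theorem commutatorElement_mul_left_commute {R : Type*} [Group R] (a b c : R)
    (hbc : b * c = c * b) : ⁅a * b, c⁆ = ⁅a, c⁆ := by
  rw [commutatorElement_def, commutatorElement_def, mul_inv_rev]
  calc a * b * c * (b⁻¹ * a⁻¹) * c⁻¹ = a * (b * c) * b⁻¹ * a⁻¹ * c⁻¹ := by group
    _ = a * (c * b) * b⁻¹ * a⁻¹ * c⁻¹ := by rw [hbc]
    _ = a * c * a⁻¹ * c⁻¹ := by group

/-- The character identity for a commutator pairing: if `φ x = x ^ s * (y ^ i * w')`,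
`φ y = y ^ t * w` with `w, w'` central, and `φ` raises the central commutator `⁅x, y⁆` of order
`p` to the power `l`, then `l ≡ s * t` modulo `p`. -/
theorem pair_char {R : Type*} [Group R] (p : ℕ) [Fact p.Prime] (x y : R)
    (hzc : ⁅x, y⁆ ∈ Subgroup.center R) (hzp : ⁅x, y⁆ ^ p = 1) (hz1 : ⁅x, y⁆ ≠ 1)
    (φ : MulAut R) (s t l i : ℕ) (w w' : R) (hw : w ∈ Subgroup.center R)
    (hw' : w' ∈ Subgroup.center R)
    (hx : φ x = x ^ s * (y ^ i * w')) (hy : φ y = y ^ t * w) (hφz : φ ⁅x, y⁆ = ⁅x, y⁆ ^ l) :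
    l ≡ s * t [MOD p] := by
  have hpp : p.Prime := Fact.out
  have h1 : φ ⁅x, y⁆ = ⁅φ x, φ y⁆ := map_commutatorElement φ x y
  have h2 : ⁅φ x, φ y⁆ = ⁅x, y⁆ ^ (s * t) := by
    rw [hx, hy, commutatorElement_mul_right_central _ _ _ hw, ← mul_assoc,
      commutatorElement_mul_left_commute _ _ _ (Subgroup.mem_center_iff.mp hw' (y ^ t)).symm,
      commutatorElement_mul_left_commute _ _ _ ((Commute.refl y).pow_pow i t).eq]
    exact commutatorElement_pow_pow x y (Subgroup.mem_center_iff.mp hzc x).symm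
      (Subgroup.mem_center_iff.mp hzc y).symm s t
  have h3 : ⁅x, y⁆ ^ l = ⁅x, y⁆ ^ (s * t) := by rw [← hφz, h1, h2]
  have h4 : orderOf ⁅x, y⁆ = p := orderOf_eq_prime hzp hz1
  rw [pow_eq_pow_iff_modEq, h4] at h3
  exact h3

/-- The norm argument: let the `p'`-group `X` of automorphisms act on the `p`-group `R`, let `P`
be an `X`-invariant normal subgroup with `R ⧸ P` abelian, and suppose `[R, X] = R`.  Then every
element fixed by `X` modulo `P` lies in `P`. -/
theorem fixed_mem_of_comm_top {R : Type*} [Group R] [Finite R] (p : ℕ) [Fact p.Prime]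
    (hR : IsPGroup p R) (X : Subgroup (MulAut R)) (hX : (Nat.card X).Coprime p)
    (P : Subgroup R) [P.Normal] (hcomm : ∀ a b : R, ⁅a, b⁆ ∈ P)
    (hgen : Subgroup.closure {x : R | ∃ φ ∈ X, ∃ r : R, x = φ r * r⁻¹} = ⊤)
    (y : R) (hy : ∀ φ ∈ X, φ y * y⁻¹ ∈ P) : y ∈ P := by
  classical
  have hpp : p.Prime := Fact.out
  have : Fintype X := Fintype.ofFinite X
  let _ : CommGroup (R ⧸ P) :=
    { (inferInstance : Group (R ⧸ P)) with
      mul_comm := by
        intro a b
        induction a using QuotientGroup.induction_on with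
        | H a =>
          induction b using QuotientGroup.induction_on with
          | H b =>
            rw [← QuotientGroup.mk_mul, ← QuotientGroup.mk_mul, QuotientGroup.eq]
            have h1 := hcomm b⁻¹ a⁻¹
            have h2 : (a * b)⁻¹ * (b * a) = ⁅b⁻¹, a⁻¹⁆ := by
              rw [commutatorElement_def]; group
            rw [h2]
            exact h1 }
  let Θ : R → R ⧸ P := fun r => ∏ φ : X, (QuotientGroup.mk ((φ : MulAut R) r) : R ⧸ P)
  have hΘmul : ∀ r s : R, Θ (r * s) = Θ r * Θ s := by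
    intro r s
    show ∏ φ : X, (QuotientGroup.mk ((φ : MulAut R) (r * s)) : R ⧸ P) = _
    rw [← Finset.prod_mul_distrib]
    apply Finset.prod_congr rfl
    intro φ _
    rw [map_mul, QuotientGroup.mk_mul]
  have hΘone : Θ 1 = 1 := by
    show ∏ φ : X, (QuotientGroup.mk ((φ : MulAut R) 1) : R ⧸ P) = 1
    apply Finset.prod_eq_one
    intro φ _
    rw [map_one, QuotientGroup.mk_one]
  have hΘinv : ∀ r : R, Θ r⁻¹ = (Θ r)⁻¹ := by
    intro r
    rw [eq_inv_iff_mul_eq_one, ← hΘmul, inv_mul_cancel, hΘone]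
  have hΘφ : ∀ φ₀ ∈ X, ∀ r : R, Θ (φ₀ r) = Θ r := by
    intro φ₀ hφ₀ r
    show ∏ φ : X, (QuotientGroup.mk ((φ : MulAut R) (φ₀ r)) : R ⧸ P)
      = ∏ φ : X, (QuotientGroup.mk ((φ : MulAut R) r) : R ⧸ P)
    apply Fintype.prod_equiv (Equiv.mulRight (⟨φ₀, hφ₀⟩ : X))
    intro φ
    rfl
  let T : Subgroup R :=
    { carrier := {r | Θ r = 1}
      one_mem' := hΘone
      mul_mem' := by
        intro a b ha hb
        show Θ (a * b) = 1
        rw [hΘmul, ha, hb, one_mul]
      inv_mem' := by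
        intro a ha
        show Θ a⁻¹ = 1
        rw [hΘinv, ha, inv_one] }
  have hT : T = ⊤ := by
    rw [eq_top_iff, ← hgen, Subgroup.closure_le]
    rintro _ ⟨φ, hφ, r, rfl⟩
    show Θ (φ r * r⁻¹) = 1
    rw [hΘmul, hΘφ φ hφ, hΘinv, mul_inv_cancel]
  have hΘy : Θ y = (QuotientGroup.mk y : R ⧸ P) ^ (Fintype.card X) := by
    show ∏ φ : X, (QuotientGroup.mk ((φ : MulAut R) y) : R ⧸ P) = _
    rw [← Finset.card_univ, ← Finset.prod_const]
    apply Finset.prod_congr rfl
    intro φ _
    rw [QuotientGroup.eq]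
    have := hy φ φ.2
    have h2 : ((φ : MulAut R) y)⁻¹ * y = (y⁻¹ * ((φ : MulAut R) y * y⁻¹) * y)⁻¹ := by group
    rw [h2]
    apply Subgroup.inv_mem
    have hn : P.Normal := inferInstance
    have := hn.conj_mem _ this y⁻¹
    rwa [inv_inv] at this
  have hy1 : Θ y = 1 := by
    have : y ∈ T := by rw [hT]; exact Subgroup.mem_top y
    exact this
  rw [hΘy, ← QuotientGroup.mk_pow, QuotientGroup.eq_one_iff] at hy1
  obtain ⟨k, hk⟩ := hR y
  have hcop : (orderOf y).Coprime (Fintype.card X) := by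
    have h1 : orderOf y ∣ p ^ k := orderOf_dvd_of_pow_eq_one hk
    have h2 : (p ^ k).Coprime (Fintype.card X) := by
      rw [← Nat.card_eq_fintype_card]
      exact Nat.Coprime.pow_left k hX.symm
    exact Nat.Coprime.coprime_dvd_left h1 h2
  obtain ⟨m, hm⟩ := exists_pow_eq_self_of_coprime (x := y) hcop.symm
  rw [← hm]
  exact P.pow_mem hy1 m

end Cfsg.Agent.Lib.helper30
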