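import Mathlib
import Cfsg.Prelude.Def_OddOrderLocal
import Cfsg.Prelude.Def_PLocal
import Cfsg.Agent.Lib.helper30.MetaAutBasic
import Cfsg.Agent.Lib.helper3.Class2
import Cfsg.Agent.Lib.helper3.PGroupNormal
import Cfsg.Agent.S0638

/-!
# Coprime automorphism groups of metacyclic `p`-groups, `p` odd

`metacyclic_comm` : if `R` is a metacyclic `p`-group, `p` odd, and `X` is a `p'`-group of
automorphisms of `R` with `[R, X] = R`, then `R` is abelian.
-/

set_option autoImplicit false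

namespace Cfsg.Agent.Lib.helper30

open scoped commutatorElement

universe u

theorem commutatorElement_mul_right_commute {R : Type*} [Group R] (a b c : R)
    (hac : a * c = c * a) : ⁅a, b * c⁆ = ⁅a, b⁆ := by
  have h1 : c * a⁻¹ = a⁻¹ * c := (Commute.inv_right (show Commute c a from hac.symm)).eq
  rw [commutatorElement_def, commutatorElement_def, mul_inv_rev]
  calc a * (b * c) * a⁻¹ * (c⁻¹ * b⁻¹) = a * b * (c * a⁻¹) * c⁻¹ * b⁻¹ := by group
    _ = a * b * (a⁻¹ * c) * c⁻¹ * b⁻¹ := by rw [h1]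
    _ = a * b * a⁻¹ * b⁻¹ := by group

theorem commutatorElement_mul_right_commute' {R : Type*} [Group R] (a b c : R)
    (hab : a * b = b * a) (hz : ⁅a, c⁆ * b = b * ⁅a, c⁆) : ⁅a, b * c⁆ = ⁅a, c⁆ := by
  have h1 : ⁅a, b * c⁆ = b * ⁅a, c⁆ * b⁻¹ := by
    rw [commutatorElement_def, commutatorElement_def, mul_inv_rev]
    calc a * (b * c) * a⁻¹ * (c⁻¹ * b⁻¹) = (a * b) * c * a⁻¹ * c⁻¹ * b⁻¹ := by group
      _ = (b * a) * c * a⁻¹ * c⁻¹ * b⁻¹ := by rw [hab]
      _ = b * (a * c * a⁻¹ * c⁻¹) * b⁻¹ := by group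
  rw [h1, ← hz]
  group

theorem commutatorElement_central_mul_left {R : Type*} [Group R] (u a b : R)
    (hu : u ∈ Subgroup.center R) : ⁅u * a, b⁆ = ⁅a, b⁆ := by
  rw [show u * a = a * u from (Subgroup.mem_center_iff.mp hu a).symm]
  exact commutatorElement_mul_left_commute a u b (Subgroup.mem_center_iff.mp hu b).symm

theorem comm_of_comm_eq {R : Type*} [Group R] (a r d : R) (h : ⁅d, a⁻¹⁆ = ⁅d, r⁻¹⁆) :
    (a * r⁻¹) * d = d * (a * r⁻¹) := by
  have h1 : a⁻¹ * d * a = r⁻¹ * d * r := by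
    calc a⁻¹ * d * a = (d⁻¹ * ⁅d, a⁻¹⁆)⁻¹ := by rw [commutatorElement_def]; group
      _ = (d⁻¹ * ⁅d, r⁻¹⁆)⁻¹ := by rw [h]
      _ = r⁻¹ * d * r := by rw [commutatorElement_def]; group
  calc a * r⁻¹ * d = a * (r⁻¹ * d * r) * r⁻¹ := by group
    _ = a * (a⁻¹ * d * a) * r⁻¹ := by rw [h1]
    _ = d * (a * r⁻¹) := by group

theorem eq_of_pow_eq_of_coprime {R : Type*} [Group R] (p l : ℕ) (a b : R) (hab : a * b = b * a)
    (ha : a ^ p = 1) (hb : b ^ p = 1) (h : a ^ l = b ^ l) (hl : l.Coprime p) : a = b := by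
  have hc : Commute a b⁻¹ := (show Commute a b from hab).inv_right
  have h1 : (a * b⁻¹) ^ l = 1 := by rw [hc.mul_pow, inv_pow, h, mul_inv_cancel]
  have h2 : (a * b⁻¹) ^ p = 1 := by rw [hc.mul_pow, inv_pow, ha, hb, inv_one, one_mul]
  have h3 : orderOf (a * b⁻¹) ∣ Nat.gcd l p :=
    Nat.dvd_gcd (orderOf_dvd_of_pow_eq_one h1) (orderOf_dvd_of_pow_eq_one h2)
  rw [hl.gcd_eq_one, Nat.dvd_one, orderOf_eq_one_iff] at h3
  exact mul_inv_eq_one.mp h3

theorem commutator_mem_of_quot_comm {R : Type*} [Group R] (K : Subgroup R) [hK : K.Normal]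
    (x y : R)
    (h : (QuotientGroup.mk x : R ⧸ K) * QuotientGroup.mk y
      = QuotientGroup.mk y * QuotientGroup.mk x) : ⁅x, y⁆ ∈ K := by
  rw [← QuotientGroup.mk_mul, ← QuotientGroup.mk_mul, QuotientGroup.eq] at h
  have h2 : ⁅x, y⁆ = (x * y) * ((x * y)⁻¹ * (y * x))⁻¹ * (x * y)⁻¹ := by
    rw [commutatorElement_def]; group
  rw [h2]
  exact hK.conj_mem _ (K.inv_mem h) _

theorem quot_gen {R : Type*} [Group R] (K : Subgroup R) [K.Characteristic]
    (X : Subgroup (MulAut R))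
    (hgen : Subgroup.closure {x : R | ∃ φ ∈ X, ∃ r : R, x = φ r * r⁻¹} = ⊤) :
    Subgroup.closure {x : R ⧸ K | ∃ φ ∈ X.map (quotAut K), ∃ r : R ⧸ K, x = φ r * r⁻¹} = ⊤ := by
  rw [eq_top_iff, ← Subgroup.map_top_of_surjective (QuotientGroup.mk' K)
    (QuotientGroup.mk'_surjective K), ← hgen, MonoidHom.map_closure]
  apply Subgroup.closure_mono
  rintro _ ⟨_, ⟨φ, hφ, r, rfl⟩, rfl⟩
  refine ⟨quotAut K φ, Subgroup.mem_map_of_mem _ hφ, QuotientGroup.mk r, ?_⟩
  rw [quotAut_mk]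
  rfl

theorem exists_exponent_pred {R : Type*} [Group R] [Finite R] (p : ℕ) [Fact p.Prime]
    (hR : IsPGroup p R) (hnt : ∃ x : R, x ≠ 1) :
    ∃ f : ℕ, (∀ x : R, x ^ (p ^ (f + 1)) = 1) ∧ ∃ x : R, x ^ (p ^ f) ≠ 1 := by
  classical
  have hex : ∃ k : ℕ, ∀ x : R, x ^ (p ^ k) = 1 := by
    obtain ⟨k, hk⟩ := IsPGroup.iff_card.mp hR
    exact ⟨k, fun x => by rw [← hk]; exact pow_card_eq_one'⟩
  have h0 : Nat.find hex ≠ 0 := by
    intro h0
    have h1 := Nat.find_spec hex
    rw [h0] at h1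
    obtain ⟨x, hx⟩ := hnt
    exact hx (by simpa using h1 x)
  obtain ⟨f, hf⟩ := Nat.exists_eq_succ_of_ne_zero h0
  refine ⟨f, ?_, ?_⟩
  · have h1 := Nat.find_spec hex
    rw [hf] at h1
    exact h1
  · have h1 := Nat.find_min hex (show f < Nat.find hex by omega)
    push Not at h1
    exact h1

theorem metacyclic_comm_aux (p : ℕ) [Fact p.Prime] (hp : p ≠ 2) :
    ∀ n : ℕ, ∀ (R : Type u) [Group R] [Finite R], Nat.card R = n → IsPGroup p R →
      Cfsg.IsMetacyclic R → ∀ X : Subgroup (MulAut R), (Nat.card X).Coprime p →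
      Subgroup.closure {x : R | ∃ φ ∈ X, ∃ r : R, x = φ r * r⁻¹} = ⊤ →
      ∀ x y : R, x * y = y * x := by
  intro n
  induction n using Nat.strong_induction_on with
  | _ n ih =>
  intro R _ _ hcard hR hm X hX hgen
  by_contra hnc
  push Not at hnc
  obtain ⟨x₀, y₀, hxy⟩ := hnc
  have hpp : p.Prime := Fact.out
  -- Step 1: commutators lie in every nontrivial characteristic subgroup
  have hchar : ∀ K : Subgroup R, K.Characteristic → K ≠ ⊥ → ∀ x y : R, ⁅x, y⁆ ∈ K := by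
    intro K hK hKne x y
    have hlt : Nat.card (R ⧸ K) < n := by
      rw [← hcard, Subgroup.card_eq_card_quotient_mul_card_subgroup K]
      have h1 : 1 < Nat.card K := (Subgroup.one_lt_card_iff_ne_bot (H := K)).mpr hKne
      have h2 : 0 < Nat.card (R ⧸ K) := Nat.card_pos
      nlinarith
    have hq := ih (Nat.card (R ⧸ K)) hlt (R ⧸ K) rfl (hR.to_quotient K)
      (isMetacyclic_quotient hm K) (X.map (quotAut K))
      (Nat.Coprime.coprime_dvd_left (Subgroup.card_map_dvd _ _) hX) (quot_gen K X hgen)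
      (QuotientGroup.mk x) (QuotientGroup.mk y)
    exact commutator_mem_of_quot_comm K x y hq
  have hncyc : ¬ IsCyclic R := by
    intro hcyc
    obtain ⟨g, hg⟩ := hcyc.exists_generator
    obtain ⟨i, hi⟩ := Subgroup.mem_zpowers_iff.mp (hg x₀)
    obtain ⟨j, hj⟩ := Subgroup.mem_zpowers_iff.mp (hg y₀)
    apply hxy
    rw [← hi, ← hj, ← zpow_add, ← zpow_add, add_comm]
  obtain ⟨hEea, hEcard⟩ := Cfsg.Agent.S0638.result hp hR hm hncyc
  have hEchar := omegaOne_top_characteristic p R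
  have hEne : Cfsg.omegaOne p (⊤ : Subgroup R) ≠ ⊥ := by
    rw [← Subgroup.one_lt_card_iff_ne_bot, hEcard]
    exact Nat.one_lt_pow (by norm_num) hpp.one_lt
  have hcE := hchar _ hEchar hEne
  have hcp : ∀ x y : R, ⁅x, y⁆ ^ p = 1 := fun x y => hEea.2 _ (hcE x y)
  obtain ⟨N, hNn, hNc, hQc⟩ := hm
  have hcN : ∀ x y : R, ⁅x, y⁆ ∈ N := by
    intro x y
    obtain ⟨g, hg⟩ := hQc.exists_generator
    obtain ⟨i, hi⟩ := Subgroup.mem_zpowers_iff.mp (hg (QuotientGroup.mk x))
    obtain ⟨j, hj⟩ := Subgroup.mem_zpowers_iff.mp (hg (QuotientGroup.mk y))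
    apply commutator_mem_of_quot_comm N x y
    rw [← hi, ← hj, ← zpow_add, ← zpow_add, add_comm]
  obtain ⟨z₀, hz₀def⟩ : ∃ z : R, z = ⁅x₀, y₀⁆ := ⟨_, rfl⟩
  have hz₀ : z₀ ≠ 1 := by
    rw [hz₀def]
    exact fun h => hxy (commutatorElement_eq_one_iff_mul_comm.mp h)
  have hz₀p : z₀ ^ p = 1 := by rw [hz₀def]; exact hcp _ _
  obtain ⟨Z₀, hZ₀def⟩ : ∃ Z : Subgroup R, Z = N ⊓ Cfsg.omegaOne p (⊤ : Subgroup R) := ⟨_, rfl⟩
  have hcZ₀ : ∀ x y : R, ⁅x, y⁆ ∈ Z₀ := by
    intro x y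
    rw [hZ₀def]
    exact ⟨hcN x y, hcE x y⟩
  have hZ₀n : Z₀.Normal := by
    rw [hZ₀def]
    infer_instance
  have hZ₀c : IsCyclic Z₀ := by
    have hle : Z₀ ≤ N := by rw [hZ₀def]; exact inf_le_left
    exact Subgroup.isCyclic_of_le hle
  have hz₀mem : z₀ ∈ Z₀ := by rw [hz₀def]; exact hcZ₀ _ _
  have hZ₀p : ∀ w ∈ Z₀, w ^ p = 1 := by
    intro w hw
    rw [hZ₀def] at hw
    exact hEea.2 _ hw.2
  have hZ₀card : Nat.card Z₀ = p := by
    obtain ⟨w, hw⟩ := hZ₀c.exists_generator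
    have h1 : Nat.card Z₀ = orderOf w := (orderOf_eq_card_of_forall_mem_zpowers hw).symm
    have h2 : w ^ p = 1 := by
      apply Subtype.ext
      rw [Subgroup.coe_pow, Subgroup.coe_one]
      exact hZ₀p _ w.2
    have h3 : orderOf w ∣ p := orderOf_dvd_of_pow_eq_one h2
    rcases (Nat.dvd_prime hpp).mp h3 with h4 | h4
    · exfalso
      rw [orderOf_eq_one_iff] at h4
      have h5 : (⟨z₀, hz₀mem⟩ : Z₀) ∈ Subgroup.zpowers w := hw _
      rw [h4, Subgroup.zpowers_one_eq_bot, Subgroup.mem_bot] at h5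
      exact hz₀ (congrArg Subtype.val h5)
    · rw [h1, h4]
  have hZ₀eq : Subgroup.zpowers z₀ = Z₀ := by
    apply Subgroup.eq_of_le_of_card_ge (Subgroup.zpowers_le.mpr hz₀mem)
    rw [hZ₀card, Nat.card_zpowers, orderOf_eq_prime hz₀p hz₀]
  have hZ₀ne : Z₀ ≠ ⊥ := by
    intro h
    have h1 := hz₀mem
    rw [h, Subgroup.mem_bot] at h1
    exact hz₀ h1
  have hZ₀cen : Z₀ ≤ Subgroup.center R := by
    obtain ⟨z, hzZ₀, hzc, hz1, hzp⟩ :=
      Cfsg.Agent.Lib.helper3.exists_central_of_normal_ne_bot hR Z₀ hZ₀ne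
    have h1 : Subgroup.zpowers z = Z₀ := by
      apply Subgroup.eq_of_le_of_card_ge (Subgroup.zpowers_le.mpr hzZ₀)
      rw [hZ₀card, Nat.card_zpowers, orderOf_eq_prime hzp hz1]
    rw [← h1]
    exact Subgroup.zpowers_le.mpr hzc
  have hccen : ∀ x y : R, ⁅x, y⁆ ∈ Subgroup.center R := fun x y => hZ₀cen (hcZ₀ x y)
  have hcomz : ∀ x y : R, ⁅x, y⁆ ∈ Subgroup.zpowers z₀ := by
    intro x y
    rw [hZ₀eq]
    exact hcZ₀ x y
  have hc : Cfsg.Agent.Lib.helper3.CommCentral R := by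
    intro x y z
    exact (Subgroup.mem_center_iff.mp (hccen x y) z).symm
  have hpmul : ∀ x y : R, (x * y) ^ p = x ^ p * y ^ p := fun x y =>
    Cfsg.Agent.Lib.helper3.mul_pow_prime_class2 hc hpp hp x y (hcp y x)
  have hpjmul : ∀ (j : ℕ) (x y : R), (x * y) ^ (p ^ j) = x ^ (p ^ j) * y ^ (p ^ j) := by
    intro j
    induction j with
    | zero => intro x y; simp
    | succ j ihj =>
      intro x y
      rw [pow_succ, pow_mul, pow_mul, pow_mul, ihj, hpmul]
  have hpcen : ∀ x y : R, x ^ p * y = y * x ^ p := by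
    intro x y
    have h1 : ⁅x ^ p, y⁆ = 1 := by
      rw [Cfsg.Agent.Lib.helper3.commutator_pow_left_class2 hc y x p, hcp]
    exact commutatorElement_eq_one_iff_mul_comm.mp h1
  obtain ⟨f, hexp, x₁, hx₁⟩ := exists_exponent_pred p hR
    ⟨x₀, fun h => hxy (by rw [h, one_mul, mul_one])⟩
  have hf : f ≠ 0 := by
    rintro rfl
    have h1 : ∀ x : R, x ∈ Cfsg.omegaOne p (⊤ : Subgroup R) := by
      intro x
      apply Subgroup.subset_closure
      exact ⟨Subgroup.mem_top x, by simpa using hexp x⟩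
    have h2 := hEea.1
    have h3 := h2.is_comm.comm (⟨x₀, h1 x₀⟩ : ↥(Cfsg.omegaOne p (⊤ : Subgroup R))) ⟨y₀, h1 y₀⟩
    exact hxy (congrArg Subtype.val h3)
  obtain ⟨f', rfl⟩ := Nat.exists_eq_succ_of_ne_zero hf
  obtain ⟨θ, hθ⟩ : ∃ θ : R →* R, ∀ x, θ x = x ^ (p ^ (f' + 1)) :=
    ⟨{ toFun := fun x => x ^ (p ^ (f' + 1)), map_one' := one_pow _,
       map_mul' := hpjmul (f' + 1) }, fun _ => rfl⟩
  have hθcen : ∀ x, θ x ∈ Subgroup.center R := by
    intro x
    rw [Subgroup.mem_center_iff]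
    intro g
    rw [hθ, pow_succ, pow_mul]
    exact (hpcen _ g).symm
  have hθp : ∀ x, θ x ^ p = 1 := by
    intro x
    rw [hθ, ← pow_mul, ← pow_succ]
    exact hexp x
  have hθφ : ∀ (φ : MulAut R) (x : R), θ (φ x) = φ (θ x) := by
    intro φ x
    rw [hθ, hθ, map_pow]
  have hrchar : θ.range.Characteristic := by
    rw [Subgroup.characteristic_iff_map_le]
    intro φ
    rintro _ ⟨_, ⟨x, rfl⟩, rfl⟩
    exact ⟨φ x, hθφ φ x⟩
  have hrne : θ.range ≠ ⊥ := by
    intro h
    have h1 : θ x₁ ∈ θ.range := ⟨x₁, rfl⟩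
    rw [h, Subgroup.mem_bot, hθ] at h1
    exact hx₁ h1
  obtain ⟨d, hd⟩ : ∃ d, θ d = z₀ := by
    have h1 := hchar _ hrchar hrne x₀ y₀
    rw [← hz₀def] at h1
    exact h1
  -- generators
  obtain ⟨n₀, hn₀⟩ := hNc.exists_generator
  obtain ⟨gq, hgq⟩ := hQc.exists_generator
  obtain ⟨g, rfl⟩ := QuotientGroup.mk_surjective gq
  obtain ⟨n, hn⟩ : ∃ n : R, n = (n₀ : R) := ⟨_, rfl⟩
  have hgen2 : ∀ r : R, ∃ i j : ℕ, r = g ^ i * n ^ j := by
    intro r
    have h1 : (QuotientGroup.mk r : R ⧸ N) ∈ Submonoid.powers (QuotientGroup.mk g : R ⧸ N) :=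
      mem_powers_iff_mem_zpowers.mpr (hgq _)
    obtain ⟨i, hi⟩ := (Submonoid.mem_powers_iff _ _).mp h1
    have h2 : (g ^ i)⁻¹ * r ∈ N := by
      rw [← QuotientGroup.eq, QuotientGroup.mk_pow]
      exact hi
    have h3 : (⟨(g ^ i)⁻¹ * r, h2⟩ : N) ∈ Submonoid.powers n₀ :=
      mem_powers_iff_mem_zpowers.mpr (hn₀ _)
    obtain ⟨j, hj⟩ := (Submonoid.mem_powers_iff _ _).mp h3
    refine ⟨i, j, ?_⟩
    have h4 := congrArg Subtype.val hj
    rw [Subgroup.coe_pow] at h4
    rw [hn, h4]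
    group
  have hc₁ : ⁅g, n⁆ ≠ 1 := by
    intro h
    have hgn : Commute g n := commutatorElement_eq_one_iff_mul_comm.mp h
    obtain ⟨i, j, hx⟩ := hgen2 x₀
    obtain ⟨i', j', hy⟩ := hgen2 y₀
    apply hxy
    rw [hx, hy]
    exact ((((Commute.refl g).pow_pow i i').mul_left (hgn.symm.pow_pow j i')).mul_right
      ((hgn.pow_pow i j').mul_left ((Commute.refl n).pow_pow j j'))).eq
  have hc₁ord : orderOf ⁅g, n⁆ = p := orderOf_eq_prime (hcp _ _) hc₁
  have hθZ : ∀ w ∈ Subgroup.center R, θ w = 1 := by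
    intro w hw
    obtain ⟨i, j, rfl⟩ := hgen2 w
    have h1 : ⁅g ^ i * n ^ j, n⁆ = ⁅g, n⁆ ^ i := by
      rw [commutatorElement_mul_left_commute _ _ _ ((Commute.refl n).pow_left j).eq,
        Cfsg.Agent.Lib.helper3.commutator_pow_left_class2 hc]
    have h2 : ⁅g ^ i * n ^ j, n⁆ = 1 := by
      rw [commutatorElement_eq_one_iff_mul_comm]
      exact (Subgroup.mem_center_iff.mp hw n).symm
    have hi : p ∣ i := by
      rw [← hc₁ord]
      apply orderOf_dvd_of_pow_eq_one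
      rw [← h1, h2]
    have h3 : ⁅g, g ^ i * n ^ j⁆ = ⁅g, n⁆ ^ j := by
      rw [commutatorElement_mul_right_commute' _ _ _ ((Commute.refl g).pow_right i).eq
        (hc _ _ _)]
      have h := commutatorElement_pow_pow g n (hc g n g) (hc g n n) 1 j
      rwa [pow_one, one_mul] at h
    have h4 : ⁅g, g ^ i * n ^ j⁆ = 1 := by
      rw [commutatorElement_eq_one_iff_mul_comm]
      exact (Subgroup.mem_center_iff.mp hw g)
    have hj : p ∣ j := by
      rw [← hc₁ord]
      apply orderOf_dvd_of_pow_eq_one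
      rw [← h3, h4]
    obtain ⟨i', rfl⟩ := hi
    obtain ⟨j', rfl⟩ := hj
    rw [hθ, hpjmul, ← pow_mul, ← pow_mul]
    have e1 : p * i' * p ^ (f' + 1) = p ^ (f' + 1 + 1) * i' := by ring
    have e2 : p * j' * p ^ (f' + 1) = p ^ (f' + 1 + 1) * j' := by ring
    rw [e1, e2, pow_mul, pow_mul, hexp, hexp, one_pow, one_pow, one_mul]
  have hφz : ∀ φ : MulAut R, ∃ l : ℕ, l.Coprime p ∧ ∀ c ∈ Subgroup.zpowers z₀, φ c = c ^ l := by
    intro φ
    have h1 : φ z₀ ∈ Subgroup.zpowers z₀ := by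
      have h2 : φ z₀ = ⁅φ x₀, φ y₀⁆ := by rw [hz₀def]; exact map_commutatorElement φ x₀ y₀
      rw [h2]
      exact hcomz _ _
    obtain ⟨l, hl⟩ := (Submonoid.mem_powers_iff _ _).mp (mem_powers_iff_mem_zpowers.mpr h1)
    refine ⟨l, ?_, ?_⟩
    · rw [Nat.coprime_comm, Nat.Prime.coprime_iff_not_dvd hpp]
      intro hdvd
      obtain ⟨k, rfl⟩ := hdvd
      rw [pow_mul, hz₀p, one_pow] at hl
      exact hz₀ ((map_eq_one_iff φ φ.injective).mp hl.symm)
    · intro c hc'
      obtain ⟨k, rfl⟩ := Subgroup.mem_zpowers_iff.mp hc'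
      rw [map_zpow, ← hl, ← zpow_natCast, ← zpow_natCast, ← zpow_mul, ← zpow_mul, mul_comm]
  by_cases hcase : ∀ t : R, θ t = 1 → t ∈ Subgroup.center R
  · -- Case A
    have hdcen : d ∈ Subgroup.center R := by
      have hle : Subgroup.closure {x : R | ∃ φ ∈ X, ∃ r : R, x = φ r * r⁻¹}
          ≤ Subgroup.centralizer {d} := by
        rw [Subgroup.closure_le]
        rintro _ ⟨φ, hφ, r, rfl⟩
        rw [SetLike.mem_coe, Subgroup.mem_centralizer_iff]
        intro h hh
        rw [Set.mem_singleton_iff] at hh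
        subst hh
        obtain ⟨l, hl, hφl⟩ := hφz φ
        have hu : φ h * (h ^ l)⁻¹ ∈ Subgroup.center R := by
          apply hcase
          rw [map_mul, map_inv, map_pow, hθφ, hd, hφl z₀ (Subgroup.mem_zpowers z₀),
            mul_inv_cancel]
        have key : ∀ r : R, ⁅h, φ r⁆ = ⁅h, r⁆ := by
          intro r
          have h1 : ⁅φ h, φ r⁆ = ⁅h, r⁆ ^ l := by
            rw [← map_commutatorElement, hφl _ (hcomz h r)]
          have h2 : ⁅φ h, φ r⁆ = ⁅h, φ r⁆ ^ l := by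
            have h3 : φ h = (φ h * (h ^ l)⁻¹) * h ^ l := by group
            rw [h3, commutatorElement_central_mul_left _ _ _ hu,
              Cfsg.Agent.Lib.helper3.commutator_pow_left_class2 hc]
          exact eq_of_pow_eq_of_coprime p l _ _ (hc _ _ _) (hcp _ _) (hcp _ _)
            (h2.symm.trans h1) hl
        have h5 := comm_of_comm_eq (φ r) r h (by rw [← map_inv]; exact key r⁻¹)
        exact h5.symm
      rw [hgen] at hle
      rw [Subgroup.mem_center_iff]
      intro g'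
      have h6 := hle (Subgroup.mem_top g')
      rw [Subgroup.mem_centralizer_iff] at h6
      exact (h6 d rfl).symm
    exact hz₀ (by rw [← hd]; exact hθZ d hdcen)
  · -- Case B
    push Not at hcase
    obtain ⟨x, hθx, hxZ⟩ := hcase
    have hnZ : n ∉ Subgroup.center R := by
      intro h
      apply hc₁
      rw [commutatorElement_eq_one_iff_mul_comm]
      exact Subgroup.mem_center_iff.mp h g
    have hpZ : ∀ a : R, a ^ p ∈ Subgroup.center R := by
      intro a
      rw [Subgroup.mem_center_iff]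
      intro g'
      exact (hpcen a g').symm
    have hM1 := card_sup_zpowers p (Subgroup.center R) n hnZ (hpZ n)
    have hM1n : (Subgroup.center R ⊔ Subgroup.zpowers n).Normal := by
      apply Cfsg.Agent.Lib.helper3.normal_of_commutator_le
      rw [commutator_def, Subgroup.commutator_le]
      intro a _ b _
      exact (le_sup_left : Subgroup.center R ≤ _) (hccen a b)
    have hgM1 : g ∉ Subgroup.center R ⊔ Subgroup.zpowers n := by
      intro h
      obtain ⟨i, w, hw, hgi⟩ := exists_pow_mul_of_mem_sup (Subgroup.center R) n g h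
      apply hc₁
      rw [commutatorElement_eq_one_iff_mul_comm, hgi]
      have hwn : Commute w n := (Subgroup.mem_center_iff.mp hw n).symm
      exact (((Commute.refl n).pow_left i).mul_left hwn).eq
    have hgp : g ^ p ∈ Subgroup.center R ⊔ Subgroup.zpowers n :=
      (le_sup_left : Subgroup.center R ≤ _) (hpZ g)
    have hM2 := card_sup_zpowers p (Subgroup.center R ⊔ Subgroup.zpowers n) g hgM1 hgp
    have hM2top : (Subgroup.center R ⊔ Subgroup.zpowers n) ⊔ Subgroup.zpowers g = ⊤ := by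
      rw [eq_top_iff]
      intro r _
      obtain ⟨i, j, rfl⟩ := hgen2 r
      exact Subgroup.mul_mem _
        (Subgroup.pow_mem _ ((le_sup_right : Subgroup.zpowers g ≤ _) (Subgroup.mem_zpowers g)) i)
        (Subgroup.pow_mem _ ((le_sup_left : Subgroup.center R ⊔ Subgroup.zpowers n ≤ _)
          ((le_sup_right : Subgroup.zpowers n ≤ _) (Subgroup.mem_zpowers n))) j)
    have hRcard : Nat.card R = p * (p * Nat.card (Subgroup.center R)) := by
      rw [← hM1, ← hM2, hM2top, Subgroup.card_top]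
    have hZT : Subgroup.center R ≤ θ.ker := fun w hw => MonoidHom.mem_ker.mpr (hθZ w hw)
    have hxT : x ∈ θ.ker := MonoidHom.mem_ker.mpr hθx
    have hZx := card_sup_zpowers p (Subgroup.center R) x hxZ (hpZ x)
    have hle1 : Subgroup.center R ⊔ Subgroup.zpowers x ≤ θ.ker :=
      sup_le hZT (Subgroup.zpowers_le.mpr hxT)
    have hT1 : p * Nat.card (Subgroup.center R) ≤ Nat.card θ.ker := by
      rw [← hZx]
      exact Subgroup.card_le_of_le hle1
    have hr1 : p ≤ Nat.card θ.range := by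
      have h1 : Subgroup.zpowers z₀ ≤ θ.range := Subgroup.zpowers_le.mpr ⟨d, hd⟩
      have h2 := Subgroup.card_le_of_le h1
      rwa [Nat.card_zpowers, orderOf_eq_prime hz₀p hz₀] at h2
    have hmul : Nat.card θ.ker * Nat.card θ.range = Nat.card R := by
      rw [← Subgroup.index_ker]
      exact Subgroup.card_mul_index θ.ker
    have hpos : 0 < p := hpp.pos
    have e1 : Nat.card θ.ker * p ≤ Nat.card θ.ker * Nat.card θ.range :=
      Nat.mul_le_mul_left _ hr1
    have e2 : p * Nat.card (Subgroup.center R) * p ≤ Nat.card θ.ker * p :=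
      Nat.mul_le_mul_right _ hT1
    have e3 : Nat.card θ.ker * Nat.card θ.range = p * Nat.card (Subgroup.center R) * p := by
      rw [hmul, hRcard]
      ring
    have hker : Nat.card θ.ker = p * Nat.card (Subgroup.center R) := by
      have h1 : Nat.card θ.ker * p = p * Nat.card (Subgroup.center R) * p :=
        le_antisymm (by rw [← e3]; exact e1) e2
      exact Nat.eq_of_mul_eq_mul_right hpos h1
    have hrange : Nat.card θ.range = p := by
      have h1 : Nat.card θ.ker * Nat.card θ.range = Nat.card θ.ker * p := by rw [e3, hker]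
      exact Nat.eq_of_mul_eq_mul_left Nat.card_pos h1
    have hrange_eq : θ.range = Subgroup.zpowers z₀ := by
      symm
      have h1 : Subgroup.zpowers z₀ ≤ θ.range := Subgroup.zpowers_le.mpr ⟨d, hd⟩
      apply Subgroup.eq_of_le_of_card_ge h1
      rw [hrange, Nat.card_zpowers, orderOf_eq_prime hz₀p hz₀]
    have hTx := exists_pow_mul_of_card p (Subgroup.center R) θ.ker hZT hker x hxT hxZ
    have hTcomm : ∀ t ∈ θ.ker, ∀ t' ∈ θ.ker, t * t' = t' * t := by
      intro t ht t' ht'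
      obtain ⟨i, w, hw, rfl⟩ := hTx t ht
      obtain ⟨i', w', hw', rfl⟩ := hTx t' ht'
      have h1 : Commute w (x ^ i' * w') := (Subgroup.mem_center_iff.mp hw _).symm
      have h2 : Commute (x ^ i) w' := Subgroup.mem_center_iff.mp hw' _
      exact ((((Commute.refl x).pow_pow i i').mul_right h2).mul_left h1).eq
    have hfix : ∀ φ ∈ X, φ x * x⁻¹ ∈ Subgroup.center R := by
      intro φ hφ
      obtain ⟨l, hl, hφl⟩ := hφz φ
      have hφxT : φ x ∈ θ.ker := by
        rw [MonoidHom.mem_ker, hθφ, hθx, map_one]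
      have key : ∀ y : R, ⁅φ x, y⁆ = ⁅x, y⁆ := by
        intro y
        have ht : (y ^ l)⁻¹ * φ y ∈ θ.ker := by
          have h1 : θ y ∈ Subgroup.zpowers z₀ := by rw [← hrange_eq]; exact MonoidHom.mem_range.mpr ⟨y, rfl⟩
          rw [MonoidHom.mem_ker, map_mul, map_inv, map_pow, hθφ, hφl _ h1, inv_mul_cancel]
        have h1 : ⁅φ x, φ y⁆ = ⁅x, y⁆ ^ l := by
          rw [← map_commutatorElement, hφl _ (hcomz x y)]
        have h2 : ⁅φ x, φ y⁆ = ⁅φ x, y⁆ ^ l := by
          have h3 : φ y = y ^ l * ((y ^ l)⁻¹ * φ y) := by group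
          rw [h3, commutatorElement_mul_right_commute _ _ _ (hTcomm _ hφxT _ ht)]
          have h4 := commutatorElement_pow_pow (φ x) y (hc _ _ _) (hc _ _ _) 1 l
          rwa [pow_one, one_mul] at h4
        exact eq_of_pow_eq_of_coprime p l _ _ (hc _ _ _) (hcp _ _) (hcp _ _)
          (h2.symm.trans h1) hl
      have h3 : x⁻¹ * φ x ∈ Subgroup.center R := by
        rw [Subgroup.mem_center_iff]
        intro y
        have h4 : φ x * y * (φ x)⁻¹ = x * y * x⁻¹ := by
          have h5 := key y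
          rw [commutatorElement_def, commutatorElement_def] at h5
          exact mul_right_cancel h5
        calc y * (x⁻¹ * φ x) = x⁻¹ * (x * y * x⁻¹) * φ x := by group
          _ = x⁻¹ * (φ x * y * (φ x)⁻¹) * φ x := by rw [h4]
          _ = x⁻¹ * φ x * y := by group
      exact (inferInstance : (Subgroup.center R).Normal).mem_comm h3
    exact hxZ (fixed_mem_of_comm_top p hR X hX (Subgroup.center R) hccen hgen x hfix)

/-- **Coprime action on a metacyclic `p`-group, `p` odd.** If `X` is a `p'`-group of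
automorphisms of the metacyclic `p`-group `R` and `[R, X] = R`, then `R` is abelian. -/
theorem metacyclic_comm {R : Type u} [Group R] [Finite R] (p : ℕ) [Fact p.Prime] (hp : p ≠ 2)
    (hR : IsPGroup p R) (hm : Cfsg.IsMetacyclic R) (X : Subgroup (MulAut R))
    (hX : (Nat.card X).Coprime p)
    (hgen : Subgroup.closure {x : R | ∃ φ ∈ X, ∃ r : R, x = φ r * r⁻¹} = ⊤) (x y : R) :
    x * y = y * x :=
  metacyclic_comm_aux p hp (Nat.card R) R rfl hR hm X hX hgen x y

end Cfsg.Agent.Lib.helper30
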