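import Mathlib
import Cfsg.Prelude.Def_OddOrderLocal
import Cfsg.Prelude.Def_PLocal
import Cfsg.Agent.Lib.helper30.MetaAutBasic
import Cfsg.Agent.Lib.helper30.MetaAut
import Cfsg.Agent.Lib.helper3.Class2
import Cfsg.Agent.Lib.helper3.PGroupNormal
import Cfsg.Agent.Lib.helper68.ExpClosed
import Cfsg.Agent.Lib.helper74.RegularP
import Cfsg.Agent.S0636

/-!
# Huppert's criterion: `p > 3`, `|Ω₁(R)| ≤ p²` implies `R` metacyclic

* `omega_quot_normal_prime` : the bound `|Ω₁| ≤ p²` passes to the quotient by a normal subgroup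
  of order `p` (`p > 3`), via regularity of groups of order `p⁴`.
* `metacyclic_of_class_two` : the class-two case.
* `huppert` : the criterion.
-/

set_option autoImplicit false

namespace Cfsg.Agent.Lib.helper30

open scoped commutatorElement

universe u

theorem card_omegaOne_le_of_cyclic (p : ℕ) [Fact p.Prime] (Q : Type*) [Group Q] [Finite Q]
    [hQ : IsCyclic Q] : Nat.card ↥(Cfsg.omegaOne p (⊤ : Subgroup Q)) ≤ p := by
  classical
  have hpp : p.Prime := Fact.out
  have : Fintype Q := Fintype.ofFinite Q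
  have hcomm : ∀ a b : Q, a * b = b * a := by
    intro a b
    obtain ⟨g, hg⟩ := hQ.exists_generator
    obtain ⟨i, hi⟩ := Subgroup.mem_zpowers_iff.mp (hg a)
    obtain ⟨j, hj⟩ := Subgroup.mem_zpowers_iff.mp (hg b)
    rw [← hi, ← hj, ← zpow_add, ← zpow_add, add_comm]
  have hmem : ∀ x ∈ Cfsg.omegaOne p (⊤ : Subgroup Q), x ^ p = 1 := by
    intro x hx
    unfold Cfsg.omegaOne at hx
    induction hx using Subgroup.closure_induction with
    | mem x hx => exact hx.2
    | one => exact one_pow p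
    | mul x y _ _ hx hy => rw [(show Commute x y from hcomm x y).mul_pow, hx, hy, one_mul]
    | inv x _ hx => rw [inv_pow, hx, inv_one]
  have h1 : Nat.card ↥(Cfsg.omegaOne p (⊤ : Subgroup Q)) ≤ Nat.card {a : Q // a ^ p = 1} := by
    apply Nat.card_le_card_of_injective
      (fun x : ↥(Cfsg.omegaOne p (⊤ : Subgroup Q)) => (⟨x.1, hmem x.1 x.2⟩ : {a : Q // a ^ p = 1}))
    intro a b hab
    have h : a.1 = b.1 := by simpa using hab
    exact Subtype.ext h
  have h2 : Nat.card {a : Q // a ^ p = 1} ≤ p := by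
    rw [Nat.card_eq_fintype_card, Fintype.card_subtype]
    exact IsCyclic.card_pow_eq_one_le hpp.pos
  exact h1.trans h2

theorem lcs_eq_bot_of_card {G : Type u} [Group G] [Finite G] (p : ℕ) [Fact p.Prime]
    (hG : IsPGroup p G) (c : ℕ) (hc : 1 ≤ c) (hcard : Nat.card G < p ^ (c + 2))
    (hcp : c ≤ p - 1) : (⊤ : Subgroup G).lowerCentralSeries (p - 1) = ⊥ := by
  have h1 : (⊤ : Subgroup G).lowerCentralSeries c = ⊥ := by
    by_contra h
    have := Cfsg.Agent.Lib.helper68.card_ge_of_lcs_ne_bot c hc G hG h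
    omega
  rw [eq_bot_iff, ← h1]
  exact Subgroup.lowerCentralSeries_antitone _ hcp

/-- For `p > 3`, the bound `|Ω₁| ≤ p²` passes to the quotient by a normal subgroup of order
`p`. -/
theorem omega_quot_normal_prime {R : Type u} [Group R] [Finite R] (p : ℕ) [Fact p.Prime]
    (hp : 3 < p) (hR : IsPGroup p R)
    (hO : Nat.card ↥(Cfsg.omegaOne p (⊤ : Subgroup R)) ≤ p ^ 2)
    (Z : Subgroup R) [Z.Normal] (hZ : Nat.card Z = p) :
    Nat.card ↥(Cfsg.omegaOne p (⊤ : Subgroup (R ⧸ Z))) ≤ p ^ 2 := by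
  classical
  have hpp : p.Prime := Fact.out
  have hp2 : p ≠ 2 := by omega
  by_contra hbig
  push Not at hbig
  have hQ : IsPGroup p (R ⧸ Z) := hR.to_quotient Z
  have hncyc : ¬ IsCyclic (R ⧸ Z) := by
    intro hcyc
    have h1 := card_omegaOne_le_of_cyclic p (R ⧸ Z)
    have h2 : p ≤ p ^ 2 := Nat.le_self_pow (by norm_num) p
    omega
  obtain ⟨V, -, hVn, hVea, hVcard⟩ := Cfsg.Agent.S0636.result hp2 hQ (⊤ : Subgroup (R ⧸ Z)) (by
    intro h
    exact hncyc (isCyclic_of_surjective (Subgroup.topEquiv : (⊤ : Subgroup (R ⧸ Z)) ≃* (R ⧸ Z))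
      Subgroup.topEquiv.surjective))
  obtain ⟨y, hyp, hyV⟩ : ∃ y : R ⧸ Z, y ^ p = 1 ∧ y ∉ V := by
    by_contra hno
    push Not at hno
    have hle : Cfsg.omegaOne p (⊤ : Subgroup (R ⧸ Z)) ≤ V := by
      unfold Cfsg.omegaOne
      rw [Subgroup.closure_le]
      rintro x ⟨-, hx⟩
      exact hno x hx
    have h1 := Subgroup.card_le_of_le hle
    omega
  have hHbcard := card_sup_zpowers p V y hyV (by rw [hyp]; exact V.one_mem)
  obtain ⟨Hb, hHbdef⟩ : ∃ Hb : Subgroup (R ⧸ Z), Hb = V ⊔ Subgroup.zpowers y := ⟨_, rfl⟩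
  rw [← hHbdef, hVcard] at hHbcard
  have hHbp : IsPGroup p ↥Hb := hQ.to_subgroup Hb
  have hHbexp : ∀ h ∈ Hb, h ^ p = 1 := by
    intro h hh
    rw [hHbdef] at hh
    obtain ⟨i, v, hv, rfl⟩ := exists_pow_mul_of_mem_sup V y h hh
    have hyi : y ^ i ∈ Hb := by
      rw [hHbdef]
      exact Subgroup.pow_mem _ ((le_sup_right : Subgroup.zpowers y ≤ _) (Subgroup.mem_zpowers y)) i
    have hvH : v ∈ Hb := by
      rw [hHbdef]
      exact (le_sup_left : V ≤ _) hv
    have hcl : (⊤ : Subgroup ↥Hb).lowerCentralSeries (p - 1) = ⊥ :=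
      lcs_eq_bot_of_card p hHbp 2 (by norm_num) (by
        rw [hHbcard]
        calc p * p ^ 2 = p ^ 3 := by ring
          _ < p ^ (2 + 2) := Nat.pow_lt_pow_right hpp.one_lt (by norm_num)) (by omega)
    have h1 := Cfsg.Agent.Lib.helper68.pow_mul_eq_one_of_class_lt hHbp hcl _
      (⟨y ^ i, hyi⟩ : ↥Hb) ⟨v, hvH⟩ rfl
      (by
        apply Subtype.ext
        rw [Subgroup.coe_pow, Subgroup.coe_one]
        show (y ^ i) ^ p = 1
        rw [← pow_mul, mul_comm, pow_mul, hyp, one_pow])
      (by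
        apply Subtype.ext
        rw [Subgroup.coe_pow, Subgroup.coe_one]
        exact hVea.2 v hv)
    have h2 := congrArg Subtype.val h1
    rw [Subgroup.coe_pow, Subgroup.coe_one] at h2
    exact h2
  obtain ⟨H, hHdef⟩ : ∃ H : Subgroup R, H = Hb.comap (QuotientGroup.mk' Z) := ⟨_, rfl⟩
  have hZH : Z ≤ H := by
    intro z hz
    rw [hHdef, Subgroup.mem_comap, QuotientGroup.mk'_apply, (QuotientGroup.eq_one_iff z).mpr hz]
    exact Hb.one_mem
  have hHcard4 : Nat.card H = p ^ 4 := by
    have h1 := Cfsg.Agent.Lib.helper65.card_eq_card_inf_mul_card_map Z H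
    have h2 : H.map (QuotientGroup.mk' Z) = Hb := by
      rw [hHdef]
      exact Subgroup.map_comap_eq_self_of_surjective (QuotientGroup.mk'_surjective Z) Hb
    rw [inf_eq_right.mpr hZH, h2, hZ, hHbcard] at h1
    rw [h1]
    ring
  have hHpow : ∀ h ∈ H, h ^ p ∈ Z := by
    intro h hh
    rw [hHdef, Subgroup.mem_comap] at hh
    have h1 := hHbexp _ hh
    rw [← map_pow, QuotientGroup.mk'_apply, QuotientGroup.eq_one_iff] at h1
    exact h1
  have hHp : IsPGroup p ↥H := hR.to_subgroup H
  have hcl : (⊤ : Subgroup ↥H).lowerCentralSeries (p - 1) = ⊥ :=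
    lcs_eq_bot_of_card p hHp 3 (by norm_num) (by
      rw [hHcard4]
      exact Nat.pow_lt_pow_right hpp.one_lt (by norm_num)) (by omega)
  have hreg := Cfsg.Agent.Lib.helper68.regular_of_class_lt hHp hcl
  have hΩmem : ∀ x : ↥H, x ∈ Cfsg.Agent.Lib.helper74.omega hreg 1 ↔ x ^ p = 1 := by
    intro x
    rw [Cfsg.Agent.Lib.helper74.mem_omega, pow_one]
  have hΩcard : Nat.card ↥(Cfsg.Agent.Lib.helper74.omega hreg 1) ≤ p ^ 2 := by
    refine le_trans ?_ hO
    have hmem : ∀ x : ↥(Cfsg.Agent.Lib.helper74.omega hreg 1),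
        ((x : ↥H) : R) ∈ Cfsg.omegaOne p (⊤ : Subgroup R) := by
      intro x
      apply Subgroup.subset_closure
      refine ⟨Subgroup.mem_top _, ?_⟩
      have h1 := (hΩmem (x : ↥H)).mp x.2
      have h2 := congrArg Subtype.val h1
      rw [Subgroup.coe_pow, Subgroup.coe_one] at h2
      exact h2
    apply Nat.card_le_card_of_injective
      (fun x : ↥(Cfsg.Agent.Lib.helper74.omega hreg 1) =>
        (⟨((x : ↥H) : R), hmem x⟩ : ↥(Cfsg.omegaOne p (⊤ : Subgroup R))))
    intro a b hab
    have h : ((a : ↥H) : R) = ((b : ↥H) : R) := by simpa using hab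
    exact Subtype.ext (Subtype.ext h)
  -- counting the fibres of the `p`-th power map `H → Z`
  let f : ↥H → ↥Z := fun h => ⟨(h : R) ^ p, hHpow h h.2⟩
  let rep : ↥Z → ↥H := fun z => if hz : ∃ h : ↥H, f h = z then hz.choose else 1
  have hrep : ∀ h : ↥H, f (rep (f h)) = f h := by
    intro h
    have hz : ∃ h' : ↥H, f h' = f h := ⟨h, rfl⟩
    show f (if hz : ∃ h' : ↥H, f h' = f h then hz.choose else 1) = f h
    rw [dif_pos hz]
    exact hz.choose_spec
  have hfib : ∀ h : ↥H, (rep (f h))⁻¹ * h ∈ Cfsg.Agent.Lib.helper74.omega hreg 1 := by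
    intro h
    rw [Cfsg.Agent.Lib.helper74.mem_omega, ← Cfsg.Agent.Lib.helper74.regular_pow_eq_iff hreg, pow_one]
    have h1 := congrArg Subtype.val (hrep h)
    apply Subtype.ext
    rw [Subgroup.coe_pow, Subgroup.coe_pow]
    exact h1
  have hcount : Nat.card ↥H ≤ Nat.card (↥Z × ↥(Cfsg.Agent.Lib.helper74.omega hreg 1)) := by
    apply Nat.card_le_card_of_injective
      (fun h : ↥H => ((f h, ⟨(rep (f h))⁻¹ * h, hfib h⟩) :
        ↥Z × ↥(Cfsg.Agent.Lib.helper74.omega hreg 1)))
    intro a b hab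
    have h1 : f a = f b := congrArg Prod.fst hab
    have h2 := congrArg (fun t => (t.2 : ↥H)) hab
    simp only at h2
    rw [h1] at h2
    exact mul_left_cancel h2
  rw [Nat.card_prod, hZ, hHcard4] at hcount
  have h3 : p ^ 4 ≤ p * p ^ 2 := hcount.trans (Nat.mul_le_mul_left p hΩcard)
  have h4 : p * p ^ 2 < p ^ 4 := by
    calc p * p ^ 2 = p ^ 3 := by ring
      _ < p ^ 4 := Nat.pow_lt_pow_right hpp.one_lt (by norm_num)
  omega

/-- The class-two case of Huppert's criterion: all commutators lie in a central cyclic subgroup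
of exponent `p`, `p` odd and `|Ω₁(R)| ≤ p²`. -/
theorem metacyclic_of_class_two {R : Type u} [Group R] [Finite R] (p : ℕ) [Fact p.Prime]
    (hp : p ≠ 2) (hR : IsPGroup p R)
    (hO : Nat.card ↥(Cfsg.omegaOne p (⊤ : Subgroup R)) ≤ p ^ 2)
    (z : R) (hz : z ∈ Subgroup.center R) (hzp : z ^ p = 1)
    (hcomm : ∀ x y : R, ⁅x, y⁆ ∈ Subgroup.zpowers z) : Cfsg.IsMetacyclic R := by
  classical
  have hpp : p.Prime := Fact.out
  have hccen : ∀ x y : R, ⁅x, y⁆ ∈ Subgroup.center R :=
    fun x y => (Subgroup.zpowers_le.mpr hz) (hcomm x y)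
  have hc : Cfsg.Agent.Lib.helper3.CommCentral R :=
    fun x y w => (Subgroup.mem_center_iff.mp (hccen x y) w).symm
  have hcp : ∀ x y : R, ⁅x, y⁆ ^ p = 1 := by
    intro x y
    obtain ⟨k, hk⟩ := Subgroup.mem_zpowers_iff.mp (hcomm x y)
    rw [← hk, ← zpow_natCast, ← zpow_mul, mul_comm, zpow_mul, zpow_natCast, hzp, one_zpow]
  have hpmul : ∀ x y : R, (x * y) ^ p = x ^ p * y ^ p := fun x y =>
    Cfsg.Agent.Lib.helper3.mul_pow_prime_class2 hc hpp hp x y (hcp y x)
  -- choose `x` with `z ∈ ⟨x⟩` of maximal order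
  obtain ⟨x, hx, hxmax⟩ : ∃ x : R, z ∈ Subgroup.zpowers x ∧
      ∀ y : R, z ∈ Subgroup.zpowers y → orderOf y ≤ orderOf x := by
    have : Fintype R := Fintype.ofFinite R
    obtain ⟨x, hx, hmax⟩ := Finset.exists_max_image
      (Finset.univ.filter (fun x : R => z ∈ Subgroup.zpowers x)) orderOf
      ⟨z, Finset.mem_filter.mpr ⟨Finset.mem_univ _, Subgroup.mem_zpowers z⟩⟩
    exact ⟨x, (Finset.mem_filter.mp hx).2,
      fun y hy => hmax y (Finset.mem_filter.mpr ⟨Finset.mem_univ _, hy⟩)⟩
  have hxpow : ∀ y : R, y ^ p = x → y = 1 := by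
    intro y hy
    by_contra hy1
    have h1 : z ∈ Subgroup.zpowers y := by
      have h0 : Subgroup.zpowers x ≤ Subgroup.zpowers y := by
        rw [Subgroup.zpowers_le, ← hy]
        exact Subgroup.pow_mem _ (Subgroup.mem_zpowers y) p
      exact h0 hx
    have h2 := hxmax y h1
    have h3 : p ∣ orderOf y := by
      obtain ⟨k, hk⟩ := hR y
      have h4 : orderOf y ∣ p ^ k := orderOf_dvd_of_pow_eq_one hk
      obtain ⟨m, hm, hmeq⟩ := (Nat.dvd_prime_pow hpp).mp h4
      cases m with
      | zero =>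
        exfalso
        rw [pow_zero, orderOf_eq_one_iff] at hmeq
        exact hy1 hmeq
      | succ m =>
        rw [hmeq, pow_succ]
        exact dvd_mul_left p _
    have h5 : orderOf x * p = orderOf y := by
      rw [← hy, orderOf_pow, Nat.gcd_eq_right h3]
      exact Nat.div_mul_cancel h3
    have h6 : 0 < orderOf x := orderOf_pos x
    have h7 := hpp.two_le
    nlinarith
  by_cases hx1 : x = 1
  · subst hx1
    have hz1 : z = 1 := by
      rw [Subgroup.zpowers_one_eq_bot, Subgroup.mem_bot] at hx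
      exact hx
    have hall : ∀ y : R, y = 1 := by
      intro y
      have h1 := hxmax y (by rw [hz1]; exact Subgroup.one_mem _)
      rw [orderOf_one] at h1
      have h6 : 0 < orderOf y := orderOf_pos y
      exact orderOf_eq_one_iff.mp (by omega)
    have hsub : Subsingleton R := ⟨fun a b => by rw [hall a, hall b]⟩
    exact ⟨⊤, inferInstance, inferInstance, inferInstance⟩
  · have hzN : Subgroup.zpowers z ≤ Subgroup.zpowers x := Subgroup.zpowers_le.mpr hx
    have hNn : (Subgroup.zpowers x).Normal := by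
      apply Cfsg.Agent.Lib.helper3.normal_of_commutator_le
      rw [commutator_def, Subgroup.commutator_le]
      intro a _ b _
      exact hzN (hcomm a b)
    refine ⟨Subgroup.zpowers x, hNn, inferInstance, ?_⟩
    apply Cfsg.Agent.Lib.helper68.isCyclic_comm_pgroup (hR.to_quotient _)
    · intro a b
      induction a using QuotientGroup.induction_on with
      | H a =>
        induction b using QuotientGroup.induction_on with
        | H b =>
          rw [← QuotientGroup.mk_mul, ← QuotientGroup.mk_mul, QuotientGroup.eq]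
          have h2 : (a * b)⁻¹ * (b * a) = ⁅b⁻¹, a⁻¹⁆ := by
            rw [commutatorElement_def]; group
          rw [h2]
          exact hzN (hcomm _ _)
    · -- counting the elements of order dividing `p` in the quotient
      obtain ⟨π, hπ⟩ : ∃ π : R →* R, ∀ r, π r = r ^ p :=
        ⟨{ toFun := fun r => r ^ p, map_one' := one_pow p, map_mul' := hpmul }, fun _ => rfl⟩
      have hKcard : Nat.card π.ker ≤ p ^ 2 := by
        refine le_trans (Subgroup.card_le_of_le ?_) hO
        intro k hk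
        apply Subgroup.subset_closure
        refine ⟨Subgroup.mem_top _, ?_⟩
        rw [← hπ]
        exact MonoidHom.mem_ker.mp hk
      have hKN : p ≤ Nat.card ↥(π.ker ⊓ Subgroup.zpowers x) := by
        have hne : π.ker ⊓ Subgroup.zpowers x ≠ ⊥ := by
          have hNne : Subgroup.zpowers x ≠ ⊥ := by
            intro h
            exact hx1 (Subgroup.zpowers_eq_bot.mp h)
          have hdvd : p ∣ Nat.card (Subgroup.zpowers x) := by
            rcases (hR.to_subgroup (Subgroup.zpowers x)).card_eq_or_dvd with h | h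
            · exact absurd (Subgroup.card_eq_one.mp h) hNne
            · exact h
          obtain ⟨e, he⟩ := exists_prime_orderOf_dvd_card' p hdvd
          have he1 : (e : R) ^ p = 1 := by
            have h1 := pow_orderOf_eq_one e
            rw [he] at h1
            have h2 := congrArg Subtype.val h1
            rw [Subgroup.coe_pow, Subgroup.coe_one] at h2
            exact h2
          intro hbot
          have h3 : (e : R) ∈ π.ker ⊓ Subgroup.zpowers x :=
            ⟨MonoidHom.mem_ker.mpr (by rw [hπ]; exact he1), e.2⟩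
          rw [hbot, Subgroup.mem_bot] at h3
          have h4 : e = 1 := Subtype.ext h3
          rw [h4, orderOf_one] at he
          exact hpp.one_lt.ne' he.symm
        rcases (hR.to_subgroup (π.ker ⊓ Subgroup.zpowers x)).card_eq_or_dvd with h | h
        · exact absurd (Subgroup.card_eq_one.mp h) hne
        · exact Nat.le_of_dvd Nat.card_pos h
      have h1 := Cfsg.Agent.Lib.helper65.card_eq_card_inf_mul_card_map (Subgroup.zpowers x) π.ker
      have hmapcard : Nat.card ↥(π.ker.map (QuotientGroup.mk' (Subgroup.zpowers x))) ≤ p := by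
        have h2 : p * Nat.card ↥(π.ker.map (QuotientGroup.mk' (Subgroup.zpowers x))) ≤ p * p := by
          calc p * Nat.card ↥(π.ker.map (QuotientGroup.mk' (Subgroup.zpowers x)))
              ≤ Nat.card ↥(π.ker ⊓ Subgroup.zpowers x)
                * Nat.card ↥(π.ker.map (QuotientGroup.mk' (Subgroup.zpowers x))) :=
                Nat.mul_le_mul_right _ hKN
            _ = Nat.card π.ker := h1.symm
            _ ≤ p ^ 2 := hKcard
            _ = p * p := by ring
        exact Nat.le_of_mul_le_mul_left h2 hpp.pos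
      refine le_trans ?_ hmapcard
      have hmem : ∀ a : {a : R ⧸ Subgroup.zpowers x // a ^ p = 1},
          (a : R ⧸ Subgroup.zpowers x) ∈ π.ker.map (QuotientGroup.mk' (Subgroup.zpowers x)) := by
        rintro ⟨a, ha⟩
        obtain ⟨r, rfl⟩ := QuotientGroup.mk_surjective a
        have h2 : r ^ p ∈ Subgroup.zpowers x := by
          rw [← QuotientGroup.eq_one_iff, QuotientGroup.mk_pow]
          exact ha
        obtain ⟨k, hk⟩ := (Submonoid.mem_powers_iff _ _).mp (mem_powers_iff_mem_zpowers.mpr h2)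
        have hpk : p ∣ k := by
          by_contra hnd
          have hcop : k.Coprime (orderOf x) := by
            obtain ⟨m, hm⟩ := hR x
            have h4 : orderOf x ∣ p ^ m := orderOf_dvd_of_pow_eq_one hm
            apply Nat.Coprime.coprime_dvd_right h4
            apply Nat.Coprime.pow_right
            rw [Nat.coprime_comm, Nat.Prime.coprime_iff_not_dvd hpp]
            exact hnd
          obtain ⟨j, hj⟩ := exists_pow_eq_self_of_coprime hcop
          rw [hk, ← pow_mul, mul_comm, pow_mul] at hj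
          have h5 := hxpow _ hj
          rw [h5, one_pow] at hj
          exact hx1 hj.symm
        obtain ⟨k', rfl⟩ := hpk
        refine ⟨r * (x ^ k')⁻¹, ?_, ?_⟩
        · rw [SetLike.mem_coe, MonoidHom.mem_ker, map_mul, map_inv, hπ, hπ, ← hk, ← pow_mul,
            mul_comm k' p, mul_inv_cancel]
        · rw [QuotientGroup.mk'_apply, QuotientGroup.eq]
          have h6 : (r * (x ^ k')⁻¹)⁻¹ * r = x ^ k' := by group
          rw [h6]
          exact Subgroup.pow_mem _ (Subgroup.mem_zpowers x) k'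
      apply Nat.card_le_card_of_injective
        (fun a : {a : R ⧸ Subgroup.zpowers x // a ^ p = 1} =>
          (⟨(a : R ⧸ Subgroup.zpowers x), hmem a⟩ :
            ↥(π.ker.map (QuotientGroup.mk' (Subgroup.zpowers x)))))
      intro a b hab
      have h : (a : R ⧸ Subgroup.zpowers x) = b := by simpa using hab
      exact Subtype.ext h

theorem normal_of_three_gens {R : Type*} [Group R] (W : Subgroup R) (g c z : R)
    (hdec : ∀ r : R, ∃ i j k : ℕ, r = g ^ i * (c ^ j * z ^ k))
    (hg : ∀ n ∈ W, g * n * g⁻¹ ∈ W) (hc : ∀ n ∈ W, c * n * c⁻¹ ∈ W)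
    (hz : ∀ n ∈ W, z * n * z⁻¹ ∈ W) : W.Normal := by
  let S : Submonoid R :=
    { carrier := {r | ∀ n ∈ W, r * n * r⁻¹ ∈ W}
      one_mem' := by
        intro n hn
        rw [one_mul, inv_one, mul_one]
        exact hn
      mul_mem' := by
        intro a b ha hb n hn
        have h1 := ha _ (hb n hn)
        have e : a * b * n * (a * b)⁻¹ = a * (b * n * b⁻¹) * a⁻¹ := by group
        rw [e]
        exact h1 }
  constructor
  intro n hn r
  obtain ⟨i, j, k, rfl⟩ := hdec r
  have h1 : g ^ i * (c ^ j * z ^ k) ∈ S :=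
    S.mul_mem (S.pow_mem (show g ∈ S from hg) i)
      (S.mul_mem (S.pow_mem (show c ∈ S from hc) j) (S.pow_mem (show z ∈ S from hz) k))
  exact h1 n hn

theorem comm_of_three_gens {Q : Type*} [Group Q] (G C Z : Q) (hGC : Commute G C)
    (hGZ : Commute G Z) (hCZ : Commute C Z)
    (hdec : ∀ q : Q, ∃ i j k : ℕ, q = G ^ i * (C ^ j * Z ^ k)) (x y : Q) : x * y = y * x := by
  have key : ∀ u : Q, Commute u G → Commute u C → Commute u Z → ∀ q : Q, Commute u q := by
    intro u h1 h2 h3 q
    obtain ⟨i, j, k, rfl⟩ := hdec q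
    exact (h1.pow_right i).mul_right ((h2.pow_right j).mul_right (h3.pow_right k))
  obtain ⟨i, j, k, rfl⟩ := hdec x
  have hG := key G (Commute.refl G) hGC hGZ y
  have hC := key C hGC.symm (Commute.refl C) hCZ y
  have hZ := key Z hGZ.symm hCZ.symm (Commute.refl Z) y
  exact ((hG.pow_left i).mul_left ((hC.pow_left j).mul_left (hZ.pow_left k))).eq

theorem huppert_aux (p : ℕ) [Fact p.Prime] (hp : 3 < p) :
    ∀ n : ℕ, ∀ (R : Type u) [Group R] [Finite R], Nat.card R = n → IsPGroup p R →
      Nat.card ↥(Cfsg.omegaOne p (⊤ : Subgroup R)) ≤ p ^ 2 → Cfsg.IsMetacyclic R := by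
  intro n
  induction n using Nat.strong_induction_on with
  | _ n ih =>
  intro R _ _ hcard hR hO
  have hpp : p.Prime := Fact.out
  have hp2 : p ≠ 2 := by omega
  by_cases hab : ∀ x y : R, x * y = y * x
  · exact metacyclic_of_class_two p hp2 hR hO 1 (Subgroup.one_mem _) (one_pow p) (by
      intro x y
      rw [commutatorElement_eq_one_iff_mul_comm.mpr (hab x y)]
      exact Subgroup.one_mem _)
  push Not at hab
  obtain ⟨x₀, y₀, hxy⟩ := hab
  have hcne : commutator R ≠ ⊥ := by
    intro h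
    apply hxy
    have h1 : ⁅x₀, y₀⁆ ∈ commutator R := by
      rw [commutator_def]
      exact Subgroup.commutator_mem_commutator (Subgroup.mem_top _) (Subgroup.mem_top _)
    rw [h, Subgroup.mem_bot] at h1
    exact commutatorElement_eq_one_iff_mul_comm.mp h1
  obtain ⟨z, hzc, hzcen, hz1, hzp⟩ :=
    Cfsg.Agent.Lib.helper3.exists_central_of_normal_ne_bot hR (commutator R) hcne
  have hzcomm : ∀ r : R, Commute z r := fun r => (Subgroup.mem_center_iff.mp hzcen r).symm
  have hZn : (Subgroup.zpowers z).Normal := by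
    constructor
    intro n hn g
    obtain ⟨k, rfl⟩ := Subgroup.mem_zpowers_iff.mp hn
    have h1 : g * z ^ k * g⁻¹ = z ^ k := by
      rw [((hzcomm g).symm.zpow_right k).eq]
      group
    rw [h1]
    exact Subgroup.zpow_mem _ (Subgroup.mem_zpowers z) k
  have hZcard : Nat.card (Subgroup.zpowers z) = p := by
    rw [Nat.card_zpowers, orderOf_eq_prime hzp hz1]
  have hOq := omega_quot_normal_prime p hp hR hO (Subgroup.zpowers z) hZcard
  have hlt : Nat.card (R ⧸ Subgroup.zpowers z) < n := by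
    rw [← hcard, Subgroup.card_eq_card_quotient_mul_card_subgroup (Subgroup.zpowers z), hZcard]
    have h1 : 0 < Nat.card (R ⧸ Subgroup.zpowers z) := Nat.card_pos
    have h2 := hpp.two_le
    nlinarith
  obtain ⟨Mb, hMbn, hMbc, hMbq⟩ :=
    ih _ hlt (R ⧸ Subgroup.zpowers z) rfl (hR.to_quotient _) hOq
  obtain ⟨cq, hcq⟩ := hMbc.exists_generator
  obtain ⟨c, hc⟩ := QuotientGroup.mk_surjective (cq : R ⧸ Subgroup.zpowers z)
  obtain ⟨gqq, hgqq⟩ := hMbq.exists_generator
  obtain ⟨gq, rfl⟩ := QuotientGroup.mk_surjective gqq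
  obtain ⟨g, rfl⟩ := QuotientGroup.mk_surjective gq
  have hcMb : (QuotientGroup.mk c : R ⧸ Subgroup.zpowers z) ∈ Mb := by
    rw [hc]
    exact cq.2
  have hmem : ∀ r : R, (QuotientGroup.mk r : R ⧸ Subgroup.zpowers z) ∈ Mb →
      ∃ j k : ℕ, r = c ^ j * z ^ k := by
    intro r hr
    have h1 : (⟨QuotientGroup.mk r, hr⟩ : ↥Mb) ∈ Submonoid.powers cq :=
      mem_powers_iff_mem_zpowers.mpr (hcq _)
    obtain ⟨j, hj⟩ := (Submonoid.mem_powers_iff _ _).mp h1
    have h2 := congrArg Subtype.val hj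
    rw [Subgroup.coe_pow, ← hc, ← QuotientGroup.mk_pow] at h2
    have h3 : (c ^ j)⁻¹ * r ∈ Subgroup.zpowers z := QuotientGroup.eq.mp h2
    obtain ⟨k, hk⟩ := (Submonoid.mem_powers_iff _ _).mp (mem_powers_iff_mem_zpowers.mpr h3)
    refine ⟨j, k, ?_⟩
    rw [hk]
    group
  have hdec : ∀ r : R, ∃ i j k : ℕ, r = g ^ i * (c ^ j * z ^ k) := by
    intro r
    have h1 : (QuotientGroup.mk (QuotientGroup.mk r : R ⧸ Subgroup.zpowers z) :
          (R ⧸ Subgroup.zpowers z) ⧸ Mb)
        ∈ Submonoid.powers (QuotientGroup.mk (QuotientGroup.mk g : R ⧸ Subgroup.zpowers z) :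
          (R ⧸ Subgroup.zpowers z) ⧸ Mb) :=
      mem_powers_iff_mem_zpowers.mpr (hgqq _)
    obtain ⟨i, hi⟩ := (Submonoid.mem_powers_iff _ _).mp h1
    rw [← QuotientGroup.mk_pow, ← QuotientGroup.mk_pow] at hi
    have h2 := QuotientGroup.eq.mp hi
    rw [← QuotientGroup.mk_inv, ← QuotientGroup.mk_mul] at h2
    obtain ⟨j, k, hjk⟩ := hmem _ h2
    refine ⟨i, j, k, ?_⟩
    rw [← hjk]
    group
  obtain ⟨a, b, hgc⟩ : ∃ a b : ℕ, g * c * g⁻¹ = c ^ a * z ^ b := by
    apply hmem
    rw [QuotientGroup.mk_mul, QuotientGroup.mk_mul, QuotientGroup.mk_inv]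
    exact hMbn.conj_mem _ hcMb _
  obtain ⟨c', hc'⟩ : ∃ c' : R, c' = c ^ a * z ^ b := ⟨_, rfl⟩
  rw [← hc'] at hgc
  have hcc' : Commute c c' := by
    rw [hc']
    exact ((Commute.refl c).pow_right a).mul_right ((hzcomm c).symm.pow_right b)
  obtain ⟨w, hw⟩ : ∃ w : R, w = ⁅c, g⁆ := ⟨_, rfl⟩
  have hw' : w = c * c'⁻¹ := by
    rw [hw, ← hgc, commutatorElement_def]
    group
  have hwc : Commute c w := by
    rw [hw']
    exact (Commute.refl c).mul_right hcc'.inv_right
  have hgw : g * w * g⁻¹ = w ^ a := by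
    have e1 : g * w * g⁻¹ = (g * c * g⁻¹) * (g * (g * c * g⁻¹) * g⁻¹)⁻¹ := by
      rw [hw, commutatorElement_def]
      group
    have e2 : g * c' * g⁻¹ = c' ^ a * z ^ b := by
      have e3 : g * (c ^ a * z ^ b) * g⁻¹ = (g * c * g⁻¹) ^ a * (g * z ^ b * g⁻¹) := by
        rw [conj_pow]
        group
      have e4 : g * z ^ b * g⁻¹ = z ^ b := by
        rw [((hzcomm g).symm.pow_right b).eq]
        group
      calc g * c' * g⁻¹ = g * (c ^ a * z ^ b) * g⁻¹ := by rw [hc']
        _ = (g * c * g⁻¹) ^ a * (g * z ^ b * g⁻¹) := e3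
        _ = c' ^ a * z ^ b := by rw [e4, hgc]
    rw [e1, hgc, e2, hw']
    have e5 : (c * c'⁻¹) ^ a = c ^ a * (c' ^ a)⁻¹ := by
      rw [hcc'.inv_right.mul_pow, inv_pow]
    rw [e5]
    have e6 : c' * (z ^ b)⁻¹ = c ^ a := by
      rw [hc']
      group
    calc c' * (c' ^ a * z ^ b)⁻¹ = c' * (z ^ b)⁻¹ * (c' ^ a)⁻¹ := by group
      _ = c ^ a * (c' ^ a)⁻¹ := by rw [e6]
  have hWn : (Subgroup.zpowers w).Normal := by
    apply normal_of_three_gens (Subgroup.zpowers w) g c z hdec
    · intro n hn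
      obtain ⟨m, rfl⟩ := Subgroup.mem_zpowers_iff.mp hn
      rw [← conj_zpow, hgw]
      exact Subgroup.zpow_mem _ (Subgroup.pow_mem _ (Subgroup.mem_zpowers w) a) m
    · intro n hn
      obtain ⟨m, rfl⟩ := Subgroup.mem_zpowers_iff.mp hn
      have h1 : c * w ^ m * c⁻¹ = w ^ m := by
        rw [(hwc.zpow_right m).eq]
        group
      rw [h1]
      exact Subgroup.zpow_mem _ (Subgroup.mem_zpowers w) m
    · intro n hn
      have h1 : z * n * z⁻¹ = n := by
        rw [(hzcomm n).eq]
        group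
      rw [h1]
      exact hn
  have hcommW : ∀ x y : R, ⁅x, y⁆ ∈ Subgroup.zpowers w := by
    intro x y
    apply commutator_mem_of_quot_comm (Subgroup.zpowers w) x y
    apply comm_of_three_gens (QuotientGroup.mk g : R ⧸ Subgroup.zpowers w) (QuotientGroup.mk c)
      (QuotientGroup.mk z)
    · have h1 : ⁅(QuotientGroup.mk c : R ⧸ Subgroup.zpowers w),
          (QuotientGroup.mk g : R ⧸ Subgroup.zpowers w)⁆ = 1 := by
        have h2 : ⁅(QuotientGroup.mk c : R ⧸ Subgroup.zpowers w),
            (QuotientGroup.mk g : R ⧸ Subgroup.zpowers w)⁆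
            = (QuotientGroup.mk ⁅c, g⁆ : R ⧸ Subgroup.zpowers w) := by
          rw [commutatorElement_def, commutatorElement_def]
          rfl
        rw [h2, QuotientGroup.eq_one_iff, ← hw]
        exact Subgroup.mem_zpowers w
      exact (show Commute (QuotientGroup.mk c : R ⧸ Subgroup.zpowers w) (QuotientGroup.mk g) from
        commutatorElement_eq_one_iff_mul_comm.mp h1).symm
    · show (QuotientGroup.mk g : R ⧸ Subgroup.zpowers w) * QuotientGroup.mk z
        = QuotientGroup.mk z * QuotientGroup.mk g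
      rw [← QuotientGroup.mk_mul, ← QuotientGroup.mk_mul, (hzcomm g).eq]
    · show (QuotientGroup.mk c : R ⧸ Subgroup.zpowers w) * QuotientGroup.mk z
        = QuotientGroup.mk z * QuotientGroup.mk c
      rw [← QuotientGroup.mk_mul, ← QuotientGroup.mk_mul, (hzcomm c).eq]
    · intro q
      obtain ⟨r, rfl⟩ := QuotientGroup.mk_surjective q
      obtain ⟨i, j, k, hr⟩ := hdec r
      exact ⟨i, j, k, by rw [hr]; rfl⟩
  have hzW : z ∈ Subgroup.zpowers w := by
    have h1 : commutator R ≤ Subgroup.zpowers w := by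
      rw [commutator_def, Subgroup.commutator_le]
      intro x _ y _
      exact hcommW x y
    exact h1 hzc
  by_cases hwp : w ^ p = 1
  · have hw1 : w ≠ 1 := by
      intro h
      rw [h, Subgroup.zpowers_one_eq_bot, Subgroup.mem_bot] at hzW
      exact hz1 hzW
    have hWeq : Subgroup.zpowers z = Subgroup.zpowers w := by
      apply Subgroup.eq_of_le_of_card_ge (Subgroup.zpowers_le.mpr hzW)
      rw [Nat.card_zpowers, Nat.card_zpowers, orderOf_eq_prime hwp hw1, orderOf_eq_prime hzp hz1]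
    exact metacyclic_of_class_two p hp2 hR hO z hzcen hzp
      (fun x y => by rw [hWeq]; exact hcommW x y)
  · obtain ⟨k, hk⟩ := (Submonoid.mem_powers_iff _ _).mp (mem_powers_iff_mem_zpowers.mpr hzW)
    have hpk : p ∣ k := by
      have h1 : orderOf w ∣ k * p := by
        apply orderOf_dvd_of_pow_eq_one
        rw [pow_mul, hk, hzp]
      obtain ⟨m, hm⟩ := hR w
      have h2 : orderOf w ∣ p ^ m := orderOf_dvd_of_pow_eq_one hm
      obtain ⟨m', hm', hmeq⟩ := (Nat.dvd_prime_pow hpp).mp h2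
      have h3 : 2 ≤ m' := by
        by_contra hlt
        have h4 : m' = 0 ∨ m' = 1 := by omega
        rcases h4 with h4 | h4
        · rw [h4, pow_zero, orderOf_eq_one_iff] at hmeq
          exact hwp (by rw [hmeq, one_pow])
        · rw [h4, pow_one] at hmeq
          exact hwp (by rw [← hmeq]; exact pow_orderOf_eq_one w)
      have h5 : p ^ 2 ∣ k * p := by
        rw [hmeq] at h1
        exact (pow_dvd_pow p h3).trans h1
      rw [pow_two] at h5
      exact Nat.dvd_of_mul_dvd_mul_right hpp.pos h5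
    obtain ⟨k', rfl⟩ := hpk
    have hwpc : w ^ p ∈ Subgroup.zpowers c := by
      have e1 : w ^ p = c ^ p * (c' ^ p)⁻¹ := by
        rw [hw', hcc'.inv_right.mul_pow, inv_pow]
      have e2 : c' ^ p = (c ^ a) ^ p := by
        rw [hc', ((hzcomm c).symm.pow_pow a b).mul_pow, ← pow_mul z, mul_comm b p, pow_mul z,
          hzp, one_pow, mul_one]
      rw [e1, e2]
      exact Subgroup.mul_mem _ (Subgroup.pow_mem _ (Subgroup.mem_zpowers c) p)
        (Subgroup.inv_mem _
          (Subgroup.pow_mem _ (Subgroup.pow_mem _ (Subgroup.mem_zpowers c) a) p))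
    have hzc' : z ∈ Subgroup.zpowers c := by
      rw [← hk, pow_mul]
      exact Subgroup.pow_mem _ hwpc k'
    have hCn : (Subgroup.zpowers c).Normal := by
      apply normal_of_three_gens (Subgroup.zpowers c) g c z hdec
      · intro n hn
        obtain ⟨m, rfl⟩ := Subgroup.mem_zpowers_iff.mp hn
        rw [← conj_zpow, hgc, hc']
        exact Subgroup.zpow_mem _ (Subgroup.mul_mem _
          (Subgroup.pow_mem _ (Subgroup.mem_zpowers c) a) (Subgroup.pow_mem _ hzc' b)) m
      · intro n hn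
        obtain ⟨m, rfl⟩ := Subgroup.mem_zpowers_iff.mp hn
        have h1 : c * c ^ m * c⁻¹ = c ^ m := by
          rw [((Commute.refl c).zpow_right m).eq]
          group
        rw [h1]
        exact Subgroup.zpow_mem _ (Subgroup.mem_zpowers c) m
      · intro n hn
        have h1 : z * n * z⁻¹ = n := by
          rw [(hzcomm n).eq]
          group
        rw [h1]
        exact hn
    refine ⟨Subgroup.zpowers c, hCn, inferInstance, ?_⟩
    rw [isCyclic_iff_exists_zpowers_eq_top]
    refine ⟨QuotientGroup.mk g, ?_⟩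
    rw [eq_top_iff]
    intro q _
    obtain ⟨r, rfl⟩ := QuotientGroup.mk_surjective q
    obtain ⟨i, j, l, rfl⟩ := hdec r
    have h1 : (QuotientGroup.mk (g ^ i * (c ^ j * z ^ l)) : R ⧸ Subgroup.zpowers c)
        = (QuotientGroup.mk g) ^ i := by
      rw [← QuotientGroup.mk_pow, QuotientGroup.eq]
      have h2 : (g ^ i * (c ^ j * z ^ l))⁻¹ * g ^ i = (c ^ j * z ^ l)⁻¹ := by group
      rw [h2]
      exact Subgroup.inv_mem _ (Subgroup.mul_mem _
        (Subgroup.pow_mem _ (Subgroup.mem_zpowers c) j) (Subgroup.pow_mem _ hzc' l))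
    rw [h1]
    exact Subgroup.pow_mem _ (Subgroup.mem_zpowers _) i

/-- **Huppert's criterion**: for `p > 3`, a finite `p`-group whose elements of order dividing
`p` generate a subgroup of order at most `p²` is metacyclic. -/
theorem huppert {R : Type u} [Group R] [Finite R] (p : ℕ) [Fact p.Prime] (hp : 3 < p)
    (hR : IsPGroup p R) (hO : Nat.card ↥(Cfsg.omegaOne p (⊤ : Subgroup R)) ≤ p ^ 2) :
    Cfsg.IsMetacyclic R :=
  huppert_aux p hp (Nat.card R) R rfl hR hO

end Cfsg.Agent.Lib.helper30
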