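import Mathlib
import Cfsg.Agent.Lib.helper30.Critical
import Cfsg.Agent.Lib.helper30.RankTwo

set_option autoImplicit false

namespace Cfsg.Agent.Lib.helper30

/-- A subgroup generated by a set stable (up to the closure) under conjugation is normal. -/
theorem closure_normal_of_conj_mem {R : Type*} [Group R] (s : Set R)
    (h : ∀ g : R, ∀ x ∈ s, g * x * g⁻¹ ∈ Subgroup.closure s) : (Subgroup.closure s).Normal := by
  constructor
  intro n hn g
  have h1 : (Subgroup.closure s).map (MulAut.conj g).toMonoidHom ≤ Subgroup.closure s := by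
    rw [MonoidHom.map_closure, Subgroup.closure_le]
    rintro _ ⟨x, hx, rfl⟩
    exact h g x hx
  exact h1 ⟨n, hn, rfl⟩

/-- The `j`-th level of the centralizer of `E` modulo `E`. -/
def lev {R : Type*} [Group R] (E : Subgroup R) [E.Normal] (j : ℕ) : Subgroup R :=
  Subgroup.centralizer (E : Set R) ⊓
    (Subgroup.upperCentralSeries (R ⧸ E) j).comap (QuotientGroup.mk' E)

theorem mem_lev_zero {R : Type*} [Group R] (E : Subgroup R) [E.Normal]
    (hEab : ∀ x ∈ E, ∀ y ∈ E, x * y = y * x) (u : R) : u ∈ lev E 0 ↔ u ∈ E := by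
  unfold lev
  rw [Subgroup.mem_inf, Subgroup.mem_comap, Subgroup.upperCentralSeries_zero, Subgroup.mem_bot,
    QuotientGroup.mk'_apply, QuotientGroup.eq_one_iff]
  constructor
  · exact fun h => h.2
  · intro h
    exact ⟨Subgroup.mem_centralizer_iff.mpr (fun e he => hEab e he u h), h⟩

theorem mem_lev_succ {R : Type*} [Group R] (E : Subgroup R) [E.Normal] (j : ℕ) (u : R) :
    u ∈ lev E (j + 1) ↔
      u ∈ Subgroup.centralizer (E : Set R) ∧ ∀ r : R, u * r * u⁻¹ * r⁻¹ ∈ lev E j := by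
  unfold lev
  rw [Subgroup.mem_inf, Subgroup.mem_comap, Subgroup.mem_upperCentralSeries_succ_iff]
  constructor
  · rintro ⟨hu, h⟩
    refine ⟨hu, fun r => ?_⟩
    rw [Subgroup.mem_inf, Subgroup.mem_comap]
    refine ⟨?_, ?_⟩
    · have hn : (Subgroup.centralizer (E : Set R)).Normal := inferInstance
      have h1 : r * u⁻¹ * r⁻¹ ∈ Subgroup.centralizer (E : Set R) :=
        hn.conj_mem _ (Subgroup.inv_mem _ hu) r
      have h2 : u * r * u⁻¹ * r⁻¹ = u * (r * u⁻¹ * r⁻¹) := by group
      rw [h2]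
      exact Subgroup.mul_mem _ hu h1
    · have := h (QuotientGroup.mk' E r)
      rw [commutatorElement_def] at this
      simpa using this
  · rintro ⟨hu, h⟩
    refine ⟨hu, fun y => ?_⟩
    obtain ⟨r, rfl⟩ := QuotientGroup.mk'_surjective E y
    have h1 : u * r * u⁻¹ * r⁻¹ ∈
        (Subgroup.upperCentralSeries (R ⧸ E) j).comap (QuotientGroup.mk' E) := (h r).2
    rw [Subgroup.mem_comap] at h1
    rw [commutatorElement_def]
    simpa using h1

theorem lev_top {R : Type*} [Group R] [Finite R] (p : ℕ) [Fact p.Prime] (hR : IsPGroup p R)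
    (E : Subgroup R) [E.Normal] :
    ∃ n : ℕ, ∀ u ∈ Subgroup.centralizer (E : Set R), u ∈ lev E n := by
  have hnil : Group.IsNilpotent (R ⧸ E) := (hR.to_quotient E).isNilpotent
  obtain ⟨n, hn⟩ := hnil.nilpotent
  refine ⟨n, fun u hu => ?_⟩
  unfold lev
  rw [hn]
  exact ⟨hu, Subgroup.mem_top _⟩

theorem lev_le_succ {R : Type*} [Group R] (E : Subgroup R) [E.Normal] (j : ℕ) :
    lev E j ≤ lev E (j + 1) :=
  inf_le_inf_left _ (Subgroup.comap_mono (Subgroup.upperCentralSeries_mono _ (Nat.le_succ j)))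

/-- **Ω-lemma.**  If `p` is odd and `E` is maximal among the normal elementary abelian subgroups
of the `p`-group `R`, then every element of order dividing `p` centralizing `E` lies in `E`. -/
theorem omega_centralizer_le {R : Type*} [Group R] [Finite R] (p : ℕ) [Fact p.Prime] (hp : p ≠ 2)
    (hR : IsPGroup p R) (E : Subgroup R) [hEn : E.Normal]
    (hEab : ∀ x ∈ E, ∀ y ∈ E, x * y = y * x) (hEexp : ∀ x ∈ E, x ^ p = 1)
    (hmax : ∀ F : Subgroup R, F.Normal → (∀ x ∈ F, ∀ y ∈ F, x * y = y * x) →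
      (∀ x ∈ F, x ^ p = 1) → E ≤ F → F ≤ E) :
    ∀ x ∈ Subgroup.centralizer (E : Set R), x ^ p = 1 → x ∈ E := by
  have hpp : p.Prime := Fact.out
  have hodd : 2 ∣ p - 1 := by
    obtain ⟨k, hk⟩ := hpp.odd_of_ne_two hp
    exact ⟨k, by omega⟩
  have hP1 : ∀ x ∈ lev E 1, x ^ p = 1 → x ∈ E := by
    intro x hx hxp
    have hx0 := hx
    rw [mem_lev_succ] at hx
    obtain ⟨hxC, hx1⟩ := hx
    have hx1' : ∀ r, x * r * x⁻¹ * r⁻¹ ∈ E := fun r => (mem_lev_zero E hEab _).mp (hx1 r)
    have hcl : ∀ a ∈ lev E 1, ∀ b ∈ lev E 1, ∀ c ∈ lev E 1,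
        (a * b * a⁻¹ * b⁻¹) * c = c * (a * b * a⁻¹ * b⁻¹) := by
      intro a ha b hb c hc
      rw [mem_lev_succ] at ha hc
      have h1 : a * b * a⁻¹ * b⁻¹ ∈ E := (mem_lev_zero E hEab _).mp (ha.2 b)
      exact Subgroup.mem_centralizer_iff.mp hc.1 _ h1
    obtain ⟨B, hB⟩ := exists_omega p hp (lev E 1) hcl
    have hEl : E ≤ lev E 1 := by
      intro y hy
      rw [mem_lev_succ]
      refine ⟨Subgroup.mem_centralizer_iff.mpr (fun e he => hEab e he y hy), fun r => ?_⟩
      rw [mem_lev_zero E hEab]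
      have := hEn.conj_mem _ (E.inv_mem hy) r
      have h2 : y * r * y⁻¹ * r⁻¹ = y * (r * y⁻¹ * r⁻¹) := by group
      rw [h2]
      exact E.mul_mem hy this
    have hFB : Subgroup.closure ((E : Set R) ∪ {x}) ≤ B := by
      rw [Subgroup.closure_le]
      rintro y (hy | hy)
      · exact (hB y).mpr ⟨hEl hy, hEexp y hy⟩
      · rw [Set.mem_singleton_iff] at hy
        subst hy
        exact (hB _).mpr ⟨hx0, hxp⟩
    have hEF : E ≤ Subgroup.closure ((E : Set R) ∪ {x}) :=
      fun e he => Subgroup.subset_closure (Or.inl he)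
    have hxF : x ∈ Subgroup.closure ((E : Set R) ∪ {x}) := Subgroup.subset_closure (Or.inr rfl)
    have hFn : (Subgroup.closure ((E : Set R) ∪ {x})).Normal := by
      apply closure_normal_of_conj_mem
      rintro g y (hy | hy)
      · exact hEF (hEn.conj_mem y hy g)
      · rw [Set.mem_singleton_iff] at hy
        subst hy
        have h1 : g * y * g⁻¹ = (y * g * y⁻¹ * g⁻¹)⁻¹ * y := by group
        rw [h1]
        exact Subgroup.mul_mem _ (Subgroup.inv_mem _ (hEF (hx1' g))) hxF
    have hFab : ∀ u ∈ Subgroup.closure ((E : Set R) ∪ {x}),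
        ∀ v ∈ Subgroup.closure ((E : Set R) ∪ {x}), u * v = v * u := by
      apply closure_comm
      rintro s (hs | hs) t (ht | ht)
      · exact hEab s hs t ht
      · rw [Set.mem_singleton_iff] at ht
        subst ht
        exact Subgroup.mem_centralizer_iff.mp hxC s hs
      · rw [Set.mem_singleton_iff] at hs
        subst hs
        exact (Subgroup.mem_centralizer_iff.mp hxC t ht).symm
      · rw [Set.mem_singleton_iff] at hs ht
        subst hs
        subst ht
        rfl
    exact hmax _ hFn hFab (fun y hy => ((hB y).mp (hFB hy)).2) hEF hxF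
  have hP : ∀ j : ℕ, ∀ x ∈ lev E (j + 1), x ^ p = 1 → x ∈ E := by
    intro j
    induction j with
    | zero => exact hP1
    | succ j ih =>
      intro x hx hxp
      obtain ⟨hxC, hxl⟩ := (mem_lev_succ E (j + 1) x).mp hx
      have hQ : ∀ i : ℕ, ∀ w : R, x * w * x⁻¹ * w⁻¹ ∈ lev E i → x * w * x⁻¹ * w⁻¹ ∈ E := by
        intro i
        induction i with
        | zero =>
          intro w hw
          exact (mem_lev_zero E hEab _).mp hw
        | succ i ihi =>
          intro w hw
          have hcl := (mem_lev_succ E i _).mp hw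
          have h1 : x * (x * w * x⁻¹ * w⁻¹) * x⁻¹ * (x * w * x⁻¹ * w⁻¹)⁻¹ ∈ lev E i := by
            have := hcl.2 x
            have h2 : ∀ c : R, x * c * x⁻¹ * c⁻¹ = (c * x * c⁻¹ * x⁻¹)⁻¹ := fun c => by group
            rw [h2]
            exact Subgroup.inv_mem _ this
          have h3 : x * (x * w * x⁻¹ * w⁻¹) * x⁻¹ * (x * w * x⁻¹ * w⁻¹)⁻¹ ∈ E := ihi _ h1
          have hz : (x * w * x⁻¹ * w⁻¹) * x⁻¹ * (x * w * x⁻¹ * w⁻¹)⁻¹ * x ∈ E := by
            have := hEn.conj_mem _ h3 x⁻¹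
            have h4 : ∀ c : R, c * x⁻¹ * c⁻¹ * x = x⁻¹ * (x * c * x⁻¹ * c⁻¹) * x⁻¹⁻¹ :=
              fun c => by group
            rw [h4]
            exact this
          have hzx : Commute ((x * w * x⁻¹ * w⁻¹) * x⁻¹ * (x * w * x⁻¹ * w⁻¹)⁻¹ * x) x⁻¹ :=
            Subgroup.mem_centralizer_iff.mp (Subgroup.inv_mem _ hxC) _ hz
          have hzc : Commute ((x * w * x⁻¹ * w⁻¹) * x⁻¹ * (x * w * x⁻¹ * w⁻¹)⁻¹ * x)
              (x * w * x⁻¹ * w⁻¹) :=
            Subgroup.mem_centralizer_iff.mp hcl.1 _ hz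
          have hmul' : ∀ c : R, c * x⁻¹ = (c * x⁻¹ * c⁻¹ * x) * (x⁻¹ * c) := fun c => by group
          have hmul : (x * w * x⁻¹ * w⁻¹) * x⁻¹
              = ((x * w * x⁻¹ * w⁻¹) * x⁻¹ * (x * w * x⁻¹ * w⁻¹)⁻¹ * x)
                * (x⁻¹ * (x * w * x⁻¹ * w⁻¹)) := hmul' _
          have hpow := Cfsg.Agent.S1443.mul_pow_of_comm_central x⁻¹ (x * w * x⁻¹ * w⁻¹) _ hmul
            hzx hzc p
          have h5 : x⁻¹ * (x * w * x⁻¹ * w⁻¹) = w * x⁻¹ * w⁻¹ := by group
          have h6 : (x⁻¹ * (x * w * x⁻¹ * w⁻¹)) ^ p = 1 := by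
            rw [h5, conj_pow, inv_pow, hxp]
            group
          have hzp : ((x * w * x⁻¹ * w⁻¹) * x⁻¹ * (x * w * x⁻¹ * w⁻¹)⁻¹ * x) ^ (p * (p - 1) / 2)
              = 1 := by
            rw [Nat.mul_div_assoc p hodd, pow_mul, hEexp _ hz, one_pow]
          rw [h6, inv_pow, hxp, inv_one, one_mul, hzp, mul_one] at hpow
          exact ih _ (hxl w) hpow.symm
      have hx1 : x ∈ lev E 1 := by
        rw [mem_lev_succ]
        exact ⟨hxC, fun r => (mem_lev_zero E hEab _).mpr (hQ (j + 1) r (hxl r))⟩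
      exact hP1 x hx1 hxp
  intro x hx hxp
  obtain ⟨n, hn⟩ := lev_top p hR E
  exact hP n x (lev_le_succ E n (hn x hx)) hxp

/-- Counting via the commutator homomorphism `x ↦ [e, x]`. -/
theorem card_le_mul_card_centralizer {R : Type*} [Group R] [Finite R] (X Zc : Subgroup R) (e : R)
    (h1 : ∀ x ∈ X, e * x * e⁻¹ * x⁻¹ ∈ Zc) (h2 : ∀ z ∈ Zc, ∀ x ∈ X, z * x = x * z) :
    Nat.card X ≤ Nat.card Zc * Nat.card (X ⊓ Subgroup.centralizer {e} : Subgroup R) := by
  let f : X →* R := MonoidHom.mk' (fun x => e * (x : R) * e⁻¹ * (x : R)⁻¹) (by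
    intro x y
    have h3 : e * ((x * y : X) : R) * e⁻¹ * ((x * y : X) : R)⁻¹
        = (e * (x : R) * e⁻¹ * (x : R)⁻¹)
          * ((x : R) * (e * (y : R) * e⁻¹ * (y : R)⁻¹) * (x : R)⁻¹) := by
      rw [Subgroup.coe_mul]; group
    have h4 : (x : R) * (e * (y : R) * e⁻¹ * (y : R)⁻¹) * (x : R)⁻¹ = e * (y : R) * e⁻¹ * (y : R)⁻¹ := by
      rw [← h2 _ (h1 y y.2) x x.2]; group
    rw [h3, h4])
  have hfapp : ∀ x : X, f x = e * (x : R) * e⁻¹ * (x : R)⁻¹ := fun x => rfl
  have hrange : f.range ≤ Zc := by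
    rintro _ ⟨x, rfl⟩
    rw [hfapp]
    exact h1 x x.2
  have hker : f.ker.map X.subtype ≤ X ⊓ Subgroup.centralizer {e} := by
    rintro _ ⟨u, hu, rfl⟩
    have hu := MonoidHom.mem_ker.mp hu
    rw [hfapp] at hu
    refine ⟨u.2, ?_⟩
    show (u : R) ∈ Subgroup.centralizer {e}
    rw [Subgroup.mem_centralizer_iff]
    intro c hc
    rw [Set.mem_singleton_iff] at hc
    subst hc
    have : c * (u : R) = (c * (u : R) * c⁻¹ * (u : R)⁻¹) * ((u : R) * c) := by group
    rw [this, hu, one_mul]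
  have hkercard : Nat.card f.ker ≤ Nat.card (X ⊓ Subgroup.centralizer {e} : Subgroup R) := by
    rw [← Subgroup.card_map_of_injective (K := f.ker) X.subtype_injective]
    exact Subgroup.card_le_of_le hker
  calc Nat.card X = Nat.card f.ker * f.ker.index := (Subgroup.card_mul_index _).symm
    _ = Nat.card f.ker * Nat.card f.range := by rw [Subgroup.index_ker]
    _ ≤ Nat.card (X ⊓ Subgroup.centralizer {e} : Subgroup R) * Nat.card Zc :=
        Nat.mul_le_mul hkercard (Subgroup.card_le_of_le hrange)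
    _ = _ := mul_comm _ _

/-- Every normal elementary abelian subgroup lies in a maximal one. -/
theorem exists_max_normal_elemAb {R : Type*} [Group R] [Finite R] (p : ℕ) (E : Subgroup R)
    (hEn : E.Normal) (hEab : ∀ x ∈ E, ∀ y ∈ E, x * y = y * x) (hEexp : ∀ x ∈ E, x ^ p = 1) :
    ∃ D : Subgroup R, E ≤ D ∧ D.Normal ∧ (∀ x ∈ D, ∀ y ∈ D, x * y = y * x) ∧
      (∀ x ∈ D, x ^ p = 1) ∧
      ∀ F : Subgroup R, F.Normal → (∀ x ∈ F, ∀ y ∈ F, x * y = y * x) →
        (∀ x ∈ F, x ^ p = 1) → D ≤ F → F ≤ D := by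
  obtain ⟨D, hED, hD⟩ := Finite.exists_le_maximal
    (p := fun F : Subgroup R => F.Normal ∧ (∀ x ∈ F, ∀ y ∈ F, x * y = y * x) ∧ ∀ x ∈ F, x ^ p = 1)
    (a := E) ⟨hEn, hEab, hEexp⟩
  exact ⟨D, hED, hD.1.1, hD.1.2.1, hD.1.2.2, fun F h1 h2 h3 h4 => hD.2 ⟨h1, h2, h3⟩ h4⟩

/-- Every normal abelian subgroup of a finite nilpotent group lies in a normal abelian
self-centralizing subgroup. -/
theorem exists_normal_abelian_selfcentralizing {R : Type*} [Group R] [Finite R]
    [Group.IsNilpotent R] (D : Subgroup R) (hDn : D.Normal)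
    (hDab : ∀ x ∈ D, ∀ y ∈ D, x * y = y * x) :
    ∃ A : Subgroup R, D ≤ A ∧ A.Normal ∧ (∀ x ∈ A, ∀ y ∈ A, x * y = y * x) ∧
      Subgroup.centralizer (A : Set R) = A := by
  obtain ⟨A, hDA, hA⟩ := Finite.exists_le_maximal
    (p := fun F : Subgroup R => F.Normal ∧ (∀ x ∈ F, ∀ y ∈ F, x * y = y * x))
    (a := D) ⟨hDn, hDab⟩
  have hAn : A.Normal := hA.1.1
  have hAab := hA.1.2
  refine ⟨A, hDA, hAn, hAab, le_antisymm ?_ ?_⟩
  · by_contra hCA
    have hCn : (Subgroup.centralizer (A : Set R)).Normal := inferInstance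
    obtain ⟨k, hkC, hkA, hk⟩ := exists_central_mod (Subgroup.centralizer (A : Set R)) A hCA
    have hAF : A ≤ Subgroup.closure ((A : Set R) ∪ {k}) :=
      fun e he => Subgroup.subset_closure (Or.inl he)
    have hkF : k ∈ Subgroup.closure ((A : Set R) ∪ {k}) := Subgroup.subset_closure (Or.inr rfl)
    have hFn : (Subgroup.closure ((A : Set R) ∪ {k})).Normal := by
      apply closure_normal_of_conj_mem
      rintro g y (hy | hy)
      · exact hAF (hAn.conj_mem y hy g)
      · rw [Set.mem_singleton_iff] at hy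
        subst hy
        have h1 : g * y * g⁻¹ = (y * g * y⁻¹ * g⁻¹)⁻¹ * y := by group
        rw [h1]
        exact Subgroup.mul_mem _ (Subgroup.inv_mem _ (hAF (hk g))) hkF
    have hFab : ∀ u ∈ Subgroup.closure ((A : Set R) ∪ {k}),
        ∀ v ∈ Subgroup.closure ((A : Set R) ∪ {k}), u * v = v * u := by
      apply closure_comm
      rintro s (hs | hs) t (ht | ht)
      · exact hAab s hs t ht
      · rw [Set.mem_singleton_iff] at ht
        subst ht
        exact Subgroup.mem_centralizer_iff.mp hkC s hs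
      · rw [Set.mem_singleton_iff] at hs
        subst hs
        exact (Subgroup.mem_centralizer_iff.mp hkC t ht).symm
      · rw [Set.mem_singleton_iff] at hs ht
        subst hs
        subst ht
        rfl
    exact hkA (hA.2 ⟨hFn, hFab⟩ hAF hkF)
  · intro a ha
    exact Subgroup.mem_centralizer_iff.mpr (fun b hb => hAab b hb a ha)

/-- If a maximal normal elementary abelian subgroup of the `p`-group `R` (`p` odd) has order at
most `p ^ 2`, then every elementary abelian subgroup of `R` has order at most `p ^ 2`. -/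
theorem card_le_sq_of_max_normal {R : Type*} [Group R] [Finite R] (p : ℕ) [Fact p.Prime]
    (hp : p ≠ 2) (hR : IsPGroup p R) (D : Subgroup R) [hDn : D.Normal]
    (hDab : ∀ x ∈ D, ∀ y ∈ D, x * y = y * x) (hDexp : ∀ x ∈ D, x ^ p = 1)
    (hmax : ∀ F : Subgroup R, F.Normal → (∀ x ∈ F, ∀ y ∈ F, x * y = y * x) →
      (∀ x ∈ F, x ^ p = 1) → D ≤ F → F ≤ D)
    (hD2 : Nat.card D ≤ p ^ 2) (X : Subgroup R) (hXab : ∀ x ∈ X, ∀ y ∈ X, x * y = y * x)
    (hXexp : ∀ x ∈ X, x ^ p = 1) : Nat.card X ≤ p ^ 2 := by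
  have hpp : p.Prime := Fact.out
  have hΩ := omega_centralizer_le p hp hR D hDab hDexp hmax
  have hnil : Group.IsNilpotent R := hR.isNilpotent
  by_cases hDZ : D ≤ Subgroup.center R
  · have hXD : X ≤ D := by
      intro x hx
      refine hΩ x ?_ (hXexp x hx)
      rw [Subgroup.mem_centralizer_iff]
      intro d hd
      exact (Subgroup.mem_center_iff.mp (hDZ hd) x).symm
    exact (Subgroup.card_le_of_le hXD).trans hD2
  · have hDM : ¬ D ≤ D ⊓ Subgroup.center R := fun h => hDZ (h.trans inf_le_right)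
    obtain ⟨e, heD, heM, he⟩ := exists_central_mod D (D ⊓ Subgroup.center R) hDM
    have hMlt : D ⊓ Subgroup.center R < D := lt_of_le_of_ne inf_le_left (fun h => hDM h.ge)
    have hMcard : p * Nat.card (D ⊓ Subgroup.center R : Subgroup R) ≤ Nat.card D :=
      pgroup_lt_card p _ D (hR.to_subgroup D) hMlt
    have hMp : Nat.card (D ⊓ Subgroup.center R : Subgroup R) ≤ p := by
      have h1 : p * Nat.card (D ⊓ Subgroup.center R : Subgroup R) ≤ p * p := by
        calc p * Nat.card (D ⊓ Subgroup.center R : Subgroup R) ≤ Nat.card D := hMcard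
          _ ≤ p ^ 2 := hD2
          _ = p * p := by ring
      exact Nat.le_of_mul_le_mul_left h1 hpp.pos
    -- `D ⊓ Z(R)` is nontrivial
    have hDbot : ¬ D ≤ ⊥ := by
      intro h
      exact hDZ (h.trans bot_le)
    obtain ⟨k, hkD, hkbot, hk⟩ := exists_central_mod D ⊥ hDbot
    have hkZ : k ∈ Subgroup.center R := by
      rw [Subgroup.mem_center_iff]
      intro r
      have h1 := hk r
      rw [Subgroup.mem_bot] at h1
      have h2 : k * r = (k * r * k⁻¹ * r⁻¹) * (r * k) := by group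
      rw [h2, h1, one_mul]
    have hMne : (D ⊓ Subgroup.center R : Subgroup R) ≠ ⊥ := by
      intro h
      have : k ∈ (D ⊓ Subgroup.center R : Subgroup R) := ⟨hkD, hkZ⟩
      rw [h] at this
      exact hkbot this
    have hMcard' : p ≤ Nat.card (D ⊓ Subgroup.center R : Subgroup R) := by
      have := pgroup_lt_card p ⊥ _ (hR.to_subgroup (D ⊓ Subgroup.center R))
        (bot_lt_iff_ne_bot.mpr hMne)
      rwa [Subgroup.card_bot, mul_one] at this
    -- `D` is generated by `D ⊓ Z(R)` and `e`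
    have hD'le : Subgroup.closure (((D ⊓ Subgroup.center R : Subgroup R) : Set R) ∪ {e}) ≤ D := by
      rw [Subgroup.closure_le]
      rintro y (hy | hy)
      · exact hy.1
      · rw [Set.mem_singleton_iff] at hy
        subst hy
        exact heD
    have hMD' : D ⊓ Subgroup.center R
        < Subgroup.closure (((D ⊓ Subgroup.center R : Subgroup R) : Set R) ∪ {e}) := by
      refine lt_of_le_of_ne (fun y hy => Subgroup.subset_closure (Or.inl hy)) ?_
      intro h
      apply heM
      rw [h]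
      exact Subgroup.subset_closure (Or.inr rfl)
    have hD'card := pgroup_lt_card p _ _ (hR.to_subgroup _) hMD'
    have hD'eq : Subgroup.closure (((D ⊓ Subgroup.center R : Subgroup R) : Set R) ∪ {e}) = D := by
      apply Subgroup.eq_of_le_of_card_ge hD'le
      calc Nat.card D ≤ p ^ 2 := hD2
        _ = p * p := by ring
        _ ≤ p * Nat.card (D ⊓ Subgroup.center R : Subgroup R) := Nat.mul_le_mul_left _ hMcard'
        _ ≤ _ := hD'card
    have hKD : X ⊓ Subgroup.centralizer {e} ≤ D := by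
      intro x hx
      refine hΩ x ?_ (hXexp x hx.1)
      rw [Subgroup.mem_centralizer_iff]
      intro d hd
      rw [← hD'eq] at hd
      have h1 : Subgroup.closure (((D ⊓ Subgroup.center R : Subgroup R) : Set R) ∪ {e})
          ≤ Subgroup.centralizer {x} := by
        rw [Subgroup.closure_le]
        rintro y (hy | hy)
        · rw [SetLike.mem_coe, Subgroup.mem_centralizer_iff]
          intro c hc
          rw [Set.mem_singleton_iff] at hc
          subst hc
          exact Subgroup.mem_center_iff.mp hy.2 c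
        · rw [Set.mem_singleton_iff] at hy
          subst hy
          rw [SetLike.mem_coe, Subgroup.mem_centralizer_iff]
          intro c hc
          rw [Set.mem_singleton_iff] at hc
          subst hc
          exact (Subgroup.mem_centralizer_iff.mp hx.2 y rfl).symm
      exact (Subgroup.mem_centralizer_iff.mp (h1 hd) x rfl).symm
    have hHK := card_le_mul_card_centralizer X (D ⊓ Subgroup.center R) e
      (fun x _ => he x) (fun z hz x _ => (Subgroup.mem_center_iff.mp hz.2 x).symm)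
    by_cases hKeq : X ⊓ Subgroup.centralizer {e} = D
    · have hDX : D ≤ X := by rw [← hKeq]; exact inf_le_left
      have hXD : X ≤ D := by
        intro x hx
        refine hΩ x ?_ (hXexp x hx)
        rw [Subgroup.mem_centralizer_iff]
        intro d hd
        exact hXab d (hDX hd) x hx
      exact (Subgroup.card_le_of_le hXD).trans hD2
    · have hKlt : X ⊓ Subgroup.centralizer {e} < D := lt_of_le_of_ne hKD hKeq
      have hKcard := pgroup_lt_card p _ D (hR.to_subgroup D) hKlt
      calc Nat.card X ≤ Nat.card (D ⊓ Subgroup.center R : Subgroup R)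
            * Nat.card (X ⊓ Subgroup.centralizer {e} : Subgroup R) := hHK
        _ ≤ p * Nat.card (X ⊓ Subgroup.centralizer {e} : Subgroup R) :=
            Nat.mul_le_mul_right _ hMp
        _ ≤ Nat.card D := hKcard
        _ ≤ p ^ 2 := hD2

/-- In a `p`-group of rank at least three (`p` odd), every normal elementary abelian subgroup lies
in a maximal normal elementary abelian subgroup, and the latter has order greater than `p ^ 2`. -/
theorem exists_max_normal_elemAb_large {R : Type*} [Group R] [Finite R] (p : ℕ) [Fact p.Prime]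
    (hp : p ≠ 2) (hR : IsPGroup p R) (hr : ¬ Cfsg.PRankLE p 2 R) (E : Subgroup R)
    (hEn : E.Normal) (hEab : ∀ x ∈ E, ∀ y ∈ E, x * y = y * x) (hEexp : ∀ x ∈ E, x ^ p = 1) :
    ∃ D : Subgroup R, E ≤ D ∧ D.Normal ∧ (∀ x ∈ D, ∀ y ∈ D, x * y = y * x) ∧
      (∀ x ∈ D, x ^ p = 1) ∧
      (∀ F : Subgroup R, F.Normal → (∀ x ∈ F, ∀ y ∈ F, x * y = y * x) →
        (∀ x ∈ F, x ^ p = 1) → D ≤ F → F ≤ D) ∧ p ^ 2 < Nat.card D := by
  obtain ⟨D, hED, hDn, hDab, hDexp, hDmax⟩ := exists_max_normal_elemAb p E hEn hEab hEexp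
  refine ⟨D, hED, hDn, hDab, hDexp, hDmax, ?_⟩
  by_contra hcard
  push Not at hcard
  apply hr
  intro X hXc hXexp
  exact card_le_sq_of_max_normal p hp hR D hDab hDexp hDmax hcard X
    (fun x hx y hy => congrArg Subtype.val (isMulCommutative_iff.mp hXc ⟨x, hx⟩ ⟨y, hy⟩)) hXexp

end Cfsg.Agent.Lib.helper30
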