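import Mathlib
import Cfsg.Agent.Lib.helper30.OmegaCent

set_option autoImplicit false

namespace Cfsg.Agent.Lib.helper30

theorem mem_ucs_two {R : Type*} [Group R] (x : R) :
    x ∈ Subgroup.upperCentralSeries R 2 ↔ ∀ r : R, x * r * x⁻¹ * r⁻¹ ∈ Subgroup.center R := by
  have h2 : (2 : ℕ) = 1 + 1 := rfl
  rw [h2, Subgroup.mem_upperCentralSeries_succ_iff, Subgroup.upperCentralSeries_one]
  simp only [commutatorElement_def]

theorem closure_exp_of_comm {R : Type*} [Group R] (p : ℕ) (S : Set R)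
    (hcomm : ∀ s ∈ S, ∀ t ∈ S, s * t = t * s) (hexp : ∀ s ∈ S, s ^ p = 1) :
    ∀ u ∈ Subgroup.closure S, u ^ p = 1 := by
  have hab := closure_comm S hcomm
  have h1 : ∀ u ∈ Subgroup.closure S, u ∈ Subgroup.closure S ∧ u ^ p = 1 := by
    intro u hu
    induction hu using Subgroup.closure_induction with
    | mem x hx => exact ⟨Subgroup.subset_closure hx, hexp x hx⟩
    | one => exact ⟨Subgroup.one_mem _, one_pow _⟩
    | mul x y _ _ ihx ihy =>
      have hc : Commute x y := hab x ihx.1 y ihy.1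
      exact ⟨Subgroup.mul_mem _ ihx.1 ihy.1, by rw [hc.mul_pow, ihx.2, ihy.2, one_mul]⟩
    | inv x _ ih => exact ⟨Subgroup.inv_mem _ ih.1, by rw [inv_pow, ih.2, inv_one]⟩
  exact fun u hu => (h1 u hu).2

/-- An element commuting with a set commutes with the subgroup it generates. -/
theorem commute_closure {R : Type*} [Group R] (S : Set R) (x : R) (h : ∀ s ∈ S, x * s = s * x) :
    ∀ u ∈ Subgroup.closure S, x * u = u * x := by
  have h1 : Subgroup.closure S ≤ Subgroup.centralizer {x} := by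
    rw [Subgroup.closure_le]
    intro s hs
    rw [SetLike.mem_coe, Subgroup.mem_centralizer_iff]
    intro c hc
    rw [Set.mem_singleton_iff] at hc
    subst hc
    exact h s hs
  intro u hu
  exact Subgroup.mem_centralizer_iff.mp (h1 hu) x rfl

/-- If `Z < E`, `|Z| = p`, `|E| = p ^ 2` and `e ∈ E ∖ Z`, then `E` is generated by `Z` and `e`. -/
theorem closure_eq_of_card_sq {R : Type*} [Group R] [Finite R] (p : ℕ) [Fact p.Prime]
    (hR : IsPGroup p R) (Z E : Subgroup R) (hZE : Z ≤ E) (hZ : p ≤ Nat.card Z)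
    (hE : Nat.card E ≤ p ^ 2) (e : R) (heE : e ∈ E) (heZ : e ∉ Z) :
    Subgroup.closure ((Z : Set R) ∪ {e}) = E := by
  have hle : Subgroup.closure ((Z : Set R) ∪ {e}) ≤ E := by
    rw [Subgroup.closure_le]
    rintro y (hy | hy)
    · exact hZE hy
    · rw [Set.mem_singleton_iff] at hy
      subst hy
      exact heE
  have hlt : Z < Subgroup.closure ((Z : Set R) ∪ {e}) := by
    refine lt_of_le_of_ne (fun y hy => Subgroup.subset_closure (Or.inl hy)) ?_
    intro h
    apply heZ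
    rw [h]
    exact Subgroup.subset_closure (Or.inr rfl)
  have hcard := pgroup_lt_card p _ _ (hR.to_subgroup _) hlt
  apply Subgroup.eq_of_le_of_card_ge hle
  calc Nat.card E ≤ p ^ 2 := hE
    _ = p * p := by ring
    _ ≤ p * Nat.card Z := Nat.mul_le_mul_left _ hZ
    _ ≤ _ := hcard

/-- **B-G Theorem 5.3(a), core.**  `R` a `p`-group of rank at least three, `p` odd, `E` a maximal
elementary abelian subgroup of order `p ^ 2`, `Z = Ω₁(Z(R))`, `W = Ω₁(Z₂(R))`. -/
theorem narrow_core {R : Type*} [Group R] [Finite R] (p : ℕ) [Fact p.Prime] (hp : p ≠ 2)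
    (hR : IsPGroup p R) (hr : ¬ Cfsg.PRankLE p 2 R) (E : Subgroup R)
    (hEab : ∀ x ∈ E, ∀ y ∈ E, x * y = y * x) (hE2 : Nat.card E = p ^ 2)
    (hext : ∀ x : R, x ^ p = 1 → (∀ e ∈ E, x * e = e * x) → x ∈ E)
    (Z W : Subgroup R) (hZ : ∀ x, x ∈ Z ↔ x ∈ Subgroup.center R ∧ x ^ p = 1)
    (hW : ∀ x, x ∈ W ↔ x ∈ Subgroup.upperCentralSeries R 2 ∧ x ^ p = 1) :
    Nat.card Z = p ∧ Nat.card W = p ^ 2 ∧ ¬ E ≤ Subgroup.centralizer (W : Set R) ∧
      (Subgroup.centralizer (W : Set R)).index = p ∧ Z ≤ E ∧ Z ≤ W ∧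
      (∀ w ∈ W, ∀ r : R, w * r * w⁻¹ * r⁻¹ ∈ Z) ∧ W ⊓ E = Z := by
  have hpp : p.Prime := Fact.out
  have hnil : Group.IsNilpotent R := hR.isNilpotent
  have hZcen : ∀ z ∈ Z, ∀ r : R, z * r = r * z := fun z hz r =>
    (Subgroup.mem_center_iff.mp ((hZ z).mp hz).1 r).symm
  -- `Z ≤ E`
  have hZE : Z ≤ E := fun z hz => hext z ((hZ z).mp hz).2 (fun e _ => hZcen z hz e)
  -- a large normal elementary abelian subgroup
  obtain ⟨D, -, hDn, hDab, hDexp, -, hDcard⟩ := exists_max_normal_elemAb_large p hp hR hr ⊥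
    inferInstance (fun x hx y hy => by rw [Subgroup.mem_bot] at hx hy; rw [hx, hy])
    (fun x hx => by rw [Subgroup.mem_bot] at hx; rw [hx, one_pow])
  have hp2 : p < p ^ 2 := by
    have := hpp.one_lt
    nlinarith
  -- `Z ≠ E`
  have hZneE : Z ≠ E := by
    intro h
    have hDE : D ≤ E := by
      intro d hd
      refine hext d (hDexp d hd) (fun e he => ?_)
      rw [← h] at he
      exact (hZcen e he d).symm
    have := Subgroup.card_le_of_le hDE
    omega
  have hZltE : Z < E := lt_of_le_of_ne hZE hZneE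
  have hZcard1 : p * Nat.card Z ≤ p ^ 2 := by
    rw [← hE2]
    exact pgroup_lt_card p Z E (hR.to_subgroup E) hZltE
  have hZle : Nat.card Z ≤ p := by
    have h1 : p * Nat.card Z ≤ p * p := by rw [← sq]; exact hZcard1
    exact Nat.le_of_mul_le_mul_left h1 hpp.pos
  -- `Z ≠ ⊥`
  have hDbot : ¬ D ≤ ⊥ := by
    intro h
    have := Subgroup.card_le_of_le h
    rw [Subgroup.card_bot] at this
    omega
  obtain ⟨k₀, hk₀D, hk₀bot, hk₀⟩ := exists_central_mod D ⊥ hDbot
  have hk₀Z : k₀ ∈ Z := by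
    rw [hZ]
    refine ⟨?_, hDexp k₀ hk₀D⟩
    rw [Subgroup.mem_center_iff]
    intro r
    have h1 := hk₀ r
    rw [Subgroup.mem_bot] at h1
    have h2 : k₀ * r = (k₀ * r * k₀⁻¹ * r⁻¹) * (r * k₀) := by group
    rw [h2, h1, one_mul]
  have hZne : Z ≠ ⊥ := by
    intro h
    rw [h] at hk₀Z
    exact hk₀bot hk₀Z
  have hZge : p ≤ Nat.card Z := by
    have := pgroup_lt_card p ⊥ Z (hR.to_subgroup Z) (bot_lt_iff_ne_bot.mpr hZne)
    rwa [Subgroup.card_bot, mul_one] at this
  have hZcard : Nat.card Z = p := le_antisymm hZle hZge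
  -- `Z ≤ W`
  have hZW : Z ≤ W := by
    intro z hz
    rw [hW]
    refine ⟨?_, ((hZ z).mp hz).2⟩
    have h1 : Subgroup.upperCentralSeries R 1 ≤ Subgroup.upperCentralSeries R 2 :=
      Subgroup.upperCentralSeries_mono R (by norm_num)
    apply h1
    rw [Subgroup.upperCentralSeries_one]
    exact ((hZ z).mp hz).1
  -- commutators with `W` lie in `Z`
  have hWZ : ∀ w ∈ W, ∀ r : R, w * r * w⁻¹ * r⁻¹ ∈ Z := by
    intro w hw r
    obtain ⟨hw2, hwp⟩ := (hW w).mp hw
    have hc : w * r * w⁻¹ * r⁻¹ ∈ Subgroup.center R := (mem_ucs_two w).mp hw2 r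
    rw [hZ]
    refine ⟨hc, ?_⟩
    have hcomm : Commute (w * r * w⁻¹ * r⁻¹) w := Subgroup.mem_center_iff.mp hc w |>.symm
    rw [← Cfsg.Agent.S1443.comm_pow_of_comm w r hcomm p, hwp]
    group
  have hWZ' : ∀ w ∈ W, ∀ r : R, r * w * r⁻¹ * w⁻¹ ∈ Z := by
    intro w hw r
    have h1 : r * w * r⁻¹ * w⁻¹ = (w * r * w⁻¹ * r⁻¹)⁻¹ := by group
    rw [h1]
    exact Z.inv_mem (hWZ w hw r)
  -- an element of `W` outside `Z`
  have hDZ : ¬ D ≤ Z := by
    intro h
    have := Subgroup.card_le_of_le h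
    omega
  obtain ⟨k, hkD, hkZ, hk⟩ := exists_central_mod D Z hDZ
  have hkW : k ∈ W := by
    rw [hW]
    refine ⟨(mem_ucs_two k).mpr (fun r => ((hZ _).mp (hk r)).1), hDexp k hkD⟩
  have hZltW : Z < W := lt_of_le_of_ne hZW (fun h => hkZ (h ▸ hkW))
  have hWge : p ^ 2 ≤ Nat.card W := by
    have := pgroup_lt_card p Z W (hR.to_subgroup W) hZltW
    rw [hZcard] at this
    rw [sq]
    exact this
  -- `e₀ ∈ E ∖ Z`
  obtain ⟨e₀, he₀E, he₀Z⟩ := SetLike.exists_of_lt hZltE
  have hEgen := closure_eq_of_card_sq p hR Z E hZE hZge hE2.le e₀ he₀E he₀Z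
  have hcentE : ∀ x : R, x * e₀ = e₀ * x → ∀ e ∈ E, x * e = e * x := by
    intro x hx e he
    rw [← hEgen] at he
    refine commute_closure _ x ?_ e he
    rintro s (hs | hs)
    · exact (hZcen s hs x).symm
    · rw [Set.mem_singleton_iff] at hs
      subst hs
      exact hx
  have hcent_singleton : ∀ (X : Subgroup R), (∀ x ∈ X, x ^ p = 1) →
      X ⊓ Subgroup.centralizer {e₀} ≤ E := by
    intro X hX x hx
    refine hext x (hX x hx.1) (hcentE x ?_)
    exact (Subgroup.mem_centralizer_iff.mp hx.2 e₀ rfl).symm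
  have hWexp : ∀ w ∈ W, w ^ p = 1 := fun w hw => ((hW w).mp hw).2
  have hKE : W ⊓ Subgroup.centralizer {e₀} ≤ E := hcent_singleton W hWexp
  have hHK := card_le_mul_card_centralizer W Z e₀ (fun x hx => hWZ' x hx e₀)
    (fun z hz x _ => hZcen z hz x)
  rw [hZcard] at hHK
  -- `W ⊓ C(e₀) ≠ E`
  have hKne : W ⊓ Subgroup.centralizer {e₀} ≠ E := by
    intro hK
    have hEW : E ≤ W := by rw [← hK]; exact inf_le_left
    have hHK2 := card_le_mul_card_centralizer D Z e₀ (fun x _ => hWZ e₀ (hEW he₀E) x)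
      (fun z hz x _ => hZcen z hz x)
    rw [hZcard] at hHK2
    have hDK : D ⊓ Subgroup.centralizer {e₀} ≤ E := hcent_singleton D hDexp
    by_cases hDKeq : D ⊓ Subgroup.centralizer {e₀} = E
    · have hED : E ≤ D := by rw [← hDKeq]; exact inf_le_left
      have hDE : D ≤ E := by
        intro d hd
        exact hext d (hDexp d hd) (fun e he => hDab d hd e (hED he))
      have := Subgroup.card_le_of_le hDE
      omega
    · have hlt : D ⊓ Subgroup.centralizer {e₀} < E := lt_of_le_of_ne hDK hDKeq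
      have h1 := pgroup_lt_card p _ E (hR.to_subgroup E) hlt
      rw [hE2] at h1
      omega
  have hKlt : W ⊓ Subgroup.centralizer {e₀} < E := lt_of_le_of_ne hKE hKne
  have hKcard := pgroup_lt_card p _ E (hR.to_subgroup E) hKlt
  rw [hE2] at hKcard
  have hWcard : Nat.card W = p ^ 2 := le_antisymm (hHK.trans hKcard) hWge
  -- `W ⊓ E = Z`
  have hWEZ : W ⊓ E = Z := by
    symm
    apply Subgroup.eq_of_le_of_card_ge (le_inf hZW hZE)
    rw [hZcard]
    have hle : W ⊓ E ≤ W ⊓ Subgroup.centralizer {e₀} := by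
      intro x hx
      refine Subgroup.mem_inf.mpr ⟨hx.1, ?_⟩
      rw [Subgroup.mem_centralizer_iff]
      intro c hc
      rw [Set.mem_singleton_iff] at hc
      subst hc
      exact hEab c he₀E x hx.2
    have h1 := Subgroup.card_le_of_le hle
    have h2 : p * Nat.card (W ⊓ Subgroup.centralizer {e₀} : Subgroup R) ≤ p * p := by
      rw [← sq]; exact hKcard
    have h3 := Nat.le_of_mul_le_mul_left h2 hpp.pos
    exact h1.trans h3
  -- `E ≰ C(W)`
  have hET : ¬ E ≤ Subgroup.centralizer (W : Set R) := by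
    intro h
    have hWE : W ≤ E := by
      intro w hw
      refine hext w (hWexp w hw) (fun e he => ?_)
      exact Subgroup.mem_centralizer_iff.mp (h he) w hw
    have h1 : W ⊓ E = W := inf_eq_left.mpr hWE
    rw [hWEZ] at h1
    rw [h1] at hZcard
    rw [hZcard] at hWcard
    omega
  -- the index of `C(W)`
  have hWgen := closure_eq_of_card_sq p hR Z W hZW hZge hWcard.le k hkW hkZ
  have hTeq : Subgroup.centralizer (W : Set R) = ⊤ ⊓ Subgroup.centralizer {k} := by
    rw [top_inf_eq]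
    apply le_antisymm
    · exact Subgroup.centralizer_le (Set.singleton_subset_iff.mpr hkW)
    · intro x hx
      rw [Subgroup.mem_centralizer_iff]
      intro w hw
      rw [← hWgen] at hw
      refine (commute_closure _ x ?_ w hw).symm
      rintro s (hs | hs)
      · exact (hZcen s hs x).symm
      · rw [Set.mem_singleton_iff] at hs
        subst hs
        exact (Subgroup.mem_centralizer_iff.mp hx s rfl).symm
  have hHK3 := card_le_mul_card_centralizer ⊤ Z k (fun x _ => hk x) (fun z hz x _ => hZcen z hz x)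
  rw [hZcard, ← hTeq, Subgroup.card_top] at hHK3
  have hTlt : Subgroup.centralizer (W : Set R) < ⊤ := by
    refine lt_of_le_of_ne le_top ?_
    intro h
    apply hET
    rw [h]
    exact le_top
  have hTcard := pgroup_lt_card p _ ⊤ (hR.to_subgroup ⊤) hTlt
  rw [Subgroup.card_top] at hTcard
  have hidx : (Subgroup.centralizer (W : Set R)).index = p := by
    have h1 := Subgroup.card_mul_index (Subgroup.centralizer (W : Set R))
    have h2 : Nat.card R = Nat.card (Subgroup.centralizer (W : Set R)) * p := by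
      rw [mul_comm]; exact le_antisymm hHK3 hTcard
    rw [h2] at h1
    exact Nat.eq_of_mul_eq_mul_left Nat.card_pos h1
  exact ⟨hZcard, hWcard, hET, hidx, hZE, hZW, hWZ, hWEZ⟩

end Cfsg.Agent.Lib.helper30
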