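import Mathlib
import Cfsg.Prelude.Def_OddOrderLocal
import Cfsg.Prelude.Def_PLocal
import Cfsg.Prelude.Def_CaseTheorems
import Cfsg.Prelude.Def_Transfer
import Cfsg.Agent.Lib.helper30.MetaAut
import Cfsg.Agent.Lib.helper30.Huppert
import Cfsg.Agent.Lib.helper30.NarrowP
import Cfsg.Agent.Lib.helper30.Critical
import Cfsg.Agent.Lib.helper59.UniqueOrderP

/-!
# Tools for `p`-groups of rank at most two with `R = [R, A]` (B-G 4.18 style)

* `exists_nat_pow_of_mem_zpowers`, `eq_zpowers_of_card_prime`, `isCyclic_of_omega_le`.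
* `card_sup_zpowers_of_mem_normalizer` : a subgroup extended by a normalizing element.
* `pow_mul_eq_one_of_card_lt` : products of elements of order `p` in small subgroups.
* `false_of_sup_zpowers` : the rank-two contradiction from an elementary abelian `p ^ 3`.
* `omegaZ_*` : basic facts on `Ω₁(Z₂(R))`.
-/

set_option autoImplicit false

namespace Cfsg.Agent.Lib.helper30

open scoped commutatorElement

universe u

theorem exists_nat_pow_of_mem_zpowers {R : Type*} [Group R] [Finite R] {x y : R}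
    (h : x ∈ Subgroup.zpowers y) : ∃ i : ℕ, x = y ^ i := by
  have h' : x ∈ Submonoid.powers y := mem_powers_iff_mem_zpowers.mpr h
  obtain ⟨i, rfl⟩ := h'
  exact ⟨i, rfl⟩

theorem pow_eq_one_of_card_eq {R : Type*} [Group R] (p : ℕ) (Z : Subgroup R)
    (hZ : Nat.card Z = p) (z : R) (hz : z ∈ Z) : z ^ p = 1 := by
  have h1 : (⟨z, hz⟩ : Z) ^ p = 1 := by rw [← hZ]; exact pow_card_eq_one'
  exact congrArg Subtype.val h1

theorem eq_zpowers_of_card_prime {R : Type*} [Group R] [Finite R] (p : ℕ) [Fact p.Prime]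
    (Z : Subgroup R) (hZ : Nat.card Z = p) (z : R) (hz : z ∈ Z) (hz1 : z ≠ 1) :
    Z = Subgroup.zpowers z := by
  symm
  apply Subgroup.eq_of_le_of_card_ge
  · rwa [Subgroup.zpowers_le]
  · rw [hZ, Nat.card_zpowers, orderOf_eq_prime (pow_eq_one_of_card_eq p Z hZ z hz) hz1]

theorem card_zpowers_of_pow_eq_one {R : Type*} [Group R] (p : ℕ) [Fact p.Prime] (z : R)
    (hzp : z ^ p = 1) (hz1 : z ≠ 1) : Nat.card (Subgroup.zpowers z) = p := by
  rw [Nat.card_zpowers, orderOf_eq_prime hzp hz1]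

/-- A `p`-subgroup (`p` odd) all of whose elements of order dividing `p` lie in a subgroup of
order `p` is cyclic. -/
theorem isCyclic_of_omega_le {R : Type u} [Group R] [Finite R] (p : ℕ) [Fact p.Prime]
    (hp : p ≠ 2) (H Z : Subgroup R) (hH : IsPGroup p H) (hZ : Nat.card Z = p)
    (hHZ : ∀ x ∈ H, x ^ p = 1 → x ∈ Z) : IsCyclic ↥H := by
  apply Cfsg.Agent.Lib.helper59.isCyclic_of_odd_of_uniqueOrderP hp (Nat.card H) H rfl hH
  intro L K hL hK
  have himg : ∀ L : Subgroup ↥H, Nat.card L = p → L.map H.subtype = Z := by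
    intro L hL
    apply Subgroup.eq_of_le_of_card_ge
    · rintro _ ⟨x, hx, rfl⟩
      apply hHZ _ x.2
      have h1 : (⟨x, hx⟩ : L) ^ p = 1 := by rw [← hL]; exact pow_card_eq_one'
      have h2 := congrArg (fun z : L => ((z : ↥H) : R)) h1
      simpa using h2
    · rw [Subgroup.card_map_of_injective H.subtype_injective, hL, hZ]
  exact Subgroup.map_injective H.subtype_injective ((himg L hL).trans (himg K hK).symm)

/-- A subgroup extended by an element normalizing it whose `p`-th power lies in it. -/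
theorem card_sup_zpowers_of_mem_normalizer {R : Type*} [Group R] [Finite R] (p : ℕ)
    [Fact p.Prime] (H : Subgroup R) (x : R) (hxn : x ∈ Subgroup.normalizer (H : Set R))
    (hx : x ∉ H) (hxp : x ^ p ∈ H) :
    Nat.card ↥(H ⊔ Subgroup.zpowers x) = p * Nat.card H := by
  set K : Subgroup R := H ⊔ Subgroup.zpowers x with hK
  have hHK : H ≤ K := le_sup_left
  have hKn : K ≤ Subgroup.normalizer (H : Set R) :=
    sup_le Subgroup.le_normalizer (by rwa [Subgroup.zpowers_le])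
  haveI hn : (H.subgroupOf K).Normal := (Subgroup.normal_subgroupOf_iff_le_normalizer hHK).mpr hKn
  have hxK : x ∈ K := Subgroup.mem_sup_right (Subgroup.mem_zpowers x)
  have h1 := card_sup_zpowers p (H.subgroupOf K) (⟨x, hxK⟩ : ↥K)
    (by rw [Subgroup.mem_subgroupOf]; exact hx)
    (by rw [Subgroup.mem_subgroupOf]; simpa using hxp)
  have h2 : (H.subgroupOf K ⊔ Subgroup.zpowers (⟨x, hxK⟩ : ↥K)).map K.subtype = K := by
    rw [Subgroup.map_sup, Subgroup.map_subgroupOf_eq_of_le hHK, MonoidHom.map_zpowers]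
    rfl
  have h3 : Nat.card ↥(H.subgroupOf K ⊔ Subgroup.zpowers (⟨x, hxK⟩ : ↥K)) = Nat.card K := by
    rw [← Subgroup.card_map_of_injective K.subtype_injective, h2]
  have h4 : Nat.card (H.subgroupOf K) = Nat.card H :=
    Nat.card_congr (Subgroup.subgroupOfEquivOfLe hHK).toEquiv
  rw [← h3, h1, h4]

/-- In a subgroup of order less than `p ^ (c + 2)` with `c ≤ p - 1`, the product of two elements
of order dividing `p` has order dividing `p`. -/
theorem pow_mul_eq_one_of_card_lt {R : Type u} [Group R] [Finite R] (p : ℕ) [Fact p.Prime]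
    (hR : IsPGroup p R) (c : ℕ) (hc : 1 ≤ c) (hcp : c ≤ p - 1) (K : Subgroup R)
    (hK : Nat.card K < p ^ (c + 2)) (a b : R) (ha : a ∈ K) (hb : b ∈ K) (hap : a ^ p = 1)
    (hbp : b ^ p = 1) : (a * b) ^ p = 1 := by
  have hcl := lcs_eq_bot_of_card p (hR.to_subgroup K) c hc hK hcp
  have h1 := Cfsg.Agent.Lib.helper68.pow_mul_eq_one_of_class_lt (hR.to_subgroup K) hcl _
    (⟨a, ha⟩ : ↥K) ⟨b, hb⟩ rfl (Subtype.ext hap) (Subtype.ext hbp)
  exact congrArg Subtype.val h1

theorem card_le_of_prankLE {R : Type*} [Group R] (p k : ℕ) (hr : Cfsg.PRankLE p k R)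
    (A : Subgroup R) (hc : ∀ a ∈ A, ∀ b ∈ A, a * b = b * a) (he : ∀ a ∈ A, a ^ p = 1) :
    Nat.card A ≤ p ^ k :=
  hr A ⟨⟨fun x y => Subtype.ext (hc x.1 x.2 y.1 y.2)⟩⟩ he

theorem comm_of_isMulCommutative {R : Type*} [Group R] (M : Subgroup R)
    (h : IsMulCommutative M) : ∀ a ∈ M, ∀ b ∈ M, a * b = b * a :=
  fun a ha b hb => congrArg Subtype.val (h.is_comm.comm ⟨a, ha⟩ ⟨b, hb⟩)

/-- The rank-two contradiction: a normal elementary abelian subgroup of order `p ^ 2` together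
with an element of order `p` outside it centralizing it. -/
theorem false_of_sup_zpowers {R : Type*} [Group R] [Finite R] (p : ℕ) [Fact p.Prime]
    (hr : Cfsg.PRankLE p 2 R) (M : Subgroup R) [M.Normal]
    (hMc : ∀ a ∈ M, ∀ b ∈ M, a * b = b * a) (hMe : ∀ a ∈ M, a ^ p = 1)
    (hM : Nat.card M = p ^ 2) (c : R) (hc : c ∉ M) (hcp : c ^ p = 1)
    (hcM : ∀ a ∈ M, c * a = a * c) : False := by
  have hpp : p.Prime := Fact.out
  have hcard := card_sup_zpowers p M c hc (by rw [hcp]; exact M.one_mem)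
  have hle := card_le_of_prankLE p 2 hr (M ⊔ Subgroup.zpowers c) ?_ ?_
  · rw [hcard, hM] at hle
    have h1 : 0 < p ^ 2 := pow_pos hpp.pos 2
    have h2 : p * p ^ 2 ≤ 1 * p ^ 2 := by rw [one_mul]; exact hle
    have h3 := Nat.le_of_mul_le_mul_right h2 h1
    have := hpp.one_lt
    omega
  · intro a ha b hb
    obtain ⟨i, m, hm, rfl⟩ := exists_pow_mul_of_mem_sup M c a ha
    obtain ⟨j, m', hm', rfl⟩ := exists_pow_mul_of_mem_sup M c b hb
    have h1 : Commute (c ^ i) m' := Commute.pow_left (hcM m' hm') i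
    have h2 : Commute m (c ^ j) := (Commute.pow_left (hcM m hm) j).symm
    have h3 : Commute m m' := hMc m hm m' hm'
    have h4 : Commute (c ^ i) (c ^ j) := (Commute.refl c).pow_pow i j
    exact (Commute.mul_left (Commute.mul_right h4 h1) (Commute.mul_right h2 h3)).eq
  · intro a ha
    obtain ⟨i, m, hm, rfl⟩ := exists_pow_mul_of_mem_sup M c a ha
    have h1 : Commute (c ^ i) m := Commute.pow_left (hcM m hm) i
    rw [h1.mul_pow, ← pow_mul, mul_comm i p, pow_mul, hcp, one_pow, hMe m hm, one_mul]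

theorem commutatorElement_mul_right_conj {R : Type*} [Group R] (y s s' : R) :
    ⁅y, s * s'⁆ = ⁅y, s⁆ * (s * ⁅y, s'⁆ * s⁻¹) := by
  simp only [commutatorElement_def]
  group

theorem commutatorElement_pow_mul_self {R : Type*} [Group R] (y s : R) (i : ℕ) :
    ⁅y, y ^ i * s⁆ = y ^ i * ⁅y, s⁆ * (y ^ i)⁻¹ := by
  have h : y * y ^ i = y ^ i * y := (Commute.pow_right (Commute.refl y) i).eq
  simp only [commutatorElement_def, mul_inv_rev]
  calc y * (y ^ i * s) * y⁻¹ * (s⁻¹ * (y ^ i)⁻¹)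
      = (y * y ^ i) * s * y⁻¹ * s⁻¹ * (y ^ i)⁻¹ := by group
    _ = y ^ i * (y * s * y⁻¹ * s⁻¹) * (y ^ i)⁻¹ := by rw [h]; group

section OmegaZ

variable {R : Type*} [Group R] {p : ℕ} {W : Subgroup R}

theorem omegaZ_map (hW : ∀ x, x ∈ W ↔ x ∈ Subgroup.upperCentralSeries R 2 ∧ x ^ p = 1)
    (φ : MulAut R) (x : R) (hx : x ∈ W) : φ x ∈ W := by
  rw [hW] at hx ⊢
  refine ⟨?_, by rw [← map_pow, hx.2, map_one]⟩
  rw [mem_ucs_two]
  intro r
  have h1 := (mem_ucs_two x).mp hx.1 (φ.symm r)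
  have h2 : φ x * r * (φ x)⁻¹ * r⁻¹ = φ (x * φ.symm r * x⁻¹ * (φ.symm r)⁻¹) := by
    simp
  rw [h2, Subgroup.mem_center_iff]
  intro g
  have h3 := Subgroup.mem_center_iff.mp h1 (φ.symm g)
  have h4 := congrArg φ h3
  simpa using h4

theorem omegaZ_normal (hW : ∀ x, x ∈ W ↔ x ∈ Subgroup.upperCentralSeries R 2 ∧ x ^ p = 1) :
    W.Normal := by
  constructor
  intro n hn g
  have := omegaZ_map hW (MulAut.conj g) n hn
  simpa using this

theorem omegaZ_comm_mem (hW : ∀ x, x ∈ W ↔ x ∈ Subgroup.upperCentralSeries R 2 ∧ x ^ p = 1)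
    (w : R) (hw : w ∈ W) (r : R) : ⁅w, r⁆ ∈ W ⊓ Subgroup.center R := by
  haveI := omegaZ_normal hW
  refine ⟨?_, ?_⟩
  · have h1 : ⁅w, r⁆ = w * (r * w⁻¹ * r⁻¹) := by rw [commutatorElement_def]; group
    rw [h1]
    exact W.mul_mem hw (‹W.Normal›.conj_mem _ (W.inv_mem hw) r)
  · rw [commutatorElement_def]
    exact (mem_ucs_two w).mp ((hW w).mp hw).1 r

theorem omegaZ_comm_mem' (hW : ∀ x, x ∈ W ↔ x ∈ Subgroup.upperCentralSeries R 2 ∧ x ^ p = 1)
    (w : R) (hw : w ∈ W) (r : R) : ⁅r, w⁆ ∈ W ⊓ Subgroup.center R := by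
  rw [← commutatorElement_inv]
  exact Subgroup.inv_mem _ (omegaZ_comm_mem hW w hw r)

theorem omegaZ_pow (hW : ∀ x, x ∈ W ↔ x ∈ Subgroup.upperCentralSeries R 2 ∧ x ^ p = 1)
    (w : R) (hw : w ∈ W) : w ^ p = 1 := ((hW w).mp hw).2

end OmegaZ

end Cfsg.Agent.Lib.helper30
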