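import Mathlib
import Cfsg.Prelude.Def_OddOrderLocal
import Cfsg.Agent.Lib.helper31.Puig
import Cfsg.Agent.Lib.helper31.Nilpotent
import Cfsg.Agent.Lib.helper30.Critical

/-!
# The Puig series of a subgroup, computed inside the ambient group

Shared library file of seat `helper30`.  Everything lives in `Cfsg.Agent.Lib.helper30`.

* `pStepIn X H`, `pSeqIn X n` : the Puig step / series of the subgroup `X`, as subgroups of `G`;
  `map_puigSeq : (puigSeq ↥X n).map X.subtype = pSeqIn X n`.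
* `pSeqIn_chain1`, `pSeqIn_chain2`, `puigIn_eq_of_le` : if `L₃(X₂) ≤ X₁ ≤ X₂` then `L(X₁) = L(X₂)`.
* `pSeqIn_map` : transport along a homomorphism injective on `X`; `mem_normalizer_pSeqIn`.
* `zIn L = L ⊓ C(L)` and `map_center_map`.
-/

set_option autoImplicit false

namespace Cfsg.Agent.Lib.helper30

open Cfsg

/-- In-group Puig step: generated by the abelian subgroups of `X` normalized by `H`. -/
def pStepIn {G : Type*} [Group G] (X H : Subgroup G) : Subgroup G :=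
  sSup {A : Subgroup G | A ≤ X ∧ IsMulCommutative A ∧ H ≤ Subgroup.normalizer (A : Set G)}

/-- In-group Puig series of the subgroup `X`. -/
def pSeqIn {G : Type*} [Group G] (X : Subgroup G) : ℕ → Subgroup G
  | 0 => ⊥
  | n + 1 => pStepIn X (pSeqIn X n)

section basic

variable {G : Type*} [Group G]

theorem pSeqIn_zero (X : Subgroup G) : pSeqIn X 0 = ⊥ := rfl

theorem pSeqIn_succ (X : Subgroup G) (n : ℕ) : pSeqIn X (n + 1) = pStepIn X (pSeqIn X n) := rfl

theorem pStepIn_le (X H : Subgroup G) : pStepIn X H ≤ X := sSup_le fun _ hA => hA.1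

theorem pSeqIn_le (X : Subgroup G) (n : ℕ) : pSeqIn X n ≤ X := by
  cases n with
  | zero => exact bot_le
  | succ n => exact pStepIn_le X _

theorem le_pStepIn {X H A : Subgroup G} (hAX : A ≤ X) (hA : IsMulCommutative A)
    (hH : H ≤ Subgroup.normalizer (A : Set G)) : A ≤ pStepIn X H :=
  le_sSup ⟨hAX, hA, hH⟩

theorem pStepIn_mono {X₁ X₂ H₁ H₂ : Subgroup G} (hX : X₁ ≤ X₂) (hH : H₂ ≤ H₁) :
    pStepIn X₁ H₁ ≤ pStepIn X₂ H₂ :=
  sSup_le_sSup fun _ hA => ⟨hA.1.trans hX, hA.2.1, hH.trans hA.2.2⟩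

theorem pStepIn_le_of_le {X₁ X₂ H H' : Subgroup G} (h1 : pStepIn X₂ H ≤ X₁) (h2 : H' ≤ H) :
    pStepIn X₂ H ≤ pStepIn X₁ H' :=
  sSup_le fun _ hA => le_pStepIn ((le_sSup hA).trans h1) hA.2.1 (h2.trans hA.2.2)

theorem map_puigStep (X : Subgroup G) (H : Subgroup ↥X) :
    (puigStep H).map X.subtype = pStepIn X (H.map X.subtype) := by
  apply le_antisymm
  · rw [Subgroup.map_le_iff_le_comap]
    apply sSup_le
    rintro A ⟨hAc, hAn⟩
    rw [← Subgroup.map_le_iff_le_comap]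
    refine le_pStepIn (Subgroup.map_subtype_le A) inferInstance ?_
    rintro _ ⟨h, hh, rfl⟩
    exact Subgroup.le_normalizer_map X.subtype ⟨h, hAn hh, rfl⟩
  · apply sSup_le
    rintro A ⟨hAX, hAc, hAn⟩
    have h1 : A.subgroupOf X ≤ puigStep H := by
      refine Cfsg.Agent.Lib.helper31.le_puigStep inferInstance ?_
      intro h hh
      rw [← Subgroup.subgroupOf_normalizer_eq hAX, Subgroup.mem_subgroupOf]
      exact hAn ⟨h, hh, rfl⟩
    have h2 : (A.subgroupOf X).map X.subtype = A := Subgroup.map_subgroupOf_eq_of_le hAX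
    rw [← h2]
    exact Subgroup.map_mono h1

theorem map_puigSeq (X : Subgroup G) (n : ℕ) :
    (puigSeq ↥X n).map X.subtype = pSeqIn X n := by
  induction n with
  | zero => rw [Cfsg.Agent.Lib.helper31.puigSeq_zero, Subgroup.map_bot, pSeqIn_zero]
  | succ n ih => rw [Cfsg.Agent.Lib.helper31.puigSeq_succ, map_puigStep, ih, pSeqIn_succ]

theorem pSeqIn_one (X : Subgroup G) : pSeqIn X 1 = X := by
  rw [← map_puigSeq, Cfsg.Agent.Lib.helper31.puigSeq_one, ← MonoidHom.range_eq_map,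
    Subgroup.range_subtype]

theorem pSeqIn_even_le_odd (X : Subgroup G) (n m : ℕ) :
    pSeqIn X (2 * n) ≤ pSeqIn X (2 * m + 1) := by
  rw [← map_puigSeq, ← map_puigSeq]
  exact Subgroup.map_mono (Cfsg.Agent.Lib.helper31.puig_even_le_odd _ n m)

theorem pSeqIn_odd_anti (X : Subgroup G) {n m : ℕ} (h : n ≤ m) :
    pSeqIn X (2 * m + 1) ≤ pSeqIn X (2 * n + 1) := by
  rw [← map_puigSeq, ← map_puigSeq]
  exact Subgroup.map_mono (Cfsg.Agent.Lib.helper31.puig_odd_anti _ h)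

theorem pSeqIn_even_mono (X : Subgroup G) {n m : ℕ} (h : n ≤ m) :
    pSeqIn X (2 * n) ≤ pSeqIn X (2 * m) := by
  rw [← map_puigSeq, ← map_puigSeq]
  exact Subgroup.map_mono (Cfsg.Agent.Lib.helper31.puig_even_mono _ h)

/-- Stabilization of the in-group series at the images of `L_*(X)` and `L(X)`. -/
theorem pSeqIn_stabilizes (X : Subgroup G) [Finite X] :
    ∃ k : ℕ, ∀ n : ℕ, k ≤ n → pSeqIn X (2 * n) = (puigLower ↥X).map X.subtype ∧
      pSeqIn X (2 * n + 1) = (puigSubgroup ↥X).map X.subtype := by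
  obtain ⟨k, hk⟩ := Cfsg.Agent.Lib.helper31.puig_stabilizes ↥X
  refine ⟨k, fun n hn => ?_⟩
  rw [← map_puigSeq, ← map_puigSeq, (hk n hn).1, (hk n hn).2]
  exact ⟨rfl, rfl⟩

/-- First chain: `L_{2n}(X₂) ≤ L_{2n}(X₁)` and `L_{2n+1}(X₁) ≤ L_{2n+1}(X₂)`, provided the even
terms of `X₂` stay inside `X₁`. -/
theorem pSeqIn_chain1 (X₁ X₂ : Subgroup G) (h12 : X₁ ≤ X₂)
    (hyp : ∀ n, pSeqIn X₁ (2 * n + 1) ≤ pSeqIn X₂ (2 * n + 1) → pSeqIn X₂ (2 * n + 2) ≤ X₁) :
    ∀ n, pSeqIn X₂ (2 * n) ≤ pSeqIn X₁ (2 * n) ∧ pSeqIn X₁ (2 * n + 1) ≤ pSeqIn X₂ (2 * n + 1) := by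
  intro n
  induction n with
  | zero =>
    refine ⟨le_of_eq rfl, ?_⟩
    exact pStepIn_mono h12 (le_of_eq rfl)
  | succ n ih =>
    have h1 : pSeqIn X₂ (2 * (n + 1)) ≤ pSeqIn X₁ (2 * (n + 1)) :=
      pStepIn_le_of_le (hyp n ih.2) ih.2
    exact ⟨h1, pStepIn_mono h12 h1⟩

/-- Second chain (index shift): if `L₃(X₂) ≤ X₁ ≤ X₂` then `L_{2n+3}(X₂) ≤ L_{2n+1}(X₁)` and
`L_{2n}(X₁) ≤ L_{2n+2}(X₂)`. -/
theorem pSeqIn_chain2 (X₁ X₂ : Subgroup G) (h12 : X₁ ≤ X₂) (h3 : pSeqIn X₂ 3 ≤ X₁) :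
    ∀ n, pSeqIn X₂ (2 * n + 3) ≤ pSeqIn X₁ (2 * n + 1) ∧ pSeqIn X₁ (2 * n) ≤ pSeqIn X₂ (2 * n + 2) := by
  intro n
  induction n with
  | zero =>
    refine ⟨?_, ?_⟩
    · rw [pSeqIn_one]
      exact h3
    · exact bot_le
  | succ n ih =>
    have h1 : pSeqIn X₁ (2 * (n + 1)) ≤ pSeqIn X₂ (2 * (n + 1) + 2) := pStepIn_mono h12 ih.1
    refine ⟨?_, h1⟩
    have h2 : pSeqIn X₂ (2 * (n + 1) + 3) ≤ X₁ := by
      refine le_trans ?_ h3
      have := pSeqIn_odd_anti X₂ (n := 1) (m := n + 2) (by omega)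
      exact this
    exact pStepIn_le_of_le h2 h1

/-- If `L₃(X₂) ≤ X₁ ≤ X₂` then `L(X₁) = L(X₂)` (inside `G`). -/
theorem puigIn_eq_of_le (X₁ X₂ : Subgroup G) [Finite X₂] (h12 : X₁ ≤ X₂)
    (h3 : pSeqIn X₂ 3 ≤ X₁) :
    (puigSubgroup ↥X₁).map X₁.subtype = (puigSubgroup ↥X₂).map X₂.subtype := by
  have hfin : Finite X₁ := Finite.of_injective (Subgroup.inclusion h12)
    (Subgroup.inclusion_injective h12)
  obtain ⟨k₁, hk₁⟩ := pSeqIn_stabilizes X₁
  obtain ⟨k₂, hk₂⟩ := pSeqIn_stabilizes X₂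
  have hc1 := pSeqIn_chain1 X₁ X₂ h12 (fun n _ => by
    refine le_trans ?_ h3
    have := pSeqIn_even_le_odd X₂ (n + 1) 1
    exact this) (k₁ + k₂)
  have hc2 := pSeqIn_chain2 X₁ X₂ h12 h3 (k₁ + k₂)
  have e1 := (hk₁ (k₁ + k₂) (by omega)).2
  have e2 := (hk₂ (k₁ + k₂) (by omega)).2
  have e3 := (hk₂ (k₁ + k₂ + 1) (by omega)).2
  apply le_antisymm
  · rw [← e1, ← e2]
    exact hc1.2
  · rw [← e1, ← e3]
    exact hc2.1

end basic

section maps

variable {G : Type*} [Group G] {H' : Type*} [Group H']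

theorem pStepIn_map (f : G →* H') (X H : Subgroup G) (hHX : H ≤ X)
    (hinj : ∀ x ∈ X, f x = 1 → x = 1) :
    pStepIn (X.map f) (H.map f) = (pStepIn X H).map f := by
  apply le_antisymm
  · apply sSup_le
    rintro A' ⟨hA'X, hA'c, hA'n⟩
    have hAmap : (A'.comap f ⊓ X).map f = A' := by
      apply le_antisymm
      · rintro _ ⟨a, ha, rfl⟩
        exact ha.1
      · intro a' ha'
        obtain ⟨x, hx, rfl⟩ := hA'X ha'
        exact ⟨x, ⟨ha', hx⟩, rfl⟩
    have hAc : IsMulCommutative ↥(A'.comap f ⊓ X) := by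
      constructor
      constructor
      rintro ⟨a, ha⟩ ⟨b, hb⟩
      apply Subtype.ext
      change a * b = b * a
      have h1 : f (a * b * a⁻¹ * b⁻¹) = 1 := by
        have h2 : f a * f b = f b * f a :=
          congrArg Subtype.val (hA'c.is_comm.comm ⟨f a, ha.1⟩ ⟨f b, hb.1⟩)
        rw [map_mul, map_mul, map_mul, map_inv, map_inv, h2]
        group
      have h3 := hinj _
        (X.mul_mem (X.mul_mem (X.mul_mem ha.2 hb.2) (X.inv_mem ha.2)) (X.inv_mem hb.2)) h1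
      calc a * b = (a * b * a⁻¹ * b⁻¹) * (b * a) := by group
        _ = b * a := by rw [h3, one_mul]
    have hAn : H ≤ Subgroup.normalizer ((A'.comap f ⊓ X : Subgroup G) : Set G) := by
      have key : ∀ h ∈ H, ∀ a ∈ A'.comap f ⊓ X, h * a * h⁻¹ ∈ A'.comap f ⊓ X := by
        intro h hh a ha
        refine ⟨?_, X.mul_mem (X.mul_mem (hHX hh) ha.2) (X.inv_mem (hHX hh))⟩
        change f (h * a * h⁻¹) ∈ A'
        rw [map_mul, map_mul, map_inv]
        exact (Subgroup.mem_normalizer_iff.mp (hA'n ⟨h, hh, rfl⟩) (f a)).mp ha.1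
      intro h hh
      apply mem_normalizer_of_conj
      · exact key h hh
      · intro a ha
        have := key h⁻¹ (H.inv_mem hh) a ha
        rwa [inv_inv] at this
    rw [← hAmap]
    exact Subgroup.map_mono (le_pStepIn inf_le_right hAc hAn)
  · rw [Subgroup.map_le_iff_le_comap]
    apply sSup_le
    rintro A ⟨hAX, hAc, hAn⟩
    rw [← Subgroup.map_le_iff_le_comap]
    refine le_pStepIn (Subgroup.map_mono hAX) inferInstance ?_
    rintro _ ⟨h, hh, rfl⟩
    exact Subgroup.le_normalizer_map f ⟨h, hAn hh, rfl⟩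

/-- The in-group Puig series commutes with homomorphisms injective on `X`. -/
theorem pSeqIn_map (f : G →* H') (X : Subgroup G) (hinj : ∀ x ∈ X, f x = 1 → x = 1) (n : ℕ) :
    pSeqIn (X.map f) n = (pSeqIn X n).map f := by
  induction n with
  | zero => rw [pSeqIn_zero, pSeqIn_zero, Subgroup.map_bot]
  | succ n ih => rw [pSeqIn_succ, pSeqIn_succ, ih, pStepIn_map f X _ (pSeqIn_le X n) hinj]

theorem mem_normalizer_pSeqIn (X : Subgroup G) (g : G)
    (hg : g ∈ Subgroup.normalizer (X : Set G)) (n : ℕ) :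
    g ∈ Subgroup.normalizer (pSeqIn X n : Set G) := by
  have key : ∀ g ∈ Subgroup.normalizer (X : Set G), ∀ x ∈ pSeqIn X n,
      g * x * g⁻¹ ∈ pSeqIn X n := by
    intro g hg x hx
    have h1 : X.map (MulAut.conj g).toMonoidHom = X := by
      ext y
      constructor
      · rintro ⟨x, hx, rfl⟩
        exact (Subgroup.mem_normalizer_iff.mp hg x).mp hx
      · intro hy
        exact ⟨g⁻¹ * y * g, (Subgroup.mem_normalizer_iff''.mp hg y).mp hy, by simp [mul_assoc]⟩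
    have h2 := pSeqIn_map (MulAut.conj g).toMonoidHom X (fun x _ hx => by simpa using hx) n
    rw [h1] at h2
    rw [h2]
    exact ⟨x, hx, by simp⟩
  apply mem_normalizer_of_conj
  · exact key g hg
  · intro x hx
    have := key g⁻¹ (inv_mem hg) x hx
    rwa [inv_inv] at this

/-- `Z(L)` inside `G`. -/
def zIn (L : Subgroup G) : Subgroup G := L ⊓ Subgroup.centralizer (L : Set G)

theorem mem_zIn (L : Subgroup G) (x : G) : x ∈ zIn L ↔ x ∈ L ∧ ∀ l ∈ L, l * x = x * l := by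
  rw [zIn, Subgroup.mem_inf, Subgroup.mem_centralizer_iff]
  rfl

theorem zIn_le (L : Subgroup G) : zIn L ≤ L := inf_le_left

theorem zIn_isMulCommutative (L : Subgroup G) : IsMulCommutative ↥(zIn L) := by
  constructor
  constructor
  rintro ⟨a, ha⟩ ⟨b, hb⟩
  apply Subtype.ext
  exact ((mem_zIn L b).mp hb).2 a ((mem_zIn L a).mp ha).1

theorem normalizer_le_normalizer_zIn (L : Subgroup G) :
    Subgroup.normalizer (L : Set G) ≤ Subgroup.normalizer (zIn L : Set G) := by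
  intro n hn
  have h2 := normalizer_le_normalizer_centralizer L hn
  rw [Subgroup.mem_normalizer_iff]
  intro x
  rw [zIn, Subgroup.mem_inf, Subgroup.mem_inf, ← Subgroup.mem_normalizer_iff.mp hn x,
    ← Subgroup.mem_normalizer_iff.mp h2 x]

theorem map_center_map (X : Subgroup G) (J : Subgroup ↥X) :
    ((Subgroup.center ↥J).map J.subtype).map X.subtype = zIn (J.map X.subtype) := by
  ext x
  constructor
  · rintro ⟨y, ⟨c, hc, rfl⟩, rfl⟩
    rw [mem_zIn]
    refine ⟨⟨_, c.2, rfl⟩, ?_⟩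
    rintro _ ⟨j, hj, rfl⟩
    have h1 := Subgroup.mem_center_iff.mp hc ⟨j, hj⟩
    have h2 := congrArg (fun z : ↥J => ((z : ↥X) : G)) h1
    simpa using h2
  · intro hx
    rw [mem_zIn] at hx
    obtain ⟨⟨j, hj, rfl⟩, hx2⟩ := hx
    refine ⟨j, ⟨⟨j, hj⟩, ?_, rfl⟩, rfl⟩
    rw [SetLike.mem_coe, Subgroup.mem_center_iff]
    intro g
    apply Subtype.ext
    apply Subtype.ext
    have h1 := hx2 ((g : ↥X) : G) ⟨g, g.2, rfl⟩
    simpa using h1

theorem zIn_map (f : G →* H') (X L : Subgroup G) (hLX : L ≤ X)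
    (hinj : ∀ x ∈ X, f x = 1 → x = 1) : zIn (L.map f) = (zIn L).map f := by
  ext y
  constructor
  · intro hy
    rw [mem_zIn] at hy
    obtain ⟨⟨x, hx, rfl⟩, hy2⟩ := hy
    refine ⟨x, (mem_zIn L x).mpr ⟨hx, ?_⟩, rfl⟩
    intro l hl
    have h1 := hy2 (f l) ⟨l, hl, rfl⟩
    have h2 : f (l * x * l⁻¹ * x⁻¹) = 1 := by
      rw [map_mul, map_mul, map_mul, map_inv, map_inv, h1]
      group
    have h3 := hinj _ (X.mul_mem (X.mul_mem (X.mul_mem (hLX hl) (hLX hx)) (X.inv_mem (hLX hl)))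
      (X.inv_mem (hLX hx))) h2
    calc l * x = (l * x * l⁻¹ * x⁻¹) * (x * l) := by group
      _ = x * l := by rw [h3, one_mul]
  · rintro ⟨x, hx, rfl⟩
    rw [SetLike.mem_coe, mem_zIn] at hx
    rw [mem_zIn]
    refine ⟨⟨x, hx.1, rfl⟩, ?_⟩
    rintro _ ⟨l, hl, rfl⟩
    rw [← map_mul, ← map_mul, hx.2 l hl]

end maps

/-- For a finite `p`-group `X`, the positive terms of the Puig series contain their centralizers
in `X`. -/
theorem inf_centralizer_pSeqIn_le {G : Type*} [Group G] (p : ℕ) [Fact p.Prime] (X : Subgroup G)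
    [Finite X] (hX : IsPGroup p X) (n : ℕ) :
    X ⊓ Subgroup.centralizer (pSeqIn X (n + 1) : Set G) ≤ pSeqIn X (n + 1) := by
  have : Group.IsNilpotent ↥X := hX.isNilpotent
  obtain ⟨A, hAn, hAc, hCA⟩ := Cfsg.Agent.Lib.helper31.exists_normal_abelian_self_centralizing ↥X
  have hA : A ≤ puigSeq ↥X (n + 1) :=
    Cfsg.Agent.Lib.helper31.le_puigStep hAc (by rw [Subgroup.normalizer_eq_top]; exact le_top)
  rintro x ⟨hxX, hxC⟩
  have h1 : (⟨x, hxX⟩ : ↥X) ∈ Subgroup.centralizer ((puigSeq ↥X (n + 1) : Subgroup ↥X) : Set ↥X) := by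
    rw [Subgroup.mem_centralizer_iff]
    intro y hy
    apply Subtype.ext
    have h2 : (y : G) ∈ pSeqIn X (n + 1) := by
      rw [← map_puigSeq]
      exact ⟨y, hy, rfl⟩
    exact Subgroup.mem_centralizer_iff.mp hxC (y : G) h2
  have h3 : (⟨x, hxX⟩ : ↥X) ∈ puigSeq ↥X (n + 1) := hA (hCA (Subgroup.centralizer_le hA h1))
  rw [← map_puigSeq]
  exact ⟨⟨x, hxX⟩, h3, rfl⟩

end Cfsg.Agent.Lib.helper30
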