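import Mathlib
import Cfsg.Agent.Lib.helper30.PuigIn
import Cfsg.Agent.S1465
import Cfsg.Agent.Lib.helper14.ZJ

/-!
# The Puig subgroup in solvable groups of odd order

Shared library file of seat `helper30`.  Everything lives in `Cfsg.Agent.Lib.helper30`.

* `pSeqIn_normal` : the in-group Puig series of a normal subgroup consists of normal subgroups.
* `puig_chain` : for `G` solvable of odd order with `O_{p'}(G) = 1`, `S` a Sylow `p`-subgroup and
  `T = O_p(G)`: `L_{2n}(S) ≤ L_{2n}(T)` and `L_{2n+1}(T) ≤ L_{2n+1}(S)`.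
-/

set_option autoImplicit false

namespace Cfsg.Agent.Lib.helper30

open Cfsg

theorem pSeqIn_normal {G : Type*} [Group G] (X : Subgroup G) [X.Normal] (n : ℕ) :
    (pSeqIn X n).Normal := by
  rw [← Subgroup.normalizer_eq_top_iff, eq_top_iff]
  intro g _
  exact mem_normalizer_pSeqIn X g (by rw [Subgroup.normalizer_eq_top]; trivial) n

theorem puig_chain {G : Type*} [Group G] [Finite G] [Group.IsSolvable G] (hodd : Odd (Nat.card G))
    (p : ℕ) [Fact p.Prime] (hp : p ≠ 2) (hO : Cfsg.pPrimeCore p G = ⊥) (S : Sylow p G) :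
    ∀ n, pSeqIn (S : Subgroup G) (2 * n) ≤ pSeqIn (Cfsg.pCore p G) (2 * n) ∧
      pSeqIn (Cfsg.pCore p G) (2 * n + 1) ≤ pSeqIn (S : Subgroup G) (2 * n + 1) := by
  have hTn : (Cfsg.pCore p G).Normal := Cfsg.Agent.Lib.helper40.pCore_normal' p G
  have hTp : IsPGroup p (Cfsg.pCore p G) := Cfsg.Agent.Lib.helper40.pCore_isPGroup p G
  have hTS : Cfsg.pCore p G ≤ (S : Subgroup G) := hTp.le_sylow_of_normal S
  apply pSeqIn_chain1 (Cfsg.pCore p G) (S : Subgroup G) hTS
  intro n hn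
  rw [show 2 * n + 2 = (2 * n + 1) + 1 from rfl, pSeqIn_succ]
  apply sSup_le
  rintro A ⟨hAS, hAc, hAn⟩
  have hPn : (pSeqIn (Cfsg.pCore p G) (2 * n + 1)).Normal := pSeqIn_normal _ _
  have hPp : IsPGroup p (pSeqIn (Cfsg.pCore p G) (2 * n + 1)) := hTp.to_le (pSeqIn_le _ _)
  have key := (Cfsg.Agent.S1465.result hodd p hp (pSeqIn (Cfsg.pCore p G) (2 * n + 1)) hPp {A}
    (by
      intro B hB
      rw [Set.mem_singleton_iff] at hB
      subst hB
      exact ⟨hAc, S.isPGroup'.to_le hAS, hn.trans hAn⟩)).2 hO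
    (inf_centralizer_pSeqIn_le p (Cfsg.pCore p G) hTp (2 * n))
  rw [sSup_singleton] at key
  exact key

/-- **Puig's theorem**: in a solvable group of odd order with `O_{p'}(G) = 1` (`p` odd), the centre
of the Puig subgroup of a Sylow `p`-subgroup is normal. -/
theorem zIn_puig_normal {G : Type*} [Group G] [Finite G] [Group.IsSolvable G]
    (hodd : Odd (Nat.card G)) (p : ℕ) [Fact p.Prime] (hp : p ≠ 2)
    (hO : Cfsg.pPrimeCore p G = ⊥) (S : Sylow p G) :
    (zIn ((puigSubgroup ↥(S : Subgroup G)).map (S : Subgroup G).subtype)).Normal := by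
  have hTn : (Cfsg.pCore p G).Normal := Cfsg.Agent.Lib.helper40.pCore_normal' p G
  have hTp : IsPGroup p (Cfsg.pCore p G) := Cfsg.Agent.Lib.helper40.pCore_isPGroup p G
  have hTS : Cfsg.pCore p G ≤ (S : Subgroup G) := hTp.le_sylow_of_normal S
  obtain ⟨k₁, hk₁⟩ := pSeqIn_stabilizes (S : Subgroup G)
  obtain ⟨k₂, hk₂⟩ := pSeqIn_stabilizes (Cfsg.pCore p G)
  have hc := puig_chain hodd p hp hO S (k₁ + k₂)
  have e1 := hk₁ (k₁ + k₂) (by omega)
  have e1' := hk₁ (k₁ + k₂ + 1) (by omega)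
  have e2 := hk₂ (k₁ + k₂) (by omega)
  -- abbreviations
  obtain ⟨Ls, hLs⟩ : ∃ Ls, Ls = (puigSubgroup ↥(S : Subgroup G)).map (S : Subgroup G).subtype :=
    ⟨_, rfl⟩
  obtain ⟨LT, hLT⟩ : ∃ LT, LT = (puigSubgroup ↥(Cfsg.pCore p G)).map (Cfsg.pCore p G).subtype :=
    ⟨_, rfl⟩
  rw [← hLs]
  rw [← hLs] at e1 e1'
  rw [← hLT] at e2
  have hLsS : Ls ≤ (S : Subgroup G) := by rw [← e1.2]; exact pSeqIn_le _ _
  have hLTT : LT ≤ Cfsg.pCore p G := by rw [← e2.2]; exact pSeqIn_le _ _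
  have hLTLs : LT ≤ Ls := by rw [← e1.2, ← e2.2]; exact hc.2
  -- `Z ≤ L_*(S)`
  have hZlow : zIn Ls ≤ pSeqIn (S : Subgroup G) (2 * (k₁ + k₂)) := by
    have h1 : zIn Ls ≤ pStepIn (S : Subgroup G) Ls :=
      le_pStepIn ((zIn_le Ls).trans hLsS) (zIn_isMulCommutative Ls)
        (le_trans Subgroup.le_normalizer (normalizer_le_normalizer_zIn Ls))
    have h2 : pStepIn (S : Subgroup G) Ls = pSeqIn (S : Subgroup G) (2 * (k₁ + k₂ + 1)) := by
      rw [← e1.2]
      rfl
    rw [h2, e1'.1, ← e1.1] at h1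
    exact h1
  -- `Z ≤ Y = Z(L(T))`
  have hZY : zIn Ls ≤ zIn LT := by
    intro z hz
    rw [mem_zIn]
    refine ⟨?_, fun l hl => ((mem_zIn Ls z).mp hz).2 l (hLTLs hl)⟩
    have h1 : z ∈ pSeqIn (Cfsg.pCore p G) (2 * (k₁ + k₂)) := hc.1 (hZlow hz)
    rw [← e2.2]
    exact pSeqIn_even_le_odd _ _ _ h1
  have hLTn : LT.Normal := by
    rw [← e2.2]
    exact pSeqIn_normal _ _
  have hYn : (zIn LT).Normal := by
    rw [← Subgroup.normalizer_eq_top_iff, eq_top_iff]
    refine le_trans ?_ (normalizer_le_normalizer_zIn LT)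
    rw [Subgroup.normalizer_eq_top]
  have hYT : zIn LT ≤ Cfsg.pCore p G := (zIn_le LT).trans hLTT
  have hYp : IsPGroup p (zIn LT) := hTp.to_le hYT
  -- `L₃(S)` lies in `K`, the preimage of `O_p(G / C_G(Y))`
  have hY2 : zIn LT ≤ pSeqIn (S : Subgroup G) 2 :=
    le_pStepIn (hYT.trans hTS) (zIn_isMulCommutative LT)
      (by rw [Subgroup.normalizer_eq_top]; exact le_top)
  have h3K : pSeqIn (S : Subgroup G) 3 ≤
      (Cfsg.pCore p (G ⧸ Subgroup.centralizer (zIn LT : Set G))).comap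
        (QuotientGroup.mk' (Subgroup.centralizer (zIn LT : Set G))) := by
    rw [show (3 : ℕ) = 2 + 1 from rfl, pSeqIn_succ]
    apply sSup_le
    rintro A ⟨hAS, hAc, hAn⟩
    have key := (Cfsg.Agent.S1465.result hodd p hp (zIn LT) hYp {A}
      (by
        intro B hB
        rw [Set.mem_singleton_iff] at hB
        subst hB
        exact ⟨hAc, S.isPGroup'.to_le hAS, hY2.trans hAn⟩)).1
    rw [sSup_singleton] at key
    exact Subgroup.map_le_iff_le_comap.mp key
  have h3 : pSeqIn (S : Subgroup G) 3 ≤ (S : Subgroup G) ⊓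
      (Cfsg.pCore p (G ⧸ Subgroup.centralizer (zIn LT : Set G))).comap
        (QuotientGroup.mk' (Subgroup.centralizer (zIn LT : Set G))) :=
    le_inf (pSeqIn_le _ _) h3K
  have hLeq := puigIn_eq_of_le _ (S : Subgroup G) inf_le_left h3
  rw [← hLs] at hLeq
  -- Frattini
  have hfr := Cfsg.Agent.Lib.helper14.frattini_pCore_quotient
    (Subgroup.centralizer (zIn LT : Set G)) S
  rw [← Subgroup.normalizer_eq_top_iff, eq_top_iff, ← hfr]
  apply sup_le
  · intro n hn
    apply normalizer_le_normalizer_zIn Ls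
    have hfin : Finite ↥((S : Subgroup G) ⊓
        (Cfsg.pCore p (G ⧸ Subgroup.centralizer (zIn LT : Set G))).comap
          (QuotientGroup.mk' (Subgroup.centralizer (zIn LT : Set G)))) := inferInstance
    obtain ⟨k₃, hk₃⟩ := pSeqIn_stabilizes ((S : Subgroup G) ⊓
      (Cfsg.pCore p (G ⧸ Subgroup.centralizer (zIn LT : Set G))).comap
        (QuotientGroup.mk' (Subgroup.centralizer (zIn LT : Set G))))
    have h5 := mem_normalizer_pSeqIn _ n hn (2 * k₃ + 1)
    rw [(hk₃ k₃ le_rfl).2, hLeq] at h5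
    exact h5
  · exact le_trans (Subgroup.centralizer_le hZY) (Subgroup.centralizer_le_normalizer _)

end Cfsg.Agent.Lib.helper30
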