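import Mathlib
import Cfsg.Prelude.Def_OddOrderLocal
import Cfsg.Agent.Lib.helper27.FStar
import Cfsg.Agent.Lib.helper65.Fitting

/-!
# PIECE D for S1444 (B-G Theorem 3.6, helper3's proof)

`pgroup_eq_bot_of_centralizes_pCores`: in a solvable group `N` with `O_p(N) = 1`, a `p`-subgroup
centralizing every `O_q(N)`, `q ≠ p`, is trivial.
-/

set_option autoImplicit false

namespace Cfsg.Agent.Lib.helper30

open Subgroup

/-- intrinsic form: `N` a finite solvable group with `O_p(N) = 1`; a `p`-subgroup `P` centralizing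
`O_q(N)` for all primes `q ≠ p` is trivial. -/
theorem zgD_aux {N : Type*} [Group N] [Finite N] [Group.IsSolvable N] {p : ℕ} [Fact p.Prime]
    (P : Subgroup N) (hP : IsPGroup p P) (hOp : Cfsg.pCore p N = ⊥)
    (hcent : ∀ q : ℕ, q.Prime → q ≠ p → P ≤ Subgroup.centralizer ((Cfsg.pCore q N : Subgroup N) : Set N)) :
    P = ⊥ := by
  classical
  -- `piCore {q} ≤ pCore q`
  have hpi_le : ∀ q : ℕ, q.Prime → Cfsg.piCore {q} N ≤ Cfsg.pCore q N := by
    intro q hq
    apply le_sSup
    exact ⟨inferInstance, Cfsg.Agent.Lib.helper65.piCore_singleton_isPGroup hq⟩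
  -- each `piCore {q}` is centralized by `P`
  have hcq : ∀ q : ℕ, q.Prime → Cfsg.piCore {q} N ≤ Subgroup.centralizer ((P : Subgroup N) : Set N) := by
    intro q hq
    by_cases hqp : q = p
    · subst hqp
      have := hpi_le q hq
      rw [hOp, le_bot_iff] at this
      rw [this]; exact bot_le
    · have h1 := hcent q hq hqp
      have h2 : Cfsg.pCore q N ≤ Subgroup.centralizer ((P : Subgroup N) : Set N) :=
        Subgroup.le_centralizer_iff.mp h1
      exact (hpi_le q hq).trans h2
  -- `F(N)` is centralized by `P`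
  have hF : Cfsg.fittingSubgroup N ≤ Subgroup.centralizer ((P : Subgroup N) : Set N) := by
    rw [Cfsg.Agent.Lib.helper65.fittingSubgroup_eq_primeCoreSup]
    apply iSup_le
    intro q
    exact hcq q (Nat.prime_of_mem_primeFactors q.2)
  have hPC : P ≤ Subgroup.centralizer ((Cfsg.fittingSubgroup N : Subgroup N) : Set N) :=
    Subgroup.le_centralizer_iff.mp hF
  -- `C(F) ≤ F`
  have hCF := Cfsg.Agent.Lib.helper27.solvable_le_center_fitting (G := N)
    (Subgroup.centralizer (Cfsg.fittingSubgroup N : Set N)) le_rfl Subgroup.le_normalizer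
    inferInstance
  have hPF : P ≤ Cfsg.fittingSubgroup N := hPC.trans (hCF.trans inf_le_left)
  -- `F(N) ≤ O_{p'}(N)`
  have hFp : Cfsg.fittingSubgroup N ≤ Cfsg.piCore {q : ℕ | q ≠ p} N := by
    rw [Cfsg.Agent.Lib.helper65.fittingSubgroup_eq_primeCoreSup]
    apply iSup_le
    intro q
    have hq : (q : ℕ).Prime := Nat.prime_of_mem_primeFactors q.2
    by_cases hqp : (q : ℕ) = p
    · have h1 := hpi_le q hq
      rw [hqp, hOp, le_bot_iff] at h1
      rw [hqp, h1]; exact bot_le
    · apply le_sSup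
      refine ⟨inferInstance, ?_⟩
      intro r hr hrd
      have hpg := Cfsg.Agent.Lib.helper65.piCore_singleton_isPGroup (G := N) hq
      have : Fact (q : ℕ).Prime := ⟨hq⟩
      obtain ⟨n, hn⟩ := IsPGroup.iff_card.mp hpg
      rw [hn] at hrd
      have hrq : r = (q : ℕ) := (Nat.prime_dvd_prime_iff_eq hr hq).mp (hr.dvd_of_dvd_pow hrd)
      show r ≠ p
      rw [hrq]; exact hqp
  have hPp : P ≤ Cfsg.piCore {q : ℕ | q ≠ p} N := hPF.trans hFp
  -- conclude by orders
  by_contra hne
  have hcardP : Nat.card P ≠ 1 := fun h => hne (Subgroup.eq_bot_of_card_eq P h)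
  obtain ⟨n, hn⟩ := IsPGroup.iff_card.mp hP
  have hpd : p ∣ Nat.card P := by
    rw [hn]
    rcases Nat.eq_zero_or_pos n with h0 | h0
    · rw [h0, pow_zero] at hn; exact absurd hn hcardP
    · exact dvd_pow_self p h0.ne'
  have hpd2 : p ∣ Nat.card (Cfsg.piCore {q : ℕ | q ≠ p} N) :=
    hpd.trans (Subgroup.card_dvd_of_le hPp)
  have := Cfsg.Agent.Lib.helper65.piCore_isPiGrp (G := N) {q : ℕ | q ≠ p} p (Fact.out) hpd2
  exact this rfl

/-- PIECE D: `N` a solvable subgroup with `O_p(N) = 1`, `P ≤ N` a `p`-subgroup centralizing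
`O_q(N)` for all primes `q ≠ p`; then `P = 1`. -/
theorem pgroup_eq_bot_of_centralizes_pCores {G : Type*} [Group G] [Finite G] {p : ℕ} [Fact p.Prime]
    (N P : Subgroup G) (hNs : Group.IsSolvable N) (hPN : P ≤ N) (hP : IsPGroup p P)
    (hOp : Cfsg.pCore p ↥N = ⊥)
    (hcent : ∀ q : ℕ, q.Prime → q ≠ p →
      P ≤ Subgroup.centralizer (((Cfsg.pCore q ↥N).map N.subtype : Subgroup G) : Set G)) :
    P = ⊥ := by
  have hP' : IsPGroup p (P.subgroupOf N) :=
    hP.comap_of_injective N.subtype N.subtype_injective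
  have h := zgD_aux (N := ↥N) (P.subgroupOf N) hP' hOp (by
    intro q hq hqp x hx
    rw [Subgroup.mem_centralizer_iff]
    intro y hy
    have hx' : (x : G) ∈ P := hx
    have h1 := hcent q hq hqp hx'
    rw [Subgroup.mem_centralizer_iff] at h1
    have h2 := h1 (y : G) ⟨y, hy, rfl⟩
    exact Subtype.ext h2)
  rw [Subgroup.subgroupOf_eq_bot] at h
  exact (disjoint_of_le_iff_left_eq_bot hPN).mp h

end Cfsg.Agent.Lib.helper30
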