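import Mathlib
import Cfsg.Prelude.Def_Local
import Cfsg.Agent.Lib.helper30.ZgB
import Cfsg.Agent.Lib.helper28.PLayer
import Cfsg.Agent.Lib.helper40.Cores
import Cfsg.Agent.Lib.helper60.HallHigman
import Cfsg.Agent.Lib.helper60.BG36G
import Cfsg.Agent.Lib.helper65.MetaInv
import Cfsg.Agent.Lib.helper3.PGroupFrattini
import Cfsg.Agent.Lib.helper66.PLength

/-!
# The induction wrapper for S1444 (B-G Theorem 3.6, helper3's proof)

* `zg_induction` : strong induction on `|G|` reducing the `p`-length-one statement for `H = [H,R]`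
  to the "final configuration" hypothesis `hfin`.
* `zg_main` : the statement of S1444 from `hfin`.
-/

set_option autoImplicit false

namespace Cfsg.Agent.Lib.helper30

open Subgroup
open scoped commutatorElement

/-- the image in `G` of a characteristic subgroup of a normal subgroup is normal. -/
theorem zg_normal_map_of_characteristic {G : Type*} [Group G] (H : Subgroup G) [hH : H.Normal]
    (C : Subgroup ↥H) [C.Characteristic] : (C.map H.subtype).Normal := by
  rw [← Subgroup.normalizer_eq_top_iff, eq_top_iff]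
  calc (⊤ : Subgroup G) = Subgroup.normalizer (H : Set G) :=
        (Subgroup.normalizer_eq_top_iff.mpr hH).symm
    _ ≤ _ := Cfsg.Agent.Lib.helper1.normalizer_le_normalizer_map_of_characteristic H C

/-- The induction wrapper. -/
theorem zg_induction.{u} {p : ℕ} [Fact p.Prime]
    (hfin : ∀ (G : Type u) [Group G] [Finite G] [Group.IsSolvable G] (H R R₀ V : Subgroup G)
      [H.Normal] [V.Normal],
      Odd (Nat.card G) → H ⊔ R = ⊤ → (Nat.card H).Coprime (Nat.card R) → R₀ ≤ R →
      (Nat.card R₀).Prime →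
      IsZGroup ↥(H ⊓ Subgroup.centralizer (R₀ : Set G)) → ⁅H, R⁆ = H → V ≤ H → V ≠ H →
      (∀ a ∈ V, ∀ b ∈ V, a * b = b * a) → (∀ a ∈ V, a ^ p = 1) →
      (∀ T : Subgroup G, T ≤ H → H ≤ Subgroup.normalizer (T : Set G) → IsPGroup p T → T ≤ V) →
      (∀ T : Subgroup G, T ≤ H → H ≤ Subgroup.normalizer (T : Set G) → (Nat.card T).Coprime p →
        T = ⊥) →
      H ⊓ Subgroup.centralizer (V : Set G) ≤ V →
      (∀ N₀ : Subgroup G, N₀.Normal → N₀ ≤ H → N₀ ≠ ⊥ → ∃ L M : Subgroup G, N₀ ≤ L ∧ L ≤ M ∧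
        M ≤ H ∧ H ≤ Subgroup.normalizer (L : Set G) ∧ H ≤ Subgroup.normalizer (M : Set G) ∧
        (N₀.relIndex L).Coprime p ∧ (∃ m : ℕ, L.relIndex M = p ^ m) ∧ (M.relIndex H).Coprime p) →
      (V.relIndex H).Coprime p)
    {G : Type u} [Group G] [Finite G] [Group.IsSolvable G] (hodd : Odd (Nat.card G))
    (H R R₀ : Subgroup G)
    (hHR : H ⊔ R = ⊤) (hRH : R ≤ Subgroup.normalizer (H : Set G))
    (hcop : (Nat.card H).Coprime (Nat.card R))
    (hR₀ : R₀ ≤ R) (hr : (Nat.card R₀).Prime)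
    (hZ : IsZGroup ↥(H ⊓ Subgroup.centralizer (R₀ : Set G)))
    (hHc : ⁅H, R⁆ = H) : Cfsg.PLengthLE p 1 ↥H := by
  obtain ⟨n, hn⟩ : ∃ n, Nat.card G = n := ⟨_, rfl⟩
  induction n using Nat.strong_induction_on generalizing G with
  | _ n ih =>
  have hp : p.Prime := Fact.out
  -- `H` is normal
  have hHtop : Subgroup.normalizer (H : Set G) = ⊤ := by
    rw [eq_top_iff, ← hHR]
    exact sup_le Subgroup.le_normalizer hRH
  have hHn : H.Normal := Subgroup.normalizer_eq_top_iff.mp hHtop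
  -- (0) the chains given by induction
  have hIH : ∀ N₀ : Subgroup G, N₀.Normal → N₀ ≤ H → N₀ ≠ ⊥ → ∃ L M : Subgroup G, N₀ ≤ L ∧
      L ≤ M ∧ M ≤ H ∧ H ≤ Subgroup.normalizer (L : Set G) ∧
      H ≤ Subgroup.normalizer (M : Set G) ∧
      (N₀.relIndex L).Coprime p ∧ (∃ m : ℕ, L.relIndex M = p ^ m) ∧ (M.relIndex H).Coprime p := by
    intro N₀ hN₀n hN₀H hN₀ne
    obtain ⟨q1, q2, q3, q4, q5, q6, q7⟩ := quot_hyps H R R₀ N₀ hN₀H hHR hRH hcop hR₀ hr hZ hHc
    have hlt : Nat.card (G ⧸ N₀) < n := by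
      rw [← hn]; exact Cfsg.Agent.Lib.helper1.card_quot_lt hN₀ne
    have hoddq : Odd (Nat.card (G ⧸ N₀)) :=
      Odd.of_dvd_nat hodd (Subgroup.card_quotient_dvd_card N₀)
    have hpl := ih (Nat.card (G ⧸ N₀)) hlt hoddq (H.map (QuotientGroup.mk' N₀))
      (R.map (QuotientGroup.mk' N₀)) (R₀.map (QuotientGroup.mk' N₀)) q1 q2 q3 q4 q5 q6 q7 rfl
    exact exists_chain_of_plength_one_map H N₀ hN₀H hpl
  have hbotn : H ≤ Subgroup.normalizer (((⊥ : Subgroup G) : Subgroup G) : Set G) := by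
    rw [Subgroup.normalizer_eq_top_iff.mpr (inferInstance : (⊥ : Subgroup G).Normal)]
    exact le_top
  have hbotc : (Nat.card (⊥ : Subgroup G)).Coprime p := by
    rw [Subgroup.card_bot]; exact Nat.coprime_one_left p
  -- (1) the `p'`-core
  set T₁ : Subgroup G := (Cfsg.pPrimeCore p ↥H).map H.subtype with hT₁
  have hT₁n : T₁.Normal := zg_normal_map_of_characteristic H _
  have hT₁H : T₁ ≤ H := Subgroup.map_subtype_le _
  have hT₁c : (Nat.card T₁).Coprime p := by
    rw [hT₁, Subgroup.card_map_of_injective H.subtype_injective]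
    exact Cfsg.Agent.Lib.helper40.pPrimeCore_card_coprime p ↥H
  by_cases hT₁ne : T₁ ≠ ⊥
  · obtain ⟨L, M, h1, h2, h3, h4, h5, h6, h7, h8⟩ := hIH T₁ hT₁n hT₁H hT₁ne
    apply plength_one_of_chain H L M h2 h3 h4 h5 ?_ h7 h8
    have hc : Nat.card T₁ * T₁.relIndex L = Nat.card L := by
      have := Subgroup.relIndex_mul_relIndex ⊥ T₁ L bot_le h1
      rwa [Subgroup.relIndex_bot_left, Subgroup.relIndex_bot_left] at this
    rw [← hc]
    exact Nat.Coprime.mul_left hT₁c h6
  push Not at hT₁ne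
  have hOp0 : Cfsg.pPrimeCore p ↥H = ⊥ := by
    rwa [hT₁, Subgroup.map_eq_bot_iff_of_injective _ H.subtype_injective] at hT₁ne
  have hOp' : ∀ T : Subgroup G, T ≤ H → H ≤ Subgroup.normalizer (T : Set G) →
      (Nat.card T).Coprime p → T = ⊥ := by
    intro T hTH hTn hTc
    have hTn' : (T.subgroupOf H).Normal :=
      (Subgroup.normal_subgroupOf_iff_le_normalizer hTH).mpr hTn
    have hc : Nat.card (T.subgroupOf H) = Nat.card T :=
      Nat.card_congr (Subgroup.subgroupOfEquivOfLe hTH).toEquiv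
    have hle : T.subgroupOf H ≤ Cfsg.pPrimeCore p ↥H :=
      Cfsg.Agent.Lib.helper40.le_pPrimeCore _ hTn' (hc ▸ hTc)
    rw [hOp0, le_bot_iff, Subgroup.subgroupOf_eq_bot] at hle
    exact hle.eq_bot_of_le hTH
  -- (2) the `p`-core
  set V : Subgroup G := (Cfsg.pCore p ↥H).map H.subtype with hV
  have hVn : V.Normal := zg_normal_map_of_characteristic H _
  have hVH : V ≤ H := Subgroup.map_subtype_le _
  have hVp : IsPGroup p V := (Cfsg.Agent.Lib.helper40.pCore_isPGroup p ↥H).map H.subtype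
  have hVnH : H ≤ Subgroup.normalizer (V : Set G) := by
    rw [Subgroup.normalizer_eq_top_iff.mpr hVn]; exact le_top
  have hVmax : ∀ T : Subgroup G, T ≤ H → H ≤ Subgroup.normalizer (T : Set G) → IsPGroup p T →
      T ≤ V := by
    intro T hTH hTn hTp
    have hTn' : (T.subgroupOf H).Normal :=
      (Subgroup.normal_subgroupOf_iff_le_normalizer hTH).mpr hTn
    have hTp' : IsPGroup p (T.subgroupOf H) := hTp.comap_subtype
    have hle : T.subgroupOf H ≤ Cfsg.pCore p ↥H :=
      Cfsg.Agent.Lib.helper40.le_pCore _ hTn' hTp'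
    calc T = (T.subgroupOf H).map H.subtype := (Subgroup.map_subgroupOf_eq_of_le hTH).symm
      _ ≤ V := Subgroup.map_mono hle
  have hCV : H ⊓ Subgroup.centralizer (V : Set G) ≤ V := by
    rintro x ⟨hxH, hxC⟩
    have hx' : (⟨x, hxH⟩ : ↥H) ∈ Subgroup.centralizer (Cfsg.pCore p ↥H : Set ↥H) := by
      rw [Subgroup.mem_centralizer_iff]
      intro y hy
      apply Subtype.ext
      exact Subgroup.mem_centralizer_iff.mp hxC (y : G) (Subgroup.mem_map_of_mem H.subtype hy)
    have := Cfsg.Agent.Lib.helper60.centralizer_pCore_le (G := ↥H) p hOp0 hx'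
    exact ⟨⟨x, hxH⟩, this, rfl⟩
  obtain ⟨mV, hmV⟩ := (IsPGroup.iff_card).mp hVp
  have hbotV : ∃ m : ℕ, (⊥ : Subgroup G).relIndex V = p ^ m :=
    ⟨mV, by rw [Subgroup.relIndex_bot_left]; exact hmV⟩
  -- (3) the Frattini subgroup of `V`
  set Φ : Subgroup G := (frattini ↥V).map V.subtype with hΦ
  have hΦn : Φ.Normal := zg_normal_map_of_characteristic V _
  have hΦV : Φ ≤ V := Subgroup.map_subtype_le _
  by_cases hΦne : Φ ≠ ⊥
  · obtain ⟨L, M, hch⟩ := hIH Φ hΦn (hΦV.trans hVH) hΦne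
    have hB : ∀ b ∈ H, (orderOf b).Coprime p → (∀ v ∈ V, b * v * b⁻¹ * v⁻¹ ∈ Φ) →
        b ∈ Subgroup.centralizer (V : Set G) := by
      intro b _ hbc hbv
      have hβ : (MulAut.conjNormal b : MulAut ↥V) = 1 := by
        apply Cfsg.Agent.Lib.helper65.mulAut_eq_one_of_coprime_trivial_mod_frattini (Q := ↥V) hVp
          (MulAut.conjNormal b) (orderOf b) hbc
        · rw [← map_pow, pow_orderOf_eq_one, map_one]
        · intro x
          obtain ⟨y, hy, hyx⟩ := hbv (x : G) x.2
          have : y = MulAut.conjNormal b x * x⁻¹ := by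
            apply Subtype.ext
            rw [Subgroup.coe_mul, MulAut.conjNormal_apply, Subgroup.coe_inv]
            exact hyx
          rw [← this]; exact hy
      rw [Subgroup.mem_centralizer_iff]
      intro v hv
      have h1 : ((MulAut.conjNormal b (⟨v, hv⟩ : ↥V) : ↥V) : G) = v := by rw [hβ]; rfl
      rw [MulAut.conjNormal_apply] at h1
      have h2 : b * v = v * b := by
        calc b * v = b * v * b⁻¹ * b := by group
          _ = v * b := by rw [h1]
      exact h2.symm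
    have h3 := Cfsg.Agent.Lib.helper60.BG36.coprime_relIndex_of_chain H V Φ L M hVH hVnH hVp
      hVmax hCV hΦV hB hch
    exact plength_one_of_chain H ⊥ V bot_le hVH hbotn hVnH hbotc hbotV h3
  push Not at hΦne
  have hfr : frattini ↥V = ⊥ := by
    rwa [hΦ, Subgroup.map_eq_bot_iff_of_injective _ V.subtype_injective] at hΦne
  have hVc : ∀ a ∈ V, ∀ b ∈ V, a * b = b * a := by
    intro a ha b hb
    have h1 : ⁅(⟨a, ha⟩ : ↥V), ⟨b, hb⟩⁆ ∈ commutator ↥V :=
      Subgroup.commutator_mem_commutator (Subgroup.mem_top _) (Subgroup.mem_top _)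
    have h2 := Cfsg.Agent.Lib.helper3.commutator_le_frattini hVp h1
    rw [hfr, Subgroup.mem_bot, commutatorElement_eq_one_iff_mul_comm] at h2
    exact congrArg Subtype.val h2
  have hVexp : ∀ a ∈ V, a ^ p = 1 := by
    intro a ha
    have h2 := Cfsg.Agent.Lib.helper3.pow_prime_mem_frattini hVp (⟨a, ha⟩ : ↥V)
    rw [hfr, Subgroup.mem_bot] at h2
    exact congrArg Subtype.val h2
  -- (4) the final configuration
  by_cases hVeq : V = H
  · refine plength_one_of_chain H ⊥ V bot_le hVH hbotn hVnH hbotc hbotV ?_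
    rw [hVeq, Subgroup.relIndex_self]; exact Nat.coprime_one_left p
  · have h3 := hfin G H R R₀ V hodd hHR hcop hR₀ hr hZ hHc hVH hVeq hVc hVexp hVmax hOp' hCV hIH
    exact plength_one_of_chain H ⊥ V bot_le hVH hbotn hVnH hbotc hbotV h3

/-- The statement of S1444 (B-G Theorem 3.6) from the final-configuration hypothesis. -/
theorem zg_main.{u} {p : ℕ} [Fact p.Prime]
    (hfin : ∀ (G : Type u) [Group G] [Finite G] [Group.IsSolvable G] (H R R₀ V : Subgroup G)
      [H.Normal] [V.Normal],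
      Odd (Nat.card G) → H ⊔ R = ⊤ → (Nat.card H).Coprime (Nat.card R) → R₀ ≤ R →
      (Nat.card R₀).Prime →
      IsZGroup ↥(H ⊓ Subgroup.centralizer (R₀ : Set G)) → ⁅H, R⁆ = H → V ≤ H → V ≠ H →
      (∀ a ∈ V, ∀ b ∈ V, a * b = b * a) → (∀ a ∈ V, a ^ p = 1) →
      (∀ T : Subgroup G, T ≤ H → H ≤ Subgroup.normalizer (T : Set G) → IsPGroup p T → T ≤ V) →
      (∀ T : Subgroup G, T ≤ H → H ≤ Subgroup.normalizer (T : Set G) → (Nat.card T).Coprime p →
        T = ⊥) →
      H ⊓ Subgroup.centralizer (V : Set G) ≤ V →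
      (∀ N₀ : Subgroup G, N₀.Normal → N₀ ≤ H → N₀ ≠ ⊥ → ∃ L M : Subgroup G, N₀ ≤ L ∧ L ≤ M ∧
        M ≤ H ∧ H ≤ Subgroup.normalizer (L : Set G) ∧ H ≤ Subgroup.normalizer (M : Set G) ∧
        (N₀.relIndex L).Coprime p ∧ (∃ m : ℕ, L.relIndex M = p ^ m) ∧ (M.relIndex H).Coprime p) →
      (V.relIndex H).Coprime p)
    {G : Type u} [Group G] [Finite G] [Group.IsSolvable G]
    (hodd : Odd (Nat.card G)) (H R R₀ : Subgroup G) [H.Normal]
    (hHall : (Nat.card H).Coprime H.index)
    (hR : Subgroup.IsComplement' H R) (hR₀ : R₀ ≤ R) (hR₀p : (Nat.card R₀).Prime)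
    (hZ : IsZGroup ↥(H ⊓ Subgroup.centralizer (R₀ : Set G))) : Cfsg.PLengthLE p 1 ↥⁅H, R⁆ := by
  set K : Subgroup G := ⁅H, R⁆ with hK
  have hRnH : R ≤ Subgroup.normalizer (H : Set G) := by
    rw [Subgroup.normalizer_eq_top_iff.mpr inferInstance]; exact le_top
  have hKH : K ≤ H := Subgroup.commutator_le_left H R
  have hcopRH : (Nat.card R).Coprime (Nat.card H) := by
    rw [← hR.symm.index_eq_card]; exact hHall.symm
  have hRK : R ≤ Subgroup.normalizer (K : Set G) :=
    Cfsg.Agent.Lib.helper1.right_le_normalizer_commutator hRnH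
  have hKK : ⁅K, R⁆ = K :=
    Cfsg.Agent.Lib.helper1.commutator_commutator_eq R H hRnH hcopRH (Or.inr inferInstance)
  set S : Subgroup G := K ⊔ R with hS
  have hKS : K ≤ S := le_sup_left
  have hRS : R ≤ S := le_sup_right
  have hR₀S : R₀ ≤ S := hR₀.trans hRS
  have hcK : Nat.card (K.subgroupOf S) = Nat.card K :=
    Nat.card_congr (Subgroup.subgroupOfEquivOfLe hKS).toEquiv
  have hcR : Nat.card (R.subgroupOf S) = Nat.card R :=
    Nat.card_congr (Subgroup.subgroupOfEquivOfLe hRS).toEquiv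
  have hcR₀ : Nat.card (R₀.subgroupOf S) = Nat.card R₀ :=
    Nat.card_congr (Subgroup.subgroupOfEquivOfLe hR₀S).toEquiv
  have h : Cfsg.PLengthLE p 1 ↥(K.subgroupOf S) := by
    refine zg_induction (p := p) hfin (G := ↥S) ?_ (K.subgroupOf S) (R.subgroupOf S)
      (R₀.subgroupOf S) ?_ ?_ ?_ ?_ ?_ ?_ ?_
    · exact Odd.of_dvd_nat hodd (Subgroup.card_subgroup_dvd_card S)
    · rw [← Subgroup.subgroupOf_sup hKS hRS, ← hS, Subgroup.subgroupOf_self]
    · intro x hx
      rw [Subgroup.mem_normalizer_iff]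
      intro y
      have hx' : (x : G) ∈ R := hx
      have := Subgroup.mem_normalizer_iff.mp (hRK hx') (y : G)
      exact this
    · rw [hcK, hcR]
      exact (hcopRH.symm).coprime_dvd_left (Subgroup.card_dvd_of_le hKH)
    · intro x hx
      exact hR₀ hx
    · rw [hcR₀]; exact hR₀p
    · -- the Z-group hypothesis
      let f : ↥(K.subgroupOf S ⊓ Subgroup.centralizer ((R₀.subgroupOf S : Subgroup ↥S) : Set ↥S))
          →* ↥(H ⊓ Subgroup.centralizer (R₀ : Set G)) :=
        (S.subtype.comp (Subgroup.subtype _)).codRestrict _ (by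
          intro x
          have hx1 : (x : ↥S) ∈ K.subgroupOf S := x.2.1
          have hx2 : (x : ↥S) ∈ Subgroup.centralizer ((R₀.subgroupOf S : Subgroup ↥S) : Set ↥S) :=
            x.2.2
          have hxK : ((x : ↥S) : G) ∈ K := hx1
          refine Subgroup.mem_inf.mpr ⟨hKH hxK, ?_⟩
          apply Subgroup.mem_centralizer_iff.mpr
          intro r hr
          have := Subgroup.mem_centralizer_iff.mp hx2 (⟨r, hR₀S hr⟩ : ↥S) hr
          exact congrArg Subtype.val this)
      have hf : Function.Injective f := by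
        intro a b hab
        have h1 : ((f a : ↥(H ⊓ Subgroup.centralizer (R₀ : Set G))) : G) = (f b : G) := by
          rw [hab]
        exact Subtype.ext (Subtype.ext h1)
      exact IsZGroup.of_injective (f := f) hf
    · -- `⁅K, R⁆ = K` inside `S`
      apply Subgroup.map_injective S.subtype_injective
      rw [Subgroup.map_commutator, Subgroup.map_subgroupOf_eq_of_le hKS,
        Subgroup.map_subgroupOf_eq_of_le hRS]
      exact hKK
  exact Cfsg.Agent.Lib.helper66.PLengthLE.of_surjective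
    (Subgroup.subgroupOfEquivOfLe hKS).toMonoidHom (Subgroup.subgroupOfEquivOfLe hKS).surjective h

end Cfsg.Agent.Lib.helper30
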