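import Mathlib
import Cfsg.Agent.Lib.helper30.OmegaCent
import Cfsg.Agent.Lib.helper30.NarrowP
import Cfsg.Prelude.Def_OddOrderLocal

/-!
# Narrow `p`-groups of rank at least three: a characteristic chain

`narrow_chain` : in a narrow `p`-group `R` (`p` odd) containing an elementary abelian subgroup of
order `p ^ 3` there is a chain `1 = F 0 ≤ F 1 ≤ ... ≤ F n` of characteristic subgroups with
`|F (i+1) : F i| ≤ p` such that `F n` is elementary abelian and contains every element of order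
dividing `p` of its centralizer.
-/

set_option autoImplicit false

namespace Cfsg.Agent.Lib.helper30

/-- **Ω-lemma, level-one form.**  If `p` is odd, `E` is a normal elementary abelian subgroup of the
`p`-group `R` and every element of order dividing `p` of `C_R(E)` which is central modulo `E` lies
in `E`, then every element of order dividing `p` of `C_R(E)` lies in `E`. -/
theorem omega_centralizer_le_of_level_one {R : Type*} [Group R] [Finite R] (p : ℕ) [Fact p.Prime]
    (hp : p ≠ 2) (hR : IsPGroup p R) (E : Subgroup R) [hEn : E.Normal]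
    (hEab : ∀ x ∈ E, ∀ y ∈ E, x * y = y * x) (hEexp : ∀ x ∈ E, x ^ p = 1)
    (hP1 : ∀ x ∈ lev E 1, x ^ p = 1 → x ∈ E) :
    ∀ x ∈ Subgroup.centralizer (E : Set R), x ^ p = 1 → x ∈ E := by
  have hpp : p.Prime := Fact.out
  have hodd : 2 ∣ p - 1 := by
    obtain ⟨k, hk⟩ := hpp.odd_of_ne_two hp
    exact ⟨k, by omega⟩
  have hP : ∀ j : ℕ, ∀ x ∈ lev E (j + 1), x ^ p = 1 → x ∈ E := by
    intro j
    induction j with
    | zero => exact hP1
    | succ j ih =>
      intro x hx hxp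
      obtain ⟨hxC, hxl⟩ := (mem_lev_succ E (j + 1) x).mp hx
      have hQ : ∀ i : ℕ, ∀ w : R, x * w * x⁻¹ * w⁻¹ ∈ lev E i → x * w * x⁻¹ * w⁻¹ ∈ E := by
        intro i
        induction i with
        | zero =>
          intro w hw
          exact (mem_lev_zero E hEab _).mp hw
        | succ i ihi =>
          intro w hw
          have hcl := (mem_lev_succ E i _).mp hw
          have h1 : x * (x * w * x⁻¹ * w⁻¹) * x⁻¹ * (x * w * x⁻¹ * w⁻¹)⁻¹ ∈ lev E i := by
            have := hcl.2 x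
            have h2 : ∀ c : R, x * c * x⁻¹ * c⁻¹ = (c * x * c⁻¹ * x⁻¹)⁻¹ := fun c => by group
            rw [h2]
            exact Subgroup.inv_mem _ this
          have h3 : x * (x * w * x⁻¹ * w⁻¹) * x⁻¹ * (x * w * x⁻¹ * w⁻¹)⁻¹ ∈ E := ihi _ h1
          have hz : (x * w * x⁻¹ * w⁻¹) * x⁻¹ * (x * w * x⁻¹ * w⁻¹)⁻¹ * x ∈ E := by
            have := hEn.conj_mem _ h3 x⁻¹
            have h4 : ∀ c : R, c * x⁻¹ * c⁻¹ * x = x⁻¹ * (x * c * x⁻¹ * c⁻¹) * x⁻¹⁻¹ :=
              fun c => by group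
            rw [h4]
            exact this
          have hzx : Commute ((x * w * x⁻¹ * w⁻¹) * x⁻¹ * (x * w * x⁻¹ * w⁻¹)⁻¹ * x) x⁻¹ :=
            Subgroup.mem_centralizer_iff.mp (Subgroup.inv_mem _ hxC) _ hz
          have hzc : Commute ((x * w * x⁻¹ * w⁻¹) * x⁻¹ * (x * w * x⁻¹ * w⁻¹)⁻¹ * x)
              (x * w * x⁻¹ * w⁻¹) :=
            Subgroup.mem_centralizer_iff.mp hcl.1 _ hz
          have hmul' : ∀ c : R, c * x⁻¹ = (c * x⁻¹ * c⁻¹ * x) * (x⁻¹ * c) := fun c => by group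
          have hmul : (x * w * x⁻¹ * w⁻¹) * x⁻¹
              = ((x * w * x⁻¹ * w⁻¹) * x⁻¹ * (x * w * x⁻¹ * w⁻¹)⁻¹ * x)
                * (x⁻¹ * (x * w * x⁻¹ * w⁻¹)) := hmul' _
          have hpow := Cfsg.Agent.S1443.mul_pow_of_comm_central x⁻¹ (x * w * x⁻¹ * w⁻¹) _ hmul
            hzx hzc p
          have h5 : x⁻¹ * (x * w * x⁻¹ * w⁻¹) = w * x⁻¹ * w⁻¹ := by group
          have h6 : (x⁻¹ * (x * w * x⁻¹ * w⁻¹)) ^ p = 1 := by
            rw [h5, conj_pow, inv_pow, hxp]
            group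
          have hzp : ((x * w * x⁻¹ * w⁻¹) * x⁻¹ * (x * w * x⁻¹ * w⁻¹)⁻¹ * x) ^ (p * (p - 1) / 2)
              = 1 := by
            rw [Nat.mul_div_assoc p hodd, pow_mul, hEexp _ hz, one_pow]
          rw [h6, inv_pow, hxp, inv_one, one_mul, hzp, mul_one] at hpow
          exact ih _ (hxl w) hpow.symm
      have hx1 : x ∈ lev E 1 := by
        rw [mem_lev_succ]
        exact ⟨hxC, fun r => (mem_lev_zero E hEab _).mpr (hQ (j + 1) r (hxl r))⟩
      exact hP1 x hx1 hxp
  intro x hx hxp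
  obtain ⟨n, hn⟩ := lev_top p hR E
  exact hP n x (lev_le_succ E n (hn x hx)) hxp

/-- Elements of the join of two elementwise commuting subgroups are products. -/
theorem mem_sup_of_commute {G : Type*} [Group G] (H K : Subgroup G)
    (hc : ∀ a ∈ H, ∀ b ∈ K, a * b = b * a) (x : G) (hx : x ∈ H ⊔ K) :
    ∃ a ∈ H, ∃ b ∈ K, x = a * b := by
  let M : Subgroup G :=
    { carrier := {x | ∃ a ∈ H, ∃ b ∈ K, x = a * b}
      one_mem' := ⟨1, H.one_mem, 1, K.one_mem, by simp⟩
      mul_mem' := by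
        rintro _ _ ⟨a, ha, b, hb, rfl⟩ ⟨a', ha', b', hb', rfl⟩
        refine ⟨a * a', H.mul_mem ha ha', b * b', K.mul_mem hb hb', ?_⟩
        calc a * b * (a' * b') = a * (b * a') * b' := by group
          _ = a * (a' * b) * b' := by rw [hc a' ha' b hb]
          _ = a * a' * (b * b') := by group
      inv_mem' := by
        rintro _ ⟨a, ha, b, hb, rfl⟩
        refine ⟨a⁻¹, H.inv_mem ha, b⁻¹, K.inv_mem hb, ?_⟩
        rw [mul_inv_rev, hc a⁻¹ (H.inv_mem ha) b⁻¹ (K.inv_mem hb)] }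
  have h1 : H ⊔ K ≤ M := by
    apply sup_le
    · intro a ha
      exact ⟨a, ha, 1, K.one_mem, by simp⟩
    · intro b hb
      exact ⟨1, H.one_mem, b, hb, by simp⟩
  exact h1 hx

/-- **The characteristic chain of a narrow `p`-group of rank at least three.** -/
theorem narrow_chain {R : Type*} [Group R] [Finite R] (p : ℕ) [Fact p.Prime] (hp : p ≠ 2)
    (hR : IsPGroup p R) (hr : ¬ Cfsg.PRankLE p 2 R) (hn : Cfsg.IsNarrow p R) :
    ∃ (F : ℕ → Subgroup R) (n : ℕ), F 0 = ⊥ ∧ (∀ i, F i ≤ F (i + 1)) ∧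
      (∀ i, Nat.card (F (i + 1)) ≤ p * Nat.card (F i)) ∧
      (∀ (α : MulAut R) (i : ℕ) (x : R), x ∈ F i → α x ∈ F i) ∧
      (∀ x ∈ F n, ∀ y ∈ F n, x * y = y * x) ∧ (∀ x ∈ F n, x ^ p = 1) ∧
      (∀ x : R, (∀ e ∈ F n, x * e = e * x) → x ^ p = 1 → x ∈ F n) := by
  classical
  have hpp : p.Prime := Fact.out
  rcases hn with hn | ⟨R₀, R₁, hR₀card, hR₁cyc, hdisj, hcomm01, hsup⟩
  · exact absurd hn hr
  -- a generator of `R₀`
  obtain ⟨r₀, hr₀R, hr₀1⟩ : ∃ r₀ ∈ R₀, r₀ ≠ 1 := by
    have h1 : 1 < Nat.card R₀ := by rw [hR₀card]; exact hpp.one_lt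
    have : Nontrivial R₀ := Finite.one_lt_card_iff_nontrivial.mp h1
    obtain ⟨⟨x, hx⟩, hx1⟩ := exists_ne (1 : R₀)
    exact ⟨x, hx, fun h => hx1 (Subtype.ext h)⟩
  have hr₀p : r₀ ^ p = 1 := by
    have h1 : (⟨r₀, hr₀R⟩ : R₀) ^ Nat.card R₀ = 1 := pow_card_eq_one'
    rw [hR₀card] at h1
    exact congrArg Subtype.val h1
  have hr₀ord : orderOf r₀ = p := by
    rcases (Nat.dvd_prime hpp).mp (orderOf_dvd_of_pow_eq_one hr₀p) with h | h
    · exact absurd (orderOf_eq_one_iff.mp h) hr₀1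
    · exact h
  have hR₀z : R₀ = Subgroup.zpowers r₀ := by
    symm
    apply Subgroup.eq_of_le_of_card_ge ((Subgroup.zpowers_le).mpr hr₀R)
    rw [Nat.card_zpowers, hR₀card, hr₀ord]
  have hcentR₀ : ∀ x : R, x ∈ Subgroup.centralizer (R₀ : Set R) ↔ x * r₀ = r₀ * x := by
    intro x
    constructor
    · intro h
      exact (Subgroup.mem_centralizer_iff.mp h r₀ hr₀R).symm
    · intro h
      rw [Subgroup.mem_centralizer_iff]
      intro y hy
      rw [hR₀z] at hy
      obtain ⟨k, rfl⟩ := Subgroup.mem_zpowers_iff.mp hy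
      have hc : Commute x r₀ := h
      exact (hc.zpow_right k).eq.symm
  -- the centralizer of `R₀` is abelian
  have hR₁ab : ∀ x ∈ R₁, ∀ y ∈ R₁, x * y = y * x := by
    obtain ⟨g, hg⟩ := IsCyclic.exists_generator (α := R₁)
    intro x hx y hy
    obtain ⟨i, hi⟩ := Subgroup.mem_zpowers_iff.mp (hg ⟨x, hx⟩)
    obtain ⟨j, hj⟩ := Subgroup.mem_zpowers_iff.mp (hg ⟨y, hy⟩)
    have h1 : (⟨x, hx⟩ : R₁) * ⟨y, hy⟩ = ⟨y, hy⟩ * ⟨x, hx⟩ := by
      rw [← hi, ← hj, ← zpow_add, ← zpow_add, add_comm]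
    exact congrArg Subtype.val h1
  have hR₀ab : ∀ x ∈ R₀, ∀ y ∈ R₀, x * y = y * x := by
    intro x hx y hy
    rw [hR₀z] at hx hy
    obtain ⟨i, rfl⟩ := Subgroup.mem_zpowers_iff.mp hx
    obtain ⟨j, rfl⟩ := Subgroup.mem_zpowers_iff.mp hy
    rw [← zpow_add, ← zpow_add, add_comm]
  have hCab : ∀ x ∈ Subgroup.centralizer (R₀ : Set R), ∀ y ∈ Subgroup.centralizer (R₀ : Set R),
      x * y = y * x := by
    intro x hx y hy
    rw [← hsup] at hx hy
    obtain ⟨a, ha, b, hb, rfl⟩ := mem_sup_of_commute R₀ R₁ hcomm01 x hx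
    obtain ⟨a', ha', b', hb', rfl⟩ := mem_sup_of_commute R₀ R₁ hcomm01 y hy
    calc a * b * (a' * b') = a * (b * a') * b' := by group
      _ = a * (a' * b) * b' := by rw [hcomm01 a' ha' b hb]
      _ = (a * a') * (b * b') := by group
      _ = (a' * a) * (b' * b) := by rw [hR₀ab a ha a' ha', hR₁ab b hb b' hb']
      _ = a' * (a * b') * b := by group
      _ = a' * (b' * a) * b := by rw [hcomm01 a ha b' hb']
      _ = a' * b' * (a * b) := by group
  obtain ⟨E₀, hE₀⟩ := exists_omega p hp (Subgroup.centralizer (R₀ : Set R)) (by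
    intro x hx y hy z hz
    have h1 : x * y * x⁻¹ * y⁻¹ = 1 := by
      rw [hCab x hx y hy]; group
    rw [h1, one_mul, mul_one])
  have hE₀ab : ∀ x ∈ E₀, ∀ y ∈ E₀, x * y = y * x :=
    fun x hx y hy => hCab x ((hE₀ x).mp hx).1 y ((hE₀ y).mp hy).1
  have hr₀E₀ : r₀ ∈ E₀ := (hE₀ r₀).mpr ⟨(hcentR₀ r₀).mpr rfl, hr₀p⟩
  have hR₀E₀ : R₀ ≤ E₀ := by
    rw [hR₀z, Subgroup.zpowers_le]
    exact hr₀E₀
  have hext : ∀ x : R, x ^ p = 1 → (∀ e ∈ E₀, x * e = e * x) → x ∈ E₀ := by
    intro x hxp hxE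
    exact (hE₀ x).mpr ⟨(hcentR₀ x).mpr (hxE r₀ hr₀E₀), hxp⟩
  -- `|E₀| ≤ p ^ 2`
  have hLcard : Nat.card (E₀ ⊓ R₁ : Subgroup R) ≤ p := by
    have h1 : Nat.card ((E₀ ⊓ R₁).subgroupOf R₁) = Nat.card (E₀ ⊓ R₁ : Subgroup R) :=
      Nat.card_congr (Subgroup.subgroupOfEquivOfLe inf_le_right).toEquiv
    rw [← h1]
    obtain ⟨g, hg⟩ := IsCyclic.exists_generator (α := (E₀ ⊓ R₁).subgroupOf R₁)
    have hgp : g ^ p = 1 := by
      have h2 : ((g : R₁) : R) ∈ E₀ ⊓ R₁ := Subgroup.mem_subgroupOf.mp g.2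
      have h3 := ((hE₀ _).mp h2.1).2
      apply Subtype.ext
      apply Subtype.ext
      simpa using h3
    have h4 : Nat.card ((E₀ ⊓ R₁).subgroupOf R₁) = orderOf g := by
      rw [← Nat.card_zpowers]
      have : Subgroup.zpowers g = ⊤ := by
        rw [eq_top_iff]
        intro x _
        exact hg x
      rw [this, Subgroup.card_top]
    rw [h4]
    exact Nat.le_of_dvd hpp.pos (orderOf_dvd_of_pow_eq_one hgp)
  have hE₀le : Nat.card E₀ ≤ p ^ 2 := by
    have hdec : ∀ x : E₀, ∃ ab : R₀ × (E₀ ⊓ R₁ : Subgroup R), (x : R) = (ab.1 : R) * (ab.2 : R) := by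
      intro x
      have hx := ((hE₀ x).mp x.2).1
      rw [← hsup] at hx
      obtain ⟨a, ha, b, hb, hab⟩ := mem_sup_of_commute R₀ R₁ hcomm01 x hx
      have hbE : b ∈ E₀ := by
        have : b = a⁻¹ * x := by rw [hab]; group
        rw [this]
        exact E₀.mul_mem (E₀.inv_mem (hR₀E₀ ha)) x.2
      exact ⟨(⟨a, ha⟩, ⟨b, hbE, hb⟩), hab⟩
    choose f hf using hdec
    have hinj : Function.Injective f := by
      intro x y hxy
      apply Subtype.ext
      rw [hf x, hf y, hxy]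
    have h1 := Nat.card_le_card_of_injective f hinj
    rw [Nat.card_prod, hR₀card] at h1
    calc Nat.card E₀ ≤ p * Nat.card (E₀ ⊓ R₁ : Subgroup R) := h1
      _ ≤ p * p := Nat.mul_le_mul_left _ hLcard
      _ = p ^ 2 := by ring
  have hE₀p : IsPGroup p E₀ := hR.to_subgroup E₀
  have hE₀card : Nat.card E₀ = p ^ 2 := by
    obtain ⟨k, hk⟩ := hE₀p.exists_card_eq
    have hk2 : k ≤ 2 := by
      rw [hk] at hE₀le
      exact (Nat.pow_le_pow_iff_right hpp.one_lt).mp hE₀le
    have hzle : Subgroup.zpowers r₀ ≤ E₀ := (Subgroup.zpowers_le).mpr hr₀E₀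
    have hk1 : 1 ≤ k := by
      have h1 := Subgroup.card_le_of_le hzle
      rw [Nat.card_zpowers, hr₀ord, hk] at h1
      by_contra h0
      have : k = 0 := by omega
      rw [this, pow_zero] at h1
      have := hpp.one_lt
      omega
    by_contra hne
    have hk' : k = 1 := by
      rcases Nat.lt_or_ge k 2 with h | h
      · omega
      · exfalso
        apply hne
        rw [hk, le_antisymm hk2 h]
    rw [hk', pow_one] at hk
    -- `E₀ = ⟨r₀⟩`
    have hE₀z : E₀ = Subgroup.zpowers r₀ := by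
      symm
      apply Subgroup.eq_of_le_of_card_ge hzle
      rw [Nat.card_zpowers, hr₀ord, hk]
    -- a central element of order `p`
    have hRnt : Nontrivial R := ⟨⟨r₀, 1, hr₀1⟩⟩
    have hcnt : Nontrivial (Subgroup.center R) := hR.center_nontrivial
    obtain ⟨z0, hz0⟩ := exists_ne (1 : Subgroup.center R)
    obtain ⟨k0, hk0⟩ := IsPGroup.iff_orderOf.mp (hR.to_subgroup (Subgroup.center R)) z0
    have hk00 : k0 ≠ 0 := by
      intro h0
      rw [h0, pow_zero] at hk0
      exact hz0 (orderOf_eq_one_iff.mp hk0)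
    obtain ⟨j0, rfl⟩ : ∃ j, k0 = j + 1 := ⟨k0 - 1, by omega⟩
    have hz1 : z0 ^ p ^ j0 ≠ 1 := by
      intro h
      have h1 : orderOf z0 ∣ p ^ j0 := orderOf_dvd_of_pow_eq_one h
      rw [hk0] at h1
      have h2 := Nat.le_of_dvd (pow_pos hpp.pos j0) h1
      have h3 : p ^ j0 < p ^ (j0 + 1) := Nat.pow_lt_pow_right hpp.one_lt (Nat.lt_succ_self j0)
      omega
    have hz2 : (z0 ^ p ^ j0) ^ p = 1 := by
      rw [← pow_mul, ← pow_succ, ← hk0]
      exact pow_orderOf_eq_one z0
    have hzc : ((z0 ^ p ^ j0 : Subgroup.center R) : R) ∈ Subgroup.center R := (z0 ^ p ^ j0).2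
    have hzE : ((z0 ^ p ^ j0 : Subgroup.center R) : R) ∈ E₀ := by
      rw [hE₀]
      refine ⟨(hcentR₀ _).mpr (Subgroup.mem_center_iff.mp hzc r₀).symm, ?_⟩
      have := congrArg Subtype.val hz2
      simpa using this
    have hzne : ((z0 ^ p ^ j0 : Subgroup.center R) : R) ≠ 1 := by
      intro h
      exact hz1 (Subtype.ext h)
    -- `r₀` is central
    have hzz : Subgroup.zpowers ((z0 ^ p ^ j0 : Subgroup.center R) : R) = E₀ := by
      apply Subgroup.eq_of_le_of_card_ge ((Subgroup.zpowers_le).mpr hzE)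
      rw [Nat.card_zpowers, hk]
      have h1 : orderOf ((z0 ^ p ^ j0 : Subgroup.center R) : R) ∣ p := by
        apply orderOf_dvd_of_pow_eq_one
        have := congrArg Subtype.val hz2
        simpa using this
      rcases (Nat.dvd_prime hpp).mp h1 with h | h
      · exact absurd (orderOf_eq_one_iff.mp h) hzne
      · rw [h]
    have hr₀c : r₀ ∈ Subgroup.center R := by
      have h1 : r₀ ∈ Subgroup.zpowers ((z0 ^ p ^ j0 : Subgroup.center R) : R) := by
        rw [hzz]; exact hr₀E₀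
      exact (Subgroup.zpowers_le (H := Subgroup.center R)).mpr hzc h1
    -- every elementary abelian subgroup lies in `E₀`
    apply hr
    intro B _ hBexp
    have hBE : B ≤ E₀ := by
      intro b hb
      rw [hE₀]
      exact ⟨(hcentR₀ b).mpr (Subgroup.mem_center_iff.mp hr₀c b), hBexp b hb⟩
    calc Nat.card B ≤ Nat.card E₀ := Subgroup.card_le_of_le hBE
      _ = p := hk
      _ ≤ p ^ 2 := by nlinarith [hpp.one_lt]
  -- the subgroups `Z` and `W`
  obtain ⟨Z, hZ⟩ := exists_omega p hp (Subgroup.center R) (by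
    intro x hx y hy z hz
    exact Subgroup.mem_center_iff.mp hz _)
  obtain ⟨W, hW⟩ := exists_omega p hp (Subgroup.upperCentralSeries R 2) (by
    intro x hx y hy z hz
    have h1 := (mem_ucs_two x).mp hx y
    exact (Subgroup.mem_center_iff.mp h1 z).symm)
  obtain ⟨hZcard, hWcard, hET, -, hZE, hZW, -, -⟩ :=
    narrow_core p hp hR hr E₀ hE₀ab hE₀card hext Z W hZ hW
  have hZcen : ∀ z ∈ Z, z ∈ Subgroup.center R := fun z hz => ((hZ z).mp hz).1
  -- the key property of `r₀`
  have hK : ∀ x : R, x ^ p = 1 → x * r₀ = r₀ * x → x ∈ Subgroup.centralizer (W : Set R) →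
      x ∈ Z := by
    intro x hxp hxr hxW
    have hxE : x ∈ E₀ := (hE₀ x).mpr ⟨(hcentR₀ x).mpr hxr, hxp⟩
    have hZT : Z ≤ E₀ ⊓ Subgroup.centralizer (W : Set R) := by
      intro z hz
      refine Subgroup.mem_inf.mpr ⟨hZE hz, ?_⟩
      rw [Subgroup.mem_centralizer_iff]
      intro w _
      exact Subgroup.mem_center_iff.mp (hZcen z hz) w
    have hlt : E₀ ⊓ Subgroup.centralizer (W : Set R) < E₀ := by
      refine lt_of_le_of_ne inf_le_left ?_
      intro h
      apply hET
      rw [← h]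
      exact inf_le_right
    have h1 := pgroup_lt_card p _ _ hE₀p hlt
    rw [hE₀card] at h1
    have h2 : Nat.card (E₀ ⊓ Subgroup.centralizer (W : Set R) : Subgroup R) ≤ Nat.card Z := by
      rw [hZcard]
      have : p * Nat.card (E₀ ⊓ Subgroup.centralizer (W : Set R) : Subgroup R) ≤ p * p := by
        rw [← sq]; exact h1
      exact Nat.le_of_mul_le_mul_left this hpp.pos
    have h3 := Subgroup.eq_of_le_of_card_ge hZT h2
    rw [h3]
    exact ⟨hxE, hxW⟩
  -- a maximal characteristic elementary abelian subgroup containing `W`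
  have hWab : ∀ x ∈ W, ∀ y ∈ W, x * y = y * x := by
    have h1 : IsMulCommutative W := IsPGroup.isMulCommutative_of_card_eq_prime_sq hWcard
    intro x hx y hy
    exact congrArg Subtype.val (isMulCommutative_iff.mp h1 ⟨x, hx⟩ ⟨y, hy⟩)
  have hWinv : ∀ (α : MulAut R), ∀ x ∈ W, α x ∈ W := by
    intro α w hw
    rw [hW]
    obtain ⟨hw2, hwp⟩ := (hW w).mp hw
    refine ⟨?_, ?_⟩
    · have h1 : (Subgroup.upperCentralSeries R 2).Characteristic := inferInstance
      exact Subgroup.characteristic_iff_le_comap.mp h1 α hw2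
    · rw [← map_pow, hwp, map_one]
  obtain ⟨Em, hWEm, hEm⟩ := Finite.exists_le_maximal
    (p := fun F : Subgroup R => W ≤ F ∧ (∀ (α : MulAut R), ∀ x ∈ F, α x ∈ F) ∧
      (∀ x ∈ F, ∀ y ∈ F, x * y = y * x) ∧ (∀ x ∈ F, x ^ p = 1)) (a := W)
    ⟨le_refl W, hWinv, hWab, fun w hw => ((hW w).mp hw).2⟩
  obtain ⟨-, hEminv, hEmab, hEmexp⟩ := hEm.1
  have hEmmax := hEm.2
  have hEmn : Em.Normal := by
    constructor
    intro x hx g
    have := hEminv (MulAut.conj g) x hx
    simpa using this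
  have hEmW : ∀ x ∈ Subgroup.centralizer (Em : Set R), x ∈ Subgroup.centralizer (W : Set R) :=
    fun x hx => Subgroup.centralizer_le hWEm hx
  have hEmT : ∀ x ∈ Em, x ∈ Subgroup.centralizer (W : Set R) := by
    intro x hx
    rw [Subgroup.mem_centralizer_iff]
    intro w hw
    exact hEmab w (hWEm hw) x hx
  have hZEm : Z ≤ Em := hZW.trans hWEm
  -- the Ω-property
  have hP1 : ∀ x ∈ lev Em 1, x ^ p = 1 → x ∈ Em := by
    intro x hx hxp
    have hcl : ∀ a ∈ lev Em 1, ∀ b ∈ lev Em 1, ∀ c ∈ lev Em 1,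
        (a * b * a⁻¹ * b⁻¹) * c = c * (a * b * a⁻¹ * b⁻¹) := by
      intro a ha b hb c hc
      rw [mem_lev_succ] at ha hc
      have h1 : a * b * a⁻¹ * b⁻¹ ∈ Em := (mem_lev_zero Em hEmab _).mp (ha.2 b)
      exact Subgroup.mem_centralizer_iff.mp hc.1 _ h1
    obtain ⟨B, hB⟩ := exists_omega p hp (lev Em 1) hcl
    have hBlev : ∀ y ∈ B, y ∈ Subgroup.centralizer (Em : Set R) ∧ ∀ r : R, y * r * y⁻¹ * r⁻¹ ∈ Em := by
      intro y hy
      have h1 := ((hB y).mp hy).1
      rw [mem_lev_succ] at h1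
      exact ⟨h1.1, fun r => (mem_lev_zero Em hEmab _).mp (h1.2 r)⟩
    have hEl : Em ≤ lev Em 1 := by
      intro y hy
      rw [mem_lev_succ]
      refine ⟨Subgroup.mem_centralizer_iff.mpr (fun e he => hEmab e he y hy), fun r => ?_⟩
      rw [mem_lev_zero Em hEmab]
      have := hEmn.conj_mem _ (Em.inv_mem hy) r
      have h2 : y * r * y⁻¹ * r⁻¹ = y * (r * y⁻¹ * r⁻¹) := by group
      rw [h2]
      exact Em.mul_mem hy this
    have hEmB : Em ≤ B := fun y hy => (hB y).mpr ⟨hEl hy, hEmexp y hy⟩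
    have hBexp : ∀ y ∈ B, y ^ p = 1 := fun y hy => ((hB y).mp hy).2
    have hBinv : ∀ (α : MulAut R), ∀ y ∈ B, α y ∈ B := by
      intro α y hy
      obtain ⟨hyC, hyl⟩ := hBlev y hy
      rw [hB, mem_lev_succ]
      refine ⟨⟨?_, ?_⟩, ?_⟩
      · rw [Subgroup.mem_centralizer_iff]
        intro e he
        have h1 := Subgroup.mem_centralizer_iff.mp hyC _ (hEminv α.symm e he)
        have h2 := congrArg α h1
        rw [map_mul, map_mul, MulEquiv.apply_symm_apply] at h2
        exact h2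
      · intro r
        rw [mem_lev_zero Em hEmab]
        have h1 := hEminv α _ (hyl (α.symm r))
        rw [map_mul, map_mul, map_mul, map_inv, map_inv, MulEquiv.apply_symm_apply] at h1
        exact h1
      · rw [← map_pow, hBexp y hy, map_one]
    -- `|B| ≤ p |Em|`
    have hBcard : Nat.card B ≤ Nat.card Em * p := by
      have h1 := card_le_mul_card_centralizer B Em r₀ (fun y hy => by
        have := Em.inv_mem ((hBlev y hy).2 r₀)
        have h2 : r₀ * y * r₀⁻¹ * y⁻¹ = (y * r₀ * y⁻¹ * r₀⁻¹)⁻¹ := by group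
        rw [h2]; exact this) (fun z hz y hy =>
          (Subgroup.mem_centralizer_iff.mp (hBlev y hy).1 z hz))
      have h2 : (B ⊓ Subgroup.centralizer {r₀} : Subgroup R) ≤ Z := by
        intro y hy
        have hyr : y * r₀ = r₀ * y := by
          have : y ∈ Subgroup.centralizer {r₀} := hy.2
          rw [Subgroup.mem_centralizer_singleton_iff] at this
          exact this
        exact hK y (hBexp y hy.1) hyr (hEmW y (hBlev y hy.1).1)
      calc Nat.card B ≤ Nat.card Em * Nat.card (B ⊓ Subgroup.centralizer {r₀} : Subgroup R) := h1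
        _ ≤ Nat.card Em * Nat.card Z := Nat.mul_le_mul_left _ (Subgroup.card_le_of_le h2)
        _ = Nat.card Em * p := by rw [hZcard]
    -- `B` is abelian
    have hBab : ∀ u ∈ B, ∀ v ∈ B, u * v = v * u := by
      have hcq : Nat.card (↥B ⧸ Em.subgroupOf B) ∣ p := by
        have h1 : Nat.card ↥B = Nat.card (↥B ⧸ Em.subgroupOf B) * Nat.card (Em.subgroupOf B) :=
          Subgroup.card_eq_card_quotient_mul_card_subgroup _
        rw [Nat.card_congr (Subgroup.subgroupOfEquivOfLe hEmB).toEquiv] at h1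
        have h2 : Nat.card (↥B ⧸ Em.subgroupOf B) ≤ p := by
          have h3 : Nat.card (↥B ⧸ Em.subgroupOf B) * Nat.card Em ≤ p * Nat.card Em := by
            rw [← h1, mul_comm p]; exact hBcard
          exact Nat.le_of_mul_le_mul_right h3 Nat.card_pos
        have hq : IsPGroup p (↥B ⧸ Em.subgroupOf B) := (hR.to_subgroup B).to_quotient _
        obtain ⟨k, hk⟩ := hq.exists_card_eq
        rw [hk] at h2 ⊢
        have hk1 : k ≤ 1 := by
          by_contra h
          have h4 : p ^ 2 ≤ p ^ k := Nat.pow_le_pow_right hpp.pos (by omega)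
          nlinarith [hpp.one_lt]
        exact pow_dvd_pow p hk1 |>.trans (by rw [pow_one])
      have hcyc : IsCyclic (↥B ⧸ Em.subgroupOf B) := isCyclic_of_card_dvd_prime hcq
      intro u hu v hv
      have hker : (QuotientGroup.mk' (Em.subgroupOf B)).ker ≤ Subgroup.center ↥B := by
        rw [QuotientGroup.ker_mk']
        intro e he
        rw [Subgroup.mem_center_iff]
        intro b
        apply Subtype.ext
        simp only [Subgroup.coe_mul]
        exact (Subgroup.mem_centralizer_iff.mp (hBlev b b.2).1 e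
          (Subgroup.mem_subgroupOf.mp he)).symm
      have := (MonoidHom.isMulCommutative_of_isCyclic_of_ker_le_center
        (QuotientGroup.mk' (Em.subgroupOf B)) hker).is_comm.comm ⟨u, hu⟩ ⟨v, hv⟩
      exact congrArg Subtype.val this
    have hBle := hEmmax (y := B) ⟨hWEm.trans hEmB, hBinv, hBab, hBexp⟩ hEmB
    exact hBle ((hB x).mpr ⟨hx, hxp⟩)
  have hΩ := omega_centralizer_le_of_level_one p hp hR Em hEmab hEmexp hP1
  -- the chain
  obtain ⟨n, hn⟩ := (hR.isNilpotent).nilpotent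
  refine ⟨fun i => Em ⊓ Subgroup.upperCentralSeries R i, n, ?_, ?_, ?_, ?_, ?_, ?_, ?_⟩
  · show Em ⊓ Subgroup.upperCentralSeries R 0 = ⊥
    rw [Subgroup.upperCentralSeries_zero, inf_bot_eq]
  · intro i
    exact inf_le_inf_left _ (Subgroup.upperCentralSeries_mono _ (Nat.le_succ i))
  · intro i
    show Nat.card (Em ⊓ Subgroup.upperCentralSeries R (i + 1) : Subgroup R)
      ≤ p * Nat.card (Em ⊓ Subgroup.upperCentralSeries R i : Subgroup R)
    have h1 := card_le_mul_card_centralizer (Em ⊓ Subgroup.upperCentralSeries R (i + 1))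
      (Em ⊓ Subgroup.upperCentralSeries R i) r₀ (fun y hy => by
        refine ⟨?_, ?_⟩
        · have := hEmn.conj_mem y hy.1 r₀
          exact Em.mul_mem this (Em.inv_mem hy.1)
        · have h2 := Subgroup.mem_upperCentralSeries_succ_iff.mp hy.2 r₀
          rw [commutatorElement_def] at h2
          have h3 : r₀ * y * r₀⁻¹ * y⁻¹ = (y * r₀ * y⁻¹ * r₀⁻¹)⁻¹ := by group
          rw [h3]
          exact Subgroup.inv_mem _ h2) (fun z hz y hy => hEmab z hz.1 y hy.1)
    have h2 : ((Em ⊓ Subgroup.upperCentralSeries R (i + 1)) ⊓ Subgroup.centralizer {r₀} :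
        Subgroup R) ≤ Z := by
      intro y hy
      have hyr : y * r₀ = r₀ * y := by
        have : y ∈ Subgroup.centralizer {r₀} := hy.2
        rw [Subgroup.mem_centralizer_singleton_iff] at this
        exact this
      exact hK y (hEmexp y hy.1.1) hyr (hEmT y hy.1.1)
    calc _ ≤ Nat.card (Em ⊓ Subgroup.upperCentralSeries R i : Subgroup R) *
          Nat.card ((Em ⊓ Subgroup.upperCentralSeries R (i + 1)) ⊓ Subgroup.centralizer {r₀} :
            Subgroup R) := h1
      _ ≤ Nat.card (Em ⊓ Subgroup.upperCentralSeries R i : Subgroup R) * Nat.card Z :=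
          Nat.mul_le_mul_left _ (Subgroup.card_le_of_le h2)
      _ = p * Nat.card (Em ⊓ Subgroup.upperCentralSeries R i : Subgroup R) := by
          rw [hZcard, mul_comm]
  · intro α i x hx
    refine ⟨hEminv α x hx.1, ?_⟩
    have h1 : (Subgroup.upperCentralSeries R i).Characteristic := inferInstance
    exact Subgroup.characteristic_iff_le_comap.mp h1 α hx.2
  · intro x hx y hy
    exact hEmab x hx.1 y hy.1
  · intro x hx
    exact hEmexp x hx.1
  · intro x hxE hxp
    show x ∈ Em ⊓ Subgroup.upperCentralSeries R n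
    rw [hn]
    refine ⟨hΩ x ?_ hxp, Subgroup.mem_top _⟩
    rw [Subgroup.mem_centralizer_iff]
    intro e he
    exact (hxE e ⟨he, by rw [hn]; exact Subgroup.mem_top _⟩).symm

end Cfsg.Agent.Lib.helper30
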