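import Mathlib
import Cfsg.Agent.Lib.helper30.NarrowChain
import Cfsg.Agent.Lib.helper30.SectionAction2
import Cfsg.Agent.Lib.helper26.OddAut
import Cfsg.Agent.S1443

/-!
# Automorphisms of narrow `p`-groups of rank at least three (B-G 5.5, (a) and (b))

* `narrow_chain_grp` : the characteristic chain of `narrow_chain` for a `p`-subgroup `R` of a
  group `G`, invariant under `N_G(R)`, with the Thompson property.
* `narrow_aut` : for `A ≤ N_G(R)`, the `p'`-elements of `A'` centralize `R`, and `a ^ (p - 1)`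
  centralizes `R` for every `p'`-element `a` of `A`.
-/

set_option autoImplicit false

namespace Cfsg.Agent.Lib.helper30

open scoped commutatorElement

universe u

/-- Automorphisms of a group of order dividing a prime `p` commute and have order dividing
`p - 1`. -/
theorem mulAut_of_card_dvd_prime {V : Type*} [Group V] (p : ℕ) [Fact p.Prime]
    (h : Nat.card V ∣ p) :
    (∀ σ τ : MulAut V, σ * τ = τ * σ) ∧ (∀ σ : MulAut V, σ ^ (p - 1) = 1) := by
  have hpp : p.Prime := Fact.out
  have hfin : Finite V := by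
    apply Nat.finite_of_card_ne_zero
    intro h0
    rw [h0] at h
    exact hpp.ne_zero (Nat.eq_zero_of_zero_dvd h)
  have hcyc : IsCyclic V := isCyclic_of_card_dvd_prime h
  refine ⟨?_, ?_⟩
  · intro σ τ
    apply (IsCyclic.mulAutMulEquiv V).injective
    rw [map_mul, map_mul, mul_comm]
  · intro σ
    have h1 : Nat.card (MulAut V) = Nat.totient (Nat.card V) := IsCyclic.card_mulAut V
    have h2 : Nat.card (MulAut V) ∣ p - 1 := by
      rw [h1]
      rcases (Nat.dvd_prime hpp).mp h with h3 | h3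
      · rw [h3, Nat.totient_one]; exact one_dvd _
      · rw [h3, Nat.totient_prime hpp]
    obtain ⟨m, hm⟩ := h2
    have hfinA : Finite (MulAut V) := Nat.finite_of_card_ne_zero (by
      rw [h1]
      rcases (Nat.dvd_prime hpp).mp h with h3 | h3
      · rw [h3, Nat.totient_one]; exact one_ne_zero
      · rw [h3, Nat.totient_prime hpp]
        have := hpp.one_lt
        omega)
    rw [hm, pow_mul, pow_card_eq_one', one_pow]

/-- The characteristic chain of a narrow `p`-subgroup of rank at least three. -/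
theorem narrow_chain_grp {G : Type*} [Group G] [Finite G] (p : ℕ) [Fact p.Prime] (hp : p ≠ 2)
    (R : Subgroup G) (hR : IsPGroup p R) (hr : ¬ Cfsg.PRankLE p 2 R) (hn : Cfsg.IsNarrow p R) :
    ∃ (F : ℕ → Subgroup G) (n : ℕ), F 0 = ⊥ ∧ (∀ i, F i ≤ F (i + 1)) ∧ (∀ i, F i ≤ R) ∧
      (∀ i, Nat.card (F (i + 1)) ≤ p * Nat.card (F i)) ∧
      (∀ i, Subgroup.normalizer (R : Set G) ≤ Subgroup.normalizer (F i : Set G)) ∧
      (∀ a ∈ Subgroup.normalizer (R : Set G), (orderOf a).Coprime p →
        (∀ e ∈ F n, a * e = e * a) → ∀ r ∈ R, a * r = r * a) := by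
  obtain ⟨F', n, hF0, hFmono, hFcard, hFinv, hFab, hFexp, hFΩ⟩ := narrow_chain p hp hR hr hn
  refine ⟨fun i => (F' i).map R.subtype, n, ?_, ?_, ?_, ?_, ?_, ?_⟩
  · show (F' 0).map R.subtype = ⊥
    rw [hF0, Subgroup.map_bot]
  · intro i
    exact Subgroup.map_mono (hFmono i)
  · intro i
    exact Subgroup.map_subtype_le _
  · intro i
    show Nat.card ((F' (i + 1)).map R.subtype) ≤ p * Nat.card ((F' i).map R.subtype)
    rw [Subgroup.card_subtype, Subgroup.card_subtype]
    exact hFcard i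
  · intro i a ha
    apply mem_normalizer_of_conj
    · rintro _ ⟨y, hy, rfl⟩
      exact ⟨conjAut R a ha y, hFinv (conjAut R a ha) i y hy, rfl⟩
    · rintro _ ⟨y, hy, rfl⟩
      have ha' : a⁻¹ ∈ Subgroup.normalizer (R : Set G) := Subgroup.inv_mem _ ha
      refine ⟨conjAut R a⁻¹ ha' y, hFinv (conjAut R a⁻¹ ha') i y hy, ?_⟩
      show R.subtype (conjAut R a⁻¹ ha' y) = a⁻¹ * R.subtype y * a
      simp [conjAut_apply]
  · intro a haR hcop hae
    refine Cfsg.Agent.S1443.main p hp a hcop (Nat.card R) R ((F' n).map R.subtype) rfl hR haR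
      (Subgroup.map_subtype_le _) ?_ ?_ ?_
    · rintro _ ⟨x, hx, rfl⟩ _ ⟨y, hy, rfl⟩
      have := hFab x hx y hy
      exact congrArg Subtype.val this
    · rintro _ ⟨x, hx, rfl⟩
      have := hFexp x hx
      exact congrArg Subtype.val this
    · intro x hx hxp
      apply hae
      refine ⟨⟨x, hx.1⟩, ?_, rfl⟩
      apply hFΩ
      · intro e he
        apply Subtype.ext
        have h1 : x ∈ Subgroup.centralizer (((F' n).map R.subtype : Subgroup G) : Set G) := hx.2
        exact (Subgroup.mem_centralizer_iff.mp h1 (e : G) ⟨e, he, rfl⟩).symm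
      · apply Subtype.ext
        exact hxp

/-- **B-G Theorem 5.5 (a), (b), core.**  Let `R` be a narrow `p`-subgroup of rank at least three,
`p` odd, and `A ≤ N_G(R)`.  Then every `p'`-element of `A'` centralizes `R`, and for every
`p'`-element `a` of `A` the power `a ^ (p - 1)` centralizes `R`. -/
theorem narrow_aut {G : Type u} [Group G] [Finite G] (p : ℕ) [Fact p.Prime] (hp : p ≠ 2)
    (R : Subgroup G) (hR : IsPGroup p R) (hr : ¬ Cfsg.PRankLE p 2 R) (hn : Cfsg.IsNarrow p R)
    (A : Subgroup G) (hA : A ≤ Subgroup.normalizer (R : Set G)) :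
    (∀ c ∈ ⁅A, A⁆, (orderOf c).Coprime p → ∀ r ∈ R, c * r = r * c) ∧
      (∀ a ∈ A, (orderOf a).Coprime p → ∀ r ∈ R, a ^ (p - 1) * r = r * a ^ (p - 1)) := by
  have hpp : p.Prime := Fact.out
  obtain ⟨F, n, hF0, hFmono, hFR, hFcard, hFnorm, hFthom⟩ := narrow_chain_grp p hp R hR hr hn
  -- elements acting trivially on all factors and of `p'`-order centralize `R`
  have hstab : ∀ a ∈ Subgroup.normalizer (R : Set G), (orderOf a).Coprime p →
      (∀ i, ∀ u ∈ F (i + 1), a * u * a⁻¹ * u⁻¹ ∈ F i) → ∀ r ∈ R, a * r = r * a := by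
    intro a haR hcop hT
    have hcent : ∀ i, a ∈ Subgroup.centralizer (F i : Set G) := by
      intro i
      induction i with
      | zero =>
        rw [hF0, Subgroup.mem_centralizer_iff]
        intro e he
        have he' : e ∈ (⊥ : Subgroup G) := he
        rw [Subgroup.mem_bot] at he'
        rw [he']; simp
      | succ i ih =>
        exact Cfsg.Agent.Lib.helper26.mem_centralizer_of_stabilizes (F (i + 1)) (F i)
          (hR.to_le (hFR (i + 1))) (hFmono i) a ih (hT i) hcop
    apply hFthom a haR hcop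
    intro e he
    exact (Subgroup.mem_centralizer_iff.mp (hcent n) e he).symm
  -- the section actions
  have hsec : ∀ i, ∃ (V : Type u) (_ : Group V) (ρ : A →* MulAut V), Nat.card V ∣ p ∧
      ∀ a : A, ρ a = 1 ↔ ∀ u ∈ F (i + 1), (a : G) * u * (a : G)⁻¹ * u⁻¹ ∈ F i := by
    intro i
    have hUW : F (i + 1) ≤ Subgroup.normalizer (F i : Set G) :=
      (hFR (i + 1)).trans (Subgroup.le_normalizer.trans (hFnorm i))
    obtain ⟨V, hV, ρ, hcard, hρ⟩ := exists_section_action (F (i + 1)) (F i) A (hFmono i) hUW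
      (hA.trans (hFnorm (i + 1))) (hA.trans (hFnorm i))
    refine ⟨V, hV, ρ, ?_, hρ⟩
    rw [hcard]
    have h1 : Nat.card ((F i).subgroupOf (F (i + 1))) * (F i).relIndex (F (i + 1))
        = Nat.card (F (i + 1)) := Subgroup.card_mul_index _
    rw [Nat.card_congr (Subgroup.subgroupOfEquivOfLe (hFmono i)).toEquiv] at h1
    have h2 : (F i).relIndex (F (i + 1)) ≤ p := by
      have h3 : Nat.card (F i) * (F i).relIndex (F (i + 1)) ≤ Nat.card (F i) * p := by
        rw [h1, mul_comm]; exact hFcard i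
      exact Nat.le_of_mul_le_mul_left h3 Nat.card_pos
    have hp1 : IsPGroup p (F (i + 1)) := hR.to_le (hFR (i + 1))
    obtain ⟨k, hk⟩ := hp1.exists_card_eq
    have h4 : (F i).relIndex (F (i + 1)) ∣ p ^ k := by
      rw [← hk, ← h1]; exact dvd_mul_left _ _
    obtain ⟨j, -, hj⟩ := (Nat.dvd_prime_pow hpp).mp h4
    rw [hj] at h2 ⊢
    have hj1 : j ≤ 1 := by
      by_contra h
      have h5 : p ^ 2 ≤ p ^ j := Nat.pow_le_pow_right hpp.pos (by omega)
      nlinarith [hpp.one_lt]
    exact (pow_dvd_pow p hj1).trans (by rw [pow_one])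
  refine ⟨?_, ?_⟩
  · intro c hc hcop
    have hcA : c ∈ A := Subgroup.commutator_le_self A hc
    apply hstab c (hA hcA) hcop
    intro i
    obtain ⟨V, hV, ρ, hcard, hρ⟩ := hsec i
    obtain ⟨hcomm, -⟩ := mulAut_of_card_dvd_prime p hcard
    have hle : ⁅A, A⁆ ≤ ρ.ker.map A.subtype := by
      rw [Subgroup.commutator_le]
      intro g₁ hg₁ g₂ hg₂
      refine ⟨⁅(⟨g₁, hg₁⟩ : A), ⟨g₂, hg₂⟩⁆, ?_, rfl⟩
      show ⁅(⟨g₁, hg₁⟩ : A), ⟨g₂, hg₂⟩⁆ ∈ ρ.ker
      rw [MonoidHom.mem_ker, map_commutatorElement, commutatorElement_def,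
        hcomm (ρ ⟨g₁, hg₁⟩) (ρ ⟨g₂, hg₂⟩)]
      group
    obtain ⟨c', hc', hcc'⟩ := hle hc
    have h1 := (hρ c').mp (MonoidHom.mem_ker.mp hc')
    have hcc'' : (c' : G) = c := hcc'
    rw [hcc''] at h1
    exact h1
  · intro a ha hcop
    apply hstab (a ^ (p - 1)) (Subgroup.pow_mem _ (hA ha) _)
      (Nat.Coprime.coprime_dvd_left (orderOf_pow_dvd (p - 1)) hcop)
    intro i
    obtain ⟨V, hV, ρ, hcard, hρ⟩ := hsec i
    obtain ⟨-, hexp⟩ := mulAut_of_card_dvd_prime p hcard
    have h1 : ρ (⟨a, ha⟩ ^ (p - 1)) = 1 := by rw [map_pow, hexp]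
    have h2 := (hρ _).mp h1
    simpa using h2

end Cfsg.Agent.Lib.helper30
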