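import Mathlib
import Cfsg.Agent.S1443
import Cfsg.Agent.Lib.helper30.Critical
import Cfsg.Agent.Lib.helper30.RankTwo

set_option autoImplicit false

namespace Cfsg.Agent.Lib.helper30

universe u

/-- **Thompson.**  In a nilpotent group in which every element of order dividing the odd prime `p`
is central, every commutator `[g, x]` with `x ^ (p ^ 2) = 1` has order dividing `p`. -/
theorem pcentral_comm_pow {R : Type*} [Group R] [Group.IsNilpotent R] (p : ℕ) [Fact p.Prime]
    (hp : p ≠ 2) (hc : ∀ x : R, x ^ p = 1 → x ∈ Subgroup.center R) (x g : R)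
    (hx : x ^ (p ^ 2) = 1) : (g * x * g⁻¹ * x⁻¹) ^ p = 1 := by
  have hpp : p.Prime := Fact.out
  have hodd : 2 ∣ p - 1 := by
    obtain ⟨k, hk⟩ := hpp.odd_of_ne_two hp
    exact ⟨k, by omega⟩
  have key : ∀ i : ℕ, ∀ x : R, x ^ (p ^ 2) = 1 → ∀ w ∈ Subgroup.upperCentralSeries R i,
      (w * x * w⁻¹ * x⁻¹) ^ p = 1 := by
    intro i
    induction i with
    | zero =>
      intro x _ w hw
      rw [Subgroup.upperCentralSeries_zero, Subgroup.mem_bot] at hw
      rw [hw]
      simp
    | succ i ih =>
      intro x hx w hw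
      have hw' : w * x * w⁻¹ * x⁻¹ ∈ Subgroup.upperCentralSeries R i := by
        have := Subgroup.mem_upperCentralSeries_succ_iff.mp hw x
        rwa [commutatorElement_def] at this
      have hxi : (x⁻¹) ^ (p ^ 2) = 1 := by rw [inv_pow, hx, inv_one]
      have h1 := ih x⁻¹ hxi _ hw'
      rw [inv_inv] at h1
      -- the central commutator
      have hcp : ((w * x * w⁻¹ * x⁻¹) * x⁻¹ * (w * x * w⁻¹ * x⁻¹)⁻¹ * x)⁻¹ ^ p = 1 := by
        rw [inv_pow, h1, inv_one]
      have hcc := hc _ hcp
      have hmul : x⁻¹ * (w * x * w⁻¹)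
          = ((w * x * w⁻¹ * x⁻¹) * x⁻¹ * (w * x * w⁻¹ * x⁻¹)⁻¹ * x)⁻¹ * ((w * x * w⁻¹) * x⁻¹) := by
        group
      have hpow := Cfsg.Agent.S1443.mul_pow_of_comm_central (w * x * w⁻¹) x⁻¹ _ hmul
        (Subgroup.mem_center_iff.mp hcc _).symm (Subgroup.mem_center_iff.mp hcc _).symm p
      have hxp : x ^ p ∈ Subgroup.center R := by
        apply hc
        rw [← pow_mul, ← sq]
        exact hx
      have h2 : (w * x * w⁻¹) ^ p = x ^ p := by
        rw [conj_pow]
        have := Subgroup.mem_center_iff.mp hxp w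
        rw [this]
        group
      have h3 : (((w * x * w⁻¹ * x⁻¹) * x⁻¹ * (w * x * w⁻¹ * x⁻¹)⁻¹ * x)⁻¹) ^ (p * (p - 1) / 2)
          = 1 := by
        rw [Nat.mul_div_assoc p hodd, pow_mul, hcp, one_pow]
      have h4 : w * x * w⁻¹ * x⁻¹ = (w * x * w⁻¹) * x⁻¹ := by group
      rw [h4, hpow, h2, h3, inv_pow]
      group
  obtain ⟨n, hn⟩ := (inferInstance : Group.IsNilpotent R).nilpotent
  exact key n x hx g (by rw [hn]; exact Subgroup.mem_top _)

/-- An automorphism of order prime to `p - 1` fixes every element of an invariant subgroup of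
order dividing `p`. -/
theorem aut_fix_of_card_dvd_prime {R : Type*} [Group R] (p : ℕ) [Fact p.Prime] (q : ℕ)
    (hq1 : q.Coprime (p - 1)) (α : MulAut R) (hα : α ^ q = 1) (L : Subgroup R)
    (hL : Nat.card L ∣ p) (hinv : ∀ x ∈ L, α x ∈ L) : ∀ x ∈ L, α x = x := by
  have hpp : p.Prime := Fact.out
  intro x hx
  by_cases hx1 : x = 1
  · rw [hx1, map_one]
  have hfin : Finite L := by
    apply Nat.finite_of_card_ne_zero
    intro h0
    rw [h0] at hL
    exact hpp.ne_zero (Nat.eq_zero_of_zero_dvd hL)
  have hord : orderOf x = p := by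
    have h1 : orderOf (⟨x, hx⟩ : L) ∣ Nat.card L := orderOf_dvd_natCard _
    have h2 : orderOf (⟨x, hx⟩ : L) = orderOf x := Subgroup.orderOf_mk x hx
    rw [h2] at h1
    rcases (Nat.dvd_prime hpp).mp (h1.trans hL) with h | h
    · exact absurd (orderOf_eq_one_iff.mp h) hx1
    · exact h
  have hLz : L = Subgroup.zpowers x := by
    symm
    apply Subgroup.eq_of_le_of_card_ge ((Subgroup.zpowers_le).mpr hx)
    rw [Nat.card_zpowers, hord]
    exact Nat.le_of_dvd hpp.pos hL
  have hax : α x ∈ Subgroup.zpowers x := by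
    rw [← hLz]
    exact hinv x hx
  obtain ⟨k, hk⟩ := Subgroup.mem_zpowers_iff.mp hax
  have hpow : ∀ j : ℕ, (α ^ j) x = x ^ (k ^ j) := by
    intro j
    induction j with
    | zero => simp
    | succ j ih =>
      rw [pow_succ', MulAut.mul_apply, ih, map_zpow, ← hk, ← zpow_mul, pow_succ']
  have h1 : x ^ (k ^ q - 1) = 1 := by
    have := hpow q
    rw [hα, MulAut.one_apply] at this
    rw [zpow_sub, ← this, zpow_one, mul_inv_cancel]
  have h2 : (p : ℤ) ∣ k ^ q - 1 := by
    rw [← hord]
    exact orderOf_dvd_iff_zpow_eq_one.mpr h1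
  have h3 : ((k : ℤ) : ZMod p) ^ q = 1 := by
    have := (ZMod.intCast_eq_intCast_iff_dvd_sub 1 (k ^ q) p).mpr h2
    simpa using this.symm
  have hk0 : ((k : ℤ) : ZMod p) ≠ 0 := by
    intro h0
    have h4 : (p : ℤ) ∣ k := (ZMod.intCast_zmod_eq_zero_iff_dvd k p).mp h0
    rw [← hord] at h4
    have h5 : x ^ k = 1 := orderOf_dvd_iff_zpow_eq_one.mp h4
    rw [h5] at hk
    have : α x = α 1 := by rw [map_one, ← hk]
    exact hx1 (α.injective this)
  have h4 : ((k : ℤ) : ZMod p) ^ (p - 1) = 1 := ZMod.pow_card_sub_one_eq_one hk0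
  have h5 : ((k : ℤ) : ZMod p) ^ (Nat.gcd q (p - 1)) = 1 := pow_gcd_eq_one.mpr ⟨h3, h4⟩
  rw [Nat.Coprime] at hq1
  rw [hq1, pow_one] at h5
  have h6 : (p : ℤ) ∣ k - 1 := by
    have := (ZMod.intCast_eq_intCast_iff_dvd_sub 1 k p).mp (by simpa using h5.symm)
    exact this
  rw [← hord] at h6
  have h7 : x ^ (k - 1) = 1 := orderOf_dvd_iff_zpow_eq_one.mp h6
  rw [← hk]
  calc x ^ k = x ^ (k - 1) * x := by rw [zpow_sub_one]; group
    _ = x := by rw [h7, one_mul]

/-- **Quotient step for `p`-central groups.**  If `E` is a central subgroup of exponent `p`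
containing all elements of order dividing `p` of the `p`-group `R` (`p` odd), then the elements
of order dividing `p` of `R ⧸ E` form a central subgroup of order dividing `|E|`. -/
theorem pcentral_quotient {R : Type*} [Group R] [Finite R] (p : ℕ) [Fact p.Prime] (hp : p ≠ 2)
    (hR : IsPGroup p R) (E : Subgroup R) [E.Normal] (hEc : E ≤ Subgroup.center R)
    (hEp : ∀ x : R, x ^ p = 1 → x ∈ E) (hEexp : ∀ e ∈ E, e ^ p = 1) :
    ∃ Eb : Subgroup (R ⧸ E), Eb ≤ Subgroup.center (R ⧸ E) ∧ (∀ y : R ⧸ E, y ^ p = 1 → y ∈ Eb) ∧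
      (∀ y ∈ Eb, y ^ p = 1) ∧ Nat.card Eb ∣ Nat.card E := by
  have hpp : p.Prime := Fact.out
  have hodd : 2 ∣ p - 1 := by
    obtain ⟨k, hk⟩ := hpp.odd_of_ne_two hp
    exact ⟨k, by omega⟩
  have hnil : Group.IsNilpotent R := hR.isNilpotent
  have hcR : ∀ x : R, x ^ p = 1 → x ∈ Subgroup.center R := fun x hx => hEc (hEp x hx)
  have hcomm : ∀ x : R, x ^ p ∈ E → ∀ g : R, g * x * g⁻¹ * x⁻¹ ∈ E := by
    intro x hx g
    apply hEp
    apply pcentral_comm_pow p hp hcR x g
    rw [sq, pow_mul]
    exact hEexp _ hx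
  have hcen : ∀ y : R ⧸ E, y ^ p = 1 → y ∈ Subgroup.center (R ⧸ E) := by
    intro y hy
    induction y using QuotientGroup.induction_on with
    | H x =>
      have hx : x ^ p ∈ E := by
        rw [← QuotientGroup.mk_pow] at hy
        exact (QuotientGroup.eq_one_iff _).mp hy
      rw [Subgroup.mem_center_iff]
      intro z
      induction z using QuotientGroup.induction_on with
      | H g =>
        have h1 : g * x = (g * x * g⁻¹ * x⁻¹) * (x * g) := by group
        rw [← QuotientGroup.mk_mul, ← QuotientGroup.mk_mul, h1, QuotientGroup.mk_mul,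
          (QuotientGroup.eq_one_iff _).mpr (hcomm x hx g), one_mul]
  obtain ⟨Eb, hEb⟩ := exists_omega p hp (Subgroup.center (R ⧸ E)) (by
    intro x hx y hy z hz
    exact Subgroup.mem_center_iff.mp hz _)
  refine ⟨Eb, fun y hy => ((hEb y).mp hy).1, fun y hy => (hEb y).mpr ⟨hcen y hy, hy⟩,
    fun y hy => ((hEb y).mp hy).2, ?_⟩
  -- the cardinality
  have hXmem : ∀ x : R, x ∈ Eb.comap (QuotientGroup.mk' E) ↔ x ^ p ∈ E := by
    intro x
    rw [Subgroup.mem_comap, QuotientGroup.mk'_apply, hEb]
    constructor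
    · rintro ⟨-, h⟩
      rw [← QuotientGroup.mk_pow] at h
      exact (QuotientGroup.eq_one_iff _).mp h
    · intro h
      have h1 : (QuotientGroup.mk x : R ⧸ E) ^ p = 1 := by
        rw [← QuotientGroup.mk_pow]
        exact (QuotientGroup.eq_one_iff _).mpr h
      exact ⟨hcen _ h1, h1⟩
  have hEX : E ≤ Eb.comap (QuotientGroup.mk' E) := by
    intro e he
    rw [hXmem, hEexp e he]
    exact E.one_mem
  let π : ↥(Eb.comap (QuotientGroup.mk' E)) →* ↥E := MonoidHom.mk'
    (fun x => ⟨(x : R) ^ p, (hXmem x).mp x.2⟩) (by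
      intro x y
      apply Subtype.ext
      show ((x : R) * (y : R)) ^ p = (x : R) ^ p * (y : R) ^ p
      have hcE : (y : R) * (x : R) * (y : R)⁻¹ * (x : R)⁻¹ ∈ E := hcomm x ((hXmem x).mp x.2) y
      have hcc := hEc hcE
      have hmul : (y : R) * (x : R) = ((y : R) * (x : R) * (y : R)⁻¹ * (x : R)⁻¹) *
          ((x : R) * (y : R)) := by group
      rw [Cfsg.Agent.S1443.mul_pow_of_comm_central (x : R) (y : R) _ hmul
        (Subgroup.mem_center_iff.mp hcc _).symm (Subgroup.mem_center_iff.mp hcc _).symm p,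
        Nat.mul_div_assoc p hodd, pow_mul, hEexp _ hcE, one_pow, mul_one])
  have hker : π.ker = E.subgroupOf (Eb.comap (QuotientGroup.mk' E)) := by
    ext x
    rw [MonoidHom.mem_ker, Subgroup.mem_subgroupOf]
    constructor
    · intro h
      have h1 : ((π x : E) : R) = 1 := by rw [h]; rfl
      exact hEp _ h1
    · intro h
      apply Subtype.ext
      exact hEexp _ h
  have h1 : Nat.card π.ker * π.ker.index = Nat.card ↥(Eb.comap (QuotientGroup.mk' E)) :=
    Subgroup.card_mul_index _
  rw [Subgroup.index_ker, hker, Nat.card_congr (Subgroup.subgroupOfEquivOfLe hEX).toEquiv] at h1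
  have h2 : (Eb.comap (QuotientGroup.mk' E)).index = Eb.index :=
    Subgroup.index_comap_of_surjective _ (QuotientGroup.mk'_surjective E)
  have h3 : Nat.card ↥(Eb.comap (QuotientGroup.mk' E)) * (Eb.comap (QuotientGroup.mk' E)).index
      = Nat.card R := Subgroup.card_mul_index _
  have h4 : Nat.card Eb * Eb.index = Nat.card (R ⧸ E) := Subgroup.card_mul_index _
  have h5 : Nat.card R = Nat.card (R ⧸ E) * Nat.card E :=
    Subgroup.card_eq_card_quotient_mul_card_subgroup E
  have hidx : 0 < Eb.index := Nat.pos_of_ne_zero Subgroup.index_ne_zero_of_finite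
  have h6 : Nat.card Eb * Nat.card E = Nat.card E * Nat.card π.range := by
    rw [h1]
    apply Nat.eq_of_mul_eq_mul_right hidx
    rw [← h2, h3, h5, ← h4, h2]
    ring
  have h7 : Nat.card Eb = Nat.card π.range := by
    apply Nat.eq_of_mul_eq_mul_left (Nat.card_pos (α := E))
    rw [← h6, mul_comm]
  rw [h7]
  exact Subgroup.card_subgroup_dvd_card _

/-- A central subgroup is normal. -/
theorem normal_of_le_center' {R : Type*} [Group R] (E : Subgroup R)
    (hEc : E ≤ Subgroup.center R) : E.Normal := by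
  constructor
  intro n hn g
  have h1 := Subgroup.mem_center_iff.mp (hEc hn) g
  have h2 : g * n * g⁻¹ = n := by rw [h1]; group
  rw [h2]
  exact hn

/-- A nontrivial `p`-group has an element of order dividing `p` other than `1`. -/
theorem exists_pow_prime_eq_one {R : Type*} [Group R] (p : ℕ) [Fact p.Prime]
    (hR : IsPGroup p R) (x : R) (hx : x ≠ 1) : ∃ y : R, y ≠ 1 ∧ y ^ p = 1 := by
  have hpp : p.Prime := Fact.out
  obtain ⟨k, hk⟩ := IsPGroup.iff_orderOf.mp hR x
  have hk0 : k ≠ 0 := by
    intro h0
    rw [h0, pow_zero] at hk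
    exact hx (orderOf_eq_one_iff.mp hk)
  obtain ⟨j, rfl⟩ : ∃ j, k = j + 1 := ⟨k - 1, by omega⟩
  refine ⟨x ^ p ^ j, ?_, ?_⟩
  · intro h
    have h1 : orderOf x ∣ p ^ j := orderOf_dvd_of_pow_eq_one h
    rw [hk] at h1
    have h2 := Nat.le_of_dvd (pow_pos hpp.pos j) h1
    have h3 : p ^ j < p ^ (j + 1) := Nat.pow_lt_pow_right hpp.one_lt (Nat.lt_succ_self j)
    omega
  · rw [← pow_mul, ← pow_succ, ← hk]
    exact pow_orderOf_eq_one x

/-- The automorphism induced on a quotient by an invariant normal subgroup: powers. -/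
theorem congr_pow_mk {R : Type*} [Group R] (E : Subgroup R) [E.Normal] (α : MulAut R)
    (hmap : E.map (α : R →* R) = E) (k : ℕ) (x : R) :
    ((QuotientGroup.congr E E α hmap : MulAut (R ⧸ E)) ^ k) (QuotientGroup.mk x)
      = QuotientGroup.mk ((α ^ k) x) := by
  induction k with
  | zero => simp
  | succ k ih =>
    rw [pow_succ', MulAut.mul_apply, ih, pow_succ', MulAut.mul_apply]
    exact QuotientGroup.congr_mk E E α hmap _

/-- **Automorphisms of `p`-central groups with a unique subgroup of order `p`.**  Let `p` be odd,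
`R` a `p`-group all of whose elements of order dividing `p` lie in a central subgroup of order
dividing `p`.  Then an automorphism of order prime to `p (p - 1)` is trivial. -/
theorem aut_eq_one_of_pcentral (p : ℕ) [Fact p.Prime] (hp : p ≠ 2) (q : ℕ) (hq : q.Coprime p)
    (hq1 : q.Coprime (p - 1)) :
    ∀ (n : ℕ) (R : Type u) [Group R] [Finite R], Nat.card R = n → IsPGroup p R →
      ∀ E : Subgroup R, E ≤ Subgroup.center R → Nat.card E ∣ p → (∀ x : R, x ^ p = 1 → x ∈ E) →
      ∀ α : MulAut R, α ^ q = 1 → α = 1 := by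
  have hpp : p.Prime := Fact.out
  intro n
  induction n using Nat.strong_induction_on with
  | _ n ih =>
    intro R _ _ hn hR E hEc hEcard hEp α hα
    have hEexp : ∀ e ∈ E, e ^ p = 1 := by
      intro e he
      have h1 : (⟨e, he⟩ : E) ^ Nat.card E = 1 := pow_card_eq_one'
      obtain ⟨m, hm⟩ := hEcard
      have h2 : (⟨e, he⟩ : E) ^ p = 1 := by rw [hm, pow_mul, h1, one_pow]
      exact congrArg Subtype.val h2
    have hEn : E.Normal := normal_of_le_center' E hEc
    by_cases hR1 : ∀ x : R, x = 1
    · ext x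
      rw [hR1 x, map_one, MulAut.one_apply]
    · push Not at hR1
      obtain ⟨x0, hx0⟩ := hR1
      obtain ⟨y0, hy0, hy0p⟩ := exists_pow_prime_eq_one p hR x0 hx0
      have hE1 : 1 < Nat.card E := by
        have : Nontrivial E := ⟨⟨⟨y0, hEp y0 hy0p⟩, 1, fun h => hy0 (congrArg Subtype.val h)⟩⟩
        exact Finite.one_lt_card
      have hmap : E.map (α : R →* R) = E := by
        apply le_antisymm
        · rintro _ ⟨e, he, rfl⟩
          apply hEp
          show (α e) ^ p = 1
          rw [← map_pow, hEexp e he, map_one]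
        · intro e he
          refine ⟨α.symm e, ?_, by simp⟩
          apply hEp
          rw [← map_pow, hEexp e he, map_one]
      obtain ⟨Eb, hEbc, hEbp, -, hEbcard⟩ := pcentral_quotient p hp hR E hEc hEp hEexp
      have hcardQ : Nat.card (R ⧸ E) < n := by
        have h5 : Nat.card R = Nat.card (R ⧸ E) * Nat.card E :=
          Subgroup.card_eq_card_quotient_mul_card_subgroup E
        have hpos : 0 < Nat.card (R ⧸ E) := Nat.card_pos
        rw [← hn, h5]
        nlinarith
      have hαb : (QuotientGroup.congr E E α hmap : MulAut (R ⧸ E)) ^ q = 1 := by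
        ext y
        induction y using QuotientGroup.induction_on with
        | H x => rw [congr_pow_mk, hα]; rfl
      have h1 := ih _ hcardQ (R ⧸ E) rfl (hR.to_quotient E) Eb hEbc (hEbcard.trans hEcard) hEbp
        (QuotientGroup.congr E E α hmap) hαb
      have hδ : ∀ x : R, x⁻¹ * α x ∈ E := by
        intro x
        have h2 := congrArg (fun σ : MulAut (R ⧸ E) => σ (QuotientGroup.mk x)) h1
        simp only [MulAut.one_apply] at h2
        rw [QuotientGroup.congr_mk] at h2
        exact QuotientGroup.eq.mp h2.symm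
      have hfix : ∀ e ∈ E, α e = e :=
        aut_fix_of_card_dvd_prime p q hq1 α hα E hEcard (fun e he => by
          rw [← hmap]; exact ⟨e, he, rfl⟩)
      have hpow : ∀ (j : ℕ) (x : R), (α ^ j) x = x * (x⁻¹ * α x) ^ j := by
        intro j x
        induction j with
        | zero => simp
        | succ j ihj =>
          rw [pow_succ', MulAut.mul_apply, ihj, map_mul, map_pow, hfix _ (hδ x)]
          rw [pow_succ' (x⁻¹ * α x) j, ← mul_assoc x, mul_inv_cancel_left]
      ext x
      rw [MulAut.one_apply]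
      have h2 := hpow q x
      rw [hα, MulAut.one_apply] at h2
      have h3 : (x⁻¹ * α x) ^ q = 1 := by
        have : x * (x⁻¹ * α x) ^ q = x * 1 := by rw [← h2, mul_one]
        exact mul_left_cancel this
      have h4 : (x⁻¹ * α x) ^ p = 1 := hEexp _ (hδ x)
      have h5 : (x⁻¹ * α x) ^ (Nat.gcd q p) = 1 := pow_gcd_eq_one.mpr ⟨h3, h4⟩
      rw [Nat.Coprime] at hq
      rw [hq, pow_one] at h5
      calc α x = x * (x⁻¹ * α x) := by group
        _ = x := by rw [h5, mul_one]

/-- **`p`-central groups with a fixed-point-free automorphism.**  Let `p` be odd, `R` a `p`-group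
all of whose elements of order dividing `p` lie in a central subgroup `E` of exponent `p` and order
dividing `p ^ 2`, and `α` an automorphism of order prime to `p - 1` without nontrivial fixed
points on `E`.  Then `R` is abelian. -/
theorem comm_of_pcentral_sq (p : ℕ) [Fact p.Prime] (hp : p ≠ 2) (q : ℕ)
    (hq1 : q.Coprime (p - 1)) :
    ∀ (n : ℕ) (R : Type u) [Group R] [Finite R], Nat.card R = n → IsPGroup p R →
      ∀ E : Subgroup R, E ≤ Subgroup.center R → Nat.card E ∣ p ^ 2 →
      (∀ x : R, x ^ p = 1 → x ∈ E) → (∀ e ∈ E, e ^ p = 1) →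
      ∀ α : MulAut R, α ^ q = 1 → (∀ e ∈ E, α e = e → e = 1) → ∀ x y : R, x * y = y * x := by
  have hpp : p.Prime := Fact.out
  have hodd : 2 ∣ p - 1 := by
    obtain ⟨k, hk⟩ := hpp.odd_of_ne_two hp
    exact ⟨k, by omega⟩
  intro n
  induction n using Nat.strong_induction_on with
  | _ n ih =>
    intro R _ _ hn hR E hEc hEcard hEp hEexp α hα hfpf
    have hEn : E.Normal := normal_of_le_center' E hEc
    by_cases hR1 : ∀ x : R, x = 1
    · intro x y
      rw [hR1 x, hR1 y]
    push Not at hR1
    obtain ⟨x0, hx0⟩ := hR1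
    obtain ⟨y0, hy0, hy0p⟩ := exists_pow_prime_eq_one p hR x0 hx0
    have hE1 : 1 < Nat.card E := by
      have : Nontrivial E := ⟨⟨⟨y0, hEp y0 hy0p⟩, 1, fun h => hy0 (congrArg Subtype.val h)⟩⟩
      exact Finite.one_lt_card
    have hmap : E.map (α : R →* R) = E := by
      apply le_antisymm
      · rintro _ ⟨e, he, rfl⟩
        apply hEp
        show (α e) ^ p = 1
        rw [← map_pow, hEexp e he, map_one]
      · intro e he
        refine ⟨α.symm e, ?_, by simp⟩
        apply hEp
        rw [← map_pow, hEexp e he, map_one]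
    obtain ⟨Eb, hEbc, hEbp, hEbexp, hEbcard⟩ := pcentral_quotient p hp hR E hEc hEp hEexp
    have hcardQ : Nat.card (R ⧸ E) < n := by
      have h5 : Nat.card R = Nat.card (R ⧸ E) * Nat.card E :=
        Subgroup.card_eq_card_quotient_mul_card_subgroup E
      have hpos : 0 < Nat.card (R ⧸ E) := Nat.card_pos
      rw [← hn, h5]
      nlinarith
    have hαb : (QuotientGroup.congr E E α hmap : MulAut (R ⧸ E)) ^ q = 1 := by
      ext y
      induction y using QuotientGroup.induction_on with
      | H x => rw [congr_pow_mk, hα]; rfl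
    have hfpfb : ∀ y ∈ Eb, (QuotientGroup.congr E E α hmap : MulAut (R ⧸ E)) y = y → y = 1 := by
      intro y hy hfix
      induction y using QuotientGroup.induction_on with
      | H x =>
        have hxp : x ^ p ∈ E := by
          have := hEbexp _ hy
          rw [← QuotientGroup.mk_pow] at this
          exact (QuotientGroup.eq_one_iff _).mp this
        rw [QuotientGroup.congr_mk] at hfix
        have he : x⁻¹ * α x ∈ E := QuotientGroup.eq.mp hfix.symm
        have hcomm : Commute x (x⁻¹ * α x) := (Subgroup.mem_center_iff.mp (hEc he) x)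
        have h1 : α (x ^ p) = x ^ p := by
          have h2 : α x = x * (x⁻¹ * α x) := by group
          rw [map_pow, h2, hcomm.mul_pow, hEexp _ he, mul_one]
        have h3 : x ^ p = 1 := hfpf _ hxp h1
        exact (QuotientGroup.eq_one_iff _).mpr (hEp x h3)
    have hQ := ih _ hcardQ (R ⧸ E) rfl (hR.to_quotient E) Eb hEbc
      (hEbcard.trans hEcard) hEbp hEbexp (QuotientGroup.congr E E α hmap) hαb hfpfb
    have hcE : ∀ x y : R, x * y * x⁻¹ * y⁻¹ ∈ E := by
      intro x y
      rw [← QuotientGroup.eq_one_iff, QuotientGroup.mk_mul, QuotientGroup.mk_mul,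
        QuotientGroup.mk_mul, hQ (QuotientGroup.mk x) (QuotientGroup.mk y), QuotientGroup.mk_inv,
        QuotientGroup.mk_inv]
      group
    by_contra hne
    push Not at hne
    obtain ⟨x, y, hxy⟩ := hne
    obtain ⟨c, hcdef⟩ : ∃ c : R, c = x * y * x⁻¹ * y⁻¹ := ⟨_, rfl⟩
    have hxyc : x * y = c * (y * x) := by rw [hcdef]; group
    have hc1 : c ≠ 1 := by
      intro h
      apply hxy
      rw [hxyc, h, one_mul]
    have hcEc : c ∈ E := by rw [hcdef]; exact hcE x y
    have hcc : c ∈ Subgroup.center R := hEc hcEc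
    have hcp : c ^ p = 1 := hEexp _ hcEc
    -- the `p`-th power homomorphism
    let π : R →* R := MonoidHom.mk' (fun g => g ^ p) (by
      intro g h
      have hc' := hEc (hcE h g)
      have hmul : h * g = (h * g * h⁻¹ * g⁻¹) * (g * h) := by group
      rw [Cfsg.Agent.S1443.mul_pow_of_comm_central g h _ hmul
        (Subgroup.mem_center_iff.mp hc' _).symm (Subgroup.mem_center_iff.mp hc' _).symm p,
        Nat.mul_div_assoc p hodd, pow_mul, hEexp _ (hcE h g), one_pow, mul_one])
    have hπ : ∀ g : R, π g = g ^ p := fun g => rfl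
    have hNc : π.range ≤ Subgroup.center R := by
      rintro _ ⟨g, rfl⟩
      rw [hπ, Subgroup.mem_center_iff]
      intro h
      have h1 := Cfsg.Agent.S1443.comm_pow_of_comm g h
        (Subgroup.mem_center_iff.mp (hEc (hcE g h)) g).symm p
      rw [hEexp _ (hcE g h)] at h1
      calc h * g ^ p = (g ^ p * h * (g ^ p)⁻¹ * h⁻¹)⁻¹ * (g ^ p * h) := by group
        _ = g ^ p * h := by rw [h1, inv_one, one_mul]
    have hker : π.ker = E := by
      ext g
      rw [MonoidHom.mem_ker, hπ]
      exact ⟨fun h => hEp g h, fun h => hEexp g h⟩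
    have hcard1 : Nat.card E * Nat.card π.range = Nat.card R := by
      have h1 : Nat.card π.ker * π.ker.index = Nat.card R := Subgroup.card_mul_index _
      rwa [Subgroup.index_ker, hker] at h1
    -- `R` is generated by `x`, `y` and the `p`-th powers
    have hxN : x ∉ π.range := by
      intro h
      exact hxy (Subgroup.mem_center_iff.mp (hNc h) y).symm
    have hlt1 : π.range < π.range ⊔ Subgroup.zpowers x := by
      refine lt_of_le_of_ne le_sup_left ?_
      intro h
      apply hxN
      rw [h]
      exact le_sup_right (a := π.range) (Subgroup.mem_zpowers x)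
    have hH1 : π.range ⊔ Subgroup.zpowers x ≤ Subgroup.centralizer {x} := by
      apply sup_le
      · intro g hg
        rw [Subgroup.mem_centralizer_singleton_iff]
        exact (Subgroup.mem_center_iff.mp (hNc hg) x).symm
      · rw [Subgroup.zpowers_le, Subgroup.mem_centralizer_singleton_iff]
    have hyH1 : y ∉ π.range ⊔ Subgroup.zpowers x := by
      intro h
      have := hH1 h
      rw [Subgroup.mem_centralizer_singleton_iff] at this
      exact hxy this.symm
    have hlt2 : π.range ⊔ Subgroup.zpowers x < π.range ⊔ Subgroup.zpowers x ⊔ Subgroup.zpowers y := by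
      refine lt_of_le_of_ne le_sup_left ?_
      intro h
      apply hyH1
      rw [h]
      exact le_sup_right (a := π.range ⊔ Subgroup.zpowers x) (Subgroup.mem_zpowers y)
    have hc1' := pgroup_lt_card p _ _ (hR.to_subgroup _) hlt1
    have hc2' := pgroup_lt_card p _ _ (hR.to_subgroup _) hlt2
    have htop : π.range ⊔ Subgroup.zpowers x ⊔ Subgroup.zpowers y = ⊤ := by
      apply Subgroup.eq_top_of_le_card
      have hE2 : Nat.card E ≤ p ^ 2 := Nat.le_of_dvd (pow_pos hpp.pos 2) hEcard
      calc Nat.card R = Nat.card E * Nat.card π.range := hcard1.symm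
        _ ≤ p ^ 2 * Nat.card π.range := Nat.mul_le_mul_right _ hE2
        _ = p * (p * Nat.card π.range) := by ring
        _ ≤ p * Nat.card ↥(π.range ⊔ Subgroup.zpowers x) := Nat.mul_le_mul_left _ hc1'
        _ ≤ _ := hc2'
    -- modulo `⟨c⟩` the group is abelian
    have hzn : (Subgroup.zpowers c).Normal :=
      normal_of_le_center' _ ((Subgroup.zpowers_le).mpr hcc)
    have hfxy : (QuotientGroup.mk x : R ⧸ Subgroup.zpowers c) * QuotientGroup.mk y
        = QuotientGroup.mk y * QuotientGroup.mk x := by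
      rw [← QuotientGroup.mk_mul, ← QuotientGroup.mk_mul, hxyc, QuotientGroup.mk_mul,
        (QuotientGroup.eq_one_iff _).mpr (Subgroup.mem_zpowers c), one_mul]
    have hNq : ∀ g ∈ π.range, (QuotientGroup.mk' (Subgroup.zpowers c) g)
        ∈ Subgroup.center (R ⧸ Subgroup.zpowers c) := by
      intro g hg
      rw [Subgroup.mem_center_iff]
      intro z
      induction z using QuotientGroup.induction_on with
      | H h =>
        rw [QuotientGroup.mk'_apply, ← QuotientGroup.mk_mul, ← QuotientGroup.mk_mul,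
          Subgroup.mem_center_iff.mp (hNc hg) h]
    have hCx : (⊤ : Subgroup R) ≤ (Subgroup.centralizer
        {(QuotientGroup.mk x : R ⧸ Subgroup.zpowers c)}).comap
          (QuotientGroup.mk' (Subgroup.zpowers c)) := by
      rw [← htop]
      refine sup_le (sup_le ?_ ?_) ?_
      · intro g hg
        rw [Subgroup.mem_comap, Subgroup.mem_centralizer_singleton_iff]
        exact (Subgroup.mem_center_iff.mp (hNq g hg) _).symm
      · rw [Subgroup.zpowers_le, Subgroup.mem_comap, Subgroup.mem_centralizer_singleton_iff]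
        rfl
      · rw [Subgroup.zpowers_le, Subgroup.mem_comap, Subgroup.mem_centralizer_singleton_iff]
        exact hfxy.symm
    have hCy : (⊤ : Subgroup R) ≤ (Subgroup.centralizer
        {(QuotientGroup.mk y : R ⧸ Subgroup.zpowers c)}).comap
          (QuotientGroup.mk' (Subgroup.zpowers c)) := by
      rw [← htop]
      refine sup_le (sup_le ?_ ?_) ?_
      · intro g hg
        rw [Subgroup.mem_comap, Subgroup.mem_centralizer_singleton_iff]
        exact (Subgroup.mem_center_iff.mp (hNq g hg) _).symm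
      · rw [Subgroup.zpowers_le, Subgroup.mem_comap, Subgroup.mem_centralizer_singleton_iff]
        exact hfxy
      · rw [Subgroup.zpowers_le, Subgroup.mem_comap, Subgroup.mem_centralizer_singleton_iff]
        rfl
    have hZ : (⊤ : Subgroup R) ≤ (Subgroup.center (R ⧸ Subgroup.zpowers c)).comap
          (QuotientGroup.mk' (Subgroup.zpowers c)) := by
      rw [← htop]
      refine sup_le (sup_le ?_ ?_) ?_
      · intro g hg
        exact hNq g hg
      · rw [Subgroup.zpowers_le, Subgroup.mem_comap, Subgroup.mem_center_iff]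
        intro z
        induction z using QuotientGroup.induction_on with
        | H h =>
          have := hCx (Subgroup.mem_top h)
          rw [Subgroup.mem_comap, Subgroup.mem_centralizer_singleton_iff] at this
          exact this
      · rw [Subgroup.zpowers_le, Subgroup.mem_comap, Subgroup.mem_center_iff]
        intro z
        induction z using QuotientGroup.induction_on with
        | H h =>
          have := hCy (Subgroup.mem_top h)
          rw [Subgroup.mem_comap, Subgroup.mem_centralizer_singleton_iff] at this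
          exact this
    have hcomm : ∀ g h : R, g * h * g⁻¹ * h⁻¹ ∈ Subgroup.zpowers c := by
      intro g h
      have h1 := hZ (Subgroup.mem_top g)
      rw [Subgroup.mem_comap, Subgroup.mem_center_iff] at h1
      have h2 := h1 (QuotientGroup.mk h)
      rw [← QuotientGroup.eq_one_iff, QuotientGroup.mk_mul, QuotientGroup.mk_mul,
        QuotientGroup.mk_mul, QuotientGroup.mk_inv, QuotientGroup.mk_inv]
      rw [QuotientGroup.mk'_apply] at h2
      rw [← h2]
      group
    -- `α` fixes `c`
    have hαc : α c ∈ Subgroup.zpowers c := by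
      rw [hcdef, map_mul, map_mul, map_mul, map_inv, map_inv, ← hcdef]
      exact hcomm _ _
    have hLcard : Nat.card (Subgroup.zpowers c) ∣ p := by
      rw [Nat.card_zpowers]
      exact orderOf_dvd_of_pow_eq_one hcp
    have hLinv : ∀ z ∈ Subgroup.zpowers c, α z ∈ Subgroup.zpowers c := by
      intro z hz
      obtain ⟨k, rfl⟩ := Subgroup.mem_zpowers_iff.mp hz
      rw [map_zpow]
      exact Subgroup.zpow_mem _ hαc k
    have hfix := aut_fix_of_card_dvd_prime p q hq1 α hα _ hLcard hLinv _
      (Subgroup.mem_zpowers c)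
    exact hc1 (hfpf _ hcEc hfix)

end Cfsg.Agent.Lib.helper30
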