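import Mathlib
import Cfsg.Agent.Lib.helper30.RankTwoB
import Cfsg.Agent.Lib.helper30.QuadSection
import Cfsg.Agent.Lib.helper30.PCentral
import Cfsg.Agent.Lib.helper30.NarrowAut

/-!
# Automorphisms of prime order `q ∤ p (p - 1)` of `p`-groups of rank at most two (B-G 5.5 (c))

* `exists_small_section'` : `exists_small_section` exposing that `B` has class at most two.
* `mulAut_prime_order_dvd` : a nontrivial automorphism of prime order `q ∤ p (p - 1)` of a group
  of order dividing `p ^ 2` forces `q ∣ p + 1`, the group has order `p ^ 2` and the automorphism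
  has no nontrivial fixed points.
* `rank_two_prime_aut` : the structure theorem.
-/

set_option autoImplicit false

namespace Cfsg.Agent.Lib.helper30

open scoped commutatorElement

universe u

/-- `exists_small_section` with the additional information that `B` has class at most two. -/
theorem exists_small_section' {G : Type*} [Group G] [Finite G] (p : ℕ) [Fact p.Prime] (hp : p ≠ 2)
    (R : Subgroup G) (hR : IsPGroup p R) (hr : Cfsg.PRankLE p 2 R) :
    ∃ B : Subgroup G, B ≤ R ∧ Subgroup.normalizer (R : Set G) ≤ Subgroup.normalizer (B : Set G) ∧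
      (∀ b ∈ B, b ^ p = 1) ∧
      (∀ x ∈ B, ∀ y ∈ B, ∀ z ∈ B, (x * y * x⁻¹ * y⁻¹) * z = z * (x * y * x⁻¹ * y⁻¹)) ∧
      (⁅B, B⁆).relIndex B ∣ p ^ 2 ∧
      ∀ a ∈ Subgroup.normalizer (R : Set G), (orderOf a).Coprime p →
        (∀ u ∈ B, a * u * a⁻¹ * u⁻¹ ∈ ⁅B, B⁆) → ∀ r ∈ R, a * r = r * a := by
  obtain ⟨C, hCR, hCN, hCcl, hCcrit⟩ := exists_critical p R hR
  obtain ⟨B, hBmem⟩ := exists_omega p hp C hCcl
  have hBC : B ≤ C := fun x hx => ((hBmem x).mp hx).1
  have hBR : B ≤ R := hBC.trans hCR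
  have hBp : IsPGroup p B := hR.to_le hBR
  have hBcl : ∀ x ∈ B, ∀ y ∈ B, ∀ z ∈ B, (x * y * x⁻¹ * y⁻¹) * z = z * (x * y * x⁻¹ * y⁻¹) :=
    fun x hx y hy z hz => hCcl x (hBC hx) y (hBC hy) z (hBC hz)
  have hBN : Subgroup.normalizer (R : Set G) ≤ Subgroup.normalizer (B : Set G) := by
    intro n hn
    have hnC := hCN hn
    apply mem_normalizer_of_conj
    · intro x hx
      obtain ⟨hxC, hxp⟩ := (hBmem x).mp hx
      refine (hBmem _).mpr ⟨(Subgroup.mem_normalizer_iff.mp hnC x).mp hxC, ?_⟩
      rw [conj_pow, hxp]; group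
    · intro x hx
      obtain ⟨hxC, hxp⟩ := (hBmem x).mp hx
      refine (hBmem _).mpr ⟨(Subgroup.mem_normalizer_iff''.mp hnC x).mp hxC, ?_⟩
      have h1 : (n⁻¹ * x * n) ^ p = n⁻¹ * x ^ p * n := by
        have := conj_pow (i := p) (a := n⁻¹) (b := x)
        rwa [inv_inv] at this
      rw [h1, hxp]; group
  have hBexp : ∀ b ∈ B, b ^ p = 1 := fun b hb => ((hBmem b).mp hb).2
  have hrank : ∀ E : Subgroup G, E ≤ B → (∀ x ∈ E, ∀ y ∈ E, x * y = y * x) →
      Nat.card E ≤ p ^ 2 := by
    intro E hEB hEab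
    have hER : E ≤ R := hEB.trans hBR
    have h1 := hr (E.subgroupOf R) ?_ ?_
    · rwa [Nat.card_congr (Subgroup.subgroupOfEquivOfLe hER).toEquiv] at h1
    · rw [isMulCommutative_iff]
      intro u v
      apply Subtype.ext
      apply Subtype.ext
      exact hEab _ (Subgroup.mem_subgroupOf.mp u.2) _ (Subgroup.mem_subgroupOf.mp v.2)
    · intro u hu
      apply Subtype.ext
      rw [Subgroup.coe_pow]
      exact hBexp _ (hEB (Subgroup.mem_subgroupOf.mp hu))
  refine ⟨B, hBR, hBN, hBexp, hBcl, relIndex_commutator_dvd p B hBp hBcl hrank, ?_⟩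
  intro a haR hcop hact
  have haB := centralizes_of_trivial_on_frattini p B hBp hBcl a hcop hact
  have haC : ∀ x ∈ C, a * x = x * a := by
    refine Cfsg.Agent.S1443.main p hp a hcop (Nat.card C) C ⊥ rfl (hR.to_le hCR) (hCN haR) bot_le
      ?_ ?_ ?_
    · intro e he f hf
      rw [Subgroup.mem_bot] at he hf
      rw [he, hf]
    · intro e he
      rw [Subgroup.mem_bot] at he
      rw [he, one_pow]
    · intro x hx hxp
      exact haB x ((hBmem x).mpr ⟨hx.1, hxp⟩)
  exact hCcrit a haR hcop haC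

/-- A nontrivial automorphism of prime order `q ∤ p (p - 1)` of a group of order dividing `p ^ 2`:
then `q ∣ p + 1`, the group has order `p ^ 2` and there are no nontrivial fixed points. -/
theorem mulAut_prime_order_dvd (p q : ℕ) [Fact p.Prime] (hq : q.Prime) (hqp : ¬ q ∣ p)
    (hqp1 : ¬ q ∣ p - 1) {V : Type*} [Group V] [Finite V] (hcard : Nat.card V ∣ p ^ 2)
    (σ : MulAut V) (hσ : σ ^ q = 1) (hne : σ ≠ 1) :
    q ∣ p + 1 ∧ Nat.card V = p ^ 2 ∧ ∀ v : V, σ v = v → v = 1 := by
  have hpp : p.Prime := Fact.out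
  have : Fact q.Prime := ⟨hq⟩
  let F : Subgroup V :=
    { carrier := {v | σ v = v}
      one_mem' := map_one σ
      mul_mem' := by
        intro a b ha hb
        simp only [Set.mem_ofPred_eq] at *
        rw [map_mul, ha, hb]
      inv_mem' := by
        intro a ha
        simp only [Set.mem_ofPred_eq] at *
        rw [map_inv, ha] }
  have hFmem : ∀ v : V, v ∈ F ↔ σ v = v := fun v => Iff.rfl
  have hZ : IsPGroup q (Subgroup.zpowers σ) := by
    intro g
    refine ⟨1, ?_⟩
    obtain ⟨n, hn⟩ := Subgroup.mem_zpowers_iff.mp g.2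
    apply Subtype.ext
    rw [Subgroup.coe_pow, pow_one, ← hn, Subgroup.coe_one, ← zpow_natCast, ← zpow_mul, mul_comm,
      zpow_mul, zpow_natCast, hσ, one_zpow]
  have hmod := hZ.card_modEq_card_fixedPoints V
  have hfix : Nat.card (MulAction.fixedPoints (Subgroup.zpowers σ) V) = Nat.card F := by
    apply Nat.card_congr
    refine Equiv.subtypeEquivRight ?_
    intro v
    constructor
    · intro h
      exact h ⟨σ, Subgroup.mem_zpowers σ⟩
    · intro h τ
      have hle : Subgroup.zpowers σ ≤ MulAction.stabilizer (MulAut V) v := by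
        rw [Subgroup.zpowers_le]
        exact h
      exact hle τ.2
  rw [hfix] at hmod
  have hFV : Nat.card F ∣ Nat.card V := Subgroup.card_subgroup_dvd_card F
  obtain ⟨i, hi2, hi⟩ := (Nat.dvd_prime_pow hpp).mp hcard
  obtain ⟨j, hji, hj⟩ := (Nat.dvd_prime_pow hpp).mp (hi ▸ hFV)
  have hle : Nat.card F ≤ Nat.card V := Nat.le_of_dvd Nat.card_pos hFV
  have hdvd : q ∣ Nat.card V - Nat.card F := (Nat.modEq_iff_dvd' hle).mp hmod.symm
  have hp2 : 2 ≤ p := hpp.two_le
  -- `F ≠ V`
  have hFne : Nat.card F ≠ Nat.card V := by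
    intro heq
    apply hne
    have htop : F = ⊤ := Subgroup.eq_top_of_le_card F (by rw [heq])
    ext v
    have : v ∈ F := by rw [htop]; exact Subgroup.mem_top v
    exact this
  rw [hi, hj] at hdvd hFne
  have hlt : j < i := by
    rcases Nat.lt_or_ge j i with h | h
    · exact h
    · exact absurd (by rw [le_antisymm hji h]) hFne
  obtain ⟨m, rfl⟩ : ∃ m, p = m + 1 := ⟨p - 1, by omega⟩
  interval_cases i <;> interval_cases j
  · -- i = 1, j = 0
    exfalso
    apply hqp1
    simpa using hdvd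
  · -- i = 2, j = 0
    have h1 : (m + 1) ^ 2 - (m + 1) ^ 0 = m * (m + 1 + 1) := by
      have : (m + 1) ^ 2 = m * (m + 1 + 1) + 1 := by ring
      rw [this]; simp
    rw [h1] at hdvd
    have hq1 : q ∣ m + 1 + 1 := by
      rcases (Nat.Prime.dvd_mul hq).mp hdvd with h | h
      · exfalso; apply hqp1; simpa using h
      · exact h
    refine ⟨hq1, hi, ?_⟩
    intro v hv
    have hF1 : Nat.card F = 1 := by rw [hj, pow_zero]
    have hFbot : F = ⊥ := Subgroup.card_eq_one.mp hF1
    have : v ∈ F := hv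
    rw [hFbot, Subgroup.mem_bot] at this
    exact this
  · -- i = 2, j = 1
    exfalso
    have h1 : (m + 1) ^ 2 - (m + 1) ^ 1 = (m + 1) * m := by
      have : (m + 1) ^ 2 = (m + 1) * m + (m + 1) ^ 1 := by ring
      rw [this]; simp
    rw [h1] at hdvd
    rcases (Nat.Prime.dvd_mul hq).mp hdvd with h | h
    · exact hqp h
    · apply hqp1; simpa using h

/-- Powers of the conjugation automorphism. -/
theorem conjAut_pow_apply {G : Type*} [Group G] (U : Subgroup G) (a : G)
    (ha : a ∈ Subgroup.normalizer (U : Set G)) (k : ℕ) (u : U) :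
    (((conjAut U a ha) ^ k) u : G) = a ^ k * u * (a ^ k)⁻¹ := by
  induction k generalizing u with
  | zero => simp
  | succ k ih =>
    rw [pow_succ', MulAut.mul_apply, conjAut_apply, ih, pow_succ']
    group

/-- `|H| · |K : H| = |K|` for `H ≤ K`. -/
theorem card_mul_relIndex_of_le {G : Type*} [Group G] {H K : Subgroup G} (h : H ≤ K) :
    Nat.card H * H.relIndex K = Nat.card K := by
  have h1 : Nat.card (H.subgroupOf K) * (H.subgroupOf K).index = Nat.card K :=
    Subgroup.card_mul_index _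
  rwa [Nat.card_congr (Subgroup.subgroupOfEquivOfLe h).toEquiv] at h1

/-- An element of order prime to `p - 1` acts trivially on a section of order dividing `p`. -/
theorem section_trivial_of_card_dvd_prime {G : Type u} [Group G] (p : ℕ) [Fact p.Prime] (q : ℕ)
    (hq1 : q.Coprime (p - 1)) (U W : Subgroup G) (hWU : W ≤ U)
    (hUW : U ≤ Subgroup.normalizer (W : Set G)) (hidx : W.relIndex U ∣ p) (a : G)
    (haU : a ∈ Subgroup.normalizer (U : Set G)) (haW : a ∈ Subgroup.normalizer (W : Set G))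
    (haq : a ^ q = 1) : ∀ u ∈ U, a * u * a⁻¹ * u⁻¹ ∈ W := by
  have hzU : Subgroup.zpowers a ≤ Subgroup.normalizer (U : Set G) := by
    rw [Subgroup.zpowers_le]; exact haU
  have hzW : Subgroup.zpowers a ≤ Subgroup.normalizer (W : Set G) := by
    rw [Subgroup.zpowers_le]; exact haW
  obtain ⟨V, hV, ρ, hcardV, hρ⟩ := exists_section_action U W (Subgroup.zpowers a) hWU hUW hzU hzW
  have hcard : Nat.card V ∣ p := by rw [hcardV]; exact hidx
  obtain ⟨-, hexp⟩ := mulAut_of_card_dvd_prime p hcard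
  have h1 : (ρ ⟨a, Subgroup.mem_zpowers a⟩) ^ q = 1 := by
    rw [← map_pow]
    have : (⟨a, Subgroup.mem_zpowers a⟩ : Subgroup.zpowers a) ^ q = 1 := by
      apply Subtype.ext
      rw [Subgroup.coe_pow, Subgroup.coe_one]
      exact haq
    rw [this, map_one]
  have h2 : (ρ ⟨a, Subgroup.mem_zpowers a⟩) ^ (Nat.gcd q (p - 1)) = 1 :=
    pow_gcd_eq_one.mpr ⟨h1, hexp _⟩
  rw [Nat.Coprime] at hq1
  rw [hq1, pow_one] at h2
  exact (hρ ⟨a, Subgroup.mem_zpowers a⟩).mp h2

/-- **B-G Theorem 5.5 (c), core.**  Let `p` be odd, `R` a `p`-subgroup of rank at most two and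
`a ∈ N_G(R)` with `a ^ q = 1` for a prime `q ∤ p (p - 1)`, not centralizing `R`.  Then
`q ∣ p + 1`, and either `R` is abelian or there is a subgroup `B ≤ R` of order `p ^ 3` containing
all commutators `[a ^ k, r]`, `r ∈ R`. -/
theorem rank_two_prime_aut {G : Type u} [Group G] [Finite G] (p : ℕ) [Fact p.Prime] (hp : p ≠ 2)
    (R : Subgroup G) (hR : IsPGroup p R) (hr : Cfsg.PRankLE p 2 R) (a : G)
    (ha : a ∈ Subgroup.normalizer (R : Set G)) (q : ℕ) (hq : q.Prime) (haq : a ^ q = 1)
    (hqp : ¬ q ∣ p) (hqp1 : ¬ q ∣ p - 1) (hfaith : ¬ ∀ r ∈ R, a * r = r * a) :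
    q ∣ p + 1 ∧ ((∀ x ∈ R, ∀ y ∈ R, x * y = y * x) ∨
      ∃ B : Subgroup G, B ≤ R ∧ Nat.card B = p ^ 3 ∧
        ∀ k : ℕ, ∀ r ∈ R, a ^ k * r * (a ^ k)⁻¹ * r⁻¹ ∈ B) := by
  have hpp : p.Prime := Fact.out
  have hqc : q.Coprime p := (Nat.Prime.coprime_iff_not_dvd hq).mpr hqp
  have hq1 : q.Coprime (p - 1) := (Nat.Prime.coprime_iff_not_dvd hq).mpr hqp1
  have hcop : (orderOf a).Coprime p :=
    Nat.Coprime.coprime_dvd_left (orderOf_dvd_of_pow_eq_one haq) hqc
  obtain ⟨B, hBR, hBN, hBexp, hBcl, hBidx, hBcrit⟩ := exists_small_section' p hp R hR hr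
  have haB : a ∈ Subgroup.normalizer (B : Set G) := hBN ha
  have hNBB' : Subgroup.normalizer (B : Set G) ≤ Subgroup.normalizer ((⁅B, B⁆ : Subgroup G) : Set G) :=
    normalizer_le_normalizer_commutator B
  have haB' : a ∈ Subgroup.normalizer ((⁅B, B⁆ : Subgroup G) : Set G) := hNBB' haB
  have hB'B : ⁅B, B⁆ ≤ B := Subgroup.commutator_le_self B
  have hBB' : B ≤ Subgroup.normalizer ((⁅B, B⁆ : Subgroup G) : Set G) :=
    fun b hb => hNBB' (Subgroup.le_normalizer hb)
  have hRB : R ≤ Subgroup.normalizer (B : Set G) := Subgroup.le_normalizer.trans hBN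
  have hRB' : R ≤ Subgroup.normalizer ((⁅B, B⁆ : Subgroup G) : Set G) := hRB.trans hNBB'
  have hBp : IsPGroup p B := hR.to_le hBR
  -- the action on `B / B'`
  have hzB : Subgroup.zpowers a ≤ Subgroup.normalizer (B : Set G) := by
    rw [Subgroup.zpowers_le]; exact haB
  obtain ⟨V, hV, π, ρ, hπs, hπk, hρ⟩ := exists_section_action_pi B ⁅B, B⁆ (Subgroup.zpowers a)
    hB'B hBB' hzB (hzB.trans hNBB')
  have hfinV : Finite V := Finite.of_surjective π hπs
  have hcardV : Nat.card V = (⁅B, B⁆).relIndex B := by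
    have hker : π.ker = (⁅B, B⁆).subgroupOf B := by
      ext u
      rw [MonoidHom.mem_ker, hπk, Subgroup.mem_subgroupOf]
    have h1 := Subgroup.index_ker π
    rw [hker] at h1
    have h2 : π.range = ⊤ := MonoidHom.range_eq_top.mpr hπs
    rw [h2, Subgroup.card_top] at h1
    exact h1.symm
  have hσq : (ρ ⟨a, Subgroup.mem_zpowers a⟩) ^ q = 1 := by
    rw [← map_pow]
    have : (⟨a, Subgroup.mem_zpowers a⟩ : Subgroup.zpowers a) ^ q = 1 := by
      apply Subtype.ext
      rw [Subgroup.coe_pow, Subgroup.coe_one]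
      exact haq
    rw [this, map_one]
  have hconjB : ∀ u ∈ B, a * u * a⁻¹ ∈ B := fun u hu => (Subgroup.mem_normalizer_iff.mp haB u).mp hu
  have hσact : ∀ (u : G) (hu : u ∈ B), (ρ ⟨a, Subgroup.mem_zpowers a⟩) (π ⟨u, hu⟩)
      = π ⟨a * u * a⁻¹, hconjB u hu⟩ := fun u hu => hρ ⟨a, Subgroup.mem_zpowers a⟩ ⟨u, hu⟩ _
  have hπeq : ∀ (u : G) (hu : u ∈ B), a * u * a⁻¹ * u⁻¹ ∈ ⁅B, B⁆ →
      π ⟨a * u * a⁻¹, hconjB u hu⟩ = π ⟨u, hu⟩ := by
    intro u hu hc
    have h4 : (⟨a * u * a⁻¹, hconjB u hu⟩ : B) = ⟨a * u * a⁻¹ * u⁻¹, hB'B hc⟩ * ⟨u, hu⟩ := by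
      apply Subtype.ext
      simp
    rw [h4, map_mul, (hπk _).mpr hc, one_mul]
  have hσne : (ρ ⟨a, Subgroup.mem_zpowers a⟩) ≠ 1 := by
    intro h1
    apply hfaith
    apply hBcrit a ha hcop
    intro u hu
    have h2 := hσact u hu
    rw [h1, MulAut.one_apply] at h2
    have h3 : π (⟨a * u * a⁻¹, hconjB u hu⟩ * (⟨u, hu⟩ : B)⁻¹) = 1 := by
      rw [map_mul, map_inv, ← h2, mul_inv_cancel]
    have h4 := (hπk _).mp h3
    simpa using h4
  obtain ⟨hqdvd, hVcard, hfpf⟩ := mulAut_prime_order_dvd p q hq hqp hqp1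
    (by rw [hcardV]; exact hBidx) _ hσq hσne
  have hidx : (⁅B, B⁆).relIndex B = p ^ 2 := by rw [← hcardV]; exact hVcard
  have hFP : ∀ u ∈ B, a * u * a⁻¹ * u⁻¹ ∈ ⁅B, B⁆ → u ∈ ⁅B, B⁆ := by
    intro u hu hc
    have h2 := hσact u hu
    rw [hπeq u hu hc] at h2
    exact (hπk _).mp (hfpf _ h2)
  refine ⟨hqdvd, ?_⟩
  -- the rank bound
  have hrank : ∀ E : Subgroup G, E ≤ R → (∀ x ∈ E, ∀ y ∈ E, x * y = y * x) →
      (∀ x ∈ E, x ^ p = 1) → Nat.card E ≤ p ^ 2 := by
    intro E hER hEab hEexp
    have h1 := hr (E.subgroupOf R) ?_ ?_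
    · rwa [Nat.card_congr (Subgroup.subgroupOfEquivOfLe hER).toEquiv] at h1
    · rw [isMulCommutative_iff]
      intro u v
      apply Subtype.ext
      apply Subtype.ext
      exact hEab _ (Subgroup.mem_subgroupOf.mp u.2) _ (Subgroup.mem_subgroupOf.mp v.2)
    · intro u hu
      apply Subtype.ext
      rw [Subgroup.coe_pow]
      exact hEexp _ (Subgroup.mem_subgroupOf.mp hu)
  -- irreducibility of `B / B'`
  have hIrr : ∀ L : Subgroup G, ⁅B, B⁆ ≤ L → L ≤ B → a ∈ Subgroup.normalizer (L : Set G) →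
      L ≠ B → L ≤ ⁅B, B⁆ := by
    intro L hB'L hLB haL hne
    have h1 : (⁅B, B⁆).relIndex L * L.relIndex B = p ^ 2 := by
      rw [Subgroup.relIndex_mul_relIndex _ _ _ hB'L hLB, hidx]
    have h2 : L.relIndex B ≠ 1 := by
      intro h
      exact hne (le_antisymm hLB (Subgroup.relIndex_eq_one.mp h))
    have h3 : (⁅B, B⁆).relIndex L ∣ p := by
      obtain ⟨i, hi2, hi⟩ := (Nat.dvd_prime_pow hpp).mp
        (Dvd.intro _ h1 : (⁅B, B⁆).relIndex L ∣ p ^ 2)
      obtain ⟨j, hj2, hj⟩ := (Nat.dvd_prime_pow hpp).mp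
        (Dvd.intro_left _ h1 : L.relIndex B ∣ p ^ 2)
      rw [hi, hj, ← pow_add] at h1
      have hij : i + j = 2 := Nat.pow_right_injective hpp.two_le h1
      have hj0 : j ≠ 0 := by
        intro h0
        apply h2
        rw [hj, h0, pow_zero]
      rw [hi]
      exact (pow_dvd_pow p (by omega : i ≤ 1)).trans (by rw [pow_one])
    have h4 := section_trivial_of_card_dvd_prime p q hq1 L ⁅B, B⁆ hB'L (hLB.trans hBB') h3 a haL
      haB' haq
    intro u hu
    exact hFP u (hLB hu) (h4 u hu)
  have hnil : Group.IsNilpotent R := hR.isNilpotent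
  have hBn : (B.subgroupOf R).Normal := (Subgroup.normal_subgroupOf_iff_le_normalizer hBR).mpr hRB
  by_cases hB'bot : ⁅B, B⁆ = ⊥
  · -- `B` is abelian: then `R` is abelian
    left
    have hBab : ∀ x ∈ B, ∀ y ∈ B, x * y = y * x := by
      intro x hx y hy
      have h1 : ⁅x, y⁆ ∈ ⁅B, B⁆ := Subgroup.commutator_mem_commutator hx hy
      rw [hB'bot, Subgroup.mem_bot, commutatorElement_def] at h1
      calc x * y = (x * y * x⁻¹ * y⁻¹) * (y * x) := by group
        _ = y * x := by rw [h1, one_mul]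
    have hBcard : Nat.card B = p ^ 2 := by
      have := card_mul_relIndex_of_le hB'B
      rw [hidx, hB'bot, Subgroup.card_bot, one_mul] at this
      exact this.symm
    have hFP' : ∀ u ∈ B, a * u * a⁻¹ = u → u = 1 := by
      intro u hu h
      have h1 : a * u * a⁻¹ * u⁻¹ ∈ ⁅B, B⁆ := by
        rw [h, mul_inv_cancel]; exact Subgroup.one_mem _
      have := hFP u hu h1
      rwa [hB'bot, Subgroup.mem_bot] at this
    have hBZ : ∀ b ∈ B, ∀ r ∈ R, b * r = r * b := by
      have hL : B ⊓ Subgroup.centralizer (R : Set G) = B := by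
        by_contra hne
        have h1 := hIrr (B ⊓ Subgroup.centralizer (R : Set G)) (by rw [hB'bot]; exact bot_le)
          inf_le_left (Subgroup.inf_normalizer_le_normalizer_inf
            ⟨haB, normalizer_le_normalizer_centralizer R ha⟩) hne
        rw [hB'bot] at h1
        have hBnb : ¬ B.subgroupOf R ≤ ⊥ := by
          intro h
          have h2 : Nat.card (B.subgroupOf R) = p ^ 2 := by
            rw [Nat.card_congr (Subgroup.subgroupOfEquivOfLe hBR).toEquiv, hBcard]
          rw [le_bot_iff.mp h, Subgroup.card_bot] at h2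
          nlinarith [hpp.one_lt]
        obtain ⟨k, hkB, hk1, hkc⟩ := exists_central_mod (B.subgroupOf R) ⊥ hBnb
        have hkL : (k : G) ∈ B ⊓ Subgroup.centralizer (R : Set G) := by
          refine Subgroup.mem_inf.mpr ⟨Subgroup.mem_subgroupOf.mp hkB, ?_⟩
          rw [Subgroup.mem_centralizer_iff]
          intro r hr'
          have h3 := hkc ⟨r, hr'⟩
          rw [Subgroup.mem_bot] at h3
          have h4 : (k : G) * r * (k : G)⁻¹ * r⁻¹ = 1 := by
            have := congrArg Subtype.val h3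
            simpa using this
          calc r * (k : G) = ((k : G) * r * (k : G)⁻¹ * r⁻¹)⁻¹ * ((k : G) * r) := by group
            _ = (k : G) * r := by rw [h4]; simp
        have := h1 hkL
        rw [Subgroup.mem_bot] at this
        exact hk1 (by rw [Subgroup.mem_bot]; exact Subtype.ext this)
      intro b hb r hr'
      have : b ∈ B ⊓ Subgroup.centralizer (R : Set G) := by rw [hL]; exact hb
      exact (Subgroup.mem_centralizer_iff.mp this.2 r hr').symm
    have hΩ : ∀ x ∈ R, x ^ p = 1 → x ∈ B := by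
      intro x hx hxp
      have hcomm : ∀ s ∈ (B : Set G) ∪ {x}, ∀ t ∈ (B : Set G) ∪ {x}, s * t = t * s := by
        rintro s (hs | hs) t (ht | ht)
        · exact hBab s hs t ht
        · rw [Set.mem_singleton_iff] at ht
          subst ht
          exact hBZ s hs t hx
        · rw [Set.mem_singleton_iff] at hs
          subst hs
          exact (hBZ t ht s hx).symm
        · rw [Set.mem_singleton_iff] at hs ht
          subst hs
          subst ht
          rfl
      have hexp : ∀ s ∈ (B : Set G) ∪ {x}, s ^ p = 1 := by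
        rintro s (hs | hs)
        · exact hBexp s hs
        · rw [Set.mem_singleton_iff] at hs
          subst hs
          exact hxp
      have hle : Subgroup.closure ((B : Set G) ∪ {x}) ≤ R := by
        rw [Subgroup.closure_le]
        rintro s (hs | hs)
        · exact hBR hs
        · rw [Set.mem_singleton_iff] at hs
          subst hs
          exact hx
      have hc := hrank _ hle (closure_comm _ hcomm) (closure_exp_of_comm p _ hcomm hexp)
      have hBle : B ≤ Subgroup.closure ((B : Set G) ∪ {x}) :=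
        fun b hb => Subgroup.subset_closure (Or.inl hb)
      have := Subgroup.eq_of_le_of_card_ge hBle (by rw [hBcard]; exact hc)
      rw [this]
      exact Subgroup.subset_closure (Or.inr rfl)
    have key := comm_of_pcentral_sq p hp q hq1 (Nat.card R) (↥R) rfl hR (B.subgroupOf R) ?_ ?_ ?_ ?_
      (conjAut R a ha) ?_ ?_
    · intro x hx y hy
      exact congrArg Subtype.val (key ⟨x, hx⟩ ⟨y, hy⟩)
    · intro e he
      rw [Subgroup.mem_center_iff]
      intro r
      apply Subtype.ext
      simp only [Subgroup.coe_mul]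
      exact (hBZ e (Subgroup.mem_subgroupOf.mp he) r r.2).symm
    · rw [Nat.card_congr (Subgroup.subgroupOfEquivOfLe hBR).toEquiv, hBcard]
    · intro x hxp
      rw [Subgroup.mem_subgroupOf]
      apply hΩ x x.2
      have := congrArg Subtype.val hxp
      simpa using this
    · intro e he
      apply Subtype.ext
      simpa using hBexp e (Subgroup.mem_subgroupOf.mp he)
    · ext x
      rw [conjAut_pow_apply, haq]
      simp
    · intro e he hfix
      apply Subtype.ext
      have h1 := congrArg Subtype.val hfix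
      rw [conjAut_apply] at h1
      exact hFP' e (Subgroup.mem_subgroupOf.mp he) h1
  · -- `B` is extraspecial of order `p ^ 3`
    right
    have hB'cen : ∀ z ∈ ⁅B, B⁆, ∀ b ∈ B, z * b = b * z := by
      have h1 : ⁅B, B⁆ ≤ Subgroup.centralizer (B : Set G) := by
        rw [Subgroup.commutator_le]
        intro g₁ hg₁ g₂ hg₂
        rw [Subgroup.mem_centralizer_iff, commutatorElement_def]
        intro b hb
        exact (hBcl g₁ hg₁ g₂ hg₂ b hb).symm
      intro z hz b hb
      exact (Subgroup.mem_centralizer_iff.mp (h1 hz) b hb).symm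
    have hB'ab : ∀ z ∈ ⁅B, B⁆, ∀ w ∈ ⁅B, B⁆, z * w = w * z :=
      fun z hz w hw => hB'cen z hz w (hB'B hw)
    obtain ⟨e₁, he₁B, he₁B'⟩ : ∃ e₁ ∈ B, e₁ ∉ ⁅B, B⁆ := by
      by_contra h
      push Not at h
      have h1 := Subgroup.relIndex_eq_one.mpr (show B ≤ ⁅B, B⁆ from h)
      rw [hidx] at h1
      nlinarith [hpp.one_lt]
    -- `L₁ = ⟨B', e₁⟩`
    have hcomm₁ : ∀ s ∈ ((⁅B, B⁆ : Subgroup G) : Set G) ∪ {e₁},
        ∀ t ∈ ((⁅B, B⁆ : Subgroup G) : Set G) ∪ {e₁}, s * t = t * s := by
      rintro s (hs | hs) t (ht | ht)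
      · exact hB'ab s hs t ht
      · rw [Set.mem_singleton_iff] at ht
        subst ht
        exact hB'cen s hs t he₁B
      · rw [Set.mem_singleton_iff] at hs
        subst hs
        exact (hB'cen t ht s he₁B).symm
      · rw [Set.mem_singleton_iff] at hs ht
        subst hs
        subst ht
        rfl
    have hexp₁ : ∀ s ∈ ((⁅B, B⁆ : Subgroup G) : Set G) ∪ {e₁}, s ^ p = 1 := by
      rintro s (hs | hs)
      · exact hBexp s (hB'B hs)
      · rw [Set.mem_singleton_iff] at hs
        subst hs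
        exact hBexp s he₁B
    obtain ⟨L₁, hL₁⟩ : ∃ L₁ : Subgroup G,
        L₁ = Subgroup.closure (((⁅B, B⁆ : Subgroup G) : Set G) ∪ {e₁}) := ⟨_, rfl⟩
    have hL₁B : L₁ ≤ B := by
      rw [hL₁, Subgroup.closure_le]
      rintro s (hs | hs)
      · exact hB'B hs
      · rw [Set.mem_singleton_iff] at hs
        subst hs
        exact he₁B
    have hL₁ab : ∀ u ∈ L₁, ∀ v ∈ L₁, u * v = v * u := by
      rw [hL₁]; exact closure_comm _ hcomm₁
    have hL₁exp : ∀ u ∈ L₁, u ^ p = 1 := by
      rw [hL₁]; exact closure_exp_of_comm p _ hcomm₁ hexp₁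
    have hL₁card : Nat.card L₁ ≤ p ^ 2 := hrank L₁ (hL₁B.trans hBR) hL₁ab hL₁exp
    have hB'L₁ : ⁅B, B⁆ ≤ L₁ := by
      rw [hL₁]; exact fun z hz => Subgroup.subset_closure (Or.inl hz)
    have he₁L₁ : e₁ ∈ L₁ := by
      rw [hL₁]; exact Subgroup.subset_closure (Or.inr rfl)
    have hB'ltL₁ : ⁅B, B⁆ < L₁ := by
      refine lt_of_le_of_ne hB'L₁ ?_
      intro h
      apply he₁B'
      rw [h]
      exact he₁L₁
    have hlt1 := pgroup_lt_card p _ _ (hBp.to_le hL₁B) hB'ltL₁
    have hB'card : Nat.card (⁅B, B⁆ : Subgroup G) = p := by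
      have hle : Nat.card (⁅B, B⁆ : Subgroup G) ≤ p := by
        have h1 : p * Nat.card (⁅B, B⁆ : Subgroup G) ≤ p * p := by
          rw [← sq]; exact hlt1.trans hL₁card
        exact Nat.le_of_mul_le_mul_left h1 hpp.pos
      obtain ⟨k, hk⟩ := (hBp.to_le hB'B).exists_card_eq
      have hk0 : k ≠ 0 := by
        intro h0
        rw [h0, pow_zero] at hk
        exact hB'bot (Subgroup.card_eq_one.mp hk)
      rw [hk] at hle ⊢
      have hk1 : k ≤ 1 := by
        by_contra h
        have h5 : p ^ 2 ≤ p ^ k := Nat.pow_le_pow_right hpp.pos (by omega)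
        nlinarith [hpp.one_lt]
      have hk' : k = 1 := by omega
      rw [hk', pow_one]
    have hBcard : Nat.card B = p ^ 3 := by
      have := card_mul_relIndex_of_le hB'B
      rw [hidx, hB'card] at this
      rw [← this]; ring
    have hL₁card' : Nat.card L₁ = p ^ 2 := by
      apply le_antisymm hL₁card
      rw [hB'card] at hlt1
      calc p ^ 2 = p * p := by ring
        _ ≤ _ := hlt1
    -- `Z(B) ≤ B'`
    have hZB : B ⊓ Subgroup.centralizer (B : Set G) ≤ ⁅B, B⁆ := by
      apply hIrr _ ?_ inf_le_left (Subgroup.inf_normalizer_le_normalizer_inf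
        ⟨haB, normalizer_le_normalizer_centralizer B haB⟩) ?_
      · intro z hz
        exact Subgroup.mem_inf.mpr ⟨hB'B hz, Subgroup.mem_centralizer_iff.mpr
          (fun b hb => (hB'cen z hz b hb).symm)⟩
      · intro h
        apply hB'bot
        rw [Subgroup.commutator_eq_bot_iff_le_centralizer]
        exact inf_eq_left.mp h
    -- `B'` is central in `R`
    have hB'R : ∀ z ∈ ⁅B, B⁆, ∀ r ∈ R, z * r = r * z := by
      have hB'n : ((⁅B, B⁆ : Subgroup G).subgroupOf R).Normal :=
        (Subgroup.normal_subgroupOf_iff_le_normalizer (hB'B.trans hBR)).mpr hRB'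
      have hnb : ¬ (⁅B, B⁆ : Subgroup G).subgroupOf R ≤ ⊥ := by
        intro h
        have h2 : Nat.card ((⁅B, B⁆ : Subgroup G).subgroupOf R) = p := by
          rw [Nat.card_congr (Subgroup.subgroupOfEquivOfLe (hB'B.trans hBR)).toEquiv, hB'card]
        rw [le_bot_iff.mp h, Subgroup.card_bot] at h2
        exact hpp.one_lt.ne h2
      obtain ⟨k, hkB, hk1, hkc⟩ := exists_central_mod ((⁅B, B⁆ : Subgroup G).subgroupOf R) ⊥ hnb
      have hkB' : (k : G) ∈ ⁅B, B⁆ := Subgroup.mem_subgroupOf.mp hkB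
      have hkne : (k : G) ≠ 1 := fun h => hk1 (by rw [Subgroup.mem_bot]; exact Subtype.ext h)
      have hkcen : ∀ r ∈ R, (k : G) * r = r * (k : G) := by
        intro r hr'
        have h3 := hkc ⟨r, hr'⟩
        rw [Subgroup.mem_bot] at h3
        have h4 : (k : G) * r * (k : G)⁻¹ * r⁻¹ = 1 := by
          have := congrArg Subtype.val h3
          simpa using this
        calc (k : G) * r = ((k : G) * r * (k : G)⁻¹ * r⁻¹) * (r * (k : G)) := by group
          _ = r * (k : G) := by rw [h4, one_mul]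
      have hz : Subgroup.zpowers (k : G) = ⁅B, B⁆ := by
        apply Subgroup.eq_of_le_of_card_ge ((Subgroup.zpowers_le).mpr hkB')
        rw [Nat.card_zpowers, hB'card]
        have h5 : orderOf (k : G) ∣ p := orderOf_dvd_of_pow_eq_one (hBexp _ (hB'B hkB'))
        rcases (Nat.dvd_prime hpp).mp h5 with h | h
        · exact absurd (orderOf_eq_one_iff.mp h) hkne
        · rw [h]
      intro z hz' r hr'
      rw [← hz] at hz'
      obtain ⟨m, rfl⟩ := Subgroup.mem_zpowers_iff.mp hz'
      have hc : Commute (k : G) r := hkcen r hr'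
      exact (hc.zpow_left m).eq
    -- `[B, R] ≤ B'`
    have hBRB' : ∀ u ∈ B, ∀ r ∈ R, u * r * u⁻¹ * r⁻¹ ∈ ⁅B, B⁆ := by
      have hL : B ⊓ critSub R ⁅B, B⁆ = B := by
        by_contra hne
        have h1 := hIrr (B ⊓ critSub R ⁅B, B⁆) ?_ inf_le_left
          (Subgroup.inf_normalizer_le_normalizer_inf
            ⟨haB, critSub_normalizer R ⁅B, B⁆ a ha haB'⟩) hne
        · have hnb : ¬ B.subgroupOf R ≤ (⁅B, B⁆ : Subgroup G).subgroupOf R := by
            intro h
            apply he₁B'
            have := h (show (⟨e₁, hBR he₁B⟩ : R) ∈ B.subgroupOf R from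
              Subgroup.mem_subgroupOf.mpr he₁B)
            exact Subgroup.mem_subgroupOf.mp this
          obtain ⟨k, hkB, hk1, hkc⟩ := exists_central_mod (B.subgroupOf R)
            ((⁅B, B⁆ : Subgroup G).subgroupOf R) hnb
          apply hk1
          rw [Subgroup.mem_subgroupOf]
          apply h1
          refine Subgroup.mem_inf.mpr ⟨Subgroup.mem_subgroupOf.mp hkB, ?_⟩
          rw [mem_critSub]
          refine ⟨k.2, ?_, ?_⟩
          · rw [Subgroup.mem_centralizer_iff]
            intro z hz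
            exact hB'cen z hz _ (Subgroup.mem_subgroupOf.mp hkB)
          · intro r hr'
            have := hkc ⟨r, hr'⟩
            rw [Subgroup.mem_subgroupOf] at this
            simpa using this
        · intro z hz
          exact Subgroup.mem_inf.mpr
            ⟨hB'B hz, le_critSub R ⁅B, B⁆ (hB'B.trans hBR) hB'ab hRB' hz⟩
      intro u hu r hr'
      have h2 : u ∈ B ⊓ critSub R ⁅B, B⁆ := by rw [hL]; exact hu
      have h3 : u ∈ critSub R ⁅B, B⁆ := h2.2
      rw [mem_critSub] at h3
      exact h3.2.2 r hr'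
    -- a second generator
    obtain ⟨e₂, he₂B, he₂L₁⟩ : ∃ e₂ ∈ B, e₂ ∉ L₁ := by
      by_contra h
      push Not at h
      have h1 := Subgroup.card_le_of_le (show B ≤ L₁ from h)
      rw [hBcard, hL₁card'] at h1
      have h2 : p ^ 2 < p ^ 3 := Nat.pow_lt_pow_right hpp.one_lt (by norm_num)
      omega
    have hgen : Subgroup.closure ((L₁ : Set G) ∪ {e₂}) = B := by
      have hle : Subgroup.closure ((L₁ : Set G) ∪ {e₂}) ≤ B := by
        rw [Subgroup.closure_le]
        rintro s (hs | hs)
        · exact hL₁B hs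
        · rw [Set.mem_singleton_iff] at hs
          subst hs
          exact he₂B
      apply Subgroup.eq_of_le_of_card_ge hle
      have hlt : L₁ < Subgroup.closure ((L₁ : Set G) ∪ {e₂}) := by
        refine lt_of_le_of_ne (fun z hz => Subgroup.subset_closure (Or.inl hz)) ?_
        intro h
        apply he₂L₁
        rw [h]
        exact Subgroup.subset_closure (Or.inr rfl)
      have h1 := pgroup_lt_card p _ _ (hBp.to_le hle) hlt
      rw [hL₁card'] at h1
      rw [hBcard]
      calc p ^ 3 = p * p ^ 2 := by ring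
        _ ≤ _ := h1
    have hcentB : ∀ x : G, (∀ z ∈ ⁅B, B⁆, x * z = z * x) → x * e₁ = e₁ * x → x * e₂ = e₂ * x →
        x ∈ Subgroup.centralizer (B : Set G) := by
      intro x hxz hx1 hx2
      have h1 : ∀ u ∈ L₁, x * u = u * x := by
        rw [hL₁]
        apply commute_closure
        rintro s (hs | hs)
        · exact hxz s hs
        · rw [Set.mem_singleton_iff] at hs
          subst hs
          exact hx1
      have h2 : ∀ u ∈ Subgroup.closure ((L₁ : Set G) ∪ {e₂}), x * u = u * x := by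
        apply commute_closure
        rintro s (hs | hs)
        · exact h1 s hs
        · rw [Set.mem_singleton_iff] at hs
          subst hs
          exact hx2
      rw [Subgroup.mem_centralizer_iff]
      intro b hb
      rw [← hgen] at hb
      exact (h2 b hb).symm
    -- counting
    obtain ⟨D, hD⟩ : ∃ D : Subgroup G, D = R ⊓ Subgroup.centralizer (B : Set G) := ⟨_, rfl⟩
    have hDR : D ≤ R := by rw [hD]; exact inf_le_left
    have hDB : ∀ d ∈ D, ∀ b ∈ B, d * b = b * d := by
      intro d hd b hb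
      rw [hD] at hd
      exact (Subgroup.mem_centralizer_iff.mp hd.2 b hb).symm
    have hcount : Nat.card R ≤ p ^ 2 * Nat.card D := by
      have h1 := card_le_mul_card_centralizer R ⁅B, B⁆ e₁ (fun x hx => hBRB' e₁ he₁B x hx)
        (fun z hz x hx => hB'R z hz x hx)
      have h2 := card_le_mul_card_centralizer (R ⊓ Subgroup.centralizer {e₁}) ⁅B, B⁆ e₂
        (fun x hx => hBRB' e₂ he₂B x hx.1) (fun z hz x hx => hB'R z hz x hx.1)
      have h3 : (R ⊓ Subgroup.centralizer {e₁}) ⊓ Subgroup.centralizer {e₂} ≤ D := by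
        intro x hx
        rw [hD]
        refine Subgroup.mem_inf.mpr ⟨hx.1.1, hcentB x (fun z hz => (hB'R z hz x hx.1.1).symm) ?_ ?_⟩
        · have : x ∈ Subgroup.centralizer {e₁} := hx.1.2
          rw [Subgroup.mem_centralizer_singleton_iff] at this
          exact this
        · have : x ∈ Subgroup.centralizer {e₂} := hx.2
          rw [Subgroup.mem_centralizer_singleton_iff] at this
          exact this
      calc Nat.card R ≤ Nat.card (⁅B, B⁆ : Subgroup G) *
            Nat.card (R ⊓ Subgroup.centralizer {e₁} : Subgroup G) := h1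
        _ ≤ Nat.card (⁅B, B⁆ : Subgroup G) * (Nat.card (⁅B, B⁆ : Subgroup G) *
            Nat.card ((R ⊓ Subgroup.centralizer {e₁}) ⊓ Subgroup.centralizer {e₂} : Subgroup G)) :=
          Nat.mul_le_mul_left _ h2
        _ ≤ p * (p * Nat.card D) := by
          rw [hB'card]
          exact Nat.mul_le_mul_left _ (Nat.mul_le_mul_left _ (Subgroup.card_le_of_le h3))
        _ = p ^ 2 * Nat.card D := by ring
    -- `R = B D`
    have hBD : ∀ r ∈ R, ∃ b ∈ B, ∃ d ∈ D, r = b * d := by
      have hinf : B.subgroupOf R ⊓ D.subgroupOf R ≤ (⁅B, B⁆ : Subgroup G).subgroupOf R := by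
        intro x hx
        rw [Subgroup.mem_subgroupOf]
        apply hZB
        have hxB : (x : G) ∈ B := Subgroup.mem_subgroupOf.mp hx.1
        have hxD : (x : G) ∈ D := Subgroup.mem_subgroupOf.mp hx.2
        rw [hD] at hxD
        exact Subgroup.mem_inf.mpr ⟨hxB, hxD.2⟩
      have hc1 : Nat.card (B.subgroupOf R ⊓ D.subgroupOf R : Subgroup R) ≤ p := by
        have := Subgroup.card_le_of_le hinf
        rwa [Nat.card_congr (Subgroup.subgroupOfEquivOfLe (hB'B.trans hBR)).toEquiv, hB'card] at this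
      have hc2 : Nat.card (B.subgroupOf R ⊓ D.subgroupOf R : Subgroup R) *
          (B.subgroupOf R ⊓ D.subgroupOf R).relIndex (D.subgroupOf R) = Nat.card (D.subgroupOf R) :=
        card_mul_relIndex_of_le (H := B.subgroupOf R ⊓ D.subgroupOf R) (K := D.subgroupOf R)
          inf_le_right
      rw [Subgroup.inf_relIndex_right,
        Nat.card_congr (Subgroup.subgroupOfEquivOfLe hDR).toEquiv] at hc2
      have hc3 : Nat.card (B.subgroupOf R) *
          (B.subgroupOf R).relIndex (B.subgroupOf R ⊔ D.subgroupOf R)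
            = Nat.card (B.subgroupOf R ⊔ D.subgroupOf R : Subgroup R) :=
        card_mul_relIndex_of_le (H := B.subgroupOf R) (K := B.subgroupOf R ⊔ D.subgroupOf R)
          le_sup_left
      rw [Subgroup.relIndex_sup_left,
        Nat.card_congr (Subgroup.subgroupOfEquivOfLe hBR).toEquiv, hBcard] at hc3
      have htop : B.subgroupOf R ⊔ D.subgroupOf R = ⊤ := by
        apply Subgroup.eq_top_of_le_card
        rw [← hc3]
        have h5 : Nat.card D ≤ p * (B.subgroupOf R).relIndex (D.subgroupOf R) := by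
          rw [← hc2]
          exact Nat.mul_le_mul_right _ hc1
        calc Nat.card R ≤ p ^ 2 * Nat.card D := hcount
          _ ≤ p ^ 2 * (p * (B.subgroupOf R).relIndex (D.subgroupOf R)) := Nat.mul_le_mul_left _ h5
          _ = p ^ 3 * (B.subgroupOf R).relIndex (D.subgroupOf R) := by ring
      intro r hr'
      have hmem : (⟨r, hr'⟩ : R) ∈ B.subgroupOf R ⊔ D.subgroupOf R := by
        rw [htop]; exact Subgroup.mem_top _
      obtain ⟨y, hy, z, hz, hyz⟩ := Subgroup.mem_sup_of_normal_left.mp hmem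
      refine ⟨y, Subgroup.mem_subgroupOf.mp hy, z, Subgroup.mem_subgroupOf.mp hz, ?_⟩
      have := congrArg Subtype.val hyz
      simpa using this.symm
    -- `a` centralizes `D`
    have haD : a ∈ Subgroup.normalizer (D : Set G) := by
      rw [hD]
      exact Subgroup.inf_normalizer_le_normalizer_inf
        ⟨ha, normalizer_le_normalizer_centralizer B haB⟩
    have hB'D : ⁅B, B⁆ ≤ D := by
      intro z hz
      rw [hD]
      exact Subgroup.mem_inf.mpr ⟨hBR (hB'B hz), Subgroup.mem_centralizer_iff.mpr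
        (fun b hb => (hB'cen z hz b hb).symm)⟩
    have hDΩ : ∀ x ∈ D, x ^ p = 1 → x ∈ ⁅B, B⁆ := by
      intro x hx hxp
      have hcomm : ∀ s ∈ (L₁ : Set G) ∪ {x}, ∀ t ∈ (L₁ : Set G) ∪ {x}, s * t = t * s := by
        rintro s (hs | hs) t (ht | ht)
        · exact hL₁ab s hs t ht
        · rw [Set.mem_singleton_iff] at ht
          subst ht
          exact (hDB t hx s (hL₁B hs)).symm
        · rw [Set.mem_singleton_iff] at hs
          subst hs
          exact hDB s hx t (hL₁B ht)
        · rw [Set.mem_singleton_iff] at hs ht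
          subst hs
          subst ht
          rfl
      have hexp : ∀ s ∈ (L₁ : Set G) ∪ {x}, s ^ p = 1 := by
        rintro s (hs | hs)
        · exact hL₁exp s hs
        · rw [Set.mem_singleton_iff] at hs
          subst hs
          exact hxp
      have hle : Subgroup.closure ((L₁ : Set G) ∪ {x}) ≤ R := by
        rw [Subgroup.closure_le]
        rintro s (hs | hs)
        · exact hBR (hL₁B hs)
        · rw [Set.mem_singleton_iff] at hs
          subst hs
          exact hDR hx
      have hc := hrank _ hle (closure_comm _ hcomm) (closure_exp_of_comm p _ hcomm hexp)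
      have hLle : L₁ ≤ Subgroup.closure ((L₁ : Set G) ∪ {x}) :=
        fun b hb => Subgroup.subset_closure (Or.inl hb)
      have heq := Subgroup.eq_of_le_of_card_ge hLle (by rw [hL₁card']; exact hc)
      have hxL₁ : x ∈ L₁ := by
        rw [heq]
        exact Subgroup.subset_closure (Or.inr rfl)
      apply hZB
      rw [hD] at hx
      exact Subgroup.mem_inf.mpr ⟨hL₁B hxL₁, hx.2⟩
    have haDcent : ∀ d ∈ D, a * d * a⁻¹ = d := by
      have key := aut_eq_one_of_pcentral p hp q hqc hq1 (Nat.card D) (↥D) rfl (hR.to_le hDR)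
        ((⁅B, B⁆ : Subgroup G).subgroupOf D) ?_ ?_ ?_ (conjAut D a haD) ?_
      · intro d hd
        have := congrArg (fun σ : MulAut D => ((σ ⟨d, hd⟩ : D) : G)) key
        simpa [conjAut_apply] using this
      · intro e he
        rw [Subgroup.mem_center_iff]
        intro d
        apply Subtype.ext
        simp only [Subgroup.coe_mul]
        exact (hB'R e (Subgroup.mem_subgroupOf.mp he) d (hDR d.2)).symm
      · rw [Nat.card_congr (Subgroup.subgroupOfEquivOfLe hB'D).toEquiv, hB'card]
      · intro x hxp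
        rw [Subgroup.mem_subgroupOf]
        apply hDΩ x x.2
        have := congrArg Subtype.val hxp
        simpa using this
      · ext x
        rw [conjAut_pow_apply, haq]
        simp
    have hakD : ∀ k : ℕ, ∀ d ∈ D, a ^ k * d * (a ^ k)⁻¹ = d := by
      intro k d hd
      have hc : Commute a d := by
        have := haDcent d hd
        calc a * d = a * d * a⁻¹ * a := by group
          _ = d * a := by rw [this]
      rw [(hc.pow_left k).eq]
      group
    refine ⟨B, hBR, hBcard, ?_⟩
    intro k r hr'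
    obtain ⟨b, hb, d, hd, rfl⟩ := hBD r hr'
    have h1 : a ^ k * (b * d) * (a ^ k)⁻¹ * (b * d)⁻¹
        = (a ^ k * b * (a ^ k)⁻¹) * (a ^ k * d * (a ^ k)⁻¹) * d⁻¹ * b⁻¹ := by group
    rw [h1, hakD k d hd]
    have h2 : a ^ k * b * (a ^ k)⁻¹ ∈ B :=
      (Subgroup.mem_normalizer_iff.mp (Subgroup.pow_mem _ haB k) b).mp hb
    have h3 : a ^ k * b * (a ^ k)⁻¹ * d * d⁻¹ * b⁻¹ = (a ^ k * b * (a ^ k)⁻¹) * b⁻¹ := by group
    rw [h3]
    exact B.mul_mem h2 (B.inv_mem hb)

end Cfsg.Agent.Lib.helper30
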