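import Mathlib
import Cfsg.Prelude.Def_OddOrderLocal
import Cfsg.Prelude.Def_PLocal
import Cfsg.Agent.Lib.helper30.MetaAut
import Cfsg.Agent.Lib.helper1.Coprime
import Cfsg.Agent.Lib.helper59.UniqueOrderP

/-!
# Coprime action on a metacyclic `p`-subgroup, `p` odd (Bender–Glauberman 4.6 style)

* `conjHom` : the conjugation action of a normalizing subgroup as a homomorphism to `MulAut`.
* `commutator_abelian_of_metacyclic` : `[R, A]` is abelian and meets `C_R(A)` trivially.
* `cyclic_of_disjoint` : cyclicity criterion from a subgroup of order `p ^ 2` carrying all elements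
  of order `p`.
-/

set_option autoImplicit false

namespace Cfsg.Agent.Lib.helper30

open scoped commutatorElement

universe u

/-- The conjugation action of `A ≤ N_G(T)` on `T`, as a homomorphism. -/
noncomputable def conjHom {G : Type*} [Group G] (T A : Subgroup G)
    (hAT : A ≤ Subgroup.normalizer (T : Set G)) : ↥A →* MulAut ↥T :=
  MonoidHom.mk'
    (fun a => (Cfsg.Agent.Lib.helper1.conjEquivOfMemNormalizer T (a : G) (hAT a.2) : MulAut ↥T))
    (by
      intro a b
      ext y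
      simp [Cfsg.Agent.Lib.helper1.coe_conjEquivOfMemNormalizer, mul_assoc])

theorem conjHom_apply {G : Type*} [Group G] (T A : Subgroup G)
    (hAT : A ≤ Subgroup.normalizer (T : Set G)) (a : ↥A) (y : ↥T) :
    ((conjHom T A hAT a y : ↥T) : G) = a * y * (a : G)⁻¹ := rfl

theorem conjHom_gen {G : Type*} [Group G] (T A : Subgroup G)
    (hAT : A ≤ Subgroup.normalizer (T : Set G)) (hTT : ⁅T, A⁆ = T) :
    Subgroup.closure {x : ↥T | ∃ φ ∈ (conjHom T A hAT).range, ∃ r : ↥T, x = φ r * r⁻¹} = ⊤ := by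
  rw [eq_top_iff]
  intro y _
  have h1 : ⁅T, A⁆ ≤ (Subgroup.closure
      {x : ↥T | ∃ φ ∈ (conjHom T A hAT).range, ∃ r : ↥T, x = φ r * r⁻¹}).map T.subtype := by
    rw [Subgroup.commutator_le]
    intro t ht a ha
    refine ⟨((conjHom T A hAT ⟨a, ha⟩) ⟨t, ht⟩ * (⟨t, ht⟩ : ↥T)⁻¹)⁻¹, ?_, ?_⟩
    · apply Subgroup.inv_mem
      apply Subgroup.subset_closure
      exact ⟨conjHom T A hAT ⟨a, ha⟩, ⟨⟨a, ha⟩, rfl⟩, ⟨t, ht⟩, rfl⟩
    · show ((a * t * a⁻¹ * t⁻¹)⁻¹ : G) = ⁅t, a⁆
      rw [commutatorElement_def]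
      group
  have h2 : (y : G) ∈ ⁅T, A⁆ := by rw [hTT]; exact y.2
  obtain ⟨y', hy', hyy⟩ := h1 h2
  have h3 : y' = y := Subtype.ext hyy
  rw [← h3]
  exact hy'

/-- **Coprime action on a metacyclic `p`-subgroup, `p` odd**: `[R, A]` is abelian and meets
`C_R(A)` trivially. -/
theorem commutator_abelian_of_metacyclic {G : Type u} [Group G] [Finite G] (p : ℕ)
    [Fact p.Prime] (hp : p ≠ 2) (R A : Subgroup G) (hR : IsPGroup p R)
    (hRm : Cfsg.IsMetacyclic R) (hA : A ≤ Subgroup.normalizer (R : Set G))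
    (hcop : (Nat.card A).Coprime p) :
    (∀ x ∈ ⁅R, A⁆, ∀ y ∈ ⁅R, A⁆, x * y = y * x) ∧
      ⁅R, A⁆ ⊓ (R ⊓ Subgroup.centralizer (A : Set G)) = ⊥ := by
  have hpp : p.Prime := Fact.out
  have hcopR : (Nat.card A).Coprime (Nat.card R) := by
    obtain ⟨k, hk⟩ := IsPGroup.iff_card.mp hR
    rw [hk]
    exact Nat.Coprime.pow_right k hcop
  have hnil : Group.IsNilpotent R := hR.isNilpotent
  have hsolv : Group.IsSolvable A ∨ Group.IsSolvable R := Or.inr inferInstance
  have hTR : ⁅R, A⁆ ≤ R := Cfsg.Agent.Lib.helper1.commutator_le_of_le_normalizer hA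
  have hTT := Cfsg.Agent.Lib.helper1.commutator_commutator_eq A R hA hcopR hsolv
  have hAT := Cfsg.Agent.Lib.helper1.right_le_normalizer_commutator hA
  obtain ⟨T, hTdef⟩ : ∃ T : Subgroup G, T = ⁅R, A⁆ := ⟨_, rfl⟩
  rw [← hTdef] at hTR hTT hAT ⊢
  have hTp : IsPGroup p T := hR.to_le hTR
  have hTm : Cfsg.IsMetacyclic T :=
    isMetacyclic_of_mulEquiv (Subgroup.subgroupOfEquivOfLe hTR)
      (isMetacyclic_subgroup hRm (T.subgroupOf R))
  have hX : (Nat.card (conjHom T A hAT).range).Coprime p :=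
    Nat.Coprime.coprime_dvd_left (Subgroup.card_range_dvd _) hcop
  have hgen := conjHom_gen T A hAT hTT
  have hcomm := metacyclic_comm p hp hTp hTm (conjHom T A hAT).range hX hgen
  refine ⟨?_, ?_⟩
  · intro x hx y hy
    exact congrArg Subtype.val (hcomm ⟨x, hx⟩ ⟨y, hy⟩)
  · rw [eq_bot_iff]
    rintro y ⟨hyT, hyR, hyC⟩
    rw [Subgroup.mem_bot]
    have h1 := fixed_mem_of_comm_top p hTp (conjHom T A hAT).range hX ⊥ (by
        intro a b
        rw [Subgroup.mem_bot, commutatorElement_eq_one_iff_mul_comm]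
        exact hcomm a b) hgen ⟨y, hyT⟩ (by
        rintro φ ⟨a, rfl⟩
        rw [Subgroup.mem_bot]
        apply Subtype.ext
        show (a : G) * y * (a : G)⁻¹ * y⁻¹ = 1
        have h2 : (a : G) * y = y * a := hyC a a.2
        rw [h2]
        group)
    rw [Subgroup.mem_bot] at h1
    exact congrArg Subtype.val h1

/-- If all elements of order `p` of the `p`-subgroups `T` and `C ≠ 1` lie in a subgroup `Ω` of
order `p ^ 2` and `T ∩ C = 1`, then `T` is cyclic (`p` odd). -/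
theorem cyclic_of_disjoint {G : Type u} [Group G] [Finite G] (p : ℕ) [Fact p.Prime] (hp : p ≠ 2)
    (Ω T C : Subgroup G) (hT : IsPGroup p T) (hΩ : Nat.card Ω = p ^ 2)
    (hΩT : ∀ x ∈ T, x ^ p = 1 → x ∈ Ω) (hΩC : ∀ x ∈ C, x ^ p = 1 → x ∈ Ω)
    (hTC : T ⊓ C = ⊥) (hC : IsPGroup p C) (hCne : C ≠ ⊥) : IsCyclic ↥T := by
  have hpp : p.Prime := Fact.out
  apply Cfsg.Agent.Lib.helper59.isCyclic_of_odd_of_uniqueOrderP hp (Nat.card T) T rfl hT
  intro H K hH hK
  by_contra hne
  have hHc : Nat.card (H.map T.subtype) = p := by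
    rw [Subgroup.card_map_of_injective T.subtype_injective, hH]
  have hKc : Nat.card (K.map T.subtype) = p := by
    rw [Subgroup.card_map_of_injective T.subtype_injective, hK]
  have himg : ∀ L : Subgroup ↥T, Nat.card L = p → L.map T.subtype ≤ Ω ⊓ T := by
    intro L hL
    rintro _ ⟨x, hx, rfl⟩
    refine ⟨hΩT _ x.2 ?_, x.2⟩
    have h1 : (⟨x, hx⟩ : L) ^ p = 1 := by rw [← hL]; exact pow_card_eq_one'
    have h2 := congrArg (fun z : L => ((z : ↥T) : G)) h1
    simpa using h2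
  have hne' : H.map T.subtype ≠ K.map T.subtype :=
    fun h => hne (Subgroup.map_injective T.subtype_injective h)
  have hsupΩ : H.map T.subtype ⊔ K.map T.subtype ≤ Ω ⊓ T := sup_le (himg H hH) (himg K hK)
  have hcard_lt : p < Nat.card ↥(H.map T.subtype ⊔ K.map T.subtype) := by
    by_contra hle
    push Not at hle
    have h1 : H.map T.subtype = H.map T.subtype ⊔ K.map T.subtype :=
      Subgroup.eq_of_le_of_card_ge le_sup_left (by rw [hHc]; exact hle)
    have h2 : K.map T.subtype ≤ H.map T.subtype := by rw [h1]; exact le_sup_right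
    exact hne' (Subgroup.eq_of_le_of_card_ge h2 (by rw [hHc, hKc])).symm
  have hdvd : Nat.card ↥(H.map T.subtype ⊔ K.map T.subtype) ∣ p ^ 2 := by
    rw [← hΩ]
    exact Subgroup.card_dvd_of_le (hsupΩ.trans inf_le_left)
  obtain ⟨m, hm, hmeq⟩ := (Nat.dvd_prime_pow hpp).mp hdvd
  have hm2 : m = 2 := by
    rw [hmeq] at hcard_lt
    interval_cases m
    · rw [pow_zero] at hcard_lt
      have := hpp.one_lt
      omega
    · rw [pow_one] at hcard_lt
      omega
    · rfl
  have hsupeq : H.map T.subtype ⊔ K.map T.subtype = Ω :=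
    Subgroup.eq_of_le_of_card_ge (hsupΩ.trans inf_le_left) (by rw [hΩ, hmeq, hm2])
  have hΩleT : Ω ≤ T := by
    rw [← hsupeq]
    exact hsupΩ.trans inf_le_right
  have hdvdC : p ∣ Nat.card C := by
    rcases hC.card_eq_or_dvd with h | h
    · exact absurd (Subgroup.card_eq_one.mp h) hCne
    · exact h
  obtain ⟨c, hc⟩ := exists_prime_orderOf_dvd_card' p hdvdC
  have hc1 : (c : G) ^ p = 1 := by
    have h1 := pow_orderOf_eq_one c
    rw [hc] at h1
    have h2 := congrArg Subtype.val h1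
    simpa using h2
  have hcT : (c : G) ∈ T ⊓ C := ⟨hΩleT (hΩC _ c.2 hc1), c.2⟩
  rw [hTC, Subgroup.mem_bot] at hcT
  have h3 : c = 1 := Subtype.ext hcT
  rw [h3, orderOf_one] at hc
  exact hpp.one_lt.ne' hc.symm

theorem mul_comm_of_isCyclic {G : Type*} [Group G] [hG : IsCyclic G] (x y : G) :
    x * y = y * x := by
  obtain ⟨g, hg⟩ := hG.exists_generator
  obtain ⟨i, hi⟩ := Subgroup.mem_zpowers_iff.mp (hg x)
  obtain ⟨j, hj⟩ := Subgroup.mem_zpowers_iff.mp (hg y)
  rw [← hi, ← hj, ← zpow_add, ← zpow_add, add_comm]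

end Cfsg.Agent.Lib.helper30
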