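import Mathlib
import Cfsg.Agent.Lib.helper30.RankTwoD

/-!
# Rank two, `Ω₁(Z₂(R))` non-abelian: the extraspecial central product

`rank_two_extraspecial` : if `W = Ω₁(Z₂(R))` is non-abelian in a `p`-group `R` of rank at most two
(`p` odd), then `W` is non-abelian of order `p ^ 3` and exponent `p`, `R = W C_R(W)`, `C_R(W)` is
cyclic and `Ω₁(C_R(W)) = W'`.
-/

set_option autoImplicit false

namespace Cfsg.Agent.Lib.helper30

open scoped commutatorElement

universe u

theorem rank_two_extraspecial {R : Type u} [Group R] [Finite R] (p : ℕ) [Fact p.Prime]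
    (hp : p ≠ 2) (hR : IsPGroup p R) (hr : Cfsg.PRankLE p 2 R) (W : Subgroup R)
    (hW : ∀ x, x ∈ W ↔ x ∈ Subgroup.upperCentralSeries R 2 ∧ x ^ p = 1)
    (u v : R) (hu : u ∈ W) (hv : v ∈ W) (huv : u * v ≠ v * u) :
    ∃ R₂ : Subgroup R, W ⊔ R₂ = ⊤ ∧ (∀ a ∈ W, ∀ b ∈ R₂, a * b = b * a) ∧
      Nat.card W = p ^ 3 ∧ IsCyclic R₂ ∧
      Subgroup.closure {x : R | x ∈ R₂ ∧ x ^ p = 1} = ⁅W, W⁆ := by
  have hpp : p.Prime := Fact.out
  have hWn : W.Normal := omegaZ_normal hW
  obtain ⟨z, hz⟩ : ∃ z : R, z = ⁅u, v⁆ := ⟨_, rfl⟩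
  have hzWZ : z ∈ W ⊓ Subgroup.center R := by rw [hz]; exact omegaZ_comm_mem hW u hu v
  have hzc : z ∈ Subgroup.center R := hzWZ.2
  have hzp : z ^ p = 1 := omegaZ_pow hW z hzWZ.1
  have hz1 : z ≠ 1 := by
    intro h
    apply huv
    rw [hz] at h
    exact commutatorElement_eq_one_iff_mul_comm.mp h
  have hzcomm : ∀ g : R, z * g = g * z := fun g => (Subgroup.mem_center_iff.mp hzc g).symm
  have hZcard : Nat.card (Subgroup.zpowers z) = p := card_zpowers_of_pow_eq_one p z hzp hz1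
  have hZc : Subgroup.zpowers z ≤ Subgroup.center R := by rwa [Subgroup.zpowers_le]
  have hunc : u ∉ Subgroup.center R := fun h => huv ((Subgroup.mem_center_iff.mp h v).symm)
  -- Step 1: `W ∩ Z(R) = ⟨z⟩`
  have hZ : ∀ x ∈ W, x ∈ Subgroup.center R → x ∈ Subgroup.zpowers z := by
    intro x hxW hxc
    by_contra hxz
    obtain ⟨hMn, hMe, hMcard⟩ := Cfsg.Agent.S0636.central_and_elt (Subgroup.zpowers z) hZc hZcard
      x hxz (omegaZ_pow hW x hxW) (fun g => by
        have : ⁅x, g⁆ = 1 := by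
          rw [commutatorElement_eq_one_iff_mul_comm]
          exact (Subgroup.mem_center_iff.mp hxc g).symm
        rw [this]
        exact Subgroup.one_mem _)
    have hMle : Subgroup.zpowers x ⊔ Subgroup.zpowers z ≤ Subgroup.center R :=
      sup_le (by rwa [Subgroup.zpowers_le]) hZc
    exact false_of_sup_zpowers p hr _ (comm_of_isMulCommutative _ hMe.1) hMe.2 hMcard u
      (fun h => hunc (hMle h)) (omegaZ_pow hW u hu)
      (fun a ha => Subgroup.mem_center_iff.mp (hMle ha) u)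
  have hcommZ : ∀ w ∈ W, ∀ r : R, ⁅w, r⁆ ∈ Subgroup.zpowers z := fun w hw r =>
    hZ _ (omegaZ_comm_mem hW w hw r).1 (omegaZ_comm_mem hW w hw r).2
  -- Step 2: `M₁ = ⟨u⟩⟨z⟩`
  have huz : u ∉ Subgroup.zpowers z := fun h => hunc (hZc h)
  obtain ⟨hM₁n, hM₁e, hM₁card⟩ := Cfsg.Agent.S0636.central_and_elt (Subgroup.zpowers z) hZc
    hZcard u huz (omegaZ_pow hW u hu) (fun g => hcommZ u hu g)
  obtain ⟨M₁, hM₁⟩ : ∃ M₁ : Subgroup R, M₁ = Subgroup.zpowers u ⊔ Subgroup.zpowers z := ⟨_, rfl⟩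
  rw [← hM₁] at hM₁n hM₁e hM₁card
  have hM₁W : M₁ ≤ W := by
    rw [hM₁]
    exact sup_le (by rwa [Subgroup.zpowers_le]) (by rw [Subgroup.zpowers_le]; exact hzWZ.1)
  have huM₁ : u ∈ M₁ := by rw [hM₁]; exact Subgroup.mem_sup_left (Subgroup.mem_zpowers u)
  have hM₁c := comm_of_isMulCommutative _ hM₁e.1
  have hvM₁ : v ∉ M₁ := fun h => huv (hM₁c u huM₁ v h)
  have hzu : ⁅u, v⁆ * u = u * ⁅u, v⁆ := by rw [← hz]; exact hzcomm u
  have hzv : ⁅u, v⁆ * v = v * ⁅u, v⁆ := by rw [← hz]; exact hzcomm v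
  have hz' : ⁅v, u⁆ = z⁻¹ := by rw [hz, commutatorElement_inv]
  have hz'c : ∀ g : R, z⁻¹ * g = g * z⁻¹ := fun g => by
    have := hzcomm g⁻¹
    have h2 := congrArg (fun t => t⁻¹) this
    simpa using h2.symm
  have hzu' : ⁅v, u⁆ * u = u * ⁅v, u⁆ := by rw [hz']; exact hz'c u
  have hzv' : ⁅v, u⁆ * v = v * ⁅v, u⁆ := by rw [hz']; exact hz'c v
  -- Step 3: adjusting an element by an element of `M₂`
  have hadj : ∀ r : R, ∃ w₁ ∈ M₁ ⊔ Subgroup.zpowers v,
      (r * w₁) * u = u * (r * w₁) ∧ (r * w₁) * v = v * (r * w₁) := by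
    intro r
    obtain ⟨i, hi⟩ := exists_nat_pow_of_mem_zpowers (hcommZ u hu r)
    obtain ⟨j, hj⟩ := exists_nat_pow_of_mem_zpowers (hcommZ v hv r)
    refine ⟨u ^ j * v ^ ((p - 1) * i), ?_, ?_, ?_⟩
    · exact Subgroup.mul_mem _ (Subgroup.mem_sup_left (Subgroup.pow_mem _ huM₁ _))
        (Subgroup.mem_sup_right (Subgroup.pow_mem _ (Subgroup.mem_zpowers v) _))
    · have h1 : ⁅u, u ^ j * v ^ ((p - 1) * i)⁆ = z ^ ((p - 1) * i) := by
        have h2 := commutatorElement_pow_pow u v hzu hzv 1 ((p - 1) * i)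
        rw [pow_one, one_mul, ← hz] at h2
        rw [commutatorElement_mul_right_commute' u (u ^ j) (v ^ ((p - 1) * i))
          ((Commute.pow_right (Commute.refl u) j).eq), h2]
        rw [h2]
        exact ((Commute.pow_left (show Commute z (u ^ j) from hzcomm _) _)).eq
      have h3 : ⁅u, r * (u ^ j * v ^ ((p - 1) * i))⁆ = 1 := by
        rw [commutatorElement_mul_right_conj, h1, hi]
        have h4 : r * z ^ ((p - 1) * i) * r⁻¹ = z ^ ((p - 1) * i) := by
          have : Commute (z ^ ((p - 1) * i)) r := Commute.pow_left (hzcomm r) _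
          rw [← this.eq, mul_inv_cancel_right]
        rw [h4, ← pow_add]
        have h5 : i + (p - 1) * i = p * i := by
          have h6 : (p - 1) * i + i = p * i := by
            rw [← Nat.succ_mul, Nat.succ_eq_add_one, Nat.sub_add_cancel hpp.pos]
          omega
        rw [h5, pow_mul, hzp, one_pow]
      exact (commutatorElement_eq_one_iff_mul_comm.mp h3).symm
    · have h1 : ⁅v, u ^ j * v ^ ((p - 1) * i)⁆ = z⁻¹ ^ j := by
        have h2 := commutatorElement_pow_pow v u hzv' hzu' 1 j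
        rw [pow_one, one_mul, hz'] at h2
        rw [commutatorElement_mul_right_commute v (u ^ j) (v ^ ((p - 1) * i))
          ((Commute.pow_right (Commute.refl v) _).eq), h2]
      have h3 : ⁅v, r * (u ^ j * v ^ ((p - 1) * i))⁆ = 1 := by
        rw [commutatorElement_mul_right_conj, h1, hj]
        have h4 : r * z⁻¹ ^ j * r⁻¹ = z⁻¹ ^ j := by
          have : Commute (z⁻¹ ^ j) r := Commute.pow_left (hz'c r) _
          rw [← this.eq, mul_inv_cancel_right]
        rw [h4, inv_pow, mul_inv_cancel]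
      exact (commutatorElement_eq_one_iff_mul_comm.mp h3).symm
  -- Step 4: `W = M₂`
  have hM₂card : Nat.card ↥(M₁ ⊔ Subgroup.zpowers v) = p ^ 3 := by
    rw [card_sup_zpowers p M₁ v hvM₁ (by rw [omegaZ_pow hW v hv]; exact M₁.one_mem), hM₁card]
    ring
  have hM₂W : M₁ ⊔ Subgroup.zpowers v ≤ W := sup_le hM₁W (by rwa [Subgroup.zpowers_le])
  have hcent₁ : ∀ g : R, g * u = u * g → ∀ a ∈ M₁, g * a = a * g := by
    intro g hgu a ha
    have h1 : M₁ ≤ Subgroup.centralizer {g} := by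
      rw [hM₁]
      refine sup_le ?_ ?_
      · rw [Subgroup.zpowers_le, Subgroup.mem_centralizer_iff]
        intro h hh
        rw [Set.mem_singleton_iff] at hh
        subst hh
        exact hgu
      · rw [Subgroup.zpowers_le, Subgroup.mem_centralizer_iff]
        intro h hh
        rw [Set.mem_singleton_iff] at hh
        subst hh
        exact Subgroup.mem_center_iff.mp hzc _
    exact Subgroup.mem_centralizer_iff.mp (h1 ha) g rfl
  have hWM₂ : W = M₁ ⊔ Subgroup.zpowers v := by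
    apply le_antisymm _ hM₂W
    intro x hx
    by_contra hxM
    obtain ⟨w₁, hw₁, hxu, -⟩ := hadj x
    have hx'W : x * w₁ ∈ W := W.mul_mem hx (hM₂W hw₁)
    have hx'M : x * w₁ ∉ M₁ := by
      intro h
      apply hxM
      have h2 : x = (x * w₁) * w₁⁻¹ := by group
      rw [h2]
      exact Subgroup.mul_mem _ (Subgroup.mem_sup_left h) (Subgroup.inv_mem _ hw₁)
    exact false_of_sup_zpowers p hr M₁ hM₁c hM₁e.2 hM₁card (x * w₁) hx'M
      (omegaZ_pow hW _ hx'W) (hcent₁ _ hxu)
  have hcent : ∀ g : R, g * u = u * g → g * v = v * g → ∀ w ∈ W, g * w = w * g := by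
    intro g hgu hgv w hw
    have h1 : M₁ ⊔ Subgroup.zpowers v ≤ Subgroup.centralizer {g} := by
      refine sup_le ?_ ?_
      · intro a ha
        rw [Subgroup.mem_centralizer_iff]
        intro h hh
        rw [Set.mem_singleton_iff] at hh
        subst hh
        exact hcent₁ _ hgu a ha
      · rw [Subgroup.zpowers_le, Subgroup.mem_centralizer_iff]
        intro h hh
        rw [Set.mem_singleton_iff] at hh
        subst hh
        exact hgv
    rw [hWM₂] at hw
    exact Subgroup.mem_centralizer_iff.mp (h1 hw) g rfl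
  -- Step 5: `R₂ = C_R(W)`
  have hdec : ∀ r : R, ∃ w₁ ∈ W, r * w₁ ∈ Subgroup.centralizer (W : Set R) := by
    intro r
    obtain ⟨w₁, hw₁, hxu, hxv⟩ := hadj r
    refine ⟨w₁, hM₂W hw₁, ?_⟩
    rw [Subgroup.mem_centralizer_iff]
    intro w hw
    exact (hcent _ hxu hxv w hw).symm
  have hΩ : ∀ x ∈ Subgroup.centralizer (W : Set R), x ^ p = 1 → x ∈ Subgroup.zpowers z := by
    intro x hx hxp
    by_cases hxW : x ∈ W
    · apply hZ x hxW
      rw [Subgroup.mem_center_iff]
      intro r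
      obtain ⟨w₁, hw₁, hrw⟩ := hdec r
      have h1 : x * (r * w₁) = (r * w₁) * x := Subgroup.mem_centralizer_iff.mp hrw x hxW
      have h2 : w₁ * x = x * w₁ := Subgroup.mem_centralizer_iff.mp hx w₁ hw₁
      have h3 : r = (r * w₁) * w₁⁻¹ := by group
      have h4 : w₁⁻¹ * x = x * w₁⁻¹ := by
        rw [inv_mul_eq_iff_eq_mul, ← mul_assoc, h2, mul_inv_cancel_right]
      calc r * x = (r * w₁) * (w₁⁻¹ * x) := by group
        _ = (r * w₁) * (x * w₁⁻¹) := by rw [h4]
        _ = ((r * w₁) * x) * w₁⁻¹ := by group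
        _ = (x * (r * w₁)) * w₁⁻¹ := by rw [h1]
        _ = x * r := by group
    · exfalso
      exact false_of_sup_zpowers p hr M₁ hM₁c hM₁e.2 hM₁card x (fun h => hxW (hM₁W h)) hxp
        (fun a ha => (Subgroup.mem_centralizer_iff.mp hx a (hM₁W ha)).symm)
  refine ⟨Subgroup.centralizer (W : Set R), ?_, ?_, ?_, ?_, ?_⟩
  · rw [eq_top_iff]
    intro r _
    obtain ⟨w₁, hw₁, hrw⟩ := hdec r
    have h3 : r = (r * w₁) * w₁⁻¹ := by group
    rw [h3]
    exact Subgroup.mul_mem _ (Subgroup.mem_sup_right hrw)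
      (Subgroup.mem_sup_left (W.inv_mem hw₁))
  · intro a ha b hb
    exact Subgroup.mem_centralizer_iff.mp hb a ha
  · rw [hWM₂]
    exact hM₂card
  · exact isCyclic_of_omega_le p hp _ (Subgroup.zpowers z) (hR.to_subgroup _) hZcard hΩ
  · have h1 : Subgroup.closure {x : R | x ∈ Subgroup.centralizer (W : Set R) ∧ x ^ p = 1}
        = Subgroup.zpowers z := by
      apply le_antisymm
      · rw [Subgroup.closure_le]
        rintro x ⟨hx, hxp⟩
        exact hΩ x hx hxp
      · rw [Subgroup.zpowers_le]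
        exact Subgroup.subset_closure ⟨Subgroup.center_le_centralizer _ hzc, hzp⟩
    have h2 : ⁅W, W⁆ = Subgroup.zpowers z := by
      apply le_antisymm
      · rw [Subgroup.commutator_le]
        intro a ha b hb
        exact hcommZ a ha b
      · rw [Subgroup.zpowers_le, hz]
        exact Subgroup.commutator_mem_commutator hu hv
    rw [h1, h2]

end Cfsg.Agent.Lib.helper30
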