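import Mathlib
import Cfsg.Agent.Lib.helper30.RankTwoD

/-!
# Rank two, `W = Ω₁(Z₂(R))` abelian of order `p ^ 2`, and an element of order `p` outside `W`

Structure of the "bad" configuration (to be excluded in `RankTwoG`): `W` abelian of order `p ^ 2`,
`y ∉ W` with `y ^ p = 1`, `T = C_R(W)`.

* `bad_mem_of_cent` : elements of order `p` of `T` lie in `W`.
* `bad_decomp` : `|W ∩ Z(R)| = p` and `R = ⟨y⟩ T`.
* `bad_B_exp`, `bad_B_normal`, `bad_mem_B` : `B = W⟨y⟩` is the set of all `x` with `x ^ p = 1`.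
* `bad_delta_mem`, `bad_delta_hom` : `s ↦ [y, s]` is a homomorphism `T → W`.
* `bad_exists_t` : `T = ⟨t⟩⟨d⟩` with `d = [y, t]` non-central.
-/

set_option autoImplicit false

namespace Cfsg.Agent.Lib.helper30

open scoped commutatorElement

universe u

section Bad

variable {R : Type u} [Group R] [Finite R] (p : ℕ) [Fact p.Prime]
  (hR : IsPGroup p R) (hr : Cfsg.PRankLE p 2 R) (W : Subgroup R)
  (hW : ∀ x, x ∈ W ↔ x ∈ Subgroup.upperCentralSeries R 2 ∧ x ^ p = 1)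
  (hWab : ∀ a ∈ W, ∀ b ∈ W, a * b = b * a) (hWcard : Nat.card W = p ^ 2)

include hr hW hWab hWcard in
theorem bad_mem_of_cent (x : R) (hx : x ∈ Subgroup.centralizer (W : Set R)) (hxp : x ^ p = 1) :
    x ∈ W := by
  by_contra hxW
  have := omegaZ_normal hW
  exact false_of_sup_zpowers p hr W hWab (fun a ha => omegaZ_pow hW a ha) hWcard x hxW hxp
    (fun a ha => (Subgroup.mem_centralizer_iff.mp hx a ha).symm)

omit [Finite R] in
include hWab in
theorem bad_W_le_cent : W ≤ Subgroup.centralizer (W : Set R) := by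
  intro w hw
  rw [Subgroup.mem_centralizer_iff]
  intro h hh
  exact hWab h hh w hw

include hR hr hW hWab hWcard in
theorem bad_decomp (y : R) (hy : y ^ p = 1) (hyW : y ∉ W) :
    Nat.card ↥(W ⊓ Subgroup.center R) = p ∧
      ∀ r : R, ∃ i : ℕ, ∃ s ∈ Subgroup.centralizer (W : Set R), r = y ^ i * s := by
  have hpp : p.Prime := Fact.out
  have hWn : W.Normal := omegaZ_normal hW
  obtain ⟨w₀, hw₀, hyw₀⟩ : ∃ w₀ ∈ W, w₀ * y ≠ y * w₀ := by
    by_contra h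
    push Not at h
    exact hyW (bad_mem_of_cent p hr W hW hWab hWcard y (Subgroup.mem_centralizer_iff.mpr h) hy)
  have hWne : W ≠ ⊥ := by
    intro h
    rw [h, Subgroup.card_bot] at hWcard
    have := hpp.one_lt
    have h2 : 1 < p ^ 2 := Nat.one_lt_pow (by norm_num) this
    omega
  obtain ⟨z₁, hz₁W, hz₁c, hz₁1, -⟩ :=
    Cfsg.Agent.Lib.helper3.exists_central_of_normal_ne_bot hR W hWne
  have hw₀c : w₀ ∉ Subgroup.center R := fun h => hyw₀ ((Subgroup.mem_center_iff.mp h y).symm)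
  have hZcard : Nat.card ↥(W ⊓ Subgroup.center R) = p := by
    have hdvd : Nat.card ↥(W ⊓ Subgroup.center R) ∣ p ^ 2 := by
      rw [← hWcard]
      exact Subgroup.card_dvd_of_le inf_le_left
    obtain ⟨m, hm, hmeq⟩ := (Nat.dvd_prime_pow hpp).mp hdvd
    interval_cases m
    · exfalso
      rw [pow_zero] at hmeq
      have h1 := Subgroup.card_eq_one.mp hmeq
      have h2 : z₁ ∈ W ⊓ Subgroup.center R := ⟨hz₁W, hz₁c⟩
      rw [h1, Subgroup.mem_bot] at h2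
      exact hz₁1 h2
    · rw [hmeq, pow_one]
    · exfalso
      have h1 : W ⊓ Subgroup.center R = W :=
        Subgroup.eq_of_le_of_card_ge inf_le_left (by rw [hmeq, hWcard])
      have h2 : w₀ ∈ W ⊓ Subgroup.center R := by rw [h1]; exact hw₀
      exact hw₀c h2.2
  refine ⟨hZcard, ?_⟩
  have hz'Z : ⁅w₀, y⁆ ∈ W ⊓ Subgroup.center R := omegaZ_comm_mem hW w₀ hw₀ y
  have hz'1 : ⁅w₀, y⁆ ≠ 1 := fun h => hyw₀ (commutatorElement_eq_one_iff_mul_comm.mp h)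
  have hZeq := eq_zpowers_of_card_prime p _ hZcard _ hz'Z hz'1
  have hz'c : ∀ g : R, ⁅w₀, y⁆ * g = g * ⁅w₀, y⁆ :=
    fun g => (Subgroup.mem_center_iff.mp hz'Z.2 g).symm
  have hw₀Z : w₀ ∉ W ⊓ Subgroup.center R := fun h => hw₀c h.2
  have hWdec := exists_pow_mul_of_card p (W ⊓ Subgroup.center R) W inf_le_left
    (by rw [hZcard, hWcard, sq]) w₀ hw₀ hw₀Z
  intro r
  have h1 : ⁅w₀, r⁆ ∈ Subgroup.zpowers ⁅w₀, y⁆ := by
    rw [← hZeq]
    exact omegaZ_comm_mem hW w₀ hw₀ r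
  obtain ⟨i, hi⟩ := exists_nat_pow_of_mem_zpowers h1
  have h2 := commutatorElement_pow_pow w₀ y (hz'c w₀) (hz'c y) 1 i
  rw [pow_one, one_mul] at h2
  have h3 := comm_of_comm_eq (y ^ i)⁻¹ r⁻¹ w₀ (by rw [inv_inv, inv_inv, h2, hi])
  rw [inv_inv] at h3
  refine ⟨i, (y ^ i)⁻¹ * r, ?_, by group⟩
  rw [Subgroup.mem_centralizer_iff]
  intro w hw
  obtain ⟨j, h, hh, rfl⟩ := hWdec w hw
  have h4 : Commute ((y ^ i)⁻¹ * r) (w₀ ^ j) := Commute.pow_right h3 j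
  have h5 : Commute ((y ^ i)⁻¹ * r) h := Subgroup.mem_center_iff.mp hh.2 _
  exact (Commute.mul_right h4 h5).eq.symm

include hW in
theorem bad_B_card (y : R) (hy : y ^ p = 1) (hyW : y ∉ W) (hWcard : Nat.card W = p ^ 2) :
    Nat.card ↥(W ⊔ Subgroup.zpowers y) = p ^ 3 := by
  have hWn : W.Normal := omegaZ_normal hW
  rw [card_sup_zpowers p W y hyW (by rw [hy]; exact W.one_mem), hWcard]
  ring

include hR hW hWcard in
theorem bad_B_exp (hp : 3 < p) (y : R) (hy : y ^ p = 1) (hyW : y ∉ W) :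
    ∀ b ∈ W ⊔ Subgroup.zpowers y, b ^ p = 1 := by
  have hpp : p.Prime := Fact.out
  have hWn : W.Normal := omegaZ_normal hW
  intro b hb
  obtain ⟨i, w, hw, rfl⟩ := exists_pow_mul_of_mem_sup W y b hb
  have hcard := bad_B_card p W hW y hy hyW hWcard
  refine pow_mul_eq_one_of_card_lt p hR 2 (by norm_num) (by omega) (W ⊔ Subgroup.zpowers y) ?_
    (y ^ i) w ?_ (Subgroup.mem_sup_left hw) ?_ (omegaZ_pow hW w hw)
  · rw [hcard]
    exact Nat.pow_lt_pow_right hpp.one_lt (by norm_num)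
  · exact Subgroup.pow_mem _ (Subgroup.mem_sup_right (Subgroup.mem_zpowers y)) _
  · rw [← pow_mul, mul_comm, pow_mul, hy, one_pow]

include hR hr hW hWab hWcard in
theorem bad_mem_B_of_normalizer (hp : 3 < p) (y : R) (hy : y ^ p = 1) (hyW : y ∉ W) (u' : R)
    (hu : u' ∈ Subgroup.normalizer ((W ⊔ Subgroup.zpowers y : Subgroup R) : Set R))
    (hup : u' ^ p = 1) : u' ∈ W ⊔ Subgroup.zpowers y := by
  have hpp : p.Prime := Fact.out
  by_contra hnot
  have hcardB := bad_B_card p W hW y hy hyW hWcard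
  have hcard := card_sup_zpowers_of_mem_normalizer p (W ⊔ Subgroup.zpowers y) u' hu hnot
    (by rw [hup]; exact Subgroup.one_mem _)
  rw [hcardB] at hcard
  obtain ⟨i, s, hs, hus⟩ := (bad_decomp p hR hr W hW hWab hWcard y hy hyW).2 u'
  have hyi : y ^ i ∈ W ⊔ Subgroup.zpowers y :=
    Subgroup.pow_mem _ (Subgroup.mem_sup_right (Subgroup.mem_zpowers y)) _
  have hs' : s = (y ^ i)⁻¹ * u' := by rw [hus]; group
  have hsp : s ^ p = 1 := by
    rw [hs']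
    refine pow_mul_eq_one_of_card_lt p hR 3 (by norm_num) (by omega)
      ((W ⊔ Subgroup.zpowers y) ⊔ Subgroup.zpowers u') ?_ (y ^ i)⁻¹ u' ?_ ?_ ?_ hup
    · rw [hcard]
      have h1 : p * p ^ 3 = p ^ 4 := by ring
      rw [h1]
      exact Nat.pow_lt_pow_right hpp.one_lt (by norm_num)
    · exact Subgroup.inv_mem _ (Subgroup.mem_sup_left hyi)
    · exact Subgroup.mem_sup_right (Subgroup.mem_zpowers u')
    · rw [inv_pow, ← pow_mul, mul_comm, pow_mul, hy, one_pow, inv_one]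
  have hsW := bad_mem_of_cent p hr W hW hWab hWcard s hs hsp
  apply hnot
  rw [hus]
  exact Subgroup.mul_mem _ hyi (Subgroup.mem_sup_left hsW)

include hR hr hW hWab hWcard in
theorem bad_B_normal (hp : 3 < p) (y : R) (hy : y ^ p = 1) (hyW : y ∉ W) :
    (W ⊔ Subgroup.zpowers y).Normal := by
  rw [← Subgroup.normalizer_eq_top_iff]
  by_contra hne
  have hnil : Group.IsNilpotent R := hR.isNilpotent
  have hnc := Group.normalizerCondition_of_isNilpotent (G := R)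
  have hlt := hnc _ (lt_top_iff_ne_top.mpr hne)
  obtain ⟨g, hg, hgN⟩ := SetLike.exists_of_lt hlt
  apply hgN
  have hexp := bad_B_exp p hR W hW hWcard hp y hy hyW
  have key : ∀ g' : R, g' ∈ Subgroup.normalizer
      ((Subgroup.normalizer ((W ⊔ Subgroup.zpowers y : Subgroup R) : Set R) : Subgroup R) : Set R) →
      ∀ x ∈ W ⊔ Subgroup.zpowers y, g' * x * g'⁻¹ ∈ W ⊔ Subgroup.zpowers y := by
    intro g' hg' x hx
    apply bad_mem_B_of_normalizer p hR hr W hW hWab hWcard hp y hy hyW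
    · exact (Subgroup.mem_normalizer_iff.mp hg' x).mp (Subgroup.le_normalizer hx)
    · rw [conj_pow, hexp x hx, mul_one, mul_inv_cancel]
  apply mem_normalizer_of_conj
  · exact key g hg
  · intro x hx
    have := key g⁻¹ (Subgroup.inv_mem _ hg) x hx
    rwa [inv_inv] at this

include hR hr hW hWab hWcard in
theorem bad_mem_B (hp : 3 < p) (y : R) (hy : y ^ p = 1) (hyW : y ∉ W) (x : R)
    (hx : x ^ p = 1) : x ∈ W ⊔ Subgroup.zpowers y := by
  have hBn := bad_B_normal p hR hr W hW hWab hWcard hp y hy hyW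
  apply bad_mem_B_of_normalizer p hR hr W hW hWab hWcard hp y hy hyW x _ hx
  rw [Subgroup.normalizer_eq_top_iff.mpr hBn]
  exact Subgroup.mem_top x

include hR hr hW hWab hWcard in
theorem bad_delta_mem (hp : 3 < p) (y : R) (hy : y ^ p = 1) (hyW : y ∉ W) (s : R)
    (hs : s ∈ Subgroup.centralizer (W : Set R)) : ⁅y, s⁆ ∈ W := by
  have hWn : W.Normal := omegaZ_normal hW
  have hBn := bad_B_normal p hR hr W hW hWab hWcard hp y hy hyW
  have hyB : y ∈ W ⊔ Subgroup.zpowers y := Subgroup.mem_sup_right (Subgroup.mem_zpowers y)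
  apply bad_mem_of_cent p hr W hW hWab hWcard
  · have h1 : ⁅y, s⁆ = (y * s * y⁻¹) * s⁻¹ := by rw [commutatorElement_def]
    rw [h1]
    exact Subgroup.mul_mem _ (Subgroup.Normal.conj_mem inferInstance s hs y)
      (Subgroup.inv_mem _ hs)
  · apply bad_B_exp p hR W hW hWcard hp y hy hyW
    have h1 : ⁅y, s⁆ = y * (s * y⁻¹ * s⁻¹) := by rw [commutatorElement_def]; group
    rw [h1]
    exact Subgroup.mul_mem _ hyB (hBn.conj_mem _ (Subgroup.inv_mem _ hyB) s)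

include hR hr hW hWab hWcard in
theorem bad_delta_hom (hp : 3 < p) (y : R) (hy : y ^ p = 1) (hyW : y ∉ W) :
    ∃ δ : ↥(Subgroup.centralizer (W : Set R)) →* R, ∀ s, δ s = ⁅y, (s : R)⁆ := by
  refine ⟨MonoidHom.mk' (fun s => ⁅y, (s : R)⁆) ?_, fun s => rfl⟩
  intro a b
  have h1 := bad_delta_mem p hR hr W hW hWab hWcard hp y hy hyW b b.2
  have h2 : ⁅y, (b : R)⁆ * (a : R) = (a : R) * ⁅y, (b : R)⁆ :=
    Subgroup.mem_centralizer_iff.mp a.2 _ h1
  show ⁅y, (a : R) * (b : R)⁆ = ⁅y, (a : R)⁆ * ⁅y, (b : R)⁆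
  rw [commutatorElement_mul_right_conj, ← h2, mul_inv_cancel_right]

include hR hr hW hWab hWcard in
/-- An element of `W` commuting with `y` is central. -/
theorem bad_central (y : R) (hy : y ^ p = 1) (hyW : y ∉ W) (x : R) (hx : x ∈ W)
    (hxy : ⁅y, x⁆ = 1) : x ∈ Subgroup.center R := by
  rw [Subgroup.mem_center_iff]
  intro r
  obtain ⟨i, s, hs, rfl⟩ := (bad_decomp p hR hr W hW hWab hWcard y hy hyW).2 r
  have h1 : Commute y x := commutatorElement_eq_one_iff_mul_comm.mp hxy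
  have h2 : Commute s x := (Subgroup.mem_centralizer_iff.mp hs x hx).symm
  exact (Commute.mul_left (Commute.pow_left h1 i) h2).eq

include hR hr hW hWab hWcard in
theorem bad_exists_noncentral (y : R) (hy : y ^ p = 1) (hyW : y ∉ W) :
    ∃ t₁ ∈ Subgroup.centralizer (W : Set R), ⁅y, t₁⁆ ∉ Subgroup.center R := by
  by_contra h
  push Not at h
  apply hyW
  rw [hW]
  refine ⟨?_, hy⟩
  rw [mem_ucs_two]
  intro r
  obtain ⟨i, s, hs, rfl⟩ := (bad_decomp p hR hr W hW hWab hWcard y hy hyW).2 r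
  have h1 := commutatorElement_pow_mul_self y s i
  rw [commutatorElement_def] at h1
  rw [h1]
  have h2 := h s hs
  have h3 : y ^ i * ⁅y, s⁆ * (y ^ i)⁻¹ = ⁅y, s⁆ := by
    rw [Subgroup.mem_center_iff.mp h2 (y ^ i), mul_inv_cancel_right]
  rw [h3]
  exact h2

include hR hr hW hWab hWcard in
/-- `T = C_R(W)` is generated by an element `t` and `d = [y, t]`, with `d` non-central. -/
theorem bad_exists_t (hp : 3 < p) (y : R) (hy : y ^ p = 1) (hyW : y ∉ W) :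
    ∃ t ∈ Subgroup.centralizer (W : Set R), ⁅y, t⁆ ∉ Subgroup.center R ∧
      ∀ s ∈ Subgroup.centralizer (W : Set R), ∃ m j : ℕ, s = t ^ m * ⁅y, t⁆ ^ j := by
  have hpp : p.Prime := Fact.out
  have hp2 : p ≠ 2 := by omega
  have hWn : W.Normal := omegaZ_normal hW
  obtain ⟨hZcard, hdec⟩ := bad_decomp p hR hr W hW hWab hWcard y hy hyW
  obtain ⟨δ, hδ⟩ := bad_delta_hom p hR hr W hW hWab hWcard hp y hy hyW
  obtain ⟨t₁, ht₁, hd₁c⟩ := bad_exists_noncentral p hR hr W hW hWab hWcard y hy hyW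
  have hd₁W := bad_delta_mem p hR hr W hW hWab hWcard hp y hy hyW t₁ ht₁
  have hd₁p : ⁅y, t₁⁆ ^ p = 1 := omegaZ_pow hW _ hd₁W
  have hd₁1 : ⁅y, t₁⁆ ≠ 1 := fun h => hd₁c (by rw [h]; exact Subgroup.one_mem _)
  have hdisj : ∀ c ∈ Subgroup.zpowers ⁅y, t₁⁆, c ∈ Subgroup.center R → c = 1 := by
    intro c hc hcc
    by_contra hc1
    have h1 := eq_zpowers_of_card_prime p (Subgroup.zpowers ⁅y, t₁⁆)
      (card_zpowers_of_pow_eq_one p _ hd₁p hd₁1) c hc hc1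
    have h2 : ⁅y, t₁⁆ ∈ Subgroup.zpowers c := by rw [← h1]; exact Subgroup.mem_zpowers _
    exact hd₁c ((Subgroup.zpowers_le.mpr hcc) h2)
  obtain ⟨T₀, hT₀⟩ : ∃ T₀ : Subgroup R, T₀ = ((Subgroup.zpowers ⁅y, t₁⁆).comap δ).map
      (Subgroup.centralizer (W : Set R)).subtype := ⟨_, rfl⟩
  have hT₀mem : ∀ x, x ∈ T₀ →
      x ∈ Subgroup.centralizer (W : Set R) ∧ ⁅y, x⁆ ∈ Subgroup.zpowers ⁅y, t₁⁆ := by
    intro x hx
    rw [hT₀] at hx
    obtain ⟨s, hs, rfl⟩ := hx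
    refine ⟨s.2, ?_⟩
    rw [SetLike.mem_coe, Subgroup.mem_comap, hδ] at hs
    exact hs
  have hT₀mem' : ∀ x (_ : x ∈ Subgroup.centralizer (W : Set R)),
      ⁅y, x⁆ ∈ Subgroup.zpowers ⁅y, t₁⁆ → x ∈ T₀ := by
    intro x hx hxd
    rw [hT₀]
    refine ⟨⟨x, hx⟩, ?_, rfl⟩
    rw [SetLike.mem_coe, Subgroup.mem_comap, hδ]
    exact hxd
  have hcyc : IsCyclic ↥T₀ := by
    apply isCyclic_of_omega_le p hp2 T₀ (W ⊓ Subgroup.center R) (hR.to_subgroup T₀) hZcard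
    intro x hx hxp
    obtain ⟨hxT, hxd⟩ := hT₀mem x hx
    have hxW := bad_mem_of_cent p hr W hW hWab hWcard x hxT hxp
    have h1 : ⁅y, x⁆ = 1 := hdisj _ hxd (omegaZ_comm_mem' hW x hxW y).2
    exact ⟨hxW, bad_central p hR hr W hW hWab hWcard y hy hyW x hxW h1⟩
  obtain ⟨g, hg⟩ := IsCyclic.exists_generator (α := ↥T₀)
  obtain ⟨htT, htd⟩ := hT₀mem g g.2
  have hpow : ∀ s ∈ Subgroup.centralizer (W : Set R), ∀ n : ℕ, ⁅y, s ^ n⁆ = ⁅y, s⁆ ^ n := by
    intro s hs n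
    have h1 := map_pow δ ⟨s, hs⟩ n
    rw [hδ, hδ] at h1
    simpa using h1
  have ht₁T₀ : t₁ ∈ T₀ := hT₀mem' t₁ ht₁ (Subgroup.mem_zpowers _)
  obtain ⟨m₁, hm₁⟩ := exists_nat_pow_of_mem_zpowers (hg ⟨t₁, ht₁T₀⟩)
  have hm₁' : t₁ = (g : R) ^ m₁ := by
    have := congrArg Subtype.val hm₁
    simpa using this
  have hd₁eq : ⁅y, t₁⁆ = ⁅y, (g : R)⁆ ^ m₁ := by rw [hm₁', hpow _ htT]
  have hdc : ⁅y, (g : R)⁆ ∉ Subgroup.center R := by
    intro h
    apply hd₁c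
    rw [hd₁eq]
    exact Subgroup.pow_mem _ h _
  refine ⟨(g : R), htT, hdc, ?_⟩
  have hdW := bad_delta_mem p hR hr W hW hWab hWcard hp y hy hyW _ htT
  have hdT : ⁅y, (g : R)⁆ ∈ Subgroup.centralizer (W : Set R) := bad_W_le_cent W hWab hdW
  have hzZ : ⁅y, ⁅y, (g : R)⁆⁆ ∈ W ⊓ Subgroup.center R := omegaZ_comm_mem' hW _ hdW y
  have hz1 : ⁅y, ⁅y, (g : R)⁆⁆ ≠ 1 :=
    fun h => hdc (bad_central p hR hr W hW hWab hWcard y hy hyW _ hdW h)
  have hZeq := eq_zpowers_of_card_prime p _ hZcard _ hzZ hz1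
  have hdZ : ⁅y, (g : R)⁆ ∉ W ⊓ Subgroup.center R := fun h => hdc h.2
  have hWdec := exists_pow_mul_of_card p (W ⊓ Subgroup.center R) W inf_le_left
    (by rw [hZcard, hWcard, sq]) _ hdW hdZ
  intro s hs
  have hsW := bad_delta_mem p hR hr W hW hWab hWcard hp y hy hyW s hs
  obtain ⟨a, h, hh, hsa⟩ := hWdec _ hsW
  rw [hZeq] at hh
  obtain ⟨b, rfl⟩ := exists_nat_pow_of_mem_zpowers hh
  have hs'T : s * (⁅y, (g : R)⁆ ^ b)⁻¹ ∈ Subgroup.centralizer (W : Set R) :=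
    Subgroup.mul_mem _ hs (Subgroup.inv_mem _ (Subgroup.pow_mem _ hdT _))
  have hs'd : ⁅y, s * (⁅y, (g : R)⁆ ^ b)⁻¹⁆ = ⁅y, (g : R)⁆ ^ a := by
    have h0 : δ (⟨⁅y, (g : R)⁆, hdT⟩ ^ b)⁻¹ = (⁅y, ⁅y, (g : R)⁆⁆ ^ b)⁻¹ := by
      rw [map_inv, map_pow, hδ]
    have h1 := map_mul δ ⟨s, hs⟩ (⟨⁅y, (g : R)⁆, hdT⟩ ^ b)⁻¹
    rw [h0, hδ, hδ] at h1
    simp only [Subgroup.coe_mul, Subgroup.coe_inv, Subgroup.coe_pow] at h1
    rw [h1, hsa, mul_inv_cancel_right]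
  have hs'T₀ : s * (⁅y, (g : R)⁆ ^ b)⁻¹ ∈ T₀ := by
    apply hT₀mem' _ hs'T
    rw [hs'd]
    exact Subgroup.pow_mem _ htd _
  obtain ⟨m, hm⟩ := exists_nat_pow_of_mem_zpowers (hg ⟨_, hs'T₀⟩)
  have hm' : s * (⁅y, (g : R)⁆ ^ b)⁻¹ = (g : R) ^ m := by
    have := congrArg Subtype.val hm
    simpa using this
  refine ⟨m, b, ?_⟩
  rw [← hm']
  group

end Bad

end Cfsg.Agent.Lib.helper30
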