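import Mathlib
import Cfsg.Agent.Lib.helper30.RankTwoE
import Cfsg.Agent.Lib.helper30.RankTwoF
import Cfsg.Agent.Lib.helper30.MetaCoprime

/-!
# `p`-groups of rank at most two with `R = [R, X]`, `X` of odd order prime to `p` (`p > 3`)

* `bad_aut` : in the bad configuration of `RankTwoF`, every automorphism acts on `R / C_R(W)` by
  a scalar `ℓ` with `ℓ ^ 2 = 1`.
* `bad_false` : the bad configuration admits no odd-order `X` with `R = [R, X]`.
* `rank_two_main` : `R` is abelian or a central product of a non-abelian group of order `p ^ 3`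
  and exponent `p` with a cyclic group.
-/

set_option autoImplicit false

namespace Cfsg.Agent.Lib.helper30

open scoped commutatorElement

universe u

theorem omegaZ_cent_map {R : Type*} [Group R] {p : ℕ} {W : Subgroup R}
    (hW : ∀ x, x ∈ W ↔ x ∈ Subgroup.upperCentralSeries R 2 ∧ x ^ p = 1)
    (φ : MulAut R) (s : R) (hs : s ∈ Subgroup.centralizer (W : Set R)) :
    φ s ∈ Subgroup.centralizer (W : Set R) := by
  rw [Subgroup.mem_centralizer_iff] at hs ⊢
  intro w hw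
  have h1 := hs (φ⁻¹ w) (omegaZ_map hW φ⁻¹ w hw)
  have h2 := congrArg φ h1
  simpa using h2

theorem omegaZ_cent_characteristic {R : Type*} [Group R] {p : ℕ} {W : Subgroup R}
    (hW : ∀ x, x ∈ W ↔ x ∈ Subgroup.upperCentralSeries R 2 ∧ x ^ p = 1) :
    (Subgroup.centralizer (W : Set R)).Characteristic := by
  rw [Subgroup.characteristic_iff_map_le]
  rintro φ _ ⟨s, hs, rfl⟩
  exact omegaZ_cent_map hW φ s hs

section Bad

variable {R : Type u} [Group R] [Finite R] (p : ℕ) [Fact p.Prime]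
  (hR : IsPGroup p R) (hr : Cfsg.PRankLE p 2 R) (W : Subgroup R)
  (hW : ∀ x, x ∈ W ↔ x ∈ Subgroup.upperCentralSeries R 2 ∧ x ^ p = 1)
  (hWab : ∀ a ∈ W, ∀ b ∈ W, a * b = b * a) (hWcard : Nat.card W = p ^ 2)

include hR hr hW hWab hWcard in
theorem bad_aut (hp : 3 < p) (y : R) (hy : y ^ p = 1) (hyW : y ∉ W) (t : R)
    (ht : t ∈ Subgroup.centralizer (W : Set R)) (hdc : ⁅y, t⁆ ∉ Subgroup.center R)
    (hgen : ∀ s ∈ Subgroup.centralizer (W : Set R), ∃ m j : ℕ, s = t ^ m * ⁅y, t⁆ ^ j)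
    (φ : MulAut R) : ∃ ℓ : ℕ, ∃ w' ∈ W, φ y = y ^ ℓ * w' ∧ ℓ * ℓ ≡ 1 [MOD p] := by
  have hpp : p.Prime := Fact.out
  have hWn : W.Normal := omegaZ_normal hW
  obtain ⟨hZcard, hdec⟩ := bad_decomp p hR hr W hW hWab hWcard y hy hyW
  obtain ⟨δ, hδ⟩ := bad_delta_hom p hR hr W hW hWab hWcard hp y hy hyW
  have hpow : ∀ s ∈ Subgroup.centralizer (W : Set R), ∀ n : ℕ, ⁅y, s ^ n⁆ = ⁅y, s⁆ ^ n := by
    intro s hs n
    have h1 := map_pow δ ⟨s, hs⟩ n
    rw [hδ, hδ] at h1
    simpa using h1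
  obtain ⟨d, hd⟩ : ∃ d : R, d = ⁅y, t⁆ := ⟨_, rfl⟩
  rw [← hd] at hdc hgen
  have hdW : d ∈ W := by
    rw [hd]
    exact bad_delta_mem p hR hr W hW hWab hWcard hp y hy hyW t ht
  have hdp : d ^ p = 1 := omegaZ_pow hW d hdW
  obtain ⟨z, hz⟩ : ∃ z : R, z = ⁅y, d⁆ := ⟨_, rfl⟩
  have hzZ : z ∈ W ⊓ Subgroup.center R := by rw [hz]; exact omegaZ_comm_mem' hW d hdW y
  have hz1 : z ≠ 1 := by
    intro h
    rw [hz] at h
    exact hdc (bad_central p hR hr W hW hWab hWcard y hy hyW d hdW h)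
  have hzp : z ^ p = 1 := omegaZ_pow hW z hzZ.1
  have hzc : ∀ g : R, z * g = g * z := fun g => (Subgroup.mem_center_iff.mp hzZ.2 g).symm
  have hdZ : d ∉ W ⊓ Subgroup.center R := fun h => hdc h.2
  have hWdec := exists_pow_mul_of_card p (W ⊓ Subgroup.center R) W inf_le_left
    (by rw [hZcard, hWcard, sq]) d hdW hdZ
  -- the element `z₀ = t ^ q` of order `p`
  have htp : t ^ p ≠ 1 := by
    intro h
    have htW := bad_mem_of_cent p hr W hW hWab hWcard t ht h
    apply hdc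
    rw [hd]
    exact (omegaZ_comm_mem' hW t htW y).2
  obtain ⟨e, he⟩ := (IsPGroup.iff_orderOf.mp hR) t
  have he2 : 2 ≤ e := by
    by_contra h
    apply htp
    apply orderOf_dvd_iff_pow_eq_one.mp
    rw [he]
    have h1 : e ≤ 1 := by omega
    calc p ^ e ∣ p ^ 1 := pow_dvd_pow p h1
      _ = p := pow_one p
  obtain ⟨q, hq⟩ : ∃ q : ℕ, q = p ^ (e - 1) := ⟨_, rfl⟩
  have hpq : p ∣ q := by rw [hq]; exact dvd_pow_self p (by omega)
  have hqp : q * p = p ^ e := by
    rw [hq, ← pow_succ]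
    congr 1
    omega
  have hz₀1 : t ^ q ≠ 1 := by
    apply pow_ne_one_of_lt_orderOf
    · rw [hq]; exact (pow_pos hpp.pos _).ne'
    · rw [he, hq]; exact Nat.pow_lt_pow_right hpp.one_lt (by omega)
  have hz₀p : (t ^ q) ^ p = 1 := by rw [← pow_mul, hqp, ← he, pow_orderOf_eq_one]
  have hz₀T : t ^ q ∈ Subgroup.centralizer (W : Set R) := Subgroup.pow_mem _ ht _
  have hz₀W : t ^ q ∈ W := bad_mem_of_cent p hr W hW hWab hWcard _ hz₀T hz₀p
  have hdq : d ^ q = 1 := by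
    obtain ⟨c, rfl⟩ := hpq
    rw [pow_mul, hdp, one_pow]
  have hz₀c : t ^ q ∈ Subgroup.center R := by
    apply bad_central p hR hr W hW hWab hWcard y hy hyW _ hz₀W
    rw [hpow t ht, ← hd, hdq]
  have hZeq₀ := eq_zpowers_of_card_prime p _ hZcard (t ^ q) ⟨hz₀W, hz₀c⟩ hz₀1
  obtain ⟨e₀, he₀⟩ : ∃ e₀ : ℕ, z = (t ^ q) ^ e₀ := by
    apply exists_nat_pow_of_mem_zpowers
    rw [← hZeq₀]
    exact hzZ
  -- the data of `φ`
  have hφyB : φ y ∈ W ⊔ Subgroup.zpowers y := by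
    apply bad_mem_B p hR hr W hW hWab hWcard hp y hy hyW
    rw [← map_pow, hy, map_one]
  obtain ⟨ℓ, w', hw', hφy⟩ := exists_pow_mul_of_mem_sup W y _ hφyB
  obtain ⟨k, j, hφt⟩ := hgen _ (omegaZ_cent_map hW φ t ht)
  obtain ⟨m, h, hh, hφd⟩ := hWdec _ (omegaZ_map hW φ d hdW)
  refine ⟨ℓ, w', hw', hφy, ?_⟩
  have hoz : orderOf z = p := orderOf_eq_prime hzp hz1
  have htd : Commute t d := (Subgroup.mem_centralizer_iff.mp ht d hdW).symm
  have hR1 : φ z = z ^ (ℓ * m) := by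
    rw [hz, map_commutatorElement, hφy, hφd, commutatorElement_mul_right_central _ _ _ hh.2,
      commutatorElement_mul_left_commute _ _ _ (hWab w' hw' _ (Subgroup.pow_mem _ hdW m)),
      commutatorElement_pow_pow y d (by rw [← hz]; exact hzc y) (by rw [← hz]; exact hzc d)]
  have hφz₀ : φ (t ^ q) = (t ^ q) ^ k := by
    rw [map_pow, hφt, (Commute.pow_pow htd k j).mul_pow, ← pow_mul, ← pow_mul, mul_comm j q,
      pow_mul d, hdq, one_pow, mul_one, mul_comm k q, pow_mul]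
  have hR3 : φ z = z ^ k := by
    rw [he₀, map_pow, hφz₀]
    exact pow_right_comm _ _ _
  have hm1 : ℓ * m ≡ k [MOD p] := by
    rw [← hoz, ← pow_eq_pow_iff_modEq, ← hR1, hR3]
  have hpk : ¬ p ∣ k := by
    rintro ⟨c, rfl⟩
    rw [pow_mul, hz₀p, one_pow] at hφz₀
    exact hz₀1 ((map_eq_one_iff φ φ.injective).mp hφz₀)
  -- the quotient by `Z = W ∩ Z(R)`
  have hZn : (W ⊓ Subgroup.center R).Normal := inferInstance
  obtain ⟨π, hπ⟩ : ∃ π : R →* R ⧸ (W ⊓ Subgroup.center R), π = QuotientGroup.mk' _ := ⟨_, rfl⟩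
  have hπ1 : ∀ h ∈ W ⊓ Subgroup.center R, π h = 1 := by
    intro h hh
    rw [hπ, QuotientGroup.mk'_apply, QuotientGroup.eq_one_iff]
    exact hh
  have hπc : ∀ w ∈ W, π w ∈ Subgroup.center (R ⧸ (W ⊓ Subgroup.center R)) := by
    intro w hw
    rw [Subgroup.mem_center_iff]
    intro g
    obtain ⟨r, rfl⟩ := QuotientGroup.mk'_surjective (W ⊓ Subgroup.center R) g
    rw [← hπ, ← map_mul, ← map_mul]
    have h1 := omegaZ_comm_mem' hW w⁻¹ (W.inv_mem hw) r⁻¹
    have h2 : r * w = (w * r) * ⁅r⁻¹, w⁻¹⁆ := by rw [commutatorElement_def]; group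
    rw [h2, map_mul, hπ1 _ h1, mul_one]
  have hπd : π d ≠ 1 := by
    rw [hπ, QuotientGroup.mk'_apply, ne_eq, QuotientGroup.eq_one_iff]
    exact hdZ
  have hR2 : m ≡ ℓ * k [MOD p] := by
    have h1 : π (φ d) = π d ^ m := by rw [hφd, map_mul, map_pow, hπ1 h hh, mul_one]
    have h2 : π (φ d) = π d ^ (ℓ * k) := by
      have h3 : φ d = ⁅φ y, φ t⁆ := by rw [hd, map_commutatorElement]
      have h5 : ⁅π y, π t⁆ = π d := by rw [hd, map_commutatorElement]
      have h6 : ∀ g, ⁅π y, π t⁆ * g = g * ⁅π y, π t⁆ := by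
        intro g
        rw [h5]
        exact (Subgroup.mem_center_iff.mp (hπc d hdW) g).symm
      rw [h3, hφy, hφt, map_commutatorElement, map_mul, map_mul, map_pow, map_pow, map_pow,
        commutatorElement_mul_right_central _ _ _ (Subgroup.pow_mem _ (hπc d hdW) j),
        commutatorElement_mul_left_commute _ _ _
          ((Subgroup.mem_center_iff.mp (hπc w' hw') _).symm),
        commutatorElement_pow_pow _ _ (h6 _) (h6 _), h5]
    have hoπ : orderOf (π d) = p := orderOf_eq_prime (by rw [← map_pow, hdp, map_one]) hπd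
    rw [← hoπ, ← pow_eq_pow_iff_modEq, ← h1, h2]
  have hcop : Nat.gcd p k = 1 := (Nat.Prime.coprime_iff_not_dvd hpp).mpr hpk
  apply Nat.ModEq.cancel_right_of_coprime hcop
  calc ℓ * ℓ * k = ℓ * (ℓ * k) := by ring
    _ ≡ ℓ * m [MOD p] := Nat.ModEq.mul_left ℓ hR2.symm
    _ ≡ k [MOD p] := hm1
    _ = 1 * k := (one_mul k).symm

include hR hr hW hWab hWcard in
theorem bad_false (hp : 3 < p) (X : Subgroup (MulAut R)) (hXodd : Odd (Nat.card X))
    (hgen : Subgroup.closure {x : R | ∃ φ ∈ X, ∃ r : R, x = φ r * r⁻¹} = ⊤)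
    (y : R) (hy : y ^ p = 1) (hyW : y ∉ W) : False := by
  have hpp : p.Prime := Fact.out
  obtain ⟨t, ht, hdc, htgen⟩ := bad_exists_t p hR hr W hW hWab hWcard hp y hy hyW
  obtain ⟨-, hdec⟩ := bad_decomp p hR hr W hW hWab hWcard y hy hyW
  have hTchar : (Subgroup.centralizer (W : Set R)).Characteristic :=
    omegaZ_cent_characteristic hW
  have hyT : y ∉ Subgroup.centralizer (W : Set R) :=
    fun h => hyW (bad_mem_of_cent p hr W hW hWab hWcard y h hy)
  have hWT := bad_W_le_cent W hWab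
  have key : ∀ φ ∈ X, ∀ r : R, φ r * r⁻¹ ∈ Subgroup.centralizer (W : Set R) := by
    intro φ hφ r
    obtain ⟨ℓ, w', hw', hφy, hℓ⟩ :=
      bad_aut p hR hr W hW hWab hWcard hp y hy hyW t ht hdc htgen φ
    have hoy : orderOf (QuotientGroup.mk y : R ⧸ Subgroup.centralizer (W : Set R)) = p := by
      apply orderOf_eq_prime
      · rw [← QuotientGroup.mk_pow, hy]
        rfl
      · rw [ne_eq, QuotientGroup.eq_one_iff]
        exact hyT
    have hψy : quotAut (Subgroup.centralizer (W : Set R)) φ (QuotientGroup.mk y)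
        = (QuotientGroup.mk y) ^ ℓ := by
      rw [quotAut_mk, hφy, QuotientGroup.mk_mul, QuotientGroup.mk_pow,
        (QuotientGroup.eq_one_iff w').mpr (hWT hw'), mul_one]
    have hψn : ∀ n : ℕ, ((quotAut (Subgroup.centralizer (W : Set R)) φ) ^ n)
        (QuotientGroup.mk y) = (QuotientGroup.mk y) ^ (ℓ ^ n) := by
      intro n
      induction n with
      | zero => simp
      | succ n ih =>
        rw [pow_succ', MulAut.mul_apply, ih, map_pow, hψy, ← pow_mul, ← pow_succ']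
    have hN : (quotAut (Subgroup.centralizer (W : Set R)) φ) ^ (orderOf φ) = 1 := by
      rw [← map_pow, pow_orderOf_eq_one, map_one]
    have h1 := hψn (orderOf φ)
    rw [hN, MulAut.one_apply] at h1
    have h2 : ℓ ^ orderOf φ ≡ 1 [MOD p] := by
      rw [← hoy, ← pow_eq_pow_iff_modEq, ← h1, pow_one]
    have hodd : Odd (orderOf φ) := Odd.of_dvd_nat hXodd (Subgroup.orderOf_dvd_natCard X hφ)
    obtain ⟨a, ha⟩ := hodd
    have h3 : ℓ ≡ 1 [MOD p] := by
      have h4 : ℓ ^ orderOf φ ≡ ℓ [MOD p] := by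
        rw [ha, pow_succ, pow_mul]
        calc (ℓ ^ 2) ^ a * ℓ ≡ 1 ^ a * ℓ [MOD p] :=
              Nat.ModEq.mul_right ℓ (Nat.ModEq.pow a (by rw [sq]; exact hℓ))
          _ = ℓ := by rw [one_pow, one_mul]
      exact h4.symm.trans h2
    have h5 : (QuotientGroup.mk (φ y) : R ⧸ Subgroup.centralizer (W : Set R))
        = QuotientGroup.mk y := by
      rw [← quotAut_mk, hψy]
      have h6 : (QuotientGroup.mk y : R ⧸ Subgroup.centralizer (W : Set R)) ^ ℓ
          = (QuotientGroup.mk y) ^ 1 := by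
        rw [pow_eq_pow_iff_modEq, hoy]
        exact h3
      rw [h6, pow_one]
    obtain ⟨i, s, hs, rfl⟩ := hdec r
    rw [← QuotientGroup.eq_one_iff, QuotientGroup.mk_mul, QuotientGroup.mk_inv, map_mul, map_pow,
      QuotientGroup.mk_mul, QuotientGroup.mk_pow, h5,
      (QuotientGroup.eq_one_iff (φ s)).mpr (omegaZ_cent_map hW φ s hs), mul_one,
      QuotientGroup.mk_mul, QuotientGroup.mk_pow, (QuotientGroup.eq_one_iff s).mpr hs, mul_one,
      mul_inv_cancel]
  have hle : Subgroup.closure {x : R | ∃ φ ∈ X, ∃ r : R, x = φ r * r⁻¹}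
      ≤ Subgroup.centralizer (W : Set R) := by
    rw [Subgroup.closure_le]
    rintro x ⟨φ, hφ, r, rfl⟩
    exact key φ hφ r
  rw [hgen] at hle
  exact hyT (hle (Subgroup.mem_top y))

end Bad

/-- A normal subgroup of order `p ^ 2` of a finite `p`-group lies in the second centre. -/
theorem normal_card_sq_le_ucs_two {R : Type u} [Group R] [Finite R] (p : ℕ) [Fact p.Prime]
    (hR : IsPGroup p R) (V : Subgroup R) [hVn : V.Normal] (hV : Nat.card V = p ^ 2) :
    V ≤ Subgroup.upperCentralSeries R 2 := by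
  have hpp : p.Prime := Fact.out
  have hVne : V ≠ ⊥ := by
    intro h
    rw [h, Subgroup.card_bot] at hV
    have h2 : 1 < p ^ 2 := Nat.one_lt_pow (by norm_num) hpp.one_lt
    omega
  obtain ⟨z₁, hz₁V, hz₁c, hz₁1, hz₁p⟩ :=
    Cfsg.Agent.Lib.helper3.exists_central_of_normal_ne_bot hR V hVne
  have hNc : Subgroup.zpowers z₁ ≤ Subgroup.center R := by rwa [Subgroup.zpowers_le]
  have hNn : (Subgroup.zpowers z₁).Normal := by
    refine ⟨fun w hw g => ?_⟩
    have := Subgroup.mem_center_iff.mp (hNc hw) g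
    rw [this, mul_inv_cancel_right]
    exact hw
  have hNcard : Nat.card (Subgroup.zpowers z₁) = p := card_zpowers_of_pow_eq_one p z₁ hz₁p hz₁1
  have hNV : Subgroup.zpowers z₁ ≤ V := by rwa [Subgroup.zpowers_le]
  have h1 := Cfsg.Agent.Lib.helper65.card_eq_card_inf_mul_card_map (Subgroup.zpowers z₁) V
  rw [inf_eq_right.mpr hNV, hNcard, hV, sq] at h1
  have hVbar : Nat.card (V.map (QuotientGroup.mk' (Subgroup.zpowers z₁))) = p :=
    (Nat.eq_of_mul_eq_mul_left hpp.pos h1).symm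
  have hVbn : (V.map (QuotientGroup.mk' (Subgroup.zpowers z₁))).Normal :=
    Subgroup.Normal.map hVn _ (QuotientGroup.mk'_surjective _)
  have hVbne : V.map (QuotientGroup.mk' (Subgroup.zpowers z₁)) ≠ ⊥ := by
    intro h
    rw [h, Subgroup.card_bot] at hVbar
    have := hpp.one_lt
    omega
  have hQ : IsPGroup p (R ⧸ Subgroup.zpowers z₁) := hR.to_quotient _
  obtain ⟨c, hcV, hcc, hc1, -⟩ :=
    Cfsg.Agent.Lib.helper3.exists_central_of_normal_ne_bot hQ _ hVbne
  have hVbeq := eq_zpowers_of_card_prime p _ hVbar c hcV hc1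
  intro v hv
  rw [mem_ucs_two]
  intro r
  rw [← commutatorElement_def]
  apply hNc
  apply commutator_mem_of_quot_comm
  have h2 : (QuotientGroup.mk v : R ⧸ Subgroup.zpowers z₁)
      ∈ Subgroup.center (R ⧸ Subgroup.zpowers z₁) := by
    have h3 : (QuotientGroup.mk v : R ⧸ Subgroup.zpowers z₁)
        ∈ V.map (QuotientGroup.mk' (Subgroup.zpowers z₁)) := ⟨v, hv, rfl⟩
    rw [hVbeq] at h3
    exact (Subgroup.zpowers_le.mpr hcc) h3
  exact (Subgroup.mem_center_iff.mp h2 _).symm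

/-- **Rank two and `R = [R, X]`**, `X` of odd order prime to `p`, `p > 3`: `R` is abelian or the
central product of a non-abelian group of order `p ^ 3` and exponent `p` with a cyclic group. -/
theorem rank_two_main {R : Type u} [Group R] [Finite R] (p : ℕ) [Fact p.Prime] (hp : 3 < p)
    (hR : IsPGroup p R) (hr : Cfsg.PRankLE p 2 R) (X : Subgroup (MulAut R))
    (hXodd : Odd (Nat.card X)) (hXcop : (Nat.card X).Coprime p)
    (hgen : Subgroup.closure {x : R | ∃ φ ∈ X, ∃ r : R, x = φ r * r⁻¹} = ⊤) :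
    (∀ x y : R, x * y = y * x) ∨ ∃ R₁ R₂ : Subgroup R, R₁ ⊔ R₂ = ⊤ ∧
      (∀ a ∈ R₁, ∀ b ∈ R₂, a * b = b * a) ∧ (∃ u ∈ R₁, ∃ v ∈ R₁, u * v ≠ v * u) ∧
      Nat.card R₁ = p ^ 3 ∧ (∀ a ∈ R₁, a ^ p = 1) ∧ IsCyclic R₂ ∧
      Subgroup.closure {x : R | x ∈ R₂ ∧ x ^ p = 1} = ⁅R₁, R₁⁆ := by
  have hpp : p.Prime := Fact.out
  have hp2 : p ≠ 2 := by omega
  obtain ⟨W, hW⟩ := exists_omega p hp2 (Subgroup.upperCentralSeries R 2) (by
    intro x hx y _ z _
    exact (Subgroup.mem_center_iff.mp ((mem_ucs_two x).mp hx y) z).symm)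
  have hWn : W.Normal := omegaZ_normal hW
  by_cases hWab : ∀ a ∈ W, ∀ b ∈ W, a * b = b * a
  swap
  · right
    push Not at hWab
    obtain ⟨u, hu, v, hv, huv⟩ := hWab
    obtain ⟨R₂, h1, h2, h3, h4, h5⟩ := rank_two_extraspecial p hp2 hR hr W hW u v hu hv huv
    exact ⟨W, R₂, h1, h2, ⟨u, hu, v, hv, huv⟩, h3, fun a ha => omegaZ_pow hW a ha, h4, h5⟩
  left
  by_cases hcyc : IsCyclic R
  · intro x y
    exact mul_comm_of_isCyclic x y
  have hS : ¬ IsCyclic ↥(⊤ : Subgroup R) := by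
    intro h
    apply hcyc
    exact isCyclic_of_surjective (Subgroup.topEquiv : (⊤ : Subgroup R) ≃* R)
      Subgroup.topEquiv.surjective
  obtain ⟨V, -, hVn, hVe, hVcard⟩ := Cfsg.Agent.S0636.result hp2 hR ⊤ hS
  have hVW : V ≤ W := by
    intro v hv
    rw [hW]
    exact ⟨normal_card_sq_le_ucs_two p hR V hVcard hv, hVe.2 v hv⟩
  have hWcard : Nat.card W = p ^ 2 := by
    apply le_antisymm
    · exact card_le_of_prankLE p 2 hr W hWab (fun a ha => omegaZ_pow hW a ha)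
    · rw [← hVcard]
      exact Subgroup.card_le_of_le hVW
  by_cases hΩ : ∀ x : R, x ^ p = 1 → x ∈ W
  · have hO : Nat.card ↥(Cfsg.omegaOne p (⊤ : Subgroup R)) ≤ p ^ 2 := by
      rw [← hWcard]
      apply Subgroup.card_le_of_le
      unfold Cfsg.omegaOne
      rw [Subgroup.closure_le]
      rintro x ⟨-, hx⟩
      exact hΩ x hx
    have hm := huppert p hp hR hO
    exact metacyclic_comm p hp2 hR hm X hXcop hgen
  · exfalso
    push Not at hΩ
    obtain ⟨y, hy, hyW⟩ := hΩ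
    exact bad_false p hR hr W hW hWab hWcard hp X hXodd hgen y hy hyW

end Cfsg.Agent.Lib.helper30
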