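import Cfsg.Agent.Lib.helper13.BGExc
import Cfsg.Agent.S1394
import Cfsg.Agent.S1395
import Cfsg.Agent.S1396
import Cfsg.Agent.S1410
import Cfsg.Agent.S1411
import Cfsg.Agent.Lib.helper29.Trans3
import Cfsg.Agent.Lib.helper28.PConn
import Cfsg.Agent.Lib.helper65.Fitting

/-!
Bender–Glauberman Lemma 10.9 (a), (b) (helper30): `P10_9 G` of `Lib/helper13/BGExc.lean`.
-/

set_option autoImplicit false

namespace Cfsg.Agent.Lib.helper30.BGTenNine

open Cfsg

variable {G : Type*} [Group G]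

/-- A Sylow subgroup has a complement in its normalizer (Schur–Zassenhaus). -/
theorem exists_isComplIn_sylow [Finite G] {p : ℕ} [Fact p.Prime] (P : Sylow p G) :
    ∃ V : Subgroup G,
      IsComplIn (P : Subgroup G) V (Subgroup.normalizer ((P : Subgroup G) : Set G)) := by
  have hpp : p.Prime := Fact.out
  set N := Subgroup.normalizer ((P : Subgroup G) : Set G) with hN
  have hPN : (P : Subgroup G) ≤ N := Subgroup.le_normalizer
  set H : Subgroup N := (P : Subgroup G).subgroupOf N with hH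
  have hHn : H.Normal := Subgroup.normal_in_normalizer
  have hcardH : Nat.card H = Nat.card (P : Subgroup G) :=
    Nat.card_congr (Subgroup.subgroupOfEquivOfLe hPN).toEquiv
  have hidx : ¬ p ∣ H.index := by
    intro h
    exact P.not_dvd_index (h.trans (Subgroup.relIndex_dvd_index_of_le hPN))
  have hcop : (Nat.card H).Coprime H.index := by
    obtain ⟨n, hn⟩ := IsPGroup.iff_card.mp P.isPGroup'
    rw [hcardH, hn]
    exact Nat.Coprime.pow_left n ((Nat.Prime.coprime_iff_not_dvd hpp).mpr hidx)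
  obtain ⟨K, hK⟩ := Subgroup.exists_right_complement'_of_coprime hcop
  refine ⟨K.map N.subtype, hPN, Subgroup.map_subtype_le K, ?_, ?_⟩
  · rw [eq_bot_iff]
    rintro x ⟨hx1, ⟨k, hk, rfl⟩⟩
    have h1 : k ∈ H ⊓ K := ⟨Subgroup.mem_subgroupOf.mpr hx1, hk⟩
    rw [hK.disjoint.eq_bot, Subgroup.mem_bot] at h1
    rw [Subgroup.mem_bot, h1]
    rfl
  · intro m hm
    obtain ⟨⟨h, k⟩, hhk, -⟩ := (Subgroup.isComplement'_def.mp hK).existsUnique ⟨m, hm⟩
    refine ⟨(h : N), Subgroup.mem_subgroupOf.mp h.2, (k : N), ⟨k, k.2, rfl⟩, ?_⟩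
    have := congrArg Subtype.val hhk
    exact this.symm

/-- A maximal elementary abelian `p`-subgroup contains every element of order dividing `p` of its
centralizer. -/
theorem mem_of_pow_eq_one_of_max {p : ℕ} {A : Subgroup G} (hA : IsElementaryAbelian p A)
    (hmax : ∀ B : Subgroup G, IsElementaryAbelian p B → A ≤ B → B = A) {x : G}
    (hx : x ∈ Subgroup.centralizer (A : Set G)) (hxp : x ^ p = 1) : x ∈ A := by
  have hAc := hA.1
  have h1 : A ≤ Subgroup.centralizer (A : Set G) := by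
    intro a ha
    rw [Subgroup.mem_centralizer_iff]
    intro h hh
    exact congrArg Subtype.val (hAc.is_comm.comm (⟨h, hh⟩ : A) ⟨a, ha⟩)
  have h2 : Subgroup.zpowers x ≤ Subgroup.centralizer (A : Set G) := (Subgroup.zpowers_le).mpr hx
  have h3 : A ≤ Subgroup.centralizer ((Subgroup.zpowers x : Subgroup G) : Set G) :=
    Subgroup.le_centralizer_iff.mp h2
  have h4 : Subgroup.zpowers x ≤ Subgroup.centralizer ((Subgroup.zpowers x : Subgroup G) : Set G) := by
    rw [Subgroup.zpowers_le, Subgroup.mem_centralizer_iff]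
    rintro _ ⟨k, rfl⟩
    exact ((Commute.refl x).zpow_left k).eq
  have hBc : A ⊔ Subgroup.zpowers x ≤
      Subgroup.centralizer ((A ⊔ Subgroup.zpowers x : Subgroup G) : Set G) :=
    sup_le (Subgroup.le_centralizer_iff.mp (sup_le h1 h2))
      (Subgroup.le_centralizer_iff.mp (sup_le h3 h4))
  have hB : IsElementaryAbelian p (A ⊔ Subgroup.zpowers x) := by
    refine ⟨⟨⟨fun a b => Subtype.ext ?_⟩⟩, ?_⟩
    · exact (Subgroup.mem_centralizer_iff.mp (hBc b.2) a a.2)
    · intro b hb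
      obtain ⟨a, ha, z, hz, rfl⟩ := Cfsg.Agent.Lib.helper29.exists_mul_of_mem_sup_of_commute
        (fun a ha z hz => (Subgroup.mem_centralizer_iff.mp (h3 ha) z hz).symm) hb
      have hcomm : Commute a z := (Subgroup.mem_centralizer_iff.mp (h3 ha) z hz).symm
      obtain ⟨k, rfl⟩ := hz
      rw [hcomm.mul_pow, hA.2 a ha, one_mul, ← zpow_natCast, ← zpow_mul, mul_comm, zpow_mul,
        zpow_natCast, hxp, one_zpow]
  have := hmax _ hB le_sup_left
  rw [← this]
  exact Subgroup.mem_sup_right (Subgroup.mem_zpowers x)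

/-- Bender–Glauberman Lemma 10.9 (a), (b). -/
theorem p10_9 [Finite G] (hG : IsMinSimpleOddOrder G) : Cfsg.Agent.Lib.helper13.P10_9 G := by
  intro p hp A hA hAcard hAmax q Q hq hqp hqC hQ
  have hpp : p.Prime := hp.out
  have hAp : IsPGroup p A := IsPGroup.of_card hAcard
  have hAc : IsMulCommutative A := hA.1
  have hpA : p ∣ Nat.card A := by
    rw [hAcard]
    exact dvd_pow_self p (by norm_num)
  have hpG : p ∣ Nat.card G := hpA.trans (Subgroup.card_subgroup_dvd_card A)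
  have hqA : ¬ q ∣ Nat.card A := by
    rw [hAcard]
    intro h
    exact hqp ((Nat.prime_dvd_prime_iff_eq hq hpp).mp (hq.dvd_of_dvd_pow h))
  have hTH : TransitivityHypothesis A :=
    Cfsg.Agent.S1396.result hG p hpG A hAp hAc (Or.inl
      ⟨fun x hx => ⟨fun hxp => mem_of_pow_eq_one_of_max hA hAmax hx hxp, fun hxA => hA.2 x hxA⟩,
        fun H hH => Cfsg.Agent.S1410.result hG p H hH⟩)
  have hAcent : A ≤ Subgroup.centralizer (A : Set G) := by
    intro a ha
    rw [Subgroup.mem_centralizer_iff]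
    intro h hh
    exact congrArg Subtype.val (hAc.is_comm.comm (⟨h, hh⟩ : A) ⟨a, ha⟩)
  have hZ : ¬ RankLE 1 ↥(A ⊓ Subgroup.centralizer (A : Set G)) := fun h =>
    (Cfsg.Agent.Lib.helper28.not_pRankLE_subgroup_iff p 1 _).mpr
      ⟨A, le_inf le_rfl hAcent, hA, by
        rw [hAcard]
        exact Nat.pow_lt_pow_right hpp.one_lt (by norm_num)⟩ (h p hpp)
  have htr := Cfsg.Agent.S1394.result hG A hTH hZ q hq hqA hqC
  obtain ⟨S₀, hAS₀⟩ := hAp.exists_le_sylow
  have hS₀top : (S₀ : Subgroup G) ≠ ⊤ := by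
    intro h
    have hqG : q ∣ Nat.card G := hqC.trans (Subgroup.card_subgroup_dvd_card _)
    obtain ⟨n, hn⟩ := IsPGroup.iff_card.mp S₀.isPGroup'
    rw [h, Subgroup.card_top] at hn
    rw [hn] at hqG
    exact hqp ((Nat.prime_dvd_prime_iff_eq hq hpp).mp (hq.dvd_of_dvd_pow hqG))
  have hPπ : ∀ r : ℕ, r.Prime → r ∣ Nat.card (S₀ : Subgroup G) → r ∣ Nat.card A := by
    intro r hr hrS
    obtain ⟨s, hs⟩ := IsPGroup.iff_card.mp S₀.isPGroup'
    rw [hs] at hrS
    rw [(Nat.prime_dvd_prime_iff_eq hr hpp).mp (hr.dvd_of_dvd_pow hrS)]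
    exact hpA
  have hsn : (A.subgroupOf (S₀ : Subgroup G)).IsSubnormal := by
    have : Group.IsNilpotent (S₀ : Subgroup G) := S₀.isPGroup'.isNilpotent
    exact Cfsg.Agent.Lib.helper65.isSubnormal_of_isNilpotent _
  have h395 := Cfsg.Agent.S1395.result hG A hTH q hq hqA (S₀ : Subgroup G) hS₀top hPπ hAS₀ hsn htr
  obtain ⟨Q', hQ', -⟩ := Cfsg.Agent.Lib.helper29.exists_maxInv_ge
    (Cfsg.Agent.Lib.helper29.bot_mem_invSubgroups (S₀ : Subgroup G) {q})
  have hQ'A : Q' ∈ maxInvSubgroups ⊤ A {q} := h395.2.2.1 hQ'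
  obtain ⟨k, hk, hQeq⟩ := htr Q' hQ'A Q hQ
  have hkC : k ∈ Subgroup.centralizer (A : Set G) := Cfsg.Agent.Lib.helper29.piCoreOf_le _ _ hk
  obtain ⟨hd1, hd2⟩ := h395.2.2.2 Q' hQ'
  obtain ⟨V, hV⟩ := exists_isComplIn_sylow S₀
  have hS₀comm := (Cfsg.Agent.S1411.result hG p S₀ V hV).2
  have hS₀Q' : (S₀ : Subgroup G) ≤
      ⁅Subgroup.normalizer (Q' : Set G), Subgroup.normalizer (Q' : Set G)⁆ :=
    (le_inf le_rfl hS₀comm).trans hd1
  have hNS₀ : Subgroup.normalizer ((S₀ : Subgroup G) : Set G) ≤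
      Subgroup.centralizer ((S₀ : Subgroup G) : Set G) ⊔ Subgroup.normalizer (Q' : Set G) := by
    intro x hx
    rw [hd2] at hx
    exact (sup_le ((Cfsg.Agent.Lib.helper29.piCoreOf_le _ _).trans le_sup_left)
      (inf_le_right.trans le_sup_right)) hx
  -- conjugate by `k`
  have hcoe : ((k • S₀ : Sylow p G) : Subgroup G) =
      (S₀ : Subgroup G).map (MulAut.conj k).toMonoidHom := by
    rw [Sylow.coe_subgroup_smul]
    rfl
  have hNmap : ∀ H : Subgroup G, (Subgroup.normalizer (H : Set G)).map (MulAut.conj k).toMonoidHom =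
      Subgroup.normalizer ((H.map (MulAut.conj k).toMonoidHom : Subgroup G) : Set G) :=
    fun H => Subgroup.map_equiv_normalizer_eq H (MulAut.conj k)
  refine ⟨k • S₀, ?_, ?_, ?_⟩
  · intro x hx
    rw [hcoe]
    refine ⟨x, hAS₀ hx, ?_⟩
    have h1 := Subgroup.mem_centralizer_iff.mp hkC x hx
    show k * x * k⁻¹ = x
    rw [← h1, mul_inv_cancel_right]
  · rw [hcoe, hQeq, ← hNmap, ← Subgroup.map_commutator]
    exact Subgroup.map_mono hS₀Q'
  · rw [hcoe, hQeq, ← hNmap, ← hNmap]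
    refine (Subgroup.map_mono hNS₀).trans ?_
    rw [Subgroup.map_sup]
    refine sup_le_sup_right ?_ _
    rintro _ ⟨c, hc, rfl⟩
    rw [Subgroup.mem_centralizer_iff]
    rintro _ ⟨s, hs, rfl⟩
    have h1 := Subgroup.mem_centralizer_iff.mp hc s hs
    show k * s * k⁻¹ * (k * c * k⁻¹) = k * c * k⁻¹ * (k * s * k⁻¹)
    have e1 : k * s * k⁻¹ * (k * c * k⁻¹) = k * (s * c) * k⁻¹ := by group
    have e2 : k * c * k⁻¹ * (k * s * k⁻¹) = k * (c * s) * k⁻¹ := by group
    rw [e1, e2, h1]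

end Cfsg.Agent.Lib.helper30.BGTenNine
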