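import Mathlib
import Cfsg.Agent.S1416
import Cfsg.Agent.S1417
import Cfsg.Agent.Lib.helper97.BGSeven2
import Cfsg.Agent.Lib.helper97.BGSeven4
import Cfsg.Agent.Lib.helper97.BGEightDefs
import Cfsg.Agent.Lib.helper66.AbelianCoprime
import Cfsg.Agent.Lib.helper30.AutElemAb
import Cfsg.Agent.Lib.helper30.RankTwoD

/-!
# S1421, piece PAD (helper30): an `E`-invariant cyclic subgroup of full exponent with regular socle

* `bg8_comm_le_cent` : commutators of `N_G(A)` centralize `A` (abelian Sylow situation).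
* `pad_pure` : a finite abelian `p`-group `T` (`p` odd) with `|Ω₁(T)| = p²`, acted on by a
  `p'`-group `X` of automorphisms normalizing a subgroup of order `p`, has an `X`-invariant cyclic
  subgroup `D ≠ 1` with `t ^ |D| = 1` for all `t`.
* `bg8_exists_cyclic` : the exact statement of piece PAD of `tools/S1421_SPEC.md`.
-/

set_option autoImplicit false

namespace Cfsg.Agent.Lib.helper30

open Cfsg Cfsg.Agent.Lib.helper97

variable {G : Type*} [Group G]

/-- Commutators of elements of `N_G(A)` centralize `A` (in the abelian Sylow situation). -/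
theorem bg8_comm_le_cent [Finite G] (hG : IsMinSimpleOddOrder G)
    {M E A : Subgroup G} {p : ℕ} [Fact p.Prime] {S : Sylow p G} (c : BG8Ctx M E A p S) :
    ∀ x ∈ Subgroup.normalizer (A : Set G), ∀ y ∈ Subgroup.normalizer (A : Set G),
      x * y * x⁻¹ * y⁻¹ ∈ Subgroup.centralizer (A : Set G) := by
  intro x hx y hy
  have hpp : p.Prime := Fact.out
  obtain ⟨hodd, -, -, hsolv⟩ := id hG
  obtain ⟨hAE, hAe, hA2⟩ := c.hA
  have hAel := (Cfsg.Agent.Lib.helper8.bg_elemAb_iff A).mp hAe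
  have hp2 : p ≠ 2 := by
    rintro rfl
    have h1 : 2 ∣ Nat.card A := by rw [hA2]; exact dvd_pow_self 2 (by norm_num)
    have h2 : 2 ∣ Nat.card G := h1.trans (Subgroup.card_subgroup_dvd_card A)
    exact (Nat.not_even_iff_odd.mpr hodd) (even_iff_two_dvd.mpr h2)
  have hA1 : A ≠ ⊥ := by
    intro h
    rw [h, Subgroup.card_bot] at hA2
    have : 1 < p ^ 2 := Nat.one_lt_pow (by norm_num) hpp.one_lt
    omega
  have hAtop : A ≠ ⊤ := by
    intro h
    have h1 : M = ⊤ := top_le_iff.mp (h ▸ hAE.trans c.hE.1)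
    exact c.hM.1 h1
  have hN : Subgroup.normalizer (A : Set G) ≠ ⊤ := bg7_normalizer_ne_top hG hA1 hAtop
  have hsolvN : Group.IsSolvable ↥(Subgroup.normalizer (A : Set G)) := hsolv _ hN
  have hNodd : Odd (Nat.card ↥(Subgroup.normalizer (A : Set G))) :=
    Odd.of_dvd_nat hodd (Subgroup.card_subgroup_dvd_card _)
  have hcommA : ∀ a b : A, a * b = b * a := fun a b => Subtype.ext (hAel.1 a a.2 b b.2)
  have hexpA : ∀ v : A, v ^ p = 1 := fun v => Subtype.ext (by simpa using hAel.2 v v.2)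
  have hcardA : Nat.card A ∣ p ^ 2 := by rw [hA2]
  have key := mulAut_commutator_pow p hp2 hcommA hexpA hcardA hNodd A.normalizerMonoidHom
  have hc : (⟨x, hx⟩ * ⟨y, hy⟩ * ⟨x, hx⟩⁻¹ * ⟨y, hy⟩⁻¹ :
      ↥(Subgroup.normalizer (A : Set G))) ∈ commutator ↥(Subgroup.normalizer (A : Set G)) := by
    rw [commutator_def]
    have h := Subgroup.commutator_mem_commutator
      (Subgroup.mem_top (⟨x, hx⟩ : ↥(Subgroup.normalizer (A : Set G))))
      (Subgroup.mem_top (⟨y, hy⟩ : ↥(Subgroup.normalizer (A : Set G))))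
    rwa [commutatorElement_def] at h
  have h1 := key _ hc
  have hSC : (S : Subgroup G) ≤ Subgroup.centralizer (A : Set G) := by
    intro s hs
    rw [Subgroup.mem_centralizer_iff]
    intro a ha
    exact c.hSab a (c.hAS ha) s hs
  have hSN : (S : Subgroup G) ≤ Subgroup.normalizer (A : Set G) :=
    hSC.trans (Subgroup.centralizer_le_normalizer _)
  have hcop : ¬ p ∣ Nat.card A.normalizerMonoidHom.range := by
    rw [← Subgroup.index_ker, Subgroup.normalizerMonoidHom_ker]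
    intro hd
    have h2 : (Subgroup.centralizer (A : Set G)).relIndex (Subgroup.normalizer (A : Set G)) ∣
        (S : Subgroup G).relIndex (Subgroup.normalizer (A : Set G)) :=
      Subgroup.relIndex_dvd_of_le_left _ hSC
    have h3 : (S : Subgroup G).relIndex (Subgroup.normalizer (A : Set G)) ∣
        (S : Subgroup G).index := Subgroup.relIndex_dvd_index_of_le hSN
    exact S.not_dvd_index (hd.trans (h2.trans h3))
  have h4 : A.normalizerMonoidHom
      (⟨x, hx⟩ * ⟨y, hy⟩ * ⟨x, hx⟩⁻¹ * ⟨y, hy⟩⁻¹ : ↥(Subgroup.normalizer (A : Set G))) = 1 := by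
    have ho1 := orderOf_dvd_of_pow_eq_one h1
    have ho2 := Subgroup.orderOf_dvd_natCard A.normalizerMonoidHom.range
      (MonoidHom.mem_range.mpr ⟨_, rfl⟩ : A.normalizerMonoidHom
        (⟨x, hx⟩ * ⟨y, hy⟩ * ⟨x, hx⟩⁻¹ * ⟨y, hy⟩⁻¹ : ↥(Subgroup.normalizer (A : Set G))) ∈
          A.normalizerMonoidHom.range)
    rcases (Nat.dvd_prime hpp).mp ho1 with h | h
    · exact orderOf_eq_one_iff.mp h
    · exact absurd (h ▸ ho2) hcop
  have h5 : (⟨x, hx⟩ * ⟨y, hy⟩ * ⟨x, hx⟩⁻¹ * ⟨y, hy⟩⁻¹ : ↥(Subgroup.normalizer (A : Set G))) ∈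
      A.normalizerMonoidHom.ker := h4
  rw [Subgroup.normalizerMonoidHom_ker, Subgroup.mem_subgroupOf] at h5
  exact h5

/-- A finite abelian `p`-group `T` (`p` odd) whose elements of order dividing `p` form a subgroup
`Ω` of order `p²`, with a `p'`-group `X` of automorphisms normalizing a subgroup `B` of order `p`,
has an `X`-invariant cyclic subgroup `D ≠ 1` with `t ^ |D| = 1` for all `t` and `|Ω ∩ D| = p`. -/
theorem pad_pure {T : Type*} [Group T] [Finite T] (hcomm : ∀ a b : T, a * b = b * a)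
    (p : ℕ) [Fact p.Prime] (hp2 : p ≠ 2) (hT : IsPGroup p T)
    (X : Subgroup (MulAut T)) (hX : (Nat.card X).Coprime p)
    (Ω : Subgroup T) (hΩ : ∀ t : T, t ^ p = 1 ↔ t ∈ Ω) (hΩc : Nat.card Ω = p ^ 2)
    (B : Subgroup T) (hBc : Nat.card B = p) (hBinv : ∀ x ∈ X, ∀ b ∈ B, x b ∈ B) :
    ∃ D : Subgroup T, (∀ x ∈ X, ∀ d ∈ D, x d ∈ D) ∧ IsCyclic D ∧ Nat.card ↥(Ω ⊓ D) = p ∧
      ∀ t : T, t ^ Nat.card D = 1 := by
  classical
  have hpp : p.Prime := Fact.out
  let _ : CommGroup T := { ‹Group T› with mul_comm := hcomm }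
  have hker : (powMonoidHom p : T →* T).ker = Ω := by
    ext t
    rw [MonoidHom.mem_ker, powMonoidHom_apply]
    exact hΩ t
  have hBΩ : B ≤ Ω := by
    intro b hb
    apply (hΩ b).mp
    have h1 : (⟨b, hb⟩ : B) ^ p = 1 := by rw [← hBc]; exact pow_card_eq_one'
    have h2 := congrArg (fun z : B => (z : T)) h1
    simpa using h2
  have hB1 : B ≠ ⊥ := by
    intro h
    rw [h, Subgroup.card_bot] at hBc
    exact hpp.one_lt.ne hBc
  have hBne : B ≠ Ω := by
    intro h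
    rw [h, hΩc] at hBc
    have h1 : p < p ^ 2 := by
      have := hpp.one_lt
      nlinarith
    omega
  obtain ⟨F₁, F₂, hF₁, hF₂, hF₁1, hF₂1, hinf, hsup⟩ :=
    Cfsg.Agent.Lib.helper66.decomposable_of_reducible hT X hX (Nat.card (⊤ : Subgroup T)) ⊤ rfl
      (Cfsg.Agent.Lib.helper66.autInv_top X)
      ⟨B, hBinv, by rw [top_inf_eq, hker]; exact hBΩ, hB1, by rw [top_inf_eq, hker]; exact hBne⟩
  have hex : ∀ K : Subgroup T, K ≠ ⊥ → ∃ x ∈ K, x ≠ 1 ∧ x ^ p = 1 := by
    intro K hK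
    have hKp : IsPGroup p K := hT.to_subgroup K
    obtain ⟨n, hn⟩ := IsPGroup.iff_card.mp hKp
    have hn0 : n ≠ 0 := by
      rintro rfl
      rw [pow_zero] at hn
      exact hK (Subgroup.card_eq_one.mp hn)
    have hdvd : p ∣ Nat.card K := by rw [hn]; exact dvd_pow_self p hn0
    obtain ⟨x, hx⟩ := exists_prime_orderOf_dvd_card' p hdvd
    refine ⟨x, x.2, ?_, ?_⟩
    · intro h
      have h1 : x = 1 := Subtype.ext h
      rw [h1, orderOf_one] at hx
      exact hpp.one_lt.ne hx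
    · have h1 : x ^ p = 1 := by rw [← hx]; exact pow_orderOf_eq_one x
      have h2 := congrArg (fun z : K => (z : T)) h1
      simpa using h2
  have hcyc : ∀ F F' : Subgroup T, F ≠ ⊥ → F' ≠ ⊥ → F ⊓ F' = ⊥ →
      IsCyclic F ∧ Nat.card ↥(Ω ⊓ F) = p := by
    intro F F' hF hF' hFF'
    obtain ⟨x, hxF, hx1, hxp⟩ := hex F hF
    obtain ⟨x', hx'F, hx'1, hx'p⟩ := hex F' hF'
    have hZdvd : Nat.card ↥(Ω ⊓ F) ∣ p ^ 2 := by
      rw [← hΩc]; exact Subgroup.card_dvd_of_le inf_le_left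
    obtain ⟨j, hj, hZj⟩ := (Nat.dvd_prime_pow hpp).mp hZdvd
    have hZ : Nat.card ↥(Ω ⊓ F) = p := by
      interval_cases j
      · exfalso
        rw [pow_zero] at hZj
        have h1 : Ω ⊓ F = ⊥ := Subgroup.card_eq_one.mp hZj
        have h2 : x ∈ Ω ⊓ F := ⟨(hΩ x).mp hxp, hxF⟩
        rw [h1, Subgroup.mem_bot] at h2
        exact hx1 h2
      · rw [hZj, pow_one]
      · exfalso
        have h1 : Ω ⊓ F = Ω := Subgroup.eq_of_le_of_card_ge inf_le_left (by rw [hZj, hΩc])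
        have h2 : x' ∈ F ⊓ F' := ⟨(inf_eq_left.mp h1) ((hΩ x').mp hx'p), hx'F⟩
        rw [hFF', Subgroup.mem_bot] at h2
        exact hx'1 h2
    exact ⟨isCyclic_of_omega_le p hp2 F (Ω ⊓ F) (hT.to_subgroup F) hZ
      (fun y hy hyp => ⟨(hΩ y).mp hyp, hy⟩), hZ⟩
  have hexp : ∀ F F' : Subgroup T, F ⊔ F' = ⊤ → Nat.card F' ≤ Nat.card F →
      ∀ t : T, t ^ Nat.card F = 1 := by
    intro F F' hFF' hle t
    have ht : t ∈ F ⊔ F' := by rw [hFF']; exact Subgroup.mem_top t
    obtain ⟨y, hy, z, hz, rfl⟩ := Subgroup.mem_sup.mp ht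
    obtain ⟨a, ha⟩ := IsPGroup.iff_card.mp (hT.to_subgroup F)
    obtain ⟨b, hb⟩ := IsPGroup.iff_card.mp (hT.to_subgroup F')
    have hba : b ≤ a := by
      rw [ha, hb] at hle
      exact (Nat.pow_le_pow_iff_right hpp.one_lt).mp hle
    have hy1 : y ^ Nat.card F = 1 :=
      orderOf_dvd_iff_pow_eq_one.mp (Subgroup.orderOf_dvd_natCard F hy)
    have hz1 : z ^ Nat.card F = 1 := by
      have h3 : z ^ Nat.card F' = 1 :=
        orderOf_dvd_iff_pow_eq_one.mp (Subgroup.orderOf_dvd_natCard F' hz)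
      rw [ha, ← Nat.sub_add_cancel hba, pow_add, mul_comm, pow_mul, ← hb, h3, one_pow]
    rw [(show Commute y z from hcomm y z).mul_pow, hy1, hz1, one_mul]
  by_cases hle : Nat.card F₂ ≤ Nat.card F₁
  · obtain ⟨h1, h2⟩ := hcyc F₁ F₂ hF₁1 hF₂1 hinf
    exact ⟨F₁, hF₁, h1, h2, hexp F₁ F₂ hsup hle⟩
  · obtain ⟨h1, h2⟩ := hcyc F₂ F₁ hF₂1 hF₁1 (by rw [inf_comm]; exact hinf)
    exact ⟨F₂, hF₂, h1, h2, hexp F₂ F₁ (by rw [sup_comm]; exact hsup) (by omega)⟩

/-- `BG8Reg M (e ^ m) → BG8Reg M e`. -/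
theorem pad_reg_of_pow {M : Subgroup G} (e : G) (m : ℕ) (h : BG8Reg M (e ^ m)) : BG8Reg M e := by
  unfold BG8Reg at h ⊢
  rw [eq_bot_iff] at h ⊢
  refine le_trans (inf_le_inf_left _ ?_) h
  intro x hx
  rw [Subgroup.mem_centralizer_iff] at hx ⊢
  intro y hy
  rw [Set.mem_singleton_iff] at hy
  subst hy
  have h1 := hx e rfl
  exact ((Commute.pow_left (show Commute e x from h1) m)).eq

/-- An element commuting with `d` centralizes `zpowers d`. -/
theorem pad_cent_zpowers (d w : G) (h : w ∈ Subgroup.centralizer ({d} : Set G)) :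
    w ∈ Subgroup.centralizer ((Subgroup.zpowers d : Subgroup G) : Set G) := by
  rw [Subgroup.mem_centralizer_iff] at h ⊢
  intro y hy
  obtain ⟨k, rfl⟩ := Subgroup.mem_zpowers_iff.mp hy
  have h1 : Commute d w := h d rfl
  exact (h1.zpow_left k).eq

/-- **S1421, piece PAD**: an `E`-invariant cyclic subgroup `D ≤ S` of order `exp(S)` all of whose
non-identity elements act regularly on `M_σ`. -/
theorem bg8_exists_cyclic [Finite G] (hG : IsMinSimpleOddOrder G)
    {M E A : Subgroup G} {p : ℕ} [Fact p.Prime] {S : Sylow p G} (c : BG8Ctx M E A p S)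
    (hSE : (S : Subgroup G) ≤ E)
    (hNS : Subgroup.normalizer (A : Set G) ≤ Subgroup.normalizer ((S : Subgroup G) : Set G))
    (Y : Subgroup G) (hYA : Y ≤ A) (hYc : Nat.card Y = p)
    (hYE : E ≤ Subgroup.normalizer (Y : Set G)) :
    ∃ D : Subgroup G, D ≤ (S : Subgroup G) ∧ IsCyclic D ∧ E ≤ Subgroup.normalizer (D : Set G) ∧
      (∀ s ∈ (S : Subgroup G), s ^ Nat.card D = 1) ∧ ∀ d ∈ D, d ≠ 1 → BG8Reg M d := by
  classical
  have hpp : p.Prime := Fact.out
  obtain ⟨hodd, hsimple, -, -⟩ := id hG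
  have := hsimple
  obtain ⟨hAE, hAe, hA2⟩ := c.hA
  have hM := c.hM
  have hEM : E ≤ M := c.hE.1
  have hAM : A ≤ M := hAE.trans hEM
  have h16 : Cfsg.Agent.Lib.helper8.BGTwelveFourHyp G :=
    fun M hM p _ A hA => Cfsg.Agent.S1416.result hG M hM p A hA
  have h17 : BG7FiveHyp G := fun M hM p _ hp A hA => Cfsg.Agent.S1417.result hG M hM p hp A hA
  have h18 : BG7SixHyp G := bg7_six_of hG h16 h17
  obtain ⟨⟨hEA, -⟩, ⟨hCMN, hMN, hNM⟩, hreg⟩ := h18 M hM E c.hE p c.hp A c.hA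
  have hCE : Subgroup.centralizer (A : Set G) ≤ E := hMN ▸ hCMN
  have hES : E ≤ Subgroup.normalizer ((S : Subgroup G) : Set G) := hEA.trans hNS
  have hSM : (S : Subgroup G) ≤ M := hSE.trans hEM
  -- (F2): `Ω₁(S) = A`
  have hF2 : ∀ x ∈ (S : Subgroup G), x ^ p = 1 ↔ x ∈ A := by
    obtain ⟨-, hb, -⟩ := h17 M hM p c.hp A ⟨hAM, hAe, hA2⟩
    have hmap : ((S.subtype hSM : Sylow p M) : Subgroup M).map M.subtype = (S : Subgroup G) := by
      rw [Sylow.coe_subtype, Subgroup.map_subgroupOf_eq_of_le hSM]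
    have h1 := (hb (S.subtype hSM)).2 (by rw [hmap]; exact c.hAS)
    intro x hx
    exact h1.1 x (by rw [hmap]; exact hx)
  have hp2 : p ≠ 2 := by
    rintro rfl
    have h1 : 2 ∣ Nat.card A := by rw [hA2]; exact dvd_pow_self 2 (by norm_num)
    have h2 : 2 ∣ Nat.card G := h1.trans (Subgroup.card_subgroup_dvd_card A)
    exact (Nat.not_even_iff_odd.mpr hodd) (even_iff_two_dvd.mpr h2)
  obtain ⟨n, hnN, hnM⟩ := SetLike.not_le_iff_exists.mp hNM
  -- the abstract abelian group `T = S`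
  have hcommS : ∀ a b : ↥(S : Subgroup G), a * b = b * a :=
    fun a b => Subtype.ext (c.hSab a a.2 b b.2)
  have hTp : IsPGroup p ↥(S : Subgroup G) := S.isPGroup'
  let ρ : ↥E →* MulAut ↥(S : Subgroup G) :=
    (S : Subgroup G).normalizerMonoidHom.comp (Subgroup.inclusion hES)
  have hρ : ∀ (e : ↥E) (s : ↥(S : Subgroup G)),
      ((ρ e s : ↥(S : Subgroup G)) : G) = (e : G) * s * (e : G)⁻¹ := fun e s => rfl
  have hX : (Nat.card ρ.range).Coprime p := by
    rw [Nat.coprime_comm, Nat.Prime.coprime_iff_not_dvd hpp, ← Subgroup.index_ker]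
    intro hd
    have hle : (S : Subgroup G).subgroupOf E ≤ ρ.ker := by
      intro e he
      rw [MonoidHom.mem_ker]
      ext s
      rw [hρ]
      have h1 := c.hSab e he s s.2
      rw [h1, mul_inv_cancel_right]
      rfl
    have h2 : ρ.ker.index ∣ ((S : Subgroup G).subgroupOf E).index := Subgroup.index_dvd_of_le hle
    have h3 : ((S : Subgroup G).subgroupOf E).index ∣ (S : Subgroup G).index :=
      Subgroup.relIndex_dvd_index_of_le hSE
    exact S.not_dvd_index (hd.trans (h2.trans h3))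
  have hΩ : ∀ t : ↥(S : Subgroup G), t ^ p = 1 ↔ t ∈ A.subgroupOf (S : Subgroup G) := by
    intro t
    rw [Subgroup.mem_subgroupOf, ← hF2 t t.2]
    constructor
    · intro h
      have h1 := congrArg Subtype.val h
      simpa using h1
    · intro h
      exact Subtype.ext (by simpa using h)
  have hΩc : Nat.card ↥(A.subgroupOf (S : Subgroup G)) = p ^ 2 := by
    rw [← hA2]; exact Nat.card_congr (Subgroup.subgroupOfEquivOfLe c.hAS).toEquiv
  have hBc : Nat.card ↥(Y.subgroupOf (S : Subgroup G)) = p := by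
    exact (Nat.card_congr (Subgroup.subgroupOfEquivOfLe (hYA.trans c.hAS)).toEquiv).trans hYc
  have hBinv : ∀ x ∈ ρ.range, ∀ b ∈ Y.subgroupOf (S : Subgroup G),
      x b ∈ Y.subgroupOf (S : Subgroup G) := by
    rintro _ ⟨e, rfl⟩ b hb
    rw [Subgroup.mem_subgroupOf] at hb ⊢
    rw [hρ]
    exact (Subgroup.mem_normalizer_iff.mp (hYE e.2) b).mp hb
  obtain ⟨D₀, hD₀inv, hD₀cyc, hD₀Ω, hD₀exp⟩ :=
    pad_pure hcommS p hp2 hTp ρ.range hX (A.subgroupOf (S : Subgroup G)) hΩ hΩc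
      (Y.subgroupOf (S : Subgroup G)) hBc hBinv
  -- transport to `G`
  have hinj : Function.Injective ((S : Subgroup G).subtype) := Subgroup.subtype_injective _
  have hD1S : D₀.map (S : Subgroup G).subtype ≤ (S : Subgroup G) := by
    rintro _ ⟨d, -, rfl⟩; exact d.2
  have hD1card : Nat.card ↥(D₀.map (S : Subgroup G).subtype) = Nat.card D₀ :=
    Subgroup.card_map_of_injective hinj
  have hD1cyc : IsCyclic ↥(D₀.map (S : Subgroup G).subtype) :=
    (Subgroup.equivMapOfInjective D₀ _ hinj).isCyclic.mp hD₀cyc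
  have hD1conj : ∀ e ∈ E, ∀ d ∈ D₀.map (S : Subgroup G).subtype,
      e * d * e⁻¹ ∈ D₀.map (S : Subgroup G).subtype := by
    rintro e he _ ⟨t, ht, rfl⟩
    exact ⟨ρ ⟨e, he⟩ t, hD₀inv _ ⟨⟨e, he⟩, rfl⟩ t ht, rfl⟩
  have hD1exp : ∀ s ∈ (S : Subgroup G), s ^ Nat.card ↥(D₀.map (S : Subgroup G).subtype) = 1 := by
    intro s hs
    rw [hD1card]
    have h1 := hD₀exp ⟨s, hs⟩
    have h2 := congrArg Subtype.val h1
    simpa using h2
  -- the socle `Z = A ⊓ D1` has order `p`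
  have hZeq : (A.subgroupOf (S : Subgroup G) ⊓ D₀).map (S : Subgroup G).subtype =
      A ⊓ D₀.map (S : Subgroup G).subtype := by
    ext x
    constructor
    · rintro ⟨t, ⟨htA, htD⟩, rfl⟩
      exact ⟨Subgroup.mem_subgroupOf.mp htA, ⟨t, htD, rfl⟩⟩
    · rintro ⟨hxA, ⟨t, htD, rfl⟩⟩
      exact ⟨t, ⟨Subgroup.mem_subgroupOf.mpr hxA, htD⟩, rfl⟩
  have hZc : Nat.card ↥(A ⊓ D₀.map (S : Subgroup G).subtype) = p := by
    rw [← hZeq, Subgroup.card_map_of_injective hinj, hD₀Ω]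
  -- a generator of the socle
  have hZne : A ⊓ D₀.map (S : Subgroup G).subtype ≠ ⊥ := by
    intro h
    rw [h, Subgroup.card_bot] at hZc
    exact hpp.one_lt.ne hZc
  obtain ⟨x1, hx11⟩ := (Subgroup.ne_bot_iff_exists_ne_one.mp hZne)
  have hx1Z' : (x1 : G) ∈ A ⊓ D₀.map (S : Subgroup G).subtype := x1.2
  have hx11' : (x1 : G) ≠ 1 := fun h => hx11 (Subtype.ext h)
  -- every non-identity `d ∈ D1` has a power `≠ 1` in the socle, and `x1` is a power of `d`
  have hsoc : ∀ d ∈ D₀.map (S : Subgroup G).subtype, d ≠ 1 →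
      ∃ K : ℕ, d ^ K ≠ 1 ∧ d ^ K ∈ A ⊓ D₀.map (S : Subgroup G).subtype ∧
        A ⊓ D₀.map (S : Subgroup G).subtype = Subgroup.zpowers (d ^ K) := by
    intro d hd hd1
    have hdS := hD1S hd
    obtain ⟨k, hk⟩ := (IsPGroup.iff_orderOf.mp S.isPGroup') ⟨d, hdS⟩
    rw [Subgroup.orderOf_mk] at hk
    have hk0 : k ≠ 0 := by
      rintro rfl
      rw [pow_zero] at hk
      exact hd1 (orderOf_eq_one_iff.mp hk)
    obtain ⟨k', rfl⟩ := Nat.exists_eq_succ_of_ne_zero hk0
    have h1 : d ^ p ^ k' ≠ 1 := by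
      intro h
      have h2 := orderOf_dvd_of_pow_eq_one h
      rw [hk] at h2
      have h3 := Nat.le_of_dvd (pow_pos hpp.pos k') h2
      exact absurd h3 (not_le.mpr (Nat.pow_lt_pow_right hpp.one_lt (Nat.lt_succ_self k')))
    have h2 : (d ^ p ^ k') ^ p = 1 := by
      rw [← pow_mul, ← pow_succ, ← hk]
      exact pow_orderOf_eq_one d
    have h3 : d ^ p ^ k' ∈ A ⊓ D₀.map (S : Subgroup G).subtype :=
      ⟨(hF2 _ (Subgroup.pow_mem _ hdS _)).mp h2, Subgroup.pow_mem _ hd _⟩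
    exact ⟨p ^ k', h1, h3, eq_zpowers_of_card_prime p _ hZc _ h3 h1⟩
  by_cases hcase : BG8Reg M (x1 : G)
  · -- Case a: the socle is regular
    refine ⟨D₀.map (S : Subgroup G).subtype, hD1S, hD1cyc, ?_, hD1exp, ?_⟩
    · intro e he
      exact Cfsg.Agent.Lib.helper13.mem_normalizer_of_forall_conj_mem (hD1conj e he)
    · intro d hd hd1
      obtain ⟨K, hK1, hKZ, hZK⟩ := hsoc d hd hd1
      have h1 : (x1 : G) ∈ Subgroup.zpowers (d ^ K) := hZK ▸ hx1Z'
      obtain ⟨i, hi⟩ := exists_nat_pow_of_mem_zpowers h1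
      apply pad_reg_of_pow d (K * i)
      rw [pow_mul, ← hi]
      exact hcase
  · -- Case b: the socle is not regular; conjugate by `n ∈ N_G(A) \ M`
    have hZM : Subgroup.centralizer ((A ⊓ D₀.map (S : Subgroup G).subtype : Subgroup G) : Set G)
        ≤ M := by
      refine (hreg _ inf_le_left hZc ?_).1
      intro h
      apply hcase
      unfold BG8Reg
      rw [eq_bot_iff, ← h]
      refine inf_le_inf_left _ ?_
      intro w hw
      have h2 := pad_cent_zpowers (x1 : G) w hw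
      rwa [← eq_zpowers_of_card_prime p _ hZc _ hx1Z' hx11'] at h2
    have hconj0 : sigmaCore M ⊓ M.map (MulAut.conj n).toMonoidHom = ⊥ :=
      bg7_sigma_inf_conj hG h17 M hM p c.hp A ⟨hAM, hAe, hA2⟩ n hnN hnM
    have hnS : n ∈ Subgroup.normalizer ((S : Subgroup G) : Set G) := hNS hnN
    have hinjn : Function.Injective ((MulAut.conj n).toMonoidHom : G →* G) :=
      (MulAut.conj n).injective
    refine ⟨(D₀.map (S : Subgroup G).subtype).map (MulAut.conj n).toMonoidHom, ?_, ?_, ?_, ?_, ?_⟩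
    · rintro _ ⟨d, hd, rfl⟩
      exact (Subgroup.mem_normalizer_iff.mp hnS d).mp (hD1S hd)
    · exact (Subgroup.equivMapOfInjective _ _ hinjn).isCyclic.mp hD1cyc
    · intro e he
      apply Cfsg.Agent.Lib.helper13.mem_normalizer_of_forall_conj_mem
      rintro _ ⟨d, hd, rfl⟩
      have h1 : n⁻¹ * e * n⁻¹⁻¹ * e⁻¹ ∈ Subgroup.centralizer (A : Set G) :=
        bg8_comm_le_cent hG c n⁻¹ (Subgroup.inv_mem _ hnN) e (hEA he)
      have h2 : n⁻¹ * e * n ∈ E := by
        have h3 : n⁻¹ * e * n = (n⁻¹ * e * n⁻¹⁻¹ * e⁻¹) * e := by group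
        rw [h3]
        exact E.mul_mem (hCE h1) he
      refine ⟨(n⁻¹ * e * n) * d * (n⁻¹ * e * n)⁻¹, hD1conj _ h2 d hd, ?_⟩
      simp only [MulEquiv.coe_toMonoidHom, MulAut.conj_apply]
      group
    · intro s hs
      rw [Subgroup.card_map_of_injective hinjn]
      exact hD1exp s hs
    · rintro _ ⟨d, hd, rfl⟩ hd1
      have hd1' : d ≠ 1 := by
        rintro rfl
        exact hd1 (by simp)
      obtain ⟨K, hK1, hKZ, hZK⟩ := hsoc d hd hd1'
      apply pad_reg_of_pow _ K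
      unfold BG8Reg
      rw [eq_bot_iff, ← hconj0]
      refine inf_le_inf_left _ ?_
      intro w hw
      rw [Subgroup.mem_centralizer_iff] at hw
      have h1 := hw _ rfl
      -- `n⁻¹ w n` commutes with `d ^ K`
      have h2 : n⁻¹ * w * n ∈ Subgroup.centralizer ({d ^ K} : Set G) := by
        rw [Subgroup.mem_centralizer_iff]
        intro y hy
        rw [Set.mem_singleton_iff] at hy
        subst hy
        simp only [MulEquiv.coe_toMonoidHom, MulAut.conj_apply] at h1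
        have h3 : (n * d * n⁻¹) ^ K = n * d ^ K * n⁻¹ := by
          rw [conj_pow]
        rw [h3] at h1
        calc d ^ K * (n⁻¹ * w * n) = n⁻¹ * ((n * d ^ K * n⁻¹) * w) * n := by group
          _ = n⁻¹ * (w * (n * d ^ K * n⁻¹)) * n := by rw [h1]
          _ = n⁻¹ * w * n * d ^ K := by group
      have h4 : n⁻¹ * w * n ∈ M := by
        apply hZM
        rw [hZK]
        exact pad_cent_zpowers _ _ h2
      exact ⟨n⁻¹ * w * n, h4, by simp only [MulEquiv.coe_toMonoidHom, MulAut.conj_apply]; group⟩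

end Cfsg.Agent.Lib.helper30
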