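import Mathlib
import Cfsg.Agent.Lib.helper14.DicksonCount

/-!
# S4073, piece CT-A (helper30): the Sylow 2-normalizer of a CT-group of order `q (q - 1) (q + 1)`

`q = 2 ^ n`, `q - 1` prime, `G` simple non-abelian with commuting-transitive non-identity elements
and `|G| = q (q - 1) (q + 1)`.  Then a Sylow 2-subgroup `P` is abelian, self-centralizing on each of
its non-identity elements, and `|N_G(P)| = q (q - 1)`.
-/

set_option autoImplicit false

namespace Cfsg.Agent.Lib.helper30.SNG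

universe u

open Subgroup

/-- arithmetic core: `t m = (q - 1)(q + 1)`, `m ≡ 1 mod q`, `m ≠ 1` force `t = q - 1`. -/
theorem ctA_arith (q t m : ℕ) (hq : 2 ≤ q) (h1 : t * m = (q - 1) * (q + 1)) (h2 : q ∣ m - 1)
    (hm1 : m ≠ 1) : t = q - 1 := by
  obtain ⟨c, rfl⟩ : ∃ c, q = c + 1 := ⟨q - 1, by omega⟩
  have hc : 1 ≤ c := by omega
  simp only [Nat.add_sub_cancel] at h1 ⊢
  have hm0 : m ≠ 0 := by
    rintro rfl
    have : 0 < c * (c + 1 + 1) := by positivity
    simp at h1
    omega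
  obtain ⟨j, hj⟩ := h2
  have hm : m = (c + 1) * j + 1 := by omega
  have hj1 : 1 ≤ j := by
    rcases Nat.eq_zero_or_pos j with h | h
    · subst h; omega
    · exact h
  subst hm
  have hdvd : (c + 1) ∣ t + 1 := by
    have h3 : t * ((c + 1) * j) + (t + 1) = (c + 1) * (c + 1) := by nlinarith
    have h4 : (c + 1) ∣ t * ((c + 1) * j) := ⟨t * j, by ring⟩
    exact (Nat.dvd_add_right h4).mp (h3 ▸ dvd_mul_right _ _)
  obtain ⟨s, hs⟩ := hdvd
  have hs1 : 1 ≤ s := by
    rcases Nat.eq_zero_or_pos s with h | h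
    · subst h; omega
    · exact h
  have htc : c ≤ t := by nlinarith
  by_contra hne
  have htc' : c + 1 ≤ t := by omega
  have hj2 : c + 2 ≤ (c + 1) * j + 1 := by nlinarith
  have := Nat.mul_le_mul htc' hj2
  nlinarith

/-- a finite subgroup mapped into itself by conjugation with `g` is normalized by `g`. -/
theorem ctA_mem_normalizer_of_conj_mem {G : Type u} [Group G] (H : Subgroup G) [Finite H] (g : G)
    (h : ∀ b ∈ H, g * b * g⁻¹ ∈ H) : g ∈ normalizer (H : Set G) := by
  rw [Subgroup.mem_normalizer_iff]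
  intro b
  refine ⟨h b, fun hb => ?_⟩
  let f : H → H := fun x => ⟨g * x * g⁻¹, h x x.2⟩
  have hinj : Function.Injective f := by
    intro x y hxy
    have h1 : g * (x : G) * g⁻¹ = g * (y : G) * g⁻¹ := congrArg Subtype.val hxy
    exact Subtype.ext (by simpa using h1)
  obtain ⟨x, hx⟩ := Finite.surjective_of_injective hinj ⟨g * b * g⁻¹, hb⟩
  have hx' : g * (x : G) * g⁻¹ = g * b * g⁻¹ := congrArg Subtype.val hx
  have hxb : (x : G) = b := by simpa using hx'
  exact hxb ▸ x.2

/-- **[CT-A]** -/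
theorem ct_sylow2_normalizer {G : Type u} [Group G] [Finite G] [IsSimpleGroup G]
    (hna : ¬ IsMulCommutative G)
    (hCT : ∀ a b c : G, b ≠ 1 → Commute a b → Commute b c → Commute a c)
    {n : ℕ} (hn : 2 ≤ n) (hp : (2 ^ n - 1).Prime)
    (hcard : Nat.card G = 2 ^ n * (2 ^ n - 1) * (2 ^ n + 1)) (P : Sylow 2 G) :
    Nat.card (Subgroup.normalizer ((P : Subgroup G) : Set G)) = 2 ^ n * (2 ^ n - 1) ∧
    IsMulCommutative P ∧
    ∀ u ∈ P, u ≠ 1 → ∀ g : G, Commute g u → g ∈ P := by
  have : Fact (Nat.Prime 2) := ⟨Nat.prime_two⟩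
  obtain ⟨q, hq⟩ : ∃ q, q = 2 ^ n := ⟨_, rfl⟩
  have hq4 : 4 ≤ q := by
    rw [hq]
    calc 4 = 2 ^ 2 := by norm_num
      _ ≤ 2 ^ n := Nat.pow_le_pow_right (by norm_num) hn
  have hqeven : Even q := by
    rw [hq]
    exact Nat.even_pow.mpr ⟨even_two, by omega⟩
  rw [← hq] at hp hcard ⊢
  -- `|P| = q`
  have hPcard : Nat.card (P : Subgroup G) = q := by
    have h1 : q ∣ Nat.card (P : Subgroup G) := by
      rw [hq]
      apply P.pow_dvd_card_of_pow_dvd_card
      rw [hcard, hq, mul_assoc]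
      exact dvd_mul_right _ _
    obtain ⟨k, hk⟩ := (IsPGroup.iff_card).mp P.isPGroup'
    have h2 : Nat.card (P : Subgroup G) ∣ q := by
      have h3 : Nat.card (P : Subgroup G) ∣ q * ((q - 1) * (q + 1)) := by
        rw [← mul_assoc, ← hcard]
        exact Subgroup.card_subgroup_dvd_card _
      have hodd : Odd ((q - 1) * (q + 1)) := by
        obtain ⟨a, ha⟩ := hqeven
        refine Odd.mul ?_ ?_
        · exact ⟨a - 1, by omega⟩
        · exact ⟨a, by omega⟩
      have hcop : Nat.Coprime (Nat.card (P : Subgroup G)) ((q - 1) * (q + 1)) := by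
        rw [hk]
        exact Nat.Coprime.pow_left _ (Nat.coprime_two_left.mpr hodd)
      exact hcop.dvd_of_dvd_mul_right h3
    exact Nat.dvd_antisymm h2 h1
  -- `P` is abelian
  have hPG : IsPGroup 2 (P : Subgroup G) := P.isPGroup'
  have hPnt : Nontrivial (P : Subgroup G) := by
    rw [← Finite.one_lt_card_iff_nontrivial, hPcard]
    omega
  have hZnt : Nontrivial (Subgroup.center (P : Subgroup G)) := hPG.center_nontrivial
  obtain ⟨z, hz1⟩ := exists_ne (1 : Subgroup.center (P : Subgroup G))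
  have hzG1 : ((z : (P : Subgroup G)) : G) ≠ 1 := by
    intro h
    apply hz1
    apply Subtype.ext
    apply Subtype.ext
    simpa using h
  have hzc : ∀ a ∈ (P : Subgroup G), Commute a ((z : (P : Subgroup G)) : G) := by
    intro a ha
    have h1 := (Subgroup.mem_center_iff.mp z.2) ⟨a, ha⟩
    exact congrArg Subtype.val h1
  have hPc : ∀ a ∈ (P : Subgroup G), ∀ b ∈ (P : Subgroup G), Commute a b := fun a ha b hb =>
    hCT a _ b hzG1 (hzc a ha) (hzc b hb).symm
  have hPcomm : IsMulCommutative P := ⟨⟨fun a b => Subtype.ext (hPc a.1 a.2 b.1 b.2).eq⟩⟩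
  have hcentP : ∀ u ∈ (P : Subgroup G), u ≠ 1 → ∀ g : G, Commute g u →
      ∀ b ∈ (P : Subgroup G), Commute g b :=
    fun u hu hu1 g hg b hb => hCT g u b hu1 hg (hPc u hu b hb)
  obtain ⟨N, hN⟩ : ∃ N : Subgroup G, N = Subgroup.normalizer ((P : Subgroup G) : Set G) :=
    ⟨_, rfl⟩
  rw [← hN]
  have hPN : (P : Subgroup G) ≤ N := hN ▸ Subgroup.le_normalizer
  -- 2-elements of `N` lie in `P`
  have h2elt : ∀ y : G, (∃ k : ℕ, y ^ 2 ^ k = 1) → y ∈ N → y ∈ (P : Subgroup G) := by
    rintro y ⟨k, hk⟩ hyN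
    have hZ : IsPGroup 2 (Subgroup.zpowers y) := by
      rintro ⟨w, hw⟩
      obtain ⟨i, rfl⟩ := Subgroup.mem_zpowers_iff.mp hw
      refine ⟨k, Subtype.ext ?_⟩
      show (y ^ i) ^ 2 ^ k = 1
      rw [← zpow_natCast, ← zpow_mul, mul_comm, zpow_mul, zpow_natCast, hk, one_zpow]
    have hle : Subgroup.zpowers y ≤ Subgroup.normalizer ((P : Subgroup G) : Set G) :=
      (Subgroup.zpowers_le).mpr (hN ▸ hyN)
    have hsup : IsPGroup 2 (Subgroup.zpowers y ⊔ (P : Subgroup G) : Subgroup G) :=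
      hZ.to_sup_of_normal_right' P.isPGroup' hle
    have heq := P.is_maximal' hsup le_sup_right
    have hmem : y ∈ Subgroup.zpowers y ⊔ (P : Subgroup G) :=
      (le_sup_left : Subgroup.zpowers y ≤ _) (Subgroup.mem_zpowers y)
    exact heq ▸ hmem
  have hconjpow : ∀ (g b : G) (k : ℕ), (g⁻¹ * b * g) ^ k = g⁻¹ * b ^ k * g := by
    intro g b k
    induction k with
    | zero => simp
    | succ k ih => rw [pow_succ, ih, pow_succ]; group
  have hCN' : Subgroup.centralizer ((P : Subgroup G) : Set G) ≤ N :=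
    hN ▸ Subgroup.centralizer_le_normalizer _
  -- `P` is a TI-subgroup with respect to `N`
  have hfree : ∀ g : G, g ∉ N → ∀ u ∈ (P : Subgroup G), g⁻¹ * u * g ∈ N → u = 1 := by
    intro g hgN u hu hy
    by_contra hu1
    apply hgN
    obtain ⟨k, hk⟩ := P.isPGroup' ⟨u, hu⟩
    have hk' : u ^ 2 ^ k = 1 := by simpa using congrArg Subtype.val hk
    have hyP : g⁻¹ * u * g ∈ (P : Subgroup G) :=
      h2elt _ ⟨k, by rw [hconjpow, hk']; group⟩ hy
    have hy1 : g⁻¹ * u * g ≠ 1 := by
      intro h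
      apply hu1
      have h' : u = g * (g⁻¹ * u * g) * g⁻¹ := by group
      rw [h', h]
      group
    have hsub : ∀ b ∈ (P : Subgroup G), g⁻¹ * b * g⁻¹⁻¹ ∈ (P : Subgroup G) := by
      intro b hb
      rw [inv_inv]
      obtain ⟨j, hj⟩ := P.isPGroup' ⟨b, hb⟩
      have hj' : b ^ 2 ^ j = 1 := by simpa using congrArg Subtype.val hj
      have hcomm : Commute (g⁻¹ * b * g) (g⁻¹ * u * g) := by
        have hbu := hPc b hb u hu
        show g⁻¹ * b * g * (g⁻¹ * u * g) = g⁻¹ * u * g * (g⁻¹ * b * g)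
        have e1 : g⁻¹ * b * g * (g⁻¹ * u * g) = g⁻¹ * (b * u) * g := by group
        have e2 : g⁻¹ * u * g * (g⁻¹ * b * g) = g⁻¹ * (u * b) * g := by group
        rw [e1, e2, hbu.eq]
      have hcb := hcentP _ hyP hy1 _ hcomm
      apply h2elt _ ⟨j, by rw [hconjpow, hj']; group⟩
      apply hCN'
      rw [Subgroup.mem_centralizer_iff]
      intro h hh
      exact (hcb h hh).eq.symm
    have hmem := ctA_mem_normalizer_of_conj_mem (P : Subgroup G) g⁻¹ hsub
    rw [← hN] at hmem
    exact (inv_mem_iff (H := N)).mp hmem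
  have hidx : Nat.card (P : Subgroup G) ∣ N.index - 1 :=
    Cfsg.Agent.Lib.helper14.card_dvd_index_sub_one (P : Subgroup G) N hPN hfree
  rw [hPcard] at hidx
  -- `N ≠ ⊤`
  have hNtop : N.index ≠ 1 := by
    intro h1
    have hNt : N = ⊤ := Subgroup.index_eq_one.mp h1
    have hnorm : (P : Subgroup G).Normal := Subgroup.normalizer_eq_top_iff.mp (hN ▸ hNt)
    rcases IsSimpleGroup.eq_bot_or_eq_top_of_normal _ hnorm with hb | ht
    · have h2 : Nat.card (P : Subgroup G) = 1 := by rw [hb]; exact Subgroup.card_bot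
      rw [hPcard] at h2
      omega
    · have h2 : Nat.card (P : Subgroup G) = Nat.card G := by rw [ht]; exact Subgroup.card_top
      rw [hPcard, hcard] at h2
      have h3 : 3 ≤ q - 1 := by omega
      have h4 : q * 3 ≤ q * (q - 1) := Nat.mul_le_mul_left q h3
      have h5 : q * (q - 1) * 5 ≤ q * (q - 1) * (q + 1) := Nat.mul_le_mul_left _ (by omega)
      omega
  obtain ⟨t, ht⟩ : q ∣ Nat.card N := hPcard ▸ Subgroup.card_dvd_of_le hPN
  have hNidx := N.card_mul_index
  rw [ht, hcard] at hNidx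
  have htm : t * N.index = (q - 1) * (q + 1) := by
    have h1 : q * (t * N.index) = q * ((q - 1) * (q + 1)) := by
      rw [← mul_assoc, hNidx, mul_assoc]
    exact Nat.eq_of_mul_eq_mul_left (by omega) h1
  have ht' : t = q - 1 := ctA_arith q t N.index (by omega) htm hidx hNtop
  have hNcard : Nat.card N = q * (q - 1) := by rw [ht, ht']
  -- the centralizer of `P`
  obtain ⟨C₀, hC₀⟩ : ∃ C₀ : Subgroup G, C₀ = Subgroup.centralizer ((P : Subgroup G) : Set G) :=
    ⟨_, rfl⟩
  have hPC : (P : Subgroup G) ≤ C₀ := by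
    intro a ha
    rw [hC₀, Subgroup.mem_centralizer_iff]
    intro h hh
    exact (hPc h hh a ha).eq
  have hCN : C₀ ≤ N := hC₀ ▸ hCN'
  have hCne : C₀ ≠ N := by
    intro heq
    have hle : Subgroup.normalizer ((P : Subgroup G) : Set G) ≤
        Subgroup.centralizer ((P : Subgroup G) : Set G) := by
      rw [← hN, ← hC₀, heq]
    have hcomp := MonoidHom.ker_transferSylow_isComplement' P hle
    have hcc := hcomp.card_mul_card
    rcases IsSimpleGroup.eq_bot_or_eq_top_of_normal _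
      (MonoidHom.normal_ker (MonoidHom.transferSylow P hle)) with hb | htop
    · rw [hb, Subgroup.card_bot, one_mul, hPcard, hcard] at hcc
      have h3 : 3 ≤ q - 1 := by omega
      have h4 : q * 3 ≤ q * (q - 1) := Nat.mul_le_mul_left q h3
      have h5 : q * (q - 1) * 5 ≤ q * (q - 1) * (q + 1) := Nat.mul_le_mul_left _ (by omega)
      omega
    · rw [htop, Subgroup.card_top, hPcard, hcard] at hcc
      have h3 : 3 ≤ q - 1 := by omega
      have h4 : q * 3 ≤ q * (q - 1) := Nat.mul_le_mul_left q h3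
      have h5 : q * (q - 1) * 5 ≤ q * (q - 1) * (q + 1) := Nat.mul_le_mul_left _ (by omega)
      have h6 : q * (q - 1) * (q + 1) * 4 ≤ q * (q - 1) * (q + 1) * q :=
        Nat.mul_le_mul_left _ hq4
      omega
  obtain ⟨o, ho⟩ : q ∣ Nat.card C₀ := hPcard ▸ Subgroup.card_dvd_of_le hPC
  have hdiv : Nat.card C₀ ∣ Nat.card N := Subgroup.card_dvd_of_le hCN
  rw [ho, hNcard] at hdiv
  have hor : o ∣ q - 1 := Nat.dvd_of_mul_dvd_mul_left (by omega) hdiv
  rcases (Nat.dvd_prime hp).mp hor with h1 | hr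
  · have hCP : (P : Subgroup G) = C₀ := by
      apply Subgroup.eq_of_le_of_card_ge hPC
      rw [ho, h1, mul_one, hPcard]
    refine ⟨hNcard, hPcomm, ?_⟩
    intro u hu hu1 g hg
    show g ∈ (P : Subgroup G)
    rw [hCP, hC₀, Subgroup.mem_centralizer_iff]
    intro h hh
    exact (hcentP u hu hu1 g hg h hh).eq.symm
  · exfalso
    apply hCne
    apply Subgroup.eq_of_le_of_card_ge hCN
    rw [ho, hr, hNcard]

end Cfsg.Agent.Lib.helper30.SNG
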