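import Mathlib

/-!
# S4700 piece QS (helper30): `quot_sylow`

Sylow `p`-subgroups of a quotient by a normal `p'`-subgroup.
-/

set_option autoImplicit false

namespace Cfsg.Agent.Lib.helper30.BR

universe u

/-- A natural number `≡ 1 [MOD p]` and positive is `1 + k * p`. -/
theorem h30_exists_of_modEq_one (p c : ℕ) (hc : c ≡ 1 [MOD p]) (hpos : 1 ≤ c) :
    ∃ k : ℕ, c = 1 + k * p := by
  have h1 : p ∣ c - 1 := (Nat.modEq_iff_dvd' hpos).mp hc.symm
  obtain ⟨k, hk⟩ := h1
  exact ⟨k, by rw [mul_comm k p, ← hk]; omega⟩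

/-- QS : Sylow `p`-subgroups of a quotient by a normal `p'`-subgroup. -/
theorem quot_sylow {G : Type u} [Group G] [Finite G] (p : ℕ) [Fact p.Prime] (H : Subgroup G)
    [H.Normal] (hH : (Nat.card H).Coprime p) (P : Sylow p G) (hP : Nat.card P = p) (n : ℕ)
    (hn : Nat.card (Sylow p G) = 1 + n * p) :
    ∃ (Q : Sylow p (G ⧸ H)) (n' j : ℕ), Nat.card Q = p ∧
      Nat.card (Sylow p (G ⧸ H)) = 1 + n' * p ∧ 1 + n * p = (1 + n' * p) * (1 + j * p) := by
  classical
  have hpp : p.Prime := Fact.out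
  set f : G →* G ⧸ H := QuotientGroup.mk' H with hf
  have hfs : Function.Surjective f := QuotientGroup.mk'_surjective H
  set Q : Sylow p (G ⧸ H) := P.mapSurjective hfs with hQ
  have hQcoe : (Q : Subgroup (G ⧸ H)) = (P : Subgroup G).map f := rfl
  -- `|Q| = p`
  have hQcard : Nat.card Q = p := by
    have h1 : Nat.card (Q : Subgroup (G ⧸ H)) ∣ p := by
      rw [hQcoe]; exact (Subgroup.card_map_dvd (P : Subgroup G) f).trans (dvd_of_eq hP)
    rcases (Nat.dvd_prime hpp).mp h1 with h2 | h2
    · exfalso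
      have h3 : (Q : Subgroup (G ⧸ H)) = ⊥ := Subgroup.card_eq_one.mp h2
      have h4 : (P : Subgroup G) ≤ H := by
        intro x hx
        have h5 : f x ∈ (Q : Subgroup (G ⧸ H)) := by
          rw [hQcoe]; exact Subgroup.mem_map_of_mem f hx
        rw [h3, Subgroup.mem_bot] at h5
        exact (QuotientGroup.eq_one_iff x).mp h5
      have h6 : Nat.card (P : Subgroup G) ∣ Nat.card H := Subgroup.card_dvd_of_le h4
      rw [hP] at h6
      have h7 : p ∣ Nat.gcd (Nat.card H) p := Nat.dvd_gcd h6 (dvd_refl p)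
      rw [hH] at h7
      exact hpp.one_lt.ne' (Nat.dvd_one.mp h7)
    · exact h2
  -- `L`
  set L : Subgroup G := (Subgroup.normalizer ((Q : Subgroup (G ⧸ H)) : Set (G ⧸ H))).comap f with hL
  have hNL : Subgroup.normalizer ((P : Subgroup G) : Set G) ≤ L := by
    rw [hL, ← Subgroup.map_le_iff_le_comap]
    exact Subgroup.le_normalizer_map f
  have hPL : (P : Subgroup G) ≤ L := Subgroup.le_normalizer.trans hNL
  have hLidx : L.index = Nat.card (Sylow p (G ⧸ H)) := by
    rw [hL, Subgroup.index_comap_of_surjective _ hfs]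
    exact (Sylow.card_eq_index_normalizer Q).symm
  have hrel : (Subgroup.normalizer ((P : Subgroup G) : Set G)).relIndex L = Nat.card (Sylow p L) := by
    have h1 := Sylow.card_eq_index_normalizer (P.subtype hPL)
    have h2 : Subgroup.normalizer (((P.subtype hPL : Sylow p L) : Subgroup L) : Set L)
        = (Subgroup.normalizer ((P : Subgroup G) : Set G)).subgroupOf L := by
      rw [Sylow.coe_subtype]; exact (Subgroup.subgroupOf_normalizer_eq hPL).symm
    rw [h1]
    show _ = (Subgroup.normalizer (((P.subtype hPL : Sylow p L) : Subgroup L) : Set L)).index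
    rw [h2]; rfl
  have hmul : (Subgroup.normalizer ((P : Subgroup G) : Set G)).relIndex L * L.index
      = Nat.card (Sylow p G) := by
    rw [Subgroup.relIndex_mul_index hNL]
    exact (Sylow.card_eq_index_normalizer P).symm
  obtain ⟨n', hn'⟩ := h30_exists_of_modEq_one p (Nat.card (Sylow p (G ⧸ H)))
    (card_sylow_modEq_one p (G ⧸ H)) Nat.card_pos
  obtain ⟨j, hj⟩ := h30_exists_of_modEq_one p (Nat.card (Sylow p L))
    (card_sylow_modEq_one p L) Nat.card_pos
  refine ⟨Q, n', j, hQcard, hn', ?_⟩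
  rw [← hn, ← hmul, hrel, hLidx, hn', hj, mul_comm]

end Cfsg.Agent.Lib.helper30.BR
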