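import Mathlib
import Cfsg.Agent.Lib.helper16.CG33Defs

/-!
# S3412 piece FA (helper30): the conjugation action on `Fam X` is faithful
-/

set_option autoImplicit false

open Cfsg.Agent.Lib.helper16.CG33

namespace Cfsg.Agent.Lib.helper30.CG33

theorem h30_cj_one {X : Type*} [Group X] (A : Set X) : cj (1 : X) A = A := by
  unfold cj
  ext x
  simp

theorem h30_cj_mul {X : Type*} [Group X] (g h : X) (A : Set X) :
    cj (g * h) A = cj g (cj h A) := by
  unfold cj
  ext x
  simp only [Set.mem_image]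
  constructor
  · rintro ⟨a, ha, rfl⟩
    exact ⟨h * a * h⁻¹, ⟨a, ha, rfl⟩, by group⟩
  · rintro ⟨_, ⟨a, ha, rfl⟩, rfl⟩
    exact ⟨a, ha, by group⟩

theorem h30_mem_cj {X : Type*} [Group X] (g : X) (A : Set X) (x : X) :
    x ∈ cj g A ↔ g⁻¹ * x * g ∈ A := by
  unfold cj
  simp only [Set.mem_image]
  constructor
  · rintro ⟨a, ha, rfl⟩
    have : g⁻¹ * (g * a * g⁻¹) * g = a := by group
    rw [this]; exact ha
  · intro h
    exact ⟨_, h, by group⟩

theorem h30_cj_mem_T {X : Type*} [Group X] (g x : X) (hx : x ∈ T X) : g * x * g⁻¹ ∈ T X := by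
  obtain ⟨hx1, hdvd⟩ := hx
  refine ⟨?_, ?_⟩
  · intro h
    apply hx1
    have : x = g⁻¹ * (g * x * g⁻¹) * g := by group
    rw [this, h]; group
  · have heq : Subgroup.centralizer ({g * x * g⁻¹} : Set X) =
        (Subgroup.centralizer ({x} : Set X)).map (MulAut.conj g).toMonoidHom := by
      ext y
      simp only [Subgroup.mem_centralizer_singleton_iff, Subgroup.mem_map,
        MulEquiv.coe_toMonoidHom, MulAut.conj_apply]
      constructor
      · intro hy
        refine ⟨g⁻¹ * y * g, ?_, by group⟩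
        have h1 : g⁻¹ * y * g * x = g⁻¹ * (y * (g * x * g⁻¹)) * g := by group
        have h2 : x * (g⁻¹ * y * g) = g⁻¹ * ((g * x * g⁻¹) * y) * g := by group
        rw [h1, h2, hy]
      · rintro ⟨z, hz, rfl⟩
        have h1 : g * z * g⁻¹ * (g * x * g⁻¹) = g * (z * x) * g⁻¹ := by group
        have h2 : g * x * g⁻¹ * (g * z * g⁻¹) = g * (x * z) * g⁻¹ := by group
        rw [h1, h2, hz]
    rw [heq, Subgroup.card_map_of_injective (MulAut.conj g).injective]
    exact hdvd

theorem h30_cj_mem_Fam {X : Type*} [Group X] (g : X) (A : Set X) (hA : A ∈ Fam X) :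
    cj g A ∈ Fam X := by
  obtain ⟨hcard, hT, hcomm⟩ := hA
  refine ⟨?_, ?_, ?_⟩
  · unfold cj
    rw [Set.ncard_image_of_injective _ (fun a b hab => by
      have : g * a * g⁻¹ = g * b * g⁻¹ := hab
      simpa using this)]
    exact hcard
  · rintro _ ⟨a, ha, rfl⟩
    exact h30_cj_mem_T g a (hT ha)
  · rintro _ ⟨a, ha, rfl⟩ _ ⟨b, hb, rfl⟩
    have h1 : g * a * g⁻¹ * (g * b * g⁻¹) = g * (a * b) * g⁻¹ := by group
    have h2 : g * b * g⁻¹ * (g * a * g⁻¹) = g * (b * a) * g⁻¹ := by group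
    rw [h1, h2, hcomm a ha b hb]

/-- an element of a member `A` of `Fam X` has order dividing `9`. -/
theorem h30_pow_nine {X : Type*} [Group X] [Finite X] (h1 : L1 X) (A : Set X) (hA : A ∈ Fam X)
    (k : X) (hk : k ∈ A) : k ^ 9 = 1 := by
  classical
  obtain ⟨hcard, hT, hcomm⟩ := hA
  have hone : (1 : X) ∉ A := fun h => (hT h).1 rfl
  have hcar : ((Subgroup.centralizer A : Subgroup X) : Set X) = insert 1 A := by
    ext y
    simp only [SetLike.mem_coe, Subgroup.mem_centralizer_iff, Set.mem_insert_iff]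
    constructor
    · intro hy
      by_cases hy1 : y = 1
      · exact Or.inl hy1
      · exact Or.inr (h1 A ⟨hcard, hT, hcomm⟩ y hy1 (fun a ha => (hy a ha).symm))
    · rintro (rfl | hy)
      · intro a _; simp
      · intro a ha; exact hcomm a ha y hy
  have hfinA : A.Finite := Set.toFinite A
  have hc9 : Nat.card (Subgroup.centralizer A : Subgroup X) = 9 := by
    have : Nat.card (Subgroup.centralizer A : Subgroup X) =
        ((Subgroup.centralizer A : Subgroup X) : Set X).ncard := by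
      rw [← Nat.card_coe_set_eq]; rfl
    rw [this, hcar, Set.ncard_insert_of_notMem hone hfinA, hcard]
  have hkC : k ∈ Subgroup.centralizer A := by
    have : k ∈ ((Subgroup.centralizer A : Subgroup X) : Set X) := by
      rw [hcar]; exact Or.inr hk
    exact this
  have := pow_card_eq_one' (G := ↥(Subgroup.centralizer A)) (x := ⟨k, hkC⟩)
  rw [hc9] at this
  have h2 := congrArg Subtype.val this
  simpa using h2

/-- an element normalizing every member of `Fam X` lies in no member. -/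
theorem h30_not_mem {X : Type*} [Group X] [Finite X] (h1 : L1 X) (h2 : L2 X)
    (k : X) (hk : ∀ A ∈ Fam X, cj k A = A) (A : Set X) (hA : A ∈ Fam X) : k ∉ A := by
  classical
  intro hkA
  obtain ⟨B, hB, hopp⟩ := h2 A hA
  have hk9 : k ^ 9 = 1 := h30_pow_nine h1 A hA k hkA
  have hkB : ∀ b ∈ B, k * b * k⁻¹ ∈ B := by
    intro b hb
    have : k * b * k⁻¹ ∈ cj k B := ⟨b, hb, rfl⟩
    rwa [hk B hB] at this
  let _ : Fintype ↥B := Fintype.ofFinite _
  let f : Function.End ↥B := fun b => ⟨k * b.1 * k⁻¹, hkB b.1 b.2⟩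
  have hpow : ∀ n : ℕ, ∀ b : ↥B, ((f ^ n) b).1 = k ^ n * b.1 * (k ^ n)⁻¹ := by
    intro n
    induction n with
    | zero => intro b; rw [pow_zero, pow_zero]; show b.1 = 1 * b.1 * 1⁻¹; group
    | succ n ih =>
      intro b
      rw [pow_succ']
      show (f ((f ^ n) b)).1 = _
      show k * ((f ^ n) b).1 * k⁻¹ = _
      rw [ih b, pow_succ']
      group
  have hf : f ^ 3 ^ 2 = 1 := by
    funext b
    apply Subtype.ext
    rw [hpow]
    show k ^ 3 ^ 2 * b.1 * (k ^ 3 ^ 2)⁻¹ = b.1
    have h9 : (3 : ℕ) ^ 2 = 9 := by norm_num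
    rw [h9, hk9]
    group
  have : Fact (Nat.Prime 3) := ⟨by norm_num⟩
  have hmod := Equiv.Perm.card_fixedPoints_modEq (p := 3) (n := 2) hf
  have hcB : Fintype.card ↥B = 8 := by
    rw [← Nat.card_eq_fintype_card, Nat.card_coe_set_eq]
    exact hB.1
  rw [hcB] at hmod
  have hpos : 0 < Fintype.card (Function.fixedPoints f) := by
    by_contra h0
    have h0' : Fintype.card (Function.fixedPoints f) = 0 := by omega
    rw [h0'] at hmod
    exact absurd hmod (by decide)
  obtain ⟨⟨b, hb⟩⟩ := Fintype.card_pos_iff.mp hpos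
  have hfb : f b = b := hb
  have hval : k * b.1 * k⁻¹ = b.1 := congrArg Subtype.val hfb
  have hcomm : k * b.1 = b.1 * k := by
    calc k * b.1 = (k * b.1 * k⁻¹) * k := by group
      _ = b.1 * k := by rw [hval]
  exact hopp k hkA b.1 b.2 hcomm

/-- PIECE FA: the conjugation action on `Fam X` is faithful. -/
theorem faithful {X : Type*} [Group X] [Finite X] (h1 : L1 X) (h2 : L2 X)
    (hne : (Fam X).Nonempty) (g : X) (hg : ∀ A ∈ Fam X, cj g A = A) : g = 1 := by
  classical
  obtain ⟨A, hA⟩ := hne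
  -- `g⁻¹` normalizes every member
  have hginv : ∀ B ∈ Fam X, cj g⁻¹ B = B := by
    intro B hB
    have h := hg B hB
    calc cj g⁻¹ B = cj g⁻¹ (cj g B) := by rw [h]
      _ = cj (g⁻¹ * g) B := (h30_cj_mul _ _ _).symm
      _ = B := by rw [inv_mul_cancel, h30_cj_one]
  -- `g` centralizes `A`
  have hcent : ∀ a ∈ A, g * a = a * g := by
    intro a ha
    by_contra hne'
    set c : X := g * a * g⁻¹ * a⁻¹ with hc
    have hc1 : c ≠ 1 := by
      intro h
      apply hne'
      have : g * a = c * (a * g) := by rw [hc]; group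
      rw [this, h, one_mul]
    have hga : g * a * g⁻¹ ∈ A := by
      have : g * a * g⁻¹ ∈ cj g A := ⟨a, ha, rfl⟩
      rwa [hg A hA] at this
    -- `c` centralizes `A`
    have hcA : c ∈ A := by
      refine h1 A hA c hc1 ?_
      intro b hb
      have e1 : g * a * g⁻¹ * b = b * (g * a * g⁻¹) := hA.2.2 _ hga b hb
      have e2 : a * b = b * a := hA.2.2 a ha b hb
      have e3 : a⁻¹ * b = b * a⁻¹ := by
        calc a⁻¹ * b = a⁻¹ * (b * a) * a⁻¹ := by group
          _ = a⁻¹ * (a * b) * a⁻¹ := by rw [e2]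
          _ = b * a⁻¹ := by group
      calc c * b = g * a * g⁻¹ * (a⁻¹ * b) := by rw [hc]; group
        _ = g * a * g⁻¹ * (b * a⁻¹) := by rw [e3]
        _ = (g * a * g⁻¹ * b) * a⁻¹ := by group
        _ = (b * (g * a * g⁻¹)) * a⁻¹ := by rw [e1]
        _ = b * c := by rw [hc]; group
    -- `c` normalizes every member
    have hcn : ∀ B ∈ Fam X, cj c B = B := by
      intro B hB
      have hB' : cj a⁻¹ B ∈ Fam X := h30_cj_mem_Fam a⁻¹ B hB
      have e : c = g * (a * (g⁻¹ * a⁻¹)) := by rw [hc]; group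
      calc cj c B = cj g (cj a (cj g⁻¹ (cj a⁻¹ B))) := by
            rw [e, h30_cj_mul, h30_cj_mul, h30_cj_mul]
        _ = cj g (cj a (cj a⁻¹ B)) := by rw [hginv _ hB']
        _ = cj g (cj (a * a⁻¹) B) := by rw [h30_cj_mul a a⁻¹ B]
        _ = B := by rw [mul_inv_cancel, h30_cj_one, hg B hB]
    exact h30_not_mem h1 h2 c hcn A hA hcA
  by_contra hg1
  exact h30_not_mem h1 h2 g hg A hA (h1 A hA g hg1 hcent)

end Cfsg.Agent.Lib.helper30.CG33
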