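import Mathlib
import Cfsg.Agent.Lib.helper16.CG33Defs

/-!
# S3412 piece FIN (helper30): two embeddings with the same image
-/

set_option autoImplicit false

open Cfsg.Agent.Lib.helper16.CG33

namespace Cfsg.Agent.Lib.helper30.CG33

/-- PIECE FIN: two embeddings of groups of the same order `n` into a group of order `≤ 2n`,
one of them without subgroups of index `2`, have the same image. -/
theorem iso_of_embeddings {H S Γ : Type*} [Group H] [Group S] [Group Γ] [Finite H] [Finite S]
    [Finite Γ] (a : H →* Γ) (b : S →* Γ) (ha : Function.Injective a) (hb : Function.Injective b)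
    (hcard : Nat.card H = Nat.card S) (hΓ : Nat.card Γ ≤ 2 * Nat.card S)
    (hidx : ∀ K : Subgroup S, K.index ≠ 2) : Nonempty (H ≃* S) := by
  classical
  have hA : Nat.card a.range = Nat.card H :=
    Nat.card_congr (MonoidHom.ofInjective ha).symm.toEquiv
  have hB : Nat.card b.range = Nat.card S :=
    Nat.card_congr (MonoidHom.ofInjective hb).symm.toEquiv
  have hSpos : 0 < Nat.card S := Nat.card_pos
  have hidxA : a.range.index ≤ 2 := by
    have h1 := a.range.card_mul_index
    rw [hA, hcard] at h1
    by_contra hcon
    have hcon := not_le.mp hcon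
    have h2 : Nat.card S * 3 ≤ Nat.card S * a.range.index := Nat.mul_le_mul_left _ hcon
    omega
  have hrel0 : a.range.relIndex ⊤ ≠ 0 := by
    rw [Subgroup.relIndex_top_right]
    exact Subgroup.index_ne_zero_of_finite
  have hrel : a.range.relIndex b.range ≤ 2 := by
    have h1 := Subgroup.relIndex_le_of_le_right (H := a.range) (le_top : b.range ≤ ⊤) hrel0
    rw [Subgroup.relIndex_top_right] at h1
    exact le_trans h1 hidxA
  have hK : (a.range.comap b).index = a.range.relIndex b.range := Subgroup.index_comap _ _
  have hne0 : a.range.relIndex b.range ≠ 0 := by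
    rw [← hK]
    exact Subgroup.index_ne_zero_of_finite
  have hne2 : a.range.relIndex b.range ≠ 2 := by
    rw [← hK]
    exact hidx _
  have h1 : a.range.relIndex b.range = 1 := by omega
  have hle : b.range ≤ a.range := Subgroup.relIndex_eq_one.mp h1
  have heq : b.range = a.range :=
    Subgroup.eq_of_le_of_card_ge hle (by rw [hA, hB, hcard])
  exact ⟨(MonoidHom.ofInjective ha).trans
    ((MulEquiv.subgroupCongr heq.symm).trans (MonoidHom.ofInjective hb).symm)⟩

end Cfsg.Agent.Lib.helper30.CG33
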