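import Cfsg.Agent.Lib.helper95.APDefs

set_option autoImplicit false

namespace Cfsg.Agent.Lib.helper30

/-- marker for the S2276 PERF piece -/
theorem h30_ap_perf_marker : True := by trivial

/-- a non-trivial subgroup contained in its own commutator subgroup is not solvable -/
theorem h30_not_solvable_of_le_commutator {G : Type*} [Group G] (K : Subgroup G)
    (hK : K ≤ ⁅K, K⁆) (g : G) (hg : g ∈ K) (hg1 : g ≠ 1) : ¬ Group.IsSolvable ↥K := by
  intro hsol
  have : Nontrivial ↥K := ⟨⟨⟨g, hg⟩, 1, fun h => hg1 (congrArg Subtype.val h)⟩⟩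
  have hlt := Group.IsSolvable.commutator_lt_top_of_nontrivial (G := ↥K)
  apply hlt.ne
  rw [eq_top_iff]
  intro k _
  have h1 : K.subtype k ∈ (commutator ↥K).map K.subtype := by
    rw [Subgroup.map_subtype_commutator]
    exact hK k.2
  exact (Subgroup.mem_map_iff_mem K.subtype_injective).1 h1

end Cfsg.Agent.Lib.helper30

namespace Cfsg.Agent.Lib.helper95.AP

open Equiv

/-- [PERF] perfectness certificate of non-solvability -/
theorem perf {G : Type*} [Group G] (a b : G) (ha1 : a ≠ 1) (xa ya xb yb : G)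
    (hxa : xa ∈ Subgroup.closure ({a, b} : Set G)) (hya : ya ∈ Subgroup.closure ({a, b} : Set G))
    (hxb : xb ∈ Subgroup.closure ({a, b} : Set G)) (hyb : yb ∈ Subgroup.closure ({a, b} : Set G))
    (ha : a = xa * ya * xa⁻¹ * ya⁻¹) (hb : b = xb * yb * xb⁻¹ * yb⁻¹) :
    ¬ Group.IsSolvable ↥(Subgroup.closure ({a, b} : Set G)) := by
  have haK : a ∈ Subgroup.closure ({a, b} : Set G) :=
    Subgroup.subset_closure (Set.mem_insert a {b})
  refine Cfsg.Agent.Lib.helper30.h30_not_solvable_of_le_commutator _ ?_ a haK ha1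
  rw [Subgroup.closure_le]
  intro x hx
  have h1 : xa * ya * xa⁻¹ * ya⁻¹ ∈
      ⁅Subgroup.closure ({a, b} : Set G), Subgroup.closure ({a, b} : Set G)⁆ :=
    Subgroup.commutator_mem_commutator hxa hya
  have h2 : xb * yb * xb⁻¹ * yb⁻¹ ∈
      ⁅Subgroup.closure ({a, b} : Set G), Subgroup.closure ({a, b} : Set G)⁆ :=
    Subgroup.commutator_mem_commutator hxb hyb
  rw [← ha] at h1
  rw [← hb] at h2
  rcases hx with rfl | hx
  · exact h1
  · have hxb' : x = b := hx
    rw [hxb']
    exact h2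

end Cfsg.Agent.Lib.helper95.AP
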