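import Mathlib
import Cfsg.Agent.Lib.helper68.HallPet
import Cfsg.Agent.Lib.helper68.RegularP
import Cfsg.Agent.Lib.helper74.RegularP

/-!
S5238 (rest of the plan, block G, step (4) "F3"): in a finite `p`-group `G` with an element `x` of
order `p` such that every element of `x * γ₂(G)` has order dividing `p`, the `p`-th power of an
element of `γ_i(G)` (`i ≥ 2`) lies in `γ_(i+p-1)(G)`.
-/

set_option autoImplicit false

namespace Cfsg.Agent.Lib.helper30

open scoped commutatorElement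

/-- `⟨x⟩ γ` is abelian modulo `[γ, G]`. -/
theorem h30_f3_comm {G : Type*} [Group G] (x : G) (j : ℕ) :
    ⁅Subgroup.zpowers x ⊔ (⊤ : Subgroup G).lowerCentralSeries j,
      Subgroup.zpowers x ⊔ (⊤ : Subgroup G).lowerCentralSeries j⁆ ≤
      (⊤ : Subgroup G).lowerCentralSeries (j + 1) := by
  set L := (⊤ : Subgroup G).lowerCentralSeries j with hL
  set N := (⊤ : Subgroup G).lowerCentralSeries (j + 1) with hN
  have hcent : ∀ u ∈ L, ∀ g : G,
      Commute (QuotientGroup.mk' N u) (QuotientGroup.mk' N g) := by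
    intro u hu g
    rw [← commutatorElement_eq_one_iff_commute, ← map_commutatorElement,
      QuotientGroup.mk'_apply, QuotientGroup.eq_one_iff]
    exact Subgroup.commutator_mem_commutator hu (Subgroup.mem_top g)
  have key : ∀ g ∈ Subgroup.zpowers x ⊔ L, ∃ a : ℤ, ∃ u ∈ L, g = x ^ a * u := by
    intro g hg
    have hg' : g ∈ ((Subgroup.zpowers x ⊔ L : Subgroup G) : Set G) := hg
    rw [Subgroup.mul_normal] at hg'
    obtain ⟨y, hy, u, hu, rfl⟩ := Set.mem_mul.mp hg'
    obtain ⟨a, rfl⟩ := Subgroup.mem_zpowers_iff.mp hy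
    exact ⟨a, u, hu, rfl⟩
  rw [Subgroup.commutator_le]
  intro g₁ hg₁ g₂ hg₂
  obtain ⟨a, u, hu, rfl⟩ := key g₁ hg₁
  obtain ⟨b, v, hv, rfl⟩ := key g₂ hg₂
  rw [← QuotientGroup.eq_one_iff, ← QuotientGroup.mk'_apply, map_commutatorElement,
    commutatorElement_eq_one_iff_commute]
  have h1 := hcent u hu
  have h2 := hcent v hv
  have e1 : QuotientGroup.mk' N (x ^ a * u) = QuotientGroup.mk' N (x ^ a) * QuotientGroup.mk' N u :=
    map_mul _ _ _
  rw [e1]
  refine Commute.mul_left ?_ (h1 _)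
  have e2 : QuotientGroup.mk' N (x ^ b * v) = QuotientGroup.mk' N (x ^ b) * QuotientGroup.mk' N v :=
    map_mul _ _ _
  rw [e2]
  refine Commute.mul_right ?_ (h2 _).symm
  rw [map_zpow, map_zpow]
  exact (Commute.refl _).zpow_zpow a b

/-- `γ_(k+1)(⟨x⟩ γ_(j+1)(G)) ≤ γ_(j+k+1)(G)` for `k ≥ 1` (indices of `lowerCentralSeries`). -/
theorem h30_f3_lcs {G : Type*} [Group G] (x : G) (j : ℕ) (k : ℕ) (hk : 1 ≤ k) :
    (Subgroup.zpowers x ⊔ (⊤ : Subgroup G).lowerCentralSeries j).lowerCentralSeries k ≤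
      (⊤ : Subgroup G).lowerCentralSeries (j + k) := by
  induction k, hk using Nat.le_induction with
  | base =>
    show ⁅(Subgroup.zpowers x ⊔ (⊤ : Subgroup G).lowerCentralSeries j).lowerCentralSeries 0,
      Subgroup.zpowers x ⊔ (⊤ : Subgroup G).lowerCentralSeries j⁆ ≤ _
    rw [Subgroup.lowerCentralSeries_zero]
    exact h30_f3_comm x j
  | succ k hk ih =>
    rw [Subgroup.lowerCentralSeries_succ, ← add_assoc, Subgroup.lowerCentralSeries_succ]
    exact Subgroup.commutator_mono ih le_top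

/-- F3, in terms of Mathlib's `lowerCentralSeries`. -/
theorem h30_pearl_f3_lcs {G : Type*} [Group G] [Finite G] (p : ℕ) [Fact p.Prime]
    (hG : IsPGroup p G) (x : G) (hx : x ^ p = 1)
    (hconj : ∀ m ∈ (⊤ : Subgroup G).lowerCentralSeries 1, (x * m) ^ p = 1)
    (j : ℕ) (hj : 1 ≤ j) (m : G) (hm : m ∈ (⊤ : Subgroup G).lowerCentralSeries j) :
    m ^ p ∈ (⊤ : Subgroup G).lowerCentralSeries (j + (p - 1)) := by
  have hp := (Fact.out : p.Prime)
  set L := (⊤ : Subgroup G).lowerCentralSeries j with hL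
  set K := Subgroup.zpowers x ⊔ L with hK
  set N := (⊤ : Subgroup G).lowerCentralSeries (j + (p - 1)) with hN
  have hKN : K.lowerCentralSeries (p - 1) ≤ N :=
    h30_f3_lcs x j (p - 1) (by have := hp.two_le; omega)
  have hQp : IsPGroup p (K ⧸ N.subgroupOf K) := (hG.to_subgroup K).to_quotient (N.subgroupOf K)
  have hcl : (⊤ : Subgroup (K ⧸ N.subgroupOf K)).lowerCentralSeries (p - 1) = ⊥ := by
    have h1 : (⊤ : Subgroup (K ⧸ N.subgroupOf K)) =
        (⊤ : Subgroup K).map (QuotientGroup.mk' (N.subgroupOf K)) := by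
      rw [← MonoidHom.range_eq_map,
        MonoidHom.range_eq_top.mpr (QuotientGroup.mk'_surjective (N.subgroupOf K))]
    rw [h1, ← Subgroup.map_lowerCentralSeries, eq_bot_iff, Subgroup.map_le_iff_le_comap]
    intro y hy
    rw [Subgroup.mem_comap, Subgroup.mem_bot, QuotientGroup.mk'_apply, QuotientGroup.eq_one_iff,
      Subgroup.mem_subgroupOf]
    apply hKN
    rw [← Subgroup.top_subtype_lowerCentralSeries]
    exact Subgroup.mem_map_of_mem K.subtype hy
  have hreg : Cfsg.IsRegularPGroup p (K ⧸ N.subgroupOf K) :=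
    Cfsg.Agent.Lib.helper68.regular_of_class_lt hQp hcl
  set Om := Cfsg.Agent.Lib.helper74.omega hreg 1 with hOm
  set H' : Subgroup G := (Om.comap (QuotientGroup.mk' (N.subgroupOf K))).map K.subtype with hH'
  have hxK : x ∈ K := Subgroup.mem_sup_left (Subgroup.mem_zpowers x)
  have hLK : L ≤ K := le_sup_right
  have hmemH' : ∀ g : G, g ∈ K → g ^ p = 1 → g ∈ H' := by
    intro g hg hgp
    refine ⟨⟨g, hg⟩, ?_, rfl⟩
    show QuotientGroup.mk' (N.subgroupOf K) ⟨g, hg⟩ ∈ Om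
    rw [Cfsg.Agent.Lib.helper74.mem_omega, pow_one, ← map_pow]
    have h3 : (⟨g, hg⟩ : K) ^ p = 1 := Subtype.ext (by simpa using hgp)
    rw [h3, map_one]
  have hxH' : x ∈ H' := hmemH' x hxK hx
  have hLH' : L ≤ H' := by
    intro u hu
    have h1 : x * u ∈ H' := hmemH' (x * u) (K.mul_mem hxK (hLK hu))
      (hconj u (Subgroup.lowerCentralSeries_antitone _ hj hu))
    have h4 : u = x⁻¹ * (x * u) := by group
    rw [h4]
    exact H'.mul_mem (H'.inv_mem hxH') h1
  obtain ⟨⟨m', hm'K⟩, hm'Om, hm'eq⟩ := hLH' hm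
  have hm'eq' : m' = m := hm'eq
  subst hm'eq'
  have h2 : QuotientGroup.mk' (N.subgroupOf K) ⟨m', hm'K⟩ ∈ Om := hm'Om
  rw [Cfsg.Agent.Lib.helper74.mem_omega, pow_one, ← map_pow, QuotientGroup.mk'_apply,
    QuotientGroup.eq_one_iff, Subgroup.mem_subgroupOf] at h2
  simpa using h2

/-- **F3** (step (4) of the S5238 plan), in terms of `helper68.gam`
(`gam G i = (⊤ : Subgroup G).lowerCentralSeries (i - 1)`). -/
theorem h30_pearl_f3 {G : Type*} [Group G] [Finite G] (p : ℕ) [Fact p.Prime] (hG : IsPGroup p G)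
    (x : G) (hx : x ^ p = 1)
    (hconj : ∀ m ∈ Cfsg.Agent.Lib.helper68.gam G 2, (x * m) ^ p = 1) (i : ℕ) (hi : 2 ≤ i) (m : G)
    (hm : m ∈ Cfsg.Agent.Lib.helper68.gam G i) :
    m ^ p ∈ Cfsg.Agent.Lib.helper68.gam G (i + p - 1) := by
  have hp := (Fact.out : p.Prime)
  have h := h30_pearl_f3_lcs p hG x hx hconj (i - 1) (by omega) m hm
  have e : i + p - 1 - 1 = i - 1 + (p - 1) := by have := hp.two_le; omega
  show m ^ p ∈ (⊤ : Subgroup G).lowerCentralSeries (i + p - 1 - 1)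
  rw [e]
  exact h

end Cfsg.Agent.Lib.helper30
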