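import Mathlib
import Cfsg.Agent.Lib.helper61.SfoCNTDOcore
import Cfsg.Agent.Lib.helper57.SfoBINCNT

/-!
# S5981 piece CNTDE, spare copy (helper30): diagonal count in even dimension

From the recursion `h61_sfo_diag_rec` (helper61) and the binary count `sfo_bin_count` (helper57).
-/

set_option autoImplicit false

namespace Cfsg.Agent.Lib.helper30

open Cfsg.Agent.Lib.helper24

/-- no solutions in dimension zero -/
theorem h30_sfo_diag_zero {F : Type*} [Field F] [Fintype F] [DecidableEq F] (n : ℕ) (hn : n = 0)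
    (d : Fin n → F) (c : F) (hc : c ≠ 0) :
    (Finset.univ.filter (fun x : Fin n → F => ∑ j, d j * x j ^ 2 = c)).card = 0 := by
  subst hn
  rw [Finset.card_eq_zero, Finset.filter_eq_empty_iff]
  intro x _
  rw [Fin.sum_univ_zero]
  exact fun h => hc h.symm

/-- diagonal count in dimension `2 k + 2` -/
theorem h30_sfo_count_diag_even_succ {F : Type*} [Field F] [Fintype F] [DecidableEq F]
    (h2 : (2 : F) ≠ 0) :
    ∀ (k n : ℕ) (_ : n = 2 * k + 2) (d : Fin n → F) (_ : ∀ j, d j ≠ 0),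
    ∃ ε : ℤ, (ε = 1 ∨ ε = -1) ∧ ∀ c : F, c ≠ 0 →
      ((Finset.univ.filter (fun x : Fin n → F => ∑ j, d j * x j ^ 2 = c)).card : ℤ) =
        (Fintype.card F : ℤ) ^ k * ((Fintype.card F : ℤ) ^ (k + 1) - ε) := by
  intro k
  induction k with
  | zero =>
    intro n hn d hd
    obtain ⟨m, rfl⟩ : ∃ m, n = m + 2 := ⟨0, by omega⟩
    have hm : m = 0 := by omega
    obtain ⟨e, he, hM, hM0⟩ := sfo_bin_count h2 (d 0) (d 1) (hd 0) (hd 1)
    refine ⟨e, he, ?_⟩
    intro c hc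
    rw [h61_sfo_diag_rec m (d 0) (d 1) e hM hM0 d rfl rfl c,
      h30_sfo_diag_zero m hm (fun j => d j.succ.succ) c hc, hm]
    simp
  | succ k ih =>
    intro n hn d hd
    obtain ⟨m, rfl⟩ : ∃ m, n = m + 2 := ⟨2 * k + 2, by omega⟩
    have hm : m = 2 * k + 2 := by omega
    obtain ⟨e, he, hM, hM0⟩ := sfo_bin_count h2 (d 0) (d 1) (hd 0) (hd 1)
    obtain ⟨ε, hε, ih1⟩ := ih m hm (fun j => d j.succ.succ) (fun j => hd _)
    refine ⟨e * ε, ?_, ?_⟩
    · rcases he with rfl | rfl <;> rcases hε with rfl | rfl <;> simp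
    · intro c hc
      rw [h61_sfo_diag_rec m (d 0) (d 1) e hM hM0 d rfl rfl c, ih1 c hc, hm]
      ring

/-- CNTDE (spare): diagonal count in even dimension -/
theorem h30_sfo_count_diag_even {F : Type*} [Field F] [Fintype F] [DecidableEq F]
    (h2 : (2 : F) ≠ 0) (k : ℕ) (d : Fin (2 * k) → F) (hd : ∀ j, d j ≠ 0) :
    ∃ ε : ℤ, (ε = 1 ∨ ε = -1) ∧ ∀ c : F, c ≠ 0 →
      ((Finset.univ.filter (fun x : Fin (2 * k) → F => ∑ j, d j * x j ^ 2 = c)).card : ℤ) =
        (Fintype.card F : ℤ) ^ (k - 1) * ((Fintype.card F : ℤ) ^ k - ε) := by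
  rcases Nat.eq_zero_or_pos k with hk | hk
  · subst hk
    refine ⟨1, Or.inl rfl, ?_⟩
    intro c hc
    rw [h30_sfo_diag_zero (2 * 0) (Nat.mul_zero 2) d c hc]
    simp
  · obtain ⟨k', rfl⟩ : ∃ k', k = k' + 1 := ⟨k - 1, by omega⟩
    obtain ⟨ε, hε, h⟩ := h30_sfo_count_diag_even_succ h2 k' (2 * (k' + 1)) (by ring) d hd
    refine ⟨ε, hε, ?_⟩
    intro c hc
    rw [h c hc, Nat.add_sub_cancel]

end Cfsg.Agent.Lib.helper30
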