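import Mathlib
import Cfsg.Agent.Lib.helper24.SfoDefs

/-!
# S5981 piece OLB (helper30): lower bound for the `r`-part of the order of the isometry group, core

`h30_sfo_card_lb_core` takes OORB, CNTE and CNTO as hypotheses.
-/

set_option autoImplicit false

namespace Cfsg.Agent.Lib.helper30

open Module Matrix Cfsg.Geo Cfsg.Agent.Lib.helper24

/-- no odd prime divides both `x + 1` and `x - 1` -/
theorem h30_sfo_not_both (r x : ℕ) (hr : r.Prime) (hr2 : r ≠ 2) (hx : 1 ≤ x)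
    (h1 : r ∣ x + 1) (h2 : r ∣ x - 1) : False := by
  have h3 : r ∣ (x + 1) - (x - 1) := Nat.dvd_sub h1 h2
  have h4 : (x + 1) - (x - 1) = 2 := by omega
  rw [h4] at h3
  exact hr2 ((Nat.prime_dvd_prime_iff_eq hr Nat.prime_two).1 h3)

theorem h30_sfo_val_plus (q r a k : ℕ) (hr : r.Prime) (hr2 : r ≠ 2) (hq : 2 ≤ q)
    (hrq : ¬ r ∣ q) (hk : 1 ≤ k) (h : r ∣ q ^ a * (q ^ k + 1) ∨ ¬ r ∣ q ^ k - 1) :
    padicValNat r (q ^ (2 * k) - 1) ≤ padicValNat r (q ^ a * (q ^ k + 1)) := by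
  have : Fact r.Prime := ⟨hr⟩
  have hx : 2 ≤ q ^ k := le_trans hq (Nat.le_self_pow (by omega) q)
  have hnd : ¬ r ∣ q ^ k - 1 := by
    rcases h with h | h
    · intro h'
      have h1 : r ∣ q ^ k + 1 := by
        rcases (Nat.Prime.dvd_mul hr).1 h with h1 | h1
        · exact absurd (hr.dvd_of_dvd_pow h1) hrq
        · exact h1
      exact h30_sfo_not_both r (q ^ k) hr hr2 (by omega) h1 h'
    · exact h
  have e : q ^ (2 * k) - 1 = (q ^ k + 1) * (q ^ k - 1) := by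
    rw [mul_comm 2 k, pow_mul]
    have := Nat.sq_sub_sq (q ^ k) 1
    rw [one_pow] at this
    exact this
  have hqa : q ^ a ≠ 0 := (pow_pos (by omega) a).ne'
  rw [e, padicValNat.mul (by omega) (by omega), padicValNat.eq_zero_of_not_dvd hnd, add_zero,
    padicValNat.mul hqa (by omega)]
  omega

theorem h30_sfo_val_minus (q r a k : ℕ) (hr : r.Prime) (hr2 : r ≠ 2) (hq : 2 ≤ q)
    (hrq : ¬ r ∣ q) (hk : 1 ≤ k) (h : r ∣ q ^ a * (q ^ k - 1) ∨ ¬ r ∣ q ^ k + 1) :
    padicValNat r (q ^ (2 * k) - 1) ≤ padicValNat r (q ^ a * (q ^ k - 1)) := by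
  have : Fact r.Prime := ⟨hr⟩
  have hx : 2 ≤ q ^ k := le_trans hq (Nat.le_self_pow (by omega) q)
  have hnd : ¬ r ∣ q ^ k + 1 := by
    rcases h with h | h
    · intro h'
      have h1 : r ∣ q ^ k - 1 := by
        rcases (Nat.Prime.dvd_mul hr).1 h with h1 | h1
        · exact absurd (hr.dvd_of_dvd_pow h1) hrq
        · exact h1
      exact h30_sfo_not_both r (q ^ k) hr hr2 (by omega) h' h1
    · exact h
  have e : q ^ (2 * k) - 1 = (q ^ k - 1) * (q ^ k + 1) := by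
    rw [mul_comm 2 k, pow_mul]
    have := Nat.sq_sub_sq (q ^ k) 1
    rw [one_pow] at this
    rw [this, mul_comm]
  have hqa : q ^ a ≠ 0 := (pow_pos (by omega) a).ne'
  rw [e, padicValNat.mul (by omega) (by omega), padicValNat.eq_zero_of_not_dvd hnd, add_zero,
    padicValNat.mul hqa (by omega)]
  omega

/-- natural-number form of the odd-dimensional count: both values occur -/
theorem h30_sfo_odd_nat {F : Type*} [Field F] [Fintype F] (h2 : (2 : F) ≠ 0) (k : ℕ) {n : ℕ}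
    (Q : (Fin n → F) → F)
    (h : ∃ E : ℤ, (E = 1 ∨ E = -1) ∧
      (∀ c : F, c ≠ 0 → IsSquare c →
        (sfoCount Q c : ℤ) = (Fintype.card F : ℤ) ^ k * ((Fintype.card F : ℤ) ^ k + E)) ∧
      (∀ c : F, c ≠ 0 → ¬ IsSquare c →
        (sfoCount Q c : ℤ) = (Fintype.card F : ℤ) ^ k * ((Fintype.card F : ℤ) ^ k - E))) :
    (∃ c : F, c ≠ 0 ∧ sfoCount Q c = Fintype.card F ^ k * (Fintype.card F ^ k + 1)) ∧
    (∃ c : F, c ≠ 0 ∧ sfoCount Q c = Fintype.card F ^ k * (Fintype.card F ^ k - 1)) := by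
  have hchar : ringChar F ≠ 2 := by
    intro h
    apply h2
    have h3 := ringChar.Nat.cast_ringChar (R := F)
    rw [h] at h3
    exact_mod_cast h3
  obtain ⟨c₀, hc₀⟩ := FiniteField.exists_nonsquare hchar
  have hc₀0 : c₀ ≠ 0 := by
    rintro rfl
    exact hc₀ ⟨0, by simp⟩
  have h1 : 1 ≤ Fintype.card F ^ k := Nat.one_le_pow _ _ Fintype.card_pos
  obtain ⟨E, hE, hsq, hnsq⟩ := h
  rcases hE with rfl | rfl
  · refine ⟨⟨1, one_ne_zero, ?_⟩, ⟨c₀, hc₀0, ?_⟩⟩
    · have := hsq 1 one_ne_zero ⟨1, by simp⟩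
      zify
      exact this
    · have := hnsq c₀ hc₀0 hc₀
      zify [h1]
      exact this
  · refine ⟨⟨c₀, hc₀0, ?_⟩, ⟨1, one_ne_zero, ?_⟩⟩
    · have := hnsq c₀ hc₀0 hc₀
      zify
      rw [this]; ring
    · have := hsq 1 one_ne_zero ⟨1, by simp⟩
      zify [h1]
      rw [this]; ring

/-- the choice of the value `c` in the induction step -/
theorem h30_sfo_choice {F : Type*} [Field F] [Fintype F] (h2 : (2 : F) ≠ 0) (r : ℕ) [Fact r.Prime]
    (hr2 : r ≠ 2) (hrq : ¬ r ∣ Fintype.card F) (i : ℕ) (hi : Even i)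
    (m : ℕ) (Q : (Fin (m + 1) → F) → F)
    (hE : ∀ k, m + 1 = 2 * k → ∃ ε : ℤ, (ε = 1 ∨ ε = -1) ∧ ∀ c : F, c ≠ 0 →
      (sfoCount Q c : ℤ) = (Fintype.card F : ℤ) ^ (k - 1) * ((Fintype.card F : ℤ) ^ k - ε))
    (hO : ∀ k, m + 1 = 2 * k + 1 → ∃ E : ℤ, (E = 1 ∨ E = -1) ∧
      (∀ c : F, c ≠ 0 → IsSquare c →
        (sfoCount Q c : ℤ) = (Fintype.card F : ℤ) ^ k * ((Fintype.card F : ℤ) ^ k + E)) ∧
      (∀ c : F, c ≠ 0 → ¬ IsSquare c →
        (sfoCount Q c : ℤ) = (Fintype.card F : ℤ) ^ k * ((Fintype.card F : ℤ) ^ k - E))) :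
    ∃ c : F, c ≠ 0 ∧ 0 < sfoCount Q c ∧
      (i ∣ m → padicValNat r (Fintype.card F ^ m - 1) ≤ padicValNat r (sfoCount Q c)) ∧
      (i ∣ m + 1 ∧ r ∣ sfoCount Q 1 →
        padicValNat r (Fintype.card F ^ (m + 1) - 1) ≤ padicValNat r (sfoCount Q c)) := by
  have hq : 2 ≤ Fintype.card F := Fintype.one_lt_card
  have hr : r.Prime := Fact.out
  have hev : ∀ t, i ∣ t → Even t := fun t ht => hi.trans_dvd ht
  rcases Nat.even_or_odd' (m + 1) with ⟨k, hk | hk⟩
  · -- m + 1 = 2 k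
    have hk1 : 1 ≤ k := by omega
    have hx : 2 ≤ Fintype.card F ^ k := le_trans hq (Nat.le_self_pow (by omega) _)
    have hmodd : ¬ i ∣ m := by
      intro h
      obtain ⟨j, hj⟩ := hev m h
      omega
    obtain ⟨ε, hε, hcnt⟩ := hE k hk
    rcases hε with rfl | rfl
    · have hN : ∀ c : F, c ≠ 0 →
          sfoCount Q c = Fintype.card F ^ (k - 1) * (Fintype.card F ^ k - 1) := by
        intro c hc
        have := hcnt c hc
        zify [show 1 ≤ Fintype.card F ^ k by omega]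
        exact this
      refine ⟨1, one_ne_zero, ?_, fun h => absurd h hmodd, ?_⟩
      · rw [hN 1 one_ne_zero]
        exact Nat.mul_pos (pow_pos (by omega) _) (by omega)
      · rintro ⟨-, hr1⟩
        rw [hN 1 one_ne_zero] at hr1 ⊢
        rw [hk]
        exact h30_sfo_val_minus _ r _ k hr hr2 hq hrq hk1 (Or.inl hr1)
    · have hN : ∀ c : F, c ≠ 0 →
          sfoCount Q c = Fintype.card F ^ (k - 1) * (Fintype.card F ^ k + 1) := by
        intro c hc
        have := hcnt c hc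
        zify
        rw [this]; ring
      refine ⟨1, one_ne_zero, ?_, fun h => absurd h hmodd, ?_⟩
      · rw [hN 1 one_ne_zero]
        exact Nat.mul_pos (pow_pos (by omega) _) (by omega)
      · rintro ⟨-, hr1⟩
        rw [hN 1 one_ne_zero] at hr1 ⊢
        rw [hk]
        exact h30_sfo_val_plus _ r _ k hr hr2 hq hrq hk1 (Or.inl hr1)
  · -- m + 1 = 2 k + 1
    have hm : m = 2 * k := by omega
    have hnot : ¬ i ∣ m + 1 := by
      intro h
      obtain ⟨j, hj⟩ := hev _ h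
      omega
    obtain ⟨⟨c1, hc1, hN1⟩, ⟨c2, hc2, hN2⟩⟩ := h30_sfo_odd_nat h2 k Q (hO k hk)
    by_cases hk0 : k = 0
    · subst hk0
      refine ⟨c1, hc1, ?_, ?_, fun h => absurd h.1 hnot⟩
      · rw [hN1]; simp
      · intro _
        rw [hN1, hm]; simp
    · have hk1 : 1 ≤ k := by omega
      have hx : 2 ≤ Fintype.card F ^ k := le_trans hq (Nat.le_self_pow (by omega) _)
      by_cases hd : r ∣ Fintype.card F ^ k - 1
      · refine ⟨c2, hc2, ?_, ?_, fun h => absurd h.1 hnot⟩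
        · rw [hN2]; exact Nat.mul_pos (pow_pos (by omega) _) (by omega)
        · intro _
          rw [hN2, hm]
          exact h30_sfo_val_minus _ r _ k hr hr2 hq hrq hk1 (Or.inl (Dvd.dvd.mul_left hd _))
      · refine ⟨c1, hc1, ?_, ?_, fun h => absurd h.1 hnot⟩
        · rw [hN1]; exact Nat.mul_pos (pow_pos (by omega) _) (by omega)
        · intro _
          rw [hN1, hm]
          exact h30_sfo_val_plus _ r _ k hr hr2 hq hrq hk1 (Or.inr hd)

/-- OLB, with OORB, CNTE and CNTO as hypotheses -/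
theorem h30_sfo_card_lb_core {F : Type*} [Field F] [Fintype F] (h2 : (2 : F) ≠ 0) (r : ℕ)
    [Fact r.Prime] (hr2 : r ≠ 2) (hrF : (r : F) ≠ 0)
    (hi : Even (orderOf ((Fintype.card F : ℕ) : ZMod r)))
    (hOORB : ∀ (m : ℕ) (Q : (Fin (m + 1) → F) → F), IsNondegenerateQuadraticForm Q →
      ∀ c : F, c ≠ 0 → 0 < sfoCount Q c →
      ∃ Q' : (Fin m → F) → F, IsNondegenerateQuadraticForm Q' ∧
        Nat.card (sfoIsom Q) = sfoCount Q c * Nat.card (sfoIsom Q'))
    (hCNTE : ∀ (d k : ℕ), d = 2 * k → ∀ Q : (Fin d → F) → F, IsNondegenerateQuadraticForm Q →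
      ∃ ε : ℤ, (ε = 1 ∨ ε = -1) ∧ ∀ c : F, c ≠ 0 →
        (sfoCount Q c : ℤ) = (Fintype.card F : ℤ) ^ (k - 1) * ((Fintype.card F : ℤ) ^ k - ε))
    (hCNTO : ∀ (d k : ℕ), d = 2 * k + 1 → ∀ Q : (Fin d → F) → F,
      IsNondegenerateQuadraticForm Q →
      ∃ E : ℤ, (E = 1 ∨ E = -1) ∧
        (∀ c : F, c ≠ 0 → IsSquare c →
          (sfoCount Q c : ℤ) = (Fintype.card F : ℤ) ^ k * ((Fintype.card F : ℤ) ^ k + E)) ∧
        (∀ c : F, c ≠ 0 → ¬ IsSquare c →
          (sfoCount Q c : ℤ) = (Fintype.card F : ℤ) ^ k * ((Fintype.card F : ℤ) ^ k - E)))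
    (d : ℕ) (Q : (Fin d → F) → F) (hQ : IsNondegenerateQuadraticForm Q) :
    (∑ t ∈ (Finset.range d).filter (fun t => orderOf ((Fintype.card F : ℕ) : ZMod r) ∣ t),
        padicValNat r (Fintype.card F ^ t - 1)) +
      (if orderOf ((Fintype.card F : ℕ) : ZMod r) ∣ d ∧ r ∣ sfoCount Q 1 then
        padicValNat r (Fintype.card F ^ d - 1) else 0)
      ≤ padicValNat r (Nat.card (sfoIsom Q)) := by
  have hr : r.Prime := Fact.out
  have hrq : ¬ r ∣ Fintype.card F := by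
    intro hrq
    obtain ⟨p, hpc⟩ := CharP.exists F
    have hpp : p.Prime := CharP.char_is_prime F p
    obtain ⟨k, -, hk⟩ := FiniteField.card F p
    rw [hk] at hrq
    have h3 := (Nat.prime_dvd_prime_iff_eq hr hpp).mp (hr.dvd_of_dvd_pow hrq)
    apply hrF
    rw [h3]
    exact CharP.cast_eq_zero F p
  generalize orderOf ((Fintype.card F : ℕ) : ZMod r) = i at hi ⊢
  induction d with
  | zero => simp
  | succ m ih =>
    obtain ⟨c, hc0, hpos, hv1, hv2⟩ := h30_sfo_choice h2 r hr2 hrq i hi m Q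
      (fun k hk => hCNTE (m + 1) k hk Q hQ) (fun k hk => hCNTO (m + 1) k hk Q hQ)
    obtain ⟨Q', hQ', hcard⟩ := hOORB m Q hQ c hc0 hpos
    have ih' := ih Q' hQ'
    have hO' : Nat.card (sfoIsom Q') ≠ 0 := Nat.card_pos.ne'
    rw [hcard, padicValNat.mul hpos.ne' hO']
    rw [Finset.sum_filter, Finset.sum_range_succ, ← Finset.sum_filter]
    have hnot : ¬ (i ∣ m ∧ i ∣ m + 1) := by
      rintro ⟨h1, h2⟩
      have h3 : i ∣ 1 := (Nat.dvd_add_right h1).1 h2
      have h4 := Nat.dvd_one.1 h3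
      subst h4
      exact absurd hi (by decide)
    have hS : (∑ t ∈ (Finset.range m).filter (fun t => i ∣ t),
        padicValNat r (Fintype.card F ^ t - 1)) ≤ padicValNat r (Nat.card (sfoIsom Q')) :=
      le_trans (Nat.le_add_right _ _) ih'
    by_cases hm : i ∣ m
    · have hm1 : ¬ i ∣ m + 1 := fun h => hnot ⟨hm, h⟩
      rw [if_pos hm, if_neg (fun h => hm1 h.1)]
      have := hv1 hm
      omega
    · rw [if_neg hm]
      by_cases hc : i ∣ m + 1 ∧ r ∣ sfoCount Q 1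
      · rw [if_pos hc]
        have := hv2 hc
        omega
      · rw [if_neg hc]
        omega

end Cfsg.Agent.Lib.helper30
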