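import Mathlib
import Cfsg.Agent.Lib.helper24.SfoDefs
import Cfsg.Agent.Lib.helper77.SfoOTRANS
import Cfsg.Agent.Lib.helper71.SfoOSTAB

/-!
# S5981 piece OORB, spare copy (helper30): orbit–stabiliser for the isometry group of a quadratic form
-/

set_option autoImplicit false

namespace Cfsg.Agent.Lib.helper30

open Module Matrix Cfsg.Geo Cfsg.Agent.Lib.helper24

/-- The natural action of the isometry group on vectors. -/
@[reducible] def h30_sfoAct {F : Type*} [Field F] {n : ℕ} (Q : (Fin n → F) → F) :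
    MulAction (sfoIsom Q) (Fin n → F) where
  smul g v := ((g : GL (Fin n) F) : Matrix (Fin n) (Fin n) F) *ᵥ v
  one_smul v := by
    show (((1 : sfoIsom Q) : GL (Fin n) F) : Matrix (Fin n) (Fin n) F) *ᵥ v = v
    simp
  mul_smul g h v := by
    show (((g * h : sfoIsom Q) : GL (Fin n) F) : Matrix (Fin n) (Fin n) F) *ᵥ v =
      ((g : GL (Fin n) F) : Matrix (Fin n) (Fin n) F) *ᵥ
        (((h : GL (Fin n) F) : Matrix (Fin n) (Fin n) F) *ᵥ v)
    simp [Matrix.mulVec_mulVec]

/-- OORB (spare): orbit–stabiliser -/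
theorem h30_sfo_card_step {F : Type*} [Field F] [Fintype F] {m : ℕ} (h2 : (2 : F) ≠ 0)
    (Q : (Fin (m + 1) → F) → F) (hQ : IsNondegenerateQuadraticForm Q) (c : F) (hc : c ≠ 0)
    (hpos : 0 < sfoCount Q c) :
    ∃ Q' : (Fin m → F) → F, IsNondegenerateQuadraticForm Q' ∧
      Nat.card (sfoIsom Q) = sfoCount Q c * Nat.card (sfoIsom Q') := by
  classical
  have hne : Nonempty {v : Fin (m + 1) → F // Q v = c} := by
    have h0 : 0 < Nat.card {v : Fin (m + 1) → F // Q v = c} := hpos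
    exact (Nat.card_pos_iff.1 h0).1
  obtain ⟨⟨v, hv⟩⟩ := hne
  have hv0 : Q v ≠ 0 := by rw [hv]; exact hc
  obtain ⟨Q', hQ', hstab⟩ := sfo_isom_stab h2 Q hQ v hv0
  refine ⟨Q', hQ', ?_⟩
  let _inst := h30_sfoAct Q
  have horb : MulAction.orbit (sfoIsom Q) v = {w | Q w = c} := by
    ext w
    constructor
    · rintro ⟨g, rfl⟩
      show Q (((g : GL (Fin (m + 1)) F) : Matrix (Fin (m + 1)) (Fin (m + 1)) F) *ᵥ v) = c
      rw [g.2 v]; exact hv
    · intro hw
      have hw' : Q w = c := hw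
      obtain ⟨g, hg, hgv⟩ := sfo_isom_transitive h2 Q hQ v w (hv.trans hw'.symm) hv0
      exact ⟨⟨g, hg⟩, hgv⟩
  have h1 : Nat.card (MulAction.orbit (sfoIsom Q) v) = sfoCount Q c := by
    rw [horb]
    rfl
  have h2' : Nat.card (MulAction.stabilizer (sfoIsom Q) v) =
      Nat.card {g : GL (Fin (m + 1)) F // g ∈ sfoIsom Q ∧
        (g : Matrix (Fin (m + 1)) (Fin (m + 1)) F) *ᵥ v = v} := by
    apply Nat.card_congr
    exact
      { toFun := fun g => ⟨(g.1 : GL (Fin (m + 1)) F), g.1.2, g.2⟩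
        invFun := fun g => ⟨⟨g.1, g.2.1⟩, g.2.2⟩
        left_inv := fun g => rfl
        right_inv := fun g => rfl }
  have h3 := Nat.card_congr (MulAction.orbitProdStabilizerEquivGroup (sfoIsom Q) v)
  rw [Nat.card_prod, h1, h2', hstab] at h3
  exact h3.symm

end Cfsg.Agent.Lib.helper30
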