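import Mathlib
import Cfsg.Agent.Lib.helper30.SfoOLBcore
import Cfsg.Agent.Lib.helper30.SfoOORBspare
import Cfsg.Agent.Lib.helper30.SfoCNTDEspare
import Cfsg.Agent.Lib.helper61.SfoCNTEcore

/-!
# S5981 piece OLB (helper30): lower bound for the `r`-part of the order of the isometry group

The verbatim statement `Cfsg.Agent.Lib.helper24.sfo_card_lb`, from the core `h30_sfo_card_lb_core`,
the orbit–stabiliser step (`h30_sfo_card_step`, own copy of OORB), and the counts in even and odd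
dimension (helper61's diagonalisation `h61_sfo_count_diag`, the diagonal counts
`h30_sfo_count_diag_even` and `h61_sfo_count_diag_odd_core`, helper57's `sfo_bin_count`).
-/

set_option autoImplicit false

namespace Cfsg.Agent.Lib.helper30

open Module Matrix Cfsg.Geo Cfsg.Agent.Lib.helper24

/-- CNTE, own copy in the quantified form used by the core -/
theorem h30_sfo_count_even {F : Type*} [Field F] [Fintype F] (h2 : (2 : F) ≠ 0) (d k : ℕ)
    (hdk : d = 2 * k) (Q : (Fin d → F) → F) (hQ : IsNondegenerateQuadraticForm Q) :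
    ∃ ε : ℤ, (ε = 1 ∨ ε = -1) ∧ ∀ c : F, c ≠ 0 →
      (sfoCount Q c : ℤ) = (Fintype.card F : ℤ) ^ (k - 1) * ((Fintype.card F : ℤ) ^ k - ε) := by
  classical
  subst hdk
  exact h61_sfo_count_even_core h2 k Q hQ (fun d hd => h30_sfo_count_diag_even h2 k d hd)

/-- CNTO, own copy in the quantified form used by the core -/
theorem h30_sfo_count_odd {F : Type*} [Field F] [Fintype F] (h2 : (2 : F) ≠ 0) (d k : ℕ)
    (hdk : d = 2 * k + 1) (Q : (Fin d → F) → F) (hQ : IsNondegenerateQuadraticForm Q) :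
    ∃ E : ℤ, (E = 1 ∨ E = -1) ∧
      (∀ c : F, c ≠ 0 → IsSquare c →
        (sfoCount Q c : ℤ) = (Fintype.card F : ℤ) ^ k * ((Fintype.card F : ℤ) ^ k + E)) ∧
      (∀ c : F, c ≠ 0 → ¬ IsSquare c →
        (sfoCount Q c : ℤ) = (Fintype.card F : ℤ) ^ k * ((Fintype.card F : ℤ) ^ k - E)) := by
  classical
  obtain ⟨δ, hδ, hcount⟩ := h61_sfo_count_diag h2 Q hQ
  obtain ⟨E, hE, h1, h2'⟩ := h61_sfo_count_diag_odd_core h2
    (fun a b ha hb => sfo_bin_count h2 a b ha hb) k d hdk δ hδ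
  refine ⟨E, hE, fun c hc hs => ?_, fun c hc hs => ?_⟩
  · rw [hcount c]; exact h1 c hc hs
  · rw [hcount c]; exact h2' c hc hs

end Cfsg.Agent.Lib.helper30

namespace Cfsg.Agent.Lib.helper24

open Module Matrix Cfsg.Geo

/-- OLB -/
theorem sfo_card_lb {F : Type*} [Field F] [Fintype F] (h2 : (2 : F) ≠ 0) (r : ℕ) [Fact r.Prime]
    (hr2 : r ≠ 2) (hrF : (r : F) ≠ 0) (hnd : ¬ r ∣ Fintype.card F - 1)
    (hi : Even (orderOf ((Fintype.card F : ℕ) : ZMod r)))
    (d : ℕ) (Q : (Fin d → F) → F) (hQ : IsNondegenerateQuadraticForm Q) :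
    (∑ t ∈ (Finset.range d).filter (fun t => orderOf ((Fintype.card F : ℕ) : ZMod r) ∣ t),
        padicValNat r (Fintype.card F ^ t - 1)) +
      (if orderOf ((Fintype.card F : ℕ) : ZMod r) ∣ d ∧ r ∣ sfoCount Q 1 then
        padicValNat r (Fintype.card F ^ d - 1) else 0)
      ≤ padicValNat r (Nat.card (sfoIsom Q)) :=
  Cfsg.Agent.Lib.helper30.h30_sfo_card_lb_core h2 r hr2 hrF hi
    (fun _ Q hQ c hc hpos => Cfsg.Agent.Lib.helper30.h30_sfo_card_step h2 Q hQ c hc hpos)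
    (fun d k hdk Q hQ => Cfsg.Agent.Lib.helper30.h30_sfo_count_even h2 d k hdk Q hQ)
    (fun d k hdk Q hQ => Cfsg.Agent.Lib.helper30.h30_sfo_count_odd h2 d k hdk Q hQ) d Q hQ

end Cfsg.Agent.Lib.helper24
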