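import Mathlib
import Cfsg.Agent.Lib.helper24.S6eDefs

set_option autoImplicit false

namespace Cfsg.Agent.Lib.helper30

/-- marker for the S6002 AR5 piece -/
theorem h30_s6e_ar5_marker : True := by trivial

/-- the residues 2 and 3 have order 4 modulo 5 -/
theorem h30_s6_order_two_three :
    orderOf ((2 : ℕ) : ZMod 5) = 4 ∧ orderOf ((3 : ℕ) : ZMod 5) = 4 := by
  constructor
  · exact (orderOf_eq_iff (by norm_num)).2 ⟨by decide, by decide⟩
  · exact (orderOf_eq_iff (by norm_num)).2 ⟨by decide, by decide⟩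

end Cfsg.Agent.Lib.helper30

namespace Cfsg.Agent.Lib.helper24

open Matrix Cfsg Cfsg.Geo

/-- AR5 (S). The order of p modulo 5 divides 4; if it is not 4 it divides 2, so p² ≡ 1 (mod 5). -/
theorem s6_arith5 (p : ℕ) (hp : p.Prime) (h5 : p ≠ 5)
    (hord : orderOf ((p : ℕ) : ZMod 5) ≠ 4) : 5 ∣ p ^ 2 - 1 := by
  have h5p : ¬ 5 ∣ p := by
    intro h
    have h' := (Nat.prime_dvd_prime_iff_eq (by norm_num) hp).1 h
    exact h5 h'.symm
  have hmod : p % 5 = 1 ∨ p % 5 = 2 ∨ p % 5 = 3 ∨ p % 5 = 4 := by omega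
  have hcast : ((p : ℕ) : ZMod 5) = ((p % 5 : ℕ) : ZMod 5) := (ZMod.natCast_mod p 5).symm
  have key : p % 5 = 1 ∨ p % 5 = 4 := by
    rcases hmod with h | h | h | h
    · exact Or.inl h
    · exfalso
      apply hord
      rw [hcast, h]
      exact Cfsg.Agent.Lib.helper30.h30_s6_order_two_three.1
    · exfalso
      apply hord
      rw [hcast, h]
      exact Cfsg.Agent.Lib.helper30.h30_s6_order_two_three.2
    · exact Or.inr h
  have hsq : p ^ 2 % 5 = 1 := by
    rw [Nat.pow_mod]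
    rcases key with h | h <;> rw [h]
  have hpos : 1 ≤ p ^ 2 := Nat.one_le_pow _ _ hp.pos
  omega

end Cfsg.Agent.Lib.helper24
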