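import Mathlib
import Cfsg.Agent.Lib.helper24.SfuDefs

/-!
# S5982 piece DETN, spare copy (helper30): the determinant of an isometry of a unitary form has norm 1

Proof through the Gram matrix in the standard basis (no orthonormal basis needed).
-/

set_option autoImplicit false

namespace Cfsg.Agent.Lib.helper30

open Module Matrix Cfsg.Geo Cfsg.Agent.Lib.helper24

/-- `x ↦ x ^ q₀` is additive on a field with `q₀ ^ 2` elements -/
theorem h30_sfu_add_pow {F : Type*} [Field F] [Fintype F] (q₀ : ℕ)
    (hcard : Fintype.card F = q₀ ^ 2) (a b : F) : (a + b) ^ q₀ = a ^ q₀ + b ^ q₀ := by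
  obtain ⟨p, hpc⟩ := CharP.exists F
  have hpp : p.Prime := CharP.char_is_prime F p
  have : Fact p.Prime := ⟨hpp⟩
  obtain ⟨k, -, hk⟩ := FiniteField.card F p
  have h1 : q₀ ∣ p ^ (k : ℕ) := by
    rw [← hk, hcard]; exact Dvd.intro_left _ (by ring)
  obtain ⟨j, -, rfl⟩ := (Nat.dvd_prime_pow hpp).1 h1
  exact add_pow_char_pow a b p j

/-- `(c ^ q₀) ^ q₀ = c` on a field with `q₀ ^ 2` elements -/
theorem h30_sfu_pow_pow {F : Type*} [Field F] [Fintype F] (q₀ : ℕ)
    (hcard : Fintype.card F = q₀ ^ 2) (c : F) : (c ^ q₀) ^ q₀ = c := by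
  rw [← pow_mul, ← sq, ← hcard, FiniteField.pow_card]

/-- expansion of a unitary form through its Gram matrix in the standard basis -/
theorem h30_sfu_gram_expand {F : Type*} [Field F] [Fintype F] {n : ℕ} (q₀ : ℕ)
    (hcard : Fintype.card F = q₀ ^ 2) (f : (Fin n → F) → (Fin n → F) → F)
    (hf : IsUnitaryFormPow q₀ f) (u v : Fin n → F) :
    f u v = ∑ a, ∑ b, u a * f (Pi.single a 1) (Pi.single b 1) * v b ^ q₀ := by
  classical
  have hq0 : q₀ ≠ 0 := by
    rintro rfl
    have h1 : 1 < Fintype.card F := Fintype.one_lt_card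
    rw [hcard] at h1
    norm_num at h1
  -- additivity / semilinearity in the second argument
  have hadd2 : ∀ w x y, f w (x + y) = f w x + f w y := by
    intro w x y
    rw [hf.herm w (x + y), hf.add_left, h30_sfu_add_pow q₀ hcard, ← hf.herm, ← hf.herm]
  have hsmul2 : ∀ (c : F) (w x : Fin n → F), f w (c • x) = c ^ q₀ * f w x := by
    intro c w x
    rw [hf.herm w (c • x), hf.smul_left, mul_pow, ← hf.herm]
  have hzero2 : ∀ w, f w 0 = 0 := by
    intro w
    have := hadd2 w 0 0
    rw [add_zero] at this
    exact left_eq_add.1 this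
  -- first argument
  let L : (Fin n → F) →ₗ[F] F :=
    { toFun := fun x => f x v
      map_add' := fun x y => hf.add_left x y v
      map_smul' := fun c x => by simpa using hf.smul_left c x v }
  have hu : u = ∑ a, u a • (Pi.single a (1 : F) : Fin n → F) := by
    ext i
    simp [Finset.sum_apply, Pi.single_apply]
  have h1 : f u v = ∑ a, u a * f (Pi.single a 1) v := by
    have : L u = ∑ a, u a • L (Pi.single a (1 : F)) := by
      conv_lhs => rw [hu]
      rw [map_sum]
      apply Finset.sum_congr rfl
      intro a _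
      rw [map_smul]
    simpa [L] using this
  -- second argument
  have h2 : ∀ w, f w v = ∑ b, f w (Pi.single b 1) * v b ^ q₀ := by
    intro w
    let M : (Fin n → F) →+ F :=
      { toFun := fun x => f w x
        map_zero' := hzero2 w
        map_add' := fun x y => hadd2 w x y }
    have hv : v = ∑ b, v b • (Pi.single b (1 : F) : Fin n → F) := by
      ext i
      simp [Finset.sum_apply, Pi.single_apply]
    have : M v = ∑ b, M (v b • (Pi.single b (1 : F) : Fin n → F)) := by
      conv_lhs => rw [hv]
      rw [map_sum]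
    have h3 : f w v = ∑ b, f w (v b • (Pi.single b (1 : F) : Fin n → F)) := this
    rw [h3]
    apply Finset.sum_congr rfl
    intro b _
    rw [hsmul2, mul_comm]
  rw [h1]
  apply Finset.sum_congr rfl
  intro a _
  rw [h2 (Pi.single a 1), Finset.mul_sum]
  apply Finset.sum_congr rfl
  intro b _
  ring

/-- DETN (spare): the determinant of an isometry has norm 1 -/
theorem h30_sfu_det_norm {F : Type*} [Field F] [Fintype F] {n : ℕ} (q₀ : ℕ)
    (hcard : Fintype.card F = q₀ ^ 2) (f : (Fin n → F) → (Fin n → F) → F)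
    (hf : IsUnitaryFormPow q₀ f) (g : GL (Fin n) F) (hg : g ∈ sfuIsom f) :
    (g : Matrix (Fin n) (Fin n) F).det ^ (q₀ + 1) = 1 := by
  classical
  have hq0 : q₀ ≠ 0 := by
    rintro rfl
    have h1 : 1 < Fintype.card F := Fintype.one_lt_card
    rw [hcard] at h1
    norm_num at h1
  let φ : F →+* F :=
    { toFun := fun x => x ^ q₀
      map_one' := one_pow _
      map_mul' := fun a b => mul_pow a b q₀
      map_zero' := zero_pow hq0
      map_add' := h30_sfu_add_pow q₀ hcard }
  let G : Matrix (Fin n) (Fin n) F := fun a b => f (Pi.single a 1) (Pi.single b 1)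
  let A : Matrix (Fin n) (Fin n) F := (g : Matrix (Fin n) (Fin n) F)
  -- the Gram matrix is invertible
  have hG : G.det ≠ 0 := by
    intro h0
    obtain ⟨v, hv0, hv⟩ := (Matrix.exists_mulVec_eq_zero_iff (M := G)).2 h0
    have hw0 : (fun b => v b ^ q₀) ≠ (0 : Fin n → F) := by
      intro h
      apply hv0
      ext b
      have := congrFun h b
      simpa using pow_eq_zero_iff hq0 |>.1 this
    obtain ⟨x, hx⟩ := (hf.nondegenerate _ hw0).1
    apply hx
    rw [h30_sfu_gram_expand q₀ hcard f hf]
    apply Finset.sum_eq_zero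
    intro a _
    have h1 : ∑ b, x a * f (Pi.single a 1) (Pi.single b 1) * (v b ^ q₀) ^ q₀ =
        x a * (G *ᵥ v) a := by
      rw [Matrix.mulVec, dotProduct, Finset.mul_sum]
      apply Finset.sum_congr rfl
      intro b _
      rw [h30_sfu_pow_pow q₀ hcard, mul_assoc]
    rw [h1, hv]
    simp
  -- Gram matrix identity
  have hGram : G = Aᵀ * G * A.map φ := by
    ext a b
    have h1 : G a b = f (A *ᵥ Pi.single a 1) (A *ᵥ Pi.single b 1) := (hg _ _).symm
    rw [h1, h30_sfu_gram_expand q₀ hcard f hf, Matrix.mul_apply]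
    simp only [Matrix.mul_apply, Matrix.transpose_apply, Matrix.map_apply, Finset.sum_mul]
    rw [Finset.sum_comm]
    apply Finset.sum_congr rfl
    intro d _
    apply Finset.sum_congr rfl
    intro c _
    simp [φ, G, A]
  have hdet := congrArg Matrix.det hGram
  rw [Matrix.det_mul, Matrix.det_mul, Matrix.det_transpose] at hdet
  have hφ : (A.map φ).det = A.det ^ q₀ := by
    have := RingHom.map_det φ A
    rw [RingHom.mapMatrix_apply] at this
    rw [← this]
    rfl
  rw [hφ] at hdet
  have h5 : G.det * (A.det ^ (q₀ + 1)) = G.det * 1 := by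
    rw [mul_one, pow_succ]
    linear_combination -hdet
  exact mul_left_cancel₀ hG h5

end Cfsg.Agent.Lib.helper30
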