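import Mathlib
import Cfsg.Agent.Lib.helper24.SfuDefs
import Cfsg.Agent.Lib.helper6.SLCard

/-!
# S5982 piece IDXU (helper30): index arithmetic for the unitary-type subgroup, core

`h30_sfu_idx_core` takes the order of the isometry group (ORDER) and the norm of the determinant
(DETN) as hypotheses.
-/

set_option autoImplicit false

namespace Cfsg.Agent.Lib.helper30

open Module Matrix Cfsg.Geo Cfsg.Agent.Lib.helper24

/-- the integer product identity `∏ (q^n - q^i) = ∏ q₀^m (q₀^(m+1) - (-1)^(m+1)) * ∏ q₀^m (q₀^(m+1) + (-1)^(m+1))`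
for `q = q₀^2`. -/
theorem h30_sfu_prod_id (a : ℤ) (n : ℕ) :
    ∏ i ∈ Finset.range n, ((a ^ 2) ^ n - (a ^ 2) ^ i) =
      (∏ m ∈ Finset.range n, a ^ m * (a ^ (m + 1) - (-1) ^ (m + 1))) *
      (∏ m ∈ Finset.range n, a ^ m * (a ^ (m + 1) + (-1) ^ (m + 1))) := by
  have h1 : ∀ i ∈ Finset.range n, ((a ^ 2) ^ n - (a ^ 2) ^ i) =
      (a ^ 2) ^ i * ((a ^ 2) ^ (n - i) - 1) := by
    intro i hi
    rw [Finset.mem_range] at hi
    rw [mul_sub, mul_one, ← pow_add, Nat.add_sub_cancel' hi.le]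
  rw [Finset.prod_congr rfl h1, Finset.prod_mul_distrib]
  have h2 : ∏ i ∈ Finset.range n, ((a ^ 2) ^ (n - i) - 1) =
      ∏ m ∈ Finset.range n, ((a ^ 2) ^ (m + 1) - 1) := by
    rw [← Finset.prod_range_reflect (fun m => (a ^ 2) ^ (m + 1) - 1) n]
    apply Finset.prod_congr rfl
    intro m hm
    rw [Finset.mem_range] at hm
    have e : n - 1 - m + 1 = n - m := by omega
    show (a ^ 2) ^ (n - m) - 1 = (a ^ 2) ^ (n - 1 - m + 1) - 1
    rw [e]
  rw [h2, ← Finset.prod_mul_distrib, ← Finset.prod_mul_distrib]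
  apply Finset.prod_congr rfl
  intro m _
  have hs : ((-1 : ℤ) ^ (m + 1)) ^ 2 = 1 := by
    rw [← pow_mul, mul_comm, pow_mul]; norm_num
  have e : a ^ m * (a ^ (m + 1) - (-1) ^ (m + 1)) * (a ^ m * (a ^ (m + 1) + (-1) ^ (m + 1))) =
      (a ^ m) ^ 2 * ((a ^ (m + 1)) ^ 2 - ((-1) ^ (m + 1)) ^ 2) := by ring
  rw [e, hs]
  ring

/-- the isometry group lies in the similarity group -/
theorem h30_sfuIsom_le_sim {F : Type*} [Field F] {n : ℕ} (f : (Fin n → F) → (Fin n → F) → F) :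
    sfuIsom f ≤ similarityGroup f := by
  intro g hg
  exact ⟨1, fun u v => by rw [hg u v, Units.val_one, one_mul]⟩

/-- the order of a subgroup intersected with another one, as `subgroupOf` -/
theorem h30_card_subgroupOf {G : Type*} [Group G] (H K : Subgroup G) :
    Nat.card (H.subgroupOf K) = Nat.card (H ⊓ K : Subgroup G) := by
  rw [← Subgroup.inf_subgroupOf_right H K]
  exact Nat.card_congr (Subgroup.subgroupOfEquivOfLe inf_le_right).toEquiv

/-- IDXU, with ORDER and DETN as hypotheses -/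
theorem h30_sfu_idx_core {F : Type*} [Field F] [Fintype F] {n : ℕ} (hn : 1 ≤ n) (q₀ : ℕ)
    (hcard : Fintype.card F = q₀ ^ 2) (f : (Fin n → F) → (Fin n → F) → F)
    (hORD : (Nat.card (sfuIsom f) : ℤ) =
      ∏ m ∈ Finset.range n, (q₀ : ℤ) ^ m * ((q₀ : ℤ) ^ (m + 1) - (-1) ^ (m + 1)))
    (hDET : ∀ g ∈ sfuIsom f, (g : Matrix (Fin n) (Fin n) F).det ^ (q₀ + 1) = 1)
    (r : ℕ) [Fact r.Prime] (hrF : (r : F) ≠ 0)
    (hΩ : r ∣ (similarityGroup f).relIndex (specialLinear (Fin n) F)) :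
    ∃ j, 2 ≤ j ∧ j ≤ n ∧ (-(q₀ : ZMod r)) ^ j = -1 := by
  classical
  have hq2 : 2 ≤ q₀ := by
    have h1 : 1 < Fintype.card F := Fintype.one_lt_card
    rw [hcard] at h1
    by_contra h
    have h2 : q₀ ≤ 1 := by omega
    have h3 : q₀ ^ 2 ≤ 1 ^ 2 := Nat.pow_le_pow_left h2 2
    omega
  have hrq : (q₀ : ZMod r) ≠ 0 := by
    intro h
    have h1 : r ∣ q₀ := (ZMod.natCast_eq_zero_iff q₀ r).1 h
    have hrq : r ∣ Fintype.card F := by rw [hcard]; exact dvd_pow h1 two_ne_zero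
    obtain ⟨p, hpc⟩ := CharP.exists F
    have hpp : p.Prime := CharP.char_is_prime F p
    obtain ⟨k, -, hk⟩ := FiniteField.card F p
    rw [hk] at hrq
    have h3 := (Nat.prime_dvd_prime_iff_eq (Fact.out : r.Prime) hpp).mp
      ((Fact.out : r.Prime).dvd_of_dvd_pow hrq)
    apply hrF
    rw [h3]
    exact CharP.cast_eq_zero F p
  -- (1) |SL| = relIndex * |sim ⊓ SL|
  have h1 : Nat.card (specialLinear (Fin n) F) =
      (similarityGroup f).relIndex (specialLinear (Fin n) F) *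
        Nat.card (similarityGroup f ⊓ specialLinear (Fin n) F : Subgroup (GL (Fin n) F)) := by
    have := Subgroup.card_mul_index ((similarityGroup f).subgroupOf (specialLinear (Fin n) F))
    rw [h30_card_subgroupOf] at this
    rw [← this, mul_comm]
    rfl
  -- (2) |SU| divides |sim ⊓ SL|
  have h2 : Nat.card (sfuIsom f ⊓ specialLinear (Fin n) F : Subgroup (GL (Fin n) F)) ∣
      Nat.card (similarityGroup f ⊓ specialLinear (Fin n) F : Subgroup (GL (Fin n) F)) :=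
    Subgroup.card_dvd_of_le (inf_le_inf_right _ (h30_sfuIsom_le_sim f))
  -- (3) |isom| = |SU| * d, d ∣ q₀ + 1
  have h3 : ∃ d, d ∣ q₀ + 1 ∧ Nat.card (sfuIsom f) =
      Nat.card (sfuIsom f ⊓ specialLinear (Fin n) F : Subgroup (GL (Fin n) F)) * d := by
    let φ : sfuIsom f →* Fˣ :=
      (Matrix.GeneralLinearGroup.det : GL (Fin n) F →* Fˣ).comp (sfuIsom f).subtype
    have hker : φ.ker = (specialLinear (Fin n) F).subgroupOf (sfuIsom f) := by
      ext g
      rw [MonoidHom.mem_ker, Subgroup.mem_subgroupOf]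
      show Matrix.GeneralLinearGroup.det (g : GL (Fin n) F) = 1 ↔
        (g : GL (Fin n) F) ∈ (Matrix.GeneralLinearGroup.det : GL (Fin n) F →* Fˣ).ker
      rw [MonoidHom.mem_ker]
    have hc := Subgroup.card_mul_index φ.ker
    rw [Subgroup.index_ker, hker, h30_card_subgroupOf, inf_comm] at hc
    refine ⟨Nat.card φ.range, ?_, hc.symm⟩
    have hexp : Monoid.exponent φ.range ∣ q₀ + 1 := by
      apply Monoid.exponent_dvd_of_forall_pow_eq_one
      rintro ⟨x, g, rfl⟩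
      apply Subtype.ext
      apply Units.ext
      have := hDET (g : GL (Fin n) F) g.2
      simpa [φ] using this
    rwa [IsCyclic.exponent_eq_card] at hexp
  obtain ⟨d, ⟨e, he⟩, h3⟩ := h3
  obtain ⟨c, h2⟩ := h2
  obtain ⟨t, ht⟩ := hΩ
  -- (4) |SL| * (q - 1) = ∏
  have h4 := Cfsg.Agent.Lib.helper6.card_SL (F := F) n hn
  rw [Nat.card_congr (Cfsg.Agent.Lib.helper6.slEquivKerDet (F := F) n)] at h4
  have h4' : ((q₀ : ℤ) ^ 2 - 1) * (Nat.card (specialLinear (Fin n) F) : ℤ) =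
      ∏ i ∈ Finset.range n, (((q₀ : ℤ) ^ 2) ^ n - ((q₀ : ℤ) ^ 2) ^ i) := by
    have h5 : ((Fintype.card F - 1 : ℕ) : ℤ) = (q₀ : ℤ) ^ 2 - 1 := by
      rw [hcard, Nat.cast_sub (Nat.one_le_pow _ _ (by omega))]
      push_cast
      ring
    have h6 : ((∏ i : Fin n, (Fintype.card F ^ n - Fintype.card F ^ (i : ℕ)) : ℕ) : ℤ) =
        ∏ i ∈ Finset.range n, (((q₀ : ℤ) ^ 2) ^ n - ((q₀ : ℤ) ^ 2) ^ i) := by
      rw [Fin.prod_univ_eq_prod_range (fun i => Fintype.card F ^ n - Fintype.card F ^ i) n,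
        Nat.cast_prod]
      apply Finset.prod_congr rfl
      intro i hi
      rw [Finset.mem_range] at hi
      rw [hcard, Nat.cast_sub (Nat.pow_le_pow_right (by positivity) hi.le)]
      push_cast
      ring
    rw [← h5, ← h6, ← h4]
    push_cast
    rfl
  rw [h30_sfu_prod_id, ← hORD] at h4'
  obtain ⟨n', rfl⟩ : ∃ n', n = n' + 1 := ⟨n - 1, by omega⟩
  rw [Finset.prod_range_succ' (fun m => (q₀ : ℤ) ^ m * ((q₀ : ℤ) ^ (m + 1) + (-1) ^ (m + 1)))] at h4'
  -- cancel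
  have hkey : (e : ℤ) * ((r : ℤ) * (t : ℤ)) * (c : ℤ) =
      ∏ m ∈ Finset.range n', (q₀ : ℤ) ^ (m + 1) * ((q₀ : ℤ) ^ (m + 1 + 1) + (-1) ^ (m + 1 + 1)) := by
    have hu : (Nat.card (sfuIsom f) : ℤ) ≠ 0 := by
      have : 0 < Nat.card (sfuIsom f) := Nat.card_pos
      exact_mod_cast this.ne'
    have ha1 : (q₀ : ℤ) - 1 ≠ 0 := by
      have : (2 : ℤ) ≤ (q₀ : ℤ) := by exact_mod_cast hq2
      omega
    have hq1 : (q₀ : ℤ) + 1 = (d : ℤ) * (e : ℤ) := by exact_mod_cast he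
    have hA : (Nat.card (specialLinear (Fin (n' + 1)) F) : ℤ) =
        (r : ℤ) * (t : ℤ) * ((Nat.card (sfuIsom f ⊓ specialLinear (Fin (n' + 1)) F :
          Subgroup (GL (Fin (n' + 1)) F)) : ℤ) * (c : ℤ)) := by
      rw [h1, ht, h2]
      push_cast
      ring
    have hB : (Nat.card (sfuIsom f) : ℤ) =
        (Nat.card (sfuIsom f ⊓ specialLinear (Fin (n' + 1)) F :
          Subgroup (GL (Fin (n' + 1)) F)) : ℤ) * (d : ℤ) := by
      rw [h3]
      push_cast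
      ring
    have hu' : (Nat.card (sfuIsom f ⊓ specialLinear (Fin (n' + 1)) F :
          Subgroup (GL (Fin (n' + 1)) F)) : ℤ) * (d : ℤ) ≠ 0 := by
      rw [← hB]; exact hu
    have h8 : (q₀ : ℤ) ^ 2 - 1 = ((q₀ : ℤ) - 1) * ((d : ℤ) * (e : ℤ)) := by
      rw [← hq1]; ring
    rw [hA, hB, h8] at h4'
    have h7 : (((q₀ : ℤ) - 1) * ((Nat.card (sfuIsom f ⊓ specialLinear (Fin (n' + 1)) F :
          Subgroup (GL (Fin (n' + 1)) F)) : ℤ) * (d : ℤ))) * ((e : ℤ) * ((r : ℤ) * (t : ℤ)) * (c : ℤ)) =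
        (((q₀ : ℤ) - 1) * ((Nat.card (sfuIsom f ⊓ specialLinear (Fin (n' + 1)) F :
          Subgroup (GL (Fin (n' + 1)) F)) : ℤ) * (d : ℤ))) *
        ∏ m ∈ Finset.range n', (q₀ : ℤ) ^ (m + 1) * ((q₀ : ℤ) ^ (m + 1 + 1) + (-1) ^ (m + 1 + 1)) := by
      linear_combination h4'
    exact mul_left_cancel₀ (mul_ne_zero ha1 hu') h7
  have hz : (∏ m ∈ Finset.range n', (q₀ : ZMod r) ^ (m + 1) *
      ((q₀ : ZMod r) ^ (m + 1 + 1) + (-1) ^ (m + 1 + 1))) = 0 := by
    have h9 := congrArg (Int.cast : ℤ → ZMod r) hkey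
    push_cast at h9
    rw [← h9]
    simp
  rw [Finset.prod_eq_zero_iff] at hz
  obtain ⟨m, hm, hm0⟩ := hz
  rw [Finset.mem_range] at hm
  rcases mul_eq_zero.1 hm0 with h | h
  · exact absurd h (pow_ne_zero _ hrq)
  · refine ⟨m + 2, by omega, by omega, ?_⟩
    have h9 : (q₀ : ZMod r) ^ (m + 2) = -((-1) ^ (m + 2)) := eq_neg_of_add_eq_zero_left h
    rw [neg_pow, h9]
    have hs : ((-1 : ZMod r) ^ (m + 2)) ^ 2 = 1 := by
      rw [← pow_mul, mul_comm, pow_mul]; norm_num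
    linear_combination -hs

end Cfsg.Agent.Lib.helper30
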