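import Mathlib
import Cfsg.Agent.Lib.helper30.SfuIDXUcore
import Cfsg.Agent.Lib.helper30.SfuDETNspare
import Cfsg.Agent.Lib.helper85.SfuORDER

/-!
# S5982 piece IDXU (helper30): index arithmetic for the unitary-type subgroup

The verbatim statement `Cfsg.Agent.Lib.helper24.sfu_idx`, from the core `h30_sfu_idx_core`, ORDER
(`Cfsg.Agent.Lib.helper24.sfu_card_isom`, helper85) and DETN (`h30_sfu_det_norm`, own copy).
-/

set_option autoImplicit false

namespace Cfsg.Agent.Lib.helper30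

/-- marker: S5982 piece IDXU (helper30); the final statement is below, in the architect's namespace -/
theorem h30_sfuIDXU_marker : True := by trivial

end Cfsg.Agent.Lib.helper30

namespace Cfsg.Agent.Lib.helper24

open Module Matrix Cfsg.Geo

/-- IDXU -/
theorem sfu_idx {F : Type*} [Field F] [Fintype F] {n : ℕ} (hn : 1 ≤ n) (q₀ : ℕ)
    (hcard : Fintype.card F = q₀ ^ 2) (f : (Fin n → F) → (Fin n → F) → F)
    (hf : IsUnitaryFormPow q₀ f) (r : ℕ) [Fact r.Prime] (hr2 : r ≠ 2) (hrF : (r : F) ≠ 0)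
    (hΩ : r ∣ (similarityGroup f).relIndex (specialLinear (Fin n) F)) :
    ∃ j, 2 ≤ j ∧ j ≤ n ∧ (-(q₀ : ZMod r)) ^ j = -1 :=
  Cfsg.Agent.Lib.helper30.h30_sfu_idx_core hn q₀ hcard f (sfu_card_isom q₀ hcard f hf)
    (fun g hg => Cfsg.Agent.Lib.helper30.h30_sfu_det_norm q₀ hcard f hf g hg) r hrF hΩ

end Cfsg.Agent.Lib.helper24
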