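import Mathlib
import Cfsg.Agent.S1445
import Cfsg.Agent.Lib.helper28.Fitting
import Cfsg.Agent.Lib.helper1.Coprime

/-!
# A normal Sylow subgroup from a prime action with fixed points of prime order

`exists_normal_sylow`: the Sylow subgroups of a normal nilpotent subgroup are normal in the whole
group.

`sylNormal` (used for Bender–Glauberman Theorem 15.2(b)): `X` solvable of odd order, `V ⊴ X`,
`X = V R`, coprime orders, prime action of `R` on `V`, `C_V(R)` of prime order `q`, `[V, R] = V`.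
Then the Sylow `q`-subgroup of `V` is normal in `X` and contains `C_V(R)`; moreover there is a normal
`q`-subgroup `Q0` of `X` containing `C_V(R)` with `V / Q0` nilpotent.  The proof applies B-G 3.7
(S1445) twice.

`cyclic_hall_inf_derived2`: a cyclic normal Hall subgroup meets the second derived subgroup trivially.
-/

set_option autoImplicit false

namespace Cfsg.Agent.Lib.helper30.SylNormal

open Cfsg Subgroup

theorem exists_normal_sylow {X : Type*} [Group X] [Finite X] (N : Subgroup X) [hN : N.Normal]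
    (hnil : Group.IsNilpotent N) (q : ℕ) [Fact q.Prime] :
    ∃ S : Subgroup X, S ≤ N ∧ S.Normal ∧ IsPGroup q S ∧ ¬ q ∣ S.relIndex N ∧
      ∀ D : Subgroup X, D ≤ N → IsPGroup q D → D ≤ S := by
  obtain ⟨P⟩ : Nonempty (Sylow q N) := inferInstance
  have hPn : (P : Subgroup N).Normal :=
    Sylow.normal_of_normalizerCondition Group.normalizerCondition_of_isNilpotent P
  have hPc : (P : Subgroup N).Characteristic := Sylow.characteristic_of_normal P hPn
  refine ⟨(P : Subgroup N).map N.subtype, Subgroup.map_subtype_le _, ?_, P.isPGroup'.map _, ?_, ?_⟩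
  · have h1 := Cfsg.Agent.Lib.helper1.normalizer_le_normalizer_map_of_characteristic N
      (P : Subgroup N)
    rw [Subgroup.normalizer_eq_top] at h1
    exact Subgroup.normalizer_eq_top_iff.mp (top_le_iff.mp h1)
  · have h1 : ((P : Subgroup N).map N.subtype).relIndex N = (P : Subgroup N).index := by
      show (((P : Subgroup N).map N.subtype).comap N.subtype).index = _
      rw [Subgroup.comap_map_eq_self_of_injective N.subtype_injective]
    rw [h1]
    exact P.not_dvd_index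
  · intro D hDN hD
    obtain ⟨Q, hQ⟩ := (hD.comap_subtype (K := N)).exists_le_sylow
    have hQP : Q = P := by
      have hu := Sylow.unique_of_normal P hPn
      exact Subsingleton.elim _ _
    rw [hQP] at hQ
    intro d hd
    exact ⟨⟨d, hDN hd⟩, hQ (Subgroup.mem_subgroupOf.mpr hd), rfl⟩

theorem sylNormal {X : Type*} [Group X] [Finite X] [Group.IsSolvable X] (hodd : Odd (Nat.card X))
    (V R : Subgroup X) [hV : V.Normal] (hVR : V ⊔ R = ⊤)
    (hcop : (Nat.card V).Coprime (Nat.card R))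
    (hprime : ∀ x ∈ R, x ≠ 1 →
      V ⊓ centralizer ({x} : Set X) = V ⊓ centralizer (R : Set X))
    (hR : R ≠ ⊥) (q : ℕ) [hq : Fact q.Prime]
    (hcard : Nat.card ↥(V ⊓ centralizer (R : Set X)) = q) (hcomm : ⁅V, R⁆ = V) :
    ∃ (S Q0 : Subgroup X) (hQ0 : Q0.Normal), S ≤ V ∧ S.Normal ∧ IsPGroup q S ∧
      ¬ q ∣ S.relIndex V ∧ V ⊓ centralizer (R : Set X) ≤ Q0 ∧ Q0 ≤ S ∧
      Group.IsNilpotent ↥(V.map (@QuotientGroup.mk' X _ Q0 hQ0)) := by
  classical
  have hD1 : V ⊓ centralizer (R : Set X) ≠ ⊥ := by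
    intro h
    rw [h, Subgroup.card_bot] at hcard
    exact hq.out.one_lt.ne hcard
  -- step (i)
  have hFV : fittingOf V ≤ V := Subgroup.map_subtype_le _
  have hFD : fittingOf V ⊓ centralizer (R : Set X) ≠ ⊥ := by
    intro hF
    have h1 := Cfsg.Agent.S1445.result hodd V R hVR hcop hprime hF
    rw [hcomm] at h1
    apply hD1
    rw [eq_bot_iff, ← hF]
    exact inf_le_inf_right _ h1
  -- step (ii)
  have hDF : V ⊓ centralizer (R : Set X) ≤ fittingOf V := by
    have hle : fittingOf V ⊓ centralizer (R : Set X) ≤ V ⊓ centralizer (R : Set X) :=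
      inf_le_inf_right _ hFV
    have heq : fittingOf V ⊓ centralizer (R : Set X) = V ⊓ centralizer (R : Set X) := by
      have hdvd : Nat.card ↥(fittingOf V ⊓ centralizer (R : Set X)) ∣ q :=
        hcard ▸ Subgroup.card_dvd_of_le hle
      rcases (Nat.dvd_prime hq.out).mp hdvd with h | h
      · exact absurd (Subgroup.card_eq_one.mp h) hFD
      · exact Subgroup.eq_of_le_of_card_ge hle (by rw [h, hcard])
    rw [← heq]; exact inf_le_left
  have hFn : (fittingOf V).Normal := by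
    have h1 := Cfsg.Agent.Lib.helper1.normalizer_le_normalizer_map_of_characteristic V
      (fittingSubgroup V)
    rw [Subgroup.normalizer_eq_top] at h1
    exact Subgroup.normalizer_eq_top_iff.mp (top_le_iff.mp h1)
  have hFnil : Group.IsNilpotent ↥(fittingOf V) := by
    have := Cfsg.Agent.Lib.helper28.fittingSubgroup_isNilpotent V
    exact Group.nilpotent_of_mulEquiv
      (Subgroup.equivMapOfInjective (fittingSubgroup V) V.subtype V.subtype_injective)
  have := hFn
  obtain ⟨Q0, hQ0F, hQ0n, hQ0p, -, hQ0max⟩ := exists_normal_sylow (fittingOf V) hFnil q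
  have := hQ0n
  have hDQ0 : V ⊓ centralizer (R : Set X) ≤ Q0 :=
    hQ0max _ hDF (IsPGroup.of_card (n := 1) (by rw [hcard, pow_one]))
  have hQ0V : Q0 ≤ V := hQ0F.trans hFV
  -- the quotient
  have hπs : Function.Surjective (QuotientGroup.mk' Q0) := QuotientGroup.mk'_surjective Q0
  have hodd' : Odd (Nat.card (X ⧸ Q0)) :=
    Odd.of_dvd_nat hodd (Subgroup.card_quotient_dvd_card Q0)
  have hVbn : (V.map (QuotientGroup.mk' Q0)).Normal := hV.map _ hπs
  have hsup : V.map (QuotientGroup.mk' Q0) ⊔ R.map (QuotientGroup.mk' Q0) = ⊤ := by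
    rw [← Subgroup.map_sup, hVR, Subgroup.map_top_of_surjective _ hπs]
  have hcop' : (Nat.card (V.map (QuotientGroup.mk' Q0))).Coprime
      (Nat.card (R.map (QuotientGroup.mk' Q0))) :=
    Nat.Coprime.of_dvd (Subgroup.card_map_dvd _ _) (Subgroup.card_map_dvd _ _) hcop
  have hVRbot : V ⊓ R = ⊥ := disjoint_iff.mp (Subgroup.disjoint_of_coprime_natCard hcop)
  have hfix : ∀ x ∈ R, x ≠ 1 →
      V.map (QuotientGroup.mk' Q0) ⊓
        centralizer ({(QuotientGroup.mk' Q0) x} : Set (X ⧸ Q0)) = ⊥ := by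
    intro x hx hx1
    rw [eq_bot_iff]
    rintro _ ⟨⟨v, hv, rfl⟩, hc⟩
    have hc' : (QuotientGroup.mk' Q0) x * (QuotientGroup.mk' Q0) v =
        (QuotientGroup.mk' Q0) v * (QuotientGroup.mk' Q0) x :=
      Subgroup.mem_centralizer_iff.mp hc _ rfl
    have h1 : ∀ a ∈ zpowers x, a * v * a⁻¹ * v⁻¹ ∈ Q0 := by
      intro a ha
      obtain ⟨n, rfl⟩ := ha
      have h2 : (QuotientGroup.mk' Q0) (x ^ n * v * (x ^ n)⁻¹ * v⁻¹) = 1 := by
        simp only [map_mul, map_inv, map_zpow]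
        have hcm : Commute ((QuotientGroup.mk' Q0) x) ((QuotientGroup.mk' Q0) v) := hc'
        rw [(hcm.zpow_left n).eq]
        group
      exact (QuotientGroup.eq_one_iff _).mp h2
    have hzc : (Nat.card (zpowers x)).Coprime (Nat.card Q0) :=
      Nat.Coprime.of_dvd (Subgroup.card_dvd_of_le (by rwa [Subgroup.zpowers_le]))
        (Subgroup.card_dvd_of_le hQ0V) hcop.symm
    obtain ⟨c, hcc, hcv⟩ := Cfsg.Agent.Lib.helper1.coset_fixed (zpowers x) Q0
      (by rw [Subgroup.normalizer_eq_top]; exact le_top) hzc (Or.inl inferInstance) v h1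
    have hcV : c ∈ V := by
      have h3 : c = (c * v⁻¹) * v := by group
      rw [h3]; exact V.mul_mem (hQ0V hcv) hv
    have hcD : c ∈ V ⊓ centralizer (R : Set X) := by
      rw [← hprime x hx hx1]
      refine ⟨hcV, ?_⟩
      show c ∈ centralizer ({x} : Set X)
      rw [Subgroup.mem_centralizer_iff]
      intro y hy
      rw [Set.mem_singleton_iff] at hy
      subst hy
      exact Subgroup.mem_centralizer_iff.mp hcc _ (Subgroup.mem_zpowers _)
    have hcQ : c ∈ Q0 := hDQ0 hcD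
    have hvQ : v ∈ Q0 := by
      have h3 : v = (c * v⁻¹)⁻¹ * c := by group
      rw [h3]; exact Q0.mul_mem (Q0.inv_mem hcv) hcQ
    exact Subgroup.mem_bot.mpr ((QuotientGroup.eq_one_iff v).mpr hvQ)
  obtain ⟨⟨x0, hx0⟩, hx01'⟩ := (Subgroup.ne_bot_iff_exists_ne_one.mp hR)
  have hx01 : x0 ≠ 1 := fun h => hx01' (Subtype.ext h)
  have hπx0 : (QuotientGroup.mk' Q0) x0 ≠ 1 := by
    intro h
    have h1 : x0 ∈ Q0 := (QuotientGroup.eq_one_iff x0).mp h
    have h2 : x0 ∈ V ⊓ R := ⟨hQ0V h1, hx0⟩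
    rw [hVRbot] at h2
    exact hx01 (Subgroup.mem_bot.mp h2)
  have hprime' : ∀ y ∈ R.map (QuotientGroup.mk' Q0), y ≠ 1 →
      V.map (QuotientGroup.mk' Q0) ⊓ centralizer ({y} : Set (X ⧸ Q0)) =
        V.map (QuotientGroup.mk' Q0) ⊓
          centralizer ((R.map (QuotientGroup.mk' Q0) : Subgroup (X ⧸ Q0)) : Set (X ⧸ Q0)) := by
    rintro _ ⟨x, hx, rfl⟩ hy1
    have hx1 : x ≠ 1 := by rintro rfl; exact hy1 (map_one _)
    rw [hfix x hx hx1]
    symm
    rw [eq_bot_iff, ← hfix x hx hx1]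
    exact inf_le_inf_left _ (Subgroup.centralizer_le (by
      rw [Set.singleton_subset_iff]; exact Subgroup.mem_map_of_mem _ hx))
  have hCbot : V.map (QuotientGroup.mk' Q0) ⊓
      centralizer ((R.map (QuotientGroup.mk' Q0) : Subgroup (X ⧸ Q0)) : Set (X ⧸ Q0)) = ⊥ := by
    rw [← hprime' _ (Subgroup.mem_map_of_mem _ hx0) hπx0]; exact hfix x0 hx0 hx01
  have hF' : fittingOf (V.map (QuotientGroup.mk' Q0)) ⊓
      centralizer ((R.map (QuotientGroup.mk' Q0) : Subgroup (X ⧸ Q0)) : Set (X ⧸ Q0)) = ⊥ := by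
    rw [eq_bot_iff, ← hCbot]; exact inf_le_inf_right _ (Subgroup.map_subtype_le _)
  have h45 := Cfsg.Agent.S1445.result hodd' (V.map (QuotientGroup.mk' Q0))
    (R.map (QuotientGroup.mk' Q0)) hsup hcop' hprime' hF'
  rw [← Subgroup.map_commutator, hcomm] at h45
  have hnil : Group.IsNilpotent ↥(V.map (QuotientGroup.mk' Q0)) := by
    have htop : fittingSubgroup ↥(V.map (QuotientGroup.mk' Q0)) = ⊤ := by
      rw [eq_top_iff]
      rintro ⟨y, hy⟩ -
      obtain ⟨z, hz, hzy⟩ := h45 hy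
      have hzz : z = ⟨y, hy⟩ := Subtype.ext hzy
      rw [← hzz]; exact hz
    have h1 := Cfsg.Agent.Lib.helper28.fittingSubgroup_isNilpotent ↥(V.map (QuotientGroup.mk' Q0))
    rw [htop] at h1
    exact Group.nilpotent_of_mulEquiv Subgroup.topEquiv
  obtain ⟨Sb, hSbV, hSbn, hSbp, hSbidx, -⟩ :=
    exists_normal_sylow (V.map (QuotientGroup.mk' Q0)) hnil q
  have := hSbn
  refine ⟨Sb.comap (QuotientGroup.mk' Q0) ⊓ V, Q0, hQ0n, inf_le_right, inferInstance, ?_, ?_,
    hDQ0, ?_, hnil⟩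
  · exact (hSbp.comap_of_ker_isPGroup (QuotientGroup.mk' Q0)
      (by rw [QuotientGroup.ker_mk']; exact hQ0p)).to_le inf_le_left
  · rw [Subgroup.inf_relIndex_right, Subgroup.relIndex_comap]; exact hSbidx
  · intro z hz
    refine ⟨?_, hQ0V hz⟩
    show (QuotientGroup.mk' Q0) z ∈ Sb
    have h1 : (QuotientGroup.mk' Q0) z = 1 := (QuotientGroup.eq_one_iff z).mpr hz
    rw [h1]
    exact Sb.one_mem

open scoped commutatorElement

theorem commutatorElement_mul_central_left {M : Type*} [Group M] {z a c : M}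
    (hza : Commute z a) (hzc : Commute z c) : ⁅z * a, c⁆ = ⁅a, c⁆ := by
  rw [commutatorElement_def, commutatorElement_def]
  have h : z * (a * c * a⁻¹) = (a * c * a⁻¹) * z :=
    ((hza.mul_right hzc).mul_right hza.inv_right).eq
  calc z * a * c * (z * a)⁻¹ * c⁻¹ = z * (a * c * a⁻¹) * z⁻¹ * c⁻¹ := by group
    _ = (a * c * a⁻¹) * z * z⁻¹ * c⁻¹ := by rw [h]
    _ = a * c * a⁻¹ * c⁻¹ := by group

theorem commutatorElement_mul_central_right {M : Type*} [Group M] {z a b : M}
    (hza : Commute z a) (hzb : Commute z b) : ⁅a, z * b⁆ = ⁅a, b⁆ :=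
  calc ⁅a, z * b⁆ = ⁅z * b, a⁆⁻¹ := (commutatorElement_inv _ _).symm
    _ = ⁅b, a⁆⁻¹ := by rw [commutatorElement_mul_central_left hzb hza]
    _ = ⁅a, b⁆ := commutatorElement_inv _ _

/-- A cyclic normal Hall subgroup meets the second derived subgroup trivially. -/
theorem cyclic_hall_inf_derived2 {M : Type*} [Group M] [Finite M] (F : Subgroup M) [hF : F.Normal]
    (hcyc : IsCyclic F) (hcop : (Nat.card F).Coprime F.index) :
    F ⊓ ⁅commutator M, commutator M⁆ = ⊥ := by
  obtain ⟨H, hH⟩ := Subgroup.exists_right_complement'_of_coprime hcop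
  have hFH : F ⊓ H = ⊥ := disjoint_iff.mp hH.disjoint
  have hFcomm : ∀ x ∈ F, ∀ y ∈ F, x * y = y * x := by
    intro x hx y hy
    have hc : (⟨x, hx⟩ : F) * ⟨y, hy⟩ = ⟨y, hy⟩ * ⟨x, hx⟩ := by
      letI := IsCyclic.commGroup (α := F)
      exact mul_comm _ _
    exact congrArg Subtype.val hc
  have hMC : commutator M ≤ centralizer (F : Set M) := by
    rw [commutator_def, Subgroup.commutator_le]
    intro a _ b _
    have hab : MulAut.conjNormal (H := F) ⁅a, b⁆ = 1 := by
      rw [map_commutatorElement, commutatorElement_eq_one_iff_commute]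
      show _ * _ = _ * _
      apply (IsCyclic.mulAutMulEquiv (G := F)).injective
      rw [map_mul, map_mul, mul_comm]
    rw [Subgroup.mem_centralizer_iff]
    intro f hf
    have h1 := congrArg (fun φ : MulAut F => ((φ ⟨f, hf⟩ : F) : M)) hab
    simp only [MulAut.conjNormal_apply, MulAut.one_apply] at h1
    calc f * ⁅a, b⁆ = (⁅a, b⁆ * f * ⁅a, b⁆⁻¹) * ⁅a, b⁆ := by rw [h1]
      _ = ⁅a, b⁆ * f := by group
  have hCH : ⁅centralizer (F : Set M), centralizer (F : Set M)⁆ ≤ H := by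
    rw [Subgroup.commutator_le]
    intro c₁ hc₁ c₂ hc₂
    obtain ⟨⟨⟨f₁, hf₁⟩, ⟨h₁, hh₁⟩⟩, e₁⟩ := hH.2 c₁
    obtain ⟨⟨⟨f₂, hf₂⟩, ⟨h₂, hh₂⟩⟩, e₂⟩ := hH.2 c₂
    have e₁' : f₁ * h₁ = c₁ := e₁
    have e₂' : f₂ * h₂ = c₂ := e₂
    have cF : ∀ f ∈ F, ∀ c ∈ centralizer (F : Set M), Commute f c :=
      fun f hf c hc => Subgroup.mem_centralizer_iff.mp hc f hf
    have hFC : F ≤ centralizer (F : Set M) :=
      fun x hx => Subgroup.mem_centralizer_iff.mpr (fun y hy => hFcomm y hy x hx)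
    have hh₁C : h₁ ∈ centralizer (F : Set M) := by
      have h3 : h₁ = f₁⁻¹ * c₁ := by rw [← e₁']; group
      rw [h3]; exact mul_mem (inv_mem (hFC hf₁)) hc₁
    have hh₂C : h₂ ∈ centralizer (F : Set M) := by
      have h3 : h₂ = f₂⁻¹ * c₂ := by rw [← e₂']; group
      rw [h3]; exact mul_mem (inv_mem (hFC hf₂)) hc₂
    rw [← e₁', ← e₂']
    rw [commutatorElement_mul_central_left (cF f₁ hf₁ h₁ hh₁C)
        (cF f₁ hf₁ (f₂ * h₂) (e₂' ▸ hc₂)),
      commutatorElement_mul_central_right (cF f₂ hf₂ h₁ hh₁C) (cF f₂ hf₂ h₂ hh₂C)]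
    rw [commutatorElement_def]
    exact H.mul_mem (H.mul_mem (H.mul_mem hh₁ hh₂) (H.inv_mem hh₁)) (H.inv_mem hh₂)
  rw [eq_bot_iff, ← hFH]
  exact inf_le_inf_left _ ((Subgroup.commutator_mono hMC hMC).trans hCH)


end Cfsg.Agent.Lib.helper30.SylNormal
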