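import Mathlib
import Cfsg.Prelude.Def_OddOrderLocal
import Cfsg.Agent.Lib.helper30.SylNormal
import Cfsg.Agent.Lib.helper69.BGKappaB
import Cfsg.Agent.Lib.helper29.FittingHall
import Cfsg.Agent.Lib.helper54.BGSigmaNe
import Cfsg.Agent.S1350
import Cfsg.Agent.S1426
import Cfsg.Agent.S1429
import Cfsg.Agent.S1430

/-!
# Bender–Glauberman Theorem 15.2(b): `K* ≤ M_F`, `M_F` not cyclic

`ksF_main` proves the four clauses of the frozen statement S1364 from the landed statements
S1350, S1426, S1429, S1430 and two hypotheses: `H1373` (the frozen statement S1373: `|K*|` is prime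
when `U = 1`) and `HKsCyc` (`K*` is cyclic; it follows from the frozen statements S1366 and S1351).
-/

set_option autoImplicit false

namespace Cfsg.Agent.Lib.helper30.BGKsF

open Cfsg Subgroup

variable {G : Type*} [Group G]

/-- The frozen statement S1373 as a hypothesis. -/
def H1373 (G : Type*) [Group G] : Prop :=
  ∀ (M : Subgroup G), IsCoatom M → ∀ K U : Subgroup G, IsSigmaDecomposition M K U → K ≠ ⊥ →
    U = ⊥ → (Nat.card ↥(sigmaCore M ⊓ centralizer (K : Set G))).Prime

/-- `K*` is cyclic (a consequence of the frozen statements S1366 and S1351). -/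
def HKsCyc (G : Type*) [Group G] : Prop :=
  ∀ (M : Subgroup G), IsCoatom M → ∀ K U : Subgroup G, IsSigmaDecomposition M K U → K ≠ ⊥ →
    IsCyclic ↥(sigmaCore M ⊓ centralizer (K : Set G))

theorem map_inf_centralizer (M : Subgroup G) (V : Subgroup M) (S : Set M) :
    (V ⊓ centralizer S).map M.subtype = V.map M.subtype ⊓ centralizer (M.subtype '' S) := by
  ext x
  constructor
  · rintro ⟨y, ⟨hyV, hyc⟩, rfl⟩
    refine ⟨⟨y, hyV, rfl⟩, ?_⟩
    show M.subtype y ∈ centralizer (M.subtype '' S)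
    rw [Subgroup.mem_centralizer_iff]
    rintro _ ⟨s, hs, rfl⟩
    exact congrArg Subtype.val (Subgroup.mem_centralizer_iff.mp hyc s hs)
  · rintro ⟨⟨y, hyV, rfl⟩, hc⟩
    refine ⟨y, ⟨hyV, ?_⟩, rfl⟩
    show y ∈ centralizer S
    rw [Subgroup.mem_centralizer_iff]
    intro s hs
    exact Subtype.ext (Subgroup.mem_centralizer_iff.mp hc _ ⟨s, hs, rfl⟩)

theorem image_subgroupOf {M K : Subgroup G} (hKM : K ≤ M) :
    M.subtype '' ((K.subgroupOf M : Subgroup M) : Set M) = (K : Set G) := by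
  ext x
  constructor
  · rintro ⟨y, hy, rfl⟩
    exact Subgroup.mem_subgroupOf.mp hy
  · intro hx
    exact ⟨⟨x, hKM hx⟩, Subgroup.mem_subgroupOf.mpr hx, rfl⟩

theorem index_piCore_sigma (M : Subgroup G) :
    (piCore (sigma M) M).index = (sigmaCore M).relIndex M := by
  show _ = (((piCore (sigma M) M).map M.subtype).comap M.subtype).index
  rw [Subgroup.comap_map_eq_self_of_injective M.subtype_injective]

theorem card_piCore_sigma (M : Subgroup G) :
    Nat.card (piCore (sigma M) M) = Nat.card (sigmaCore M) :=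
  (Subgroup.card_map_of_injective M.subtype_injective).symm

/-- Type `P₁` (`M = K M_σ`) with `|K*|` prime: `K* ≤ M_F`, and `M_σ / Q₀` is nilpotent for a normal
subgroup `Q₀ ≤ M_F` of `M`. -/
theorem ks_P1 [Finite G] (hG : IsMinSimpleOddOrder G) (M : Subgroup G) (hM : IsCoatom M)
    (K : Subgroup G) (hK : IsPiHallOf (kappa M) K M) (hK1 : K ≠ ⊥)
    (hMK : M ≤ K ⊔ sigmaCore M)
    (hcard : (Nat.card ↥(sigmaCore M ⊓ centralizer (K : Set G))).Prime) :
    sigmaCore M ⊓ centralizer (K : Set G) ≤ fittingHallOf M ∧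
    ∃ (Q0 : Subgroup M) (hQ0 : Q0.Normal), Q0 ≤ fittingHall M ∧
      Group.IsNilpotent ↥((piCore (sigma M) M).map (@QuotientGroup.mk' M _ Q0 hQ0)) := by
  classical
  have hMs : Group.IsSolvable M := hG.2.2.2 M hM.1
  have hodd : Odd (Nat.card M) := Odd.of_dvd_nat hG.1 (Subgroup.card_subgroup_dvd_card M)
  obtain ⟨hHall, -, -⟩ := Cfsg.Agent.S1350.result hG M hM
  have h1430 := Cfsg.Agent.S1430.result hG M hM K hK hK1
  have hRmap : (K.subgroupOf M).map M.subtype = K := Subgroup.map_subgroupOf_eq_of_le hK.1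
  have hKs : K ⊓ sigmaCore M = ⊥ := Cfsg.Agent.Lib.helper69.bgk_K_inf_sigmaCore hK hHall
  have hsupeq : K ⊔ sigmaCore M = M := le_antisymm (sup_le hK.1 hHall.1) hMK
  have hE : IsComplIn K (sigmaCore M) M := by
    apply Cfsg.Agent.Lib.helper69.bgk_isComplIn_of_card hK.1 hHall.1 hKs
    rw [mul_comm, Cfsg.Agent.Lib.helper69.bgk_card_sup hK hHall, hsupeq]
  have hVR : piCore (sigma M) M ⊔ K.subgroupOf M = ⊤ := by
    apply Subgroup.map_injective M.subtype_injective
    rw [Subgroup.map_sup, hRmap, ← MonoidHom.range_eq_map, Subgroup.range_subtype, sup_comm]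
    exact hsupeq
  have hcopG : (Nat.card (sigmaCore M)).Coprime (Nat.card K) :=
    Nat.coprime_of_dvd fun k hk h1 h2 => (hK.2.1 k hk h2).2.2.1 (hHall.2.1 k hk h1)
  have hcardR : Nat.card (K.subgroupOf M) = Nat.card K := by
    rw [← Subgroup.card_map_of_injective M.subtype_injective, hRmap]
  have hcop : (Nat.card (piCore (sigma M) M)).Coprime (Nat.card (K.subgroupOf M)) := by
    rw [card_piCore_sigma, hcardR]; exact hcopG
  have hprime : ∀ x ∈ K.subgroupOf M, x ≠ 1 →
      piCore (sigma M) M ⊓ centralizer ({x} : Set M) =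
        piCore (sigma M) M ⊓ centralizer ((K.subgroupOf M : Subgroup M) : Set M) := by
    intro x hx hx1
    apply Subgroup.map_injective M.subtype_injective
    rw [map_inf_centralizer, map_inf_centralizer, Set.image_singleton, image_subgroupOf hK.1]
    exact h1430.1 (x : G) (Subgroup.mem_subgroupOf.mp hx) (fun h => hx1 (Subtype.ext h))
  have hR : K.subgroupOf M ≠ ⊥ := by
    intro h
    apply hK1
    rw [← hRmap, h, Subgroup.map_bot]
  have hKsmap : (piCore (sigma M) M ⊓
      centralizer ((K.subgroupOf M : Subgroup M) : Set M)).map M.subtype =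
        sigmaCore M ⊓ centralizer (K : Set G) := by
    rw [map_inf_centralizer, image_subgroupOf hK.1]
    rfl
  have hcq : Nat.card ↥(piCore (sigma M) M ⊓
      centralizer ((K.subgroupOf M : Subgroup M) : Set M)) =
        Nat.card ↥(sigmaCore M ⊓ centralizer (K : Set G)) := by
    rw [← hKsmap, Subgroup.card_map_of_injective M.subtype_injective]
  have hcomm : ⁅piCore (sigma M) M, K.subgroupOf M⁆ = piCore (sigma M) M := by
    apply Subgroup.map_injective M.subtype_injective
    rw [Subgroup.map_commutator, hRmap]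
    exact (Cfsg.Agent.S1426.result hG M hM K hE).2.1
  have hqf : Fact (Nat.card ↥(sigmaCore M ⊓ centralizer (K : Set G))).Prime := ⟨hcard⟩
  obtain ⟨S, Q0, hQ0n, hSV, hSn, hSp, hSidx, hDQ0, hQ0S, hnil⟩ :=
    SylNormal.sylNormal hodd (piCore (sigma M) M) (K.subgroupOf M) hVR hcop hprime hR
      (Nat.card ↥(sigmaCore M ⊓ centralizer (K : Set G))) hcq hcomm
  have hqσ : Nat.card ↥(sigmaCore M ⊓ centralizer (K : Set G)) ∈ sigma M :=
    hHall.2.1 _ hcard (Subgroup.card_dvd_of_le inf_le_left)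
  have hSF : S ≤ fittingHall M := by
    apply Cfsg.Agent.Lib.helper29.le_fittingHall S hSn hSp.isNilpotent
    obtain ⟨n, hn⟩ := IsPGroup.iff_card.mp hSp
    rw [hn]
    apply Nat.Coprime.pow_left
    rw [Nat.Prime.coprime_iff_not_dvd hcard, ← Subgroup.relIndex_mul_index hSV]
    intro h
    rcases (Nat.Prime.dvd_mul hcard).mp h with h | h
    · exact hSidx h
    · rw [index_piCore_sigma] at h
      exact hHall.2.2 _ hcard hqσ h
  refine ⟨?_, Q0, hQ0n, hQ0S.trans hSF, hnil⟩
  rw [← hKsmap]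
  exact Subgroup.map_mono (hDQ0.trans (hQ0S.trans hSF))

/-- If `M_σ` is nilpotent then `M_σ ≤ M_F`. -/
theorem sigmaCore_le_fittingHallOf [Finite G] (hG : IsMinSimpleOddOrder G) (M : Subgroup G)
    (hM : IsCoatom M) (hnil : Group.IsNilpotent (sigmaCore M)) :
    sigmaCore M ≤ fittingHallOf M := by
  obtain ⟨hHall, -, -⟩ := Cfsg.Agent.S1350.result hG M hM
  have hVnil : Group.IsNilpotent (piCore (sigma M) M) := by
    have h1 : Group.IsNilpotent ↥((piCore (sigma M) M).map M.subtype) := hnil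
    exact Group.nilpotent_of_mulEquiv
      (Subgroup.equivMapOfInjective (piCore (sigma M) M) M.subtype M.subtype_injective).symm
  have hcop : (Nat.card (piCore (sigma M) M)).Coprime (piCore (sigma M) M).index := by
    rw [card_piCore_sigma, index_piCore_sigma]
    exact Cfsg.Agent.Lib.helper69.bgk_hall_coprime hHall
  exact Subgroup.map_mono
    (Cfsg.Agent.Lib.helper29.le_fittingHall (piCore (sigma M) M) inferInstance hVnil hcop)

theorem ksF_main [Finite G] (hG : IsMinSimpleOddOrder G) (h1373 : H1373 G) (hcyc : HKsCyc G)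
    (M : Subgroup G) (hM : IsCoatom M) (K U : Subgroup G) (hKU : IsSigmaDecomposition M K U)
    (hK1 : K ≠ ⊥) :
    IsCyclic ↥(sigmaCore M ⊓ centralizer (K : Set G)) ∧
      (sigmaCore M ⊓ centralizer (K : Set G)) ≠ ⊥ ∧
      (sigmaCore M ⊓ centralizer (K : Set G)) ≤ fittingHallOf M ∧
      ¬ IsCyclic (fittingHallOf M) := by
  have h30 : Cfsg.Agent.Lib.helper69.H1430 G :=
    fun M hM K hK hK1 => Cfsg.Agent.S1430.result hG M hM K hK hK1
  have h26 : Cfsg.Agent.Lib.helper69.H1426 G := fun M hM E hE =>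
    ⟨(Cfsg.Agent.S1426.result hG M hM E hE).1, (Cfsg.Agent.S1426.result hG M hM E hE).2.1⟩
  obtain ⟨hHall, -, -⟩ := Cfsg.Agent.S1350.result hG M hM
  have hne : sigmaCore M ⊓ centralizer (K : Set G) ≠ ⊥ :=
    (Cfsg.Agent.Lib.helper69.bgk_1354 h30 M hM (Cfsg.Agent.Lib.helper54.sigmaCore_ne_bot hG M hM)
      K hKU.cyclic hKU.hall).1
  have hle : sigmaCore M ⊓ centralizer (K : Set G) ≤ fittingHallOf M := by
    by_cases hU : U = ⊥
    · have hMK : M ≤ K ⊔ sigmaCore M := by
        intro m hm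
        obtain ⟨a, ha, b, hb, rfl⟩ := hKU.compl.2.2.2 m hm
        rw [hU, Subgroup.mem_bot] at ha
        rw [ha, one_mul]; exact hb
      exact (ks_P1 hG M hM K hKU.hall hK1 hMK (h1373 M hM K U hKU hK1 hU)).1
    · have hUH := Cfsg.Agent.Lib.helper69.bgk_decomp_hall hHall hKU
      have hU1 : Nat.card U ≠ 1 := fun h => hU (Subgroup.card_eq_one.mp h)
      obtain ⟨p, hp, hpU⟩ := Nat.exists_prime_and_dvd hU1
      have hpπ := hUH.2.1 p hp hpU
      have hpM : p ∣ Nat.card M := hpU.trans (Subgroup.card_dvd_of_le hUH.1)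
      have hpf : Fact p.Prime := ⟨hp⟩
      obtain ⟨S⟩ : Nonempty (Sylow p M) := inferInstance
      have h29 := Cfsg.Agent.S1429.result hG M hM
        (fun h => hpπ.2.1 (h p hp hpM hpπ.2.2)) p hpM
        (by rintro (h | h); exact hpπ.2.2 h; exact hpπ.2.1 h) S
      exact inf_le_left.trans (sigmaCore_le_fittingHallOf hG M hM h29.2.2)
  refine ⟨hcyc M hM K U hKU hK1, hne, hle, ?_⟩
  intro hFc
  have hcopF := Cfsg.Agent.Lib.helper29.fittingHall_coprime M
  have hFc' : IsCyclic ↥(fittingHall M) :=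
    (MulEquiv.isCyclic
      (Subgroup.equivMapOfInjective (fittingHall M) M.subtype M.subtype_injective)).mpr hFc
  have hC := SylNormal.cyclic_hall_inf_derived2 (fittingHall M) hFc' hcopF
  have h65 := (Cfsg.Agent.Lib.helper69.bgk_1365 hG h30 h26 M hM hHall K U hKU hK1).2
  apply hne
  rw [eq_bot_iff]
  have hmap : (fittingHall M ⊓ ⁅commutator M, commutator M⁆).map M.subtype =
      fittingHallOf M ⊓ ⁅⁅M, M⁆, ⁅M, M⁆⁆ := by
    rw [Subgroup.map_inf _ _ _ M.subtype_injective, Subgroup.map_commutator,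
      Subgroup.map_subtype_commutator]
    rfl
  have h3 : sigmaCore M ⊓ centralizer (K : Set G) ≤ fittingHallOf M ⊓ ⁅⁅M, M⁆, ⁅M, M⁆⁆ :=
    le_inf hle h65
  rw [← hmap, hC, Subgroup.map_bot] at h3
  exact h3

end Cfsg.Agent.Lib.helper30.BGKsF
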