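import Mathlib
import Cfsg.Agent.Lib.helper1.Coprime

set_option autoImplicit false

/-!
# Step (6) of the B-G asymmetry lemma, as pure group theory

`normalizes_of_frattini`: `N` a normal Hall-like subgroup of `M`, `Q` a Sylow `q`-subgroup of the
normal subgroup `Q N` of `M`, `P` normalising `Q` and acting coprimely on `N`; an element `y` of
`M` of order prime to `|N|` which centralises `P` and `C_N(P)` normalises `Q`.
-/

namespace Cfsg.Agent.Lib.helper30.AsymSix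

open Subgroup Pointwise

variable {G : Type*} [Group G]

/-- elements of `Q ⊔ N` are products `n * u` when `Q` normalises `N`. -/
theorem exists_mul_of_mem_sup (N Q : Subgroup G) (h : Q ≤ normalizer (N : Set G)) {x : G}
    (hx : x ∈ Q ⊔ N) : ∃ n ∈ N, ∃ u ∈ Q, x = n * u := by
  let S : Subgroup G :=
    { carrier := {x | ∃ n ∈ N, ∃ u ∈ Q, x = n * u}
      one_mem' := ⟨1, N.one_mem, 1, Q.one_mem, by simp⟩
      mul_mem' := by
        rintro a b ⟨n1, hn1, u1, hu1, rfl⟩ ⟨n2, hn2, u2, hu2, rfl⟩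
        refine ⟨n1 * (u1 * n2 * u1⁻¹), N.mul_mem hn1 ?_, u1 * u2, Q.mul_mem hu1 hu2, by group⟩
        exact (Subgroup.mem_normalizer_iff.mp (h hu1) n2).mp hn2
      inv_mem' := by
        rintro a ⟨n, hn, u, hu, rfl⟩
        refine ⟨u⁻¹ * n⁻¹ * u⁻¹⁻¹, ?_, u⁻¹, Q.inv_mem hu, by group⟩
        exact (Subgroup.mem_normalizer_iff.mp (h (Q.inv_mem hu)) n⁻¹).mp (N.inv_mem hn) }
  have hle : Q ⊔ N ≤ S :=
    sup_le (fun u hu => ⟨1, N.one_mem, u, hu, by simp⟩)
      (fun n hn => ⟨n, hn, 1, Q.one_mem, by simp⟩)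
  exact hle hx

/-- Frattini argument in subgroup form: `M = N * N_M(Q)` when `Q` is a Sylow `q`-subgroup of the
`M`-invariant subgroup `Q ⊔ N`. -/
theorem frattini_exists [Finite G] (M N Q : Subgroup G) (q : ℕ) [Fact q.Prime]
    (hNn : M ≤ normalizer (N : Set G))
    (hQ : IsPGroup q Q) (hQM : Q ≤ M)
    (hQsyl : ∀ Q1 : Subgroup G, IsPGroup q Q1 → Q1 ≤ Q ⊔ N → Q ≤ Q1 → Q1 = Q)
    (hK : M ≤ normalizer ((Q ⊔ N : Subgroup G) : Set G))
    (a : G) (ha : a ∈ M) : ∃ k ∈ N, k * a ∈ normalizer (Q : Set G) := by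
  classical
  set K : Subgroup G := Q ⊔ N with hKdef
  have hQK : Q ≤ K := le_sup_left
  obtain ⟨Qs, hQs⟩ := (hQ.comap_subtype (K := K)).exists_le_sylow
  have hmap : (Qs : Subgroup K).map K.subtype = Q := by
    apply hQsyl
    · exact Qs.isPGroup'.map K.subtype
    · exact Subgroup.map_subtype_le _
    · intro u hu
      exact ⟨⟨u, hQK hu⟩, hQs (by simpa [Subgroup.mem_subgroupOf] using hu), rfl⟩
  obtain ⟨k, hk⟩ := Cfsg.Agent.Lib.helper1.sylow_map_conj_of_mem_normalizer K Qs a (hK ha)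
  rw [hmap] at hk
  obtain ⟨n, hn, u, hu, hkeq⟩ := exists_mul_of_mem_sup N Q (hQM.trans hNn) k.2
  refine ⟨n⁻¹, N.inv_mem hn, ?_⟩
  rw [Subgroup.mem_normalizer_iff]
  intro h
  -- h ∈ Q ↔ (n⁻¹ a) h (n⁻¹ a)⁻¹ ∈ Q
  have key : ∀ z : G, z ∈ MulAut.conj a • Q ↔ z ∈ MulAut.conj (k : G) • Q := fun z => by rw [hk]
  have hconj : ∀ (g z : G), z ∈ MulAut.conj g • Q ↔ g⁻¹ * z * g ∈ Q := by
    intro g z
    rw [Subgroup.mem_pointwise_smul_iff_inv_smul_mem]
    simp [MulAut.smul_def]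
  constructor
  · intro hh
    have h1 : a * h * a⁻¹ ∈ MulAut.conj a • Q := by
      rw [hconj]; simpa [mul_assoc] using hh
    rw [key, hconj, hkeq] at h1
    -- (n u)⁻¹ (a h a⁻¹) (n u) ∈ Q
    have h2 : u * ((n * u)⁻¹ * (a * h * a⁻¹) * (n * u)) * u⁻¹ ∈ Q :=
      Q.mul_mem (Q.mul_mem hu h1) (Q.inv_mem hu)
    have : n⁻¹ * a * h * (n⁻¹ * a)⁻¹ = u * ((n * u)⁻¹ * (a * h * a⁻¹) * (n * u)) * u⁻¹ := by
      group
    rw [this]; exact h2
  · intro hh
    have h2 : u⁻¹ * (n⁻¹ * a * h * (n⁻¹ * a)⁻¹) * u ∈ Q :=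
      Q.mul_mem (Q.mul_mem (Q.inv_mem hu) hh) hu
    have h3 : a * h * a⁻¹ ∈ MulAut.conj (k : G) • Q := by
      rw [hconj, hkeq]
      have : (n * u)⁻¹ * (a * h * a⁻¹) * (n * u) = u⁻¹ * (n⁻¹ * a * h * (n⁻¹ * a)⁻¹) * u := by
        group
      rw [this]; exact h2
    rw [← key, hconj] at h3
    simpa [mul_assoc] using h3

/-- the key coprime-action step: if some `N`-translate of `y` normalises `Q`, `P` normalises
`N` and `Q` with `|P|` prime to `|N|`, and `y` (of order prime to `|N|`) centralises `P` and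
`C_N(P)`, then `y` normalises `Q`. -/
theorem normalizes_of_coset [Finite G] (N Q P : Subgroup G)
    (hPN : P ≤ normalizer (N : Set G)) (hPQ : P ≤ normalizer (Q : Set G))
    (hcop : (Nat.card P).Coprime (Nat.card N))
    (hsolv : Group.IsSolvable P ∨ Group.IsSolvable N)
    (y : G) (hyP : y ∈ centralizer (P : Set G))
    (hyX : y ∈ centralizer ((N ⊓ centralizer (P : Set G) : Subgroup G) : Set G))
    (hyN : (orderOf y).Coprime (Nat.card N))
    (hfr : ∃ k ∈ N, k * y ∈ normalizer (Q : Set G)) : y ∈ normalizer (Q : Set G) := by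
  obtain ⟨n₀, hn₀, hn₀y⟩ := hfr
  set N0 : Subgroup G := N ⊓ normalizer (Q : Set G) with hN0
  have hPN0 : P ≤ normalizer (N0 : Set G) := by
    intro x hx
    have h1 := Subgroup.mem_normalizer_iff.mp (hPN hx)
    have h2 := Subgroup.mem_normalizer_iff.mp (Subgroup.le_normalizer (hPQ hx))
    rw [Subgroup.mem_normalizer_iff]
    intro h
    rw [hN0, Subgroup.mem_inf, Subgroup.mem_inf, h1 h, h2 h]
  have hcop0 : (Nat.card P).Coprime (Nat.card N0) :=
    hcop.coprime_dvd_right (Subgroup.card_dvd_of_le inf_le_left)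
  have hsolv0 : Group.IsSolvable P ∨ Group.IsSolvable N0 := by
    rcases hsolv with h | h
    · exact Or.inl h
    · refine Or.inr ?_
      have := h
      exact Group.isSolvable_of_isSolvable_injective
        (Subgroup.inclusion_injective (inf_le_left : N0 ≤ N))
  have hinv : ∀ x ∈ P, x * n₀ * x⁻¹ * n₀⁻¹ ∈ N0 := by
    intro x hx
    refine ⟨?_, ?_⟩
    · exact N.mul_mem ((Subgroup.mem_normalizer_iff.mp (hPN hx) n₀).mp hn₀) (N.inv_mem hn₀)
    · have hxy : x * y = y * x := Subgroup.mem_centralizer_iff.mp hyP x hx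
      have hxy' : y * x⁻¹ = x⁻¹ * y :=
        ((show Commute x y from hxy).inv_left).eq.symm
      have h3 : x * n₀ * x⁻¹ * n₀⁻¹ = (x * (n₀ * y) * x⁻¹) * (n₀ * y)⁻¹ := by
        have : x * (n₀ * y) * x⁻¹ = x * n₀ * x⁻¹ * y := by
          rw [mul_assoc x (n₀ * y), mul_assoc n₀ y, hxy']; group
        rw [this]; group
      rw [h3]
      show _ ∈ normalizer (Q : Set G)
      exact mul_mem (mul_mem (mul_mem (hPQ hx) hn₀y) (inv_mem (hPQ hx))) (inv_mem hn₀y)
  obtain ⟨c, hcP, hc⟩ := Cfsg.Agent.Lib.helper1.coset_fixed P N0 hPN0 hcop0 hsolv0 n₀ hinv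
  have hcN : c ∈ N := by
    have : c = (c * n₀⁻¹) * n₀ := by group
    rw [this]; exact N.mul_mem hc.1 hn₀
  have hcy : c * y ∈ normalizer (Q : Set G) := by
    have : c * y = (c * n₀⁻¹) * (n₀ * y) := by group
    rw [this]; exact mul_mem hc.2 hn₀y
  have hcomm : Commute c y := Subgroup.mem_centralizer_iff.mp hyX c ⟨hcN, hcP⟩
  have hcN' : c ^ Nat.card N = 1 := by
    have h1 : (⟨c, hcN⟩ : N) ^ Nat.card N = 1 := pow_card_eq_one'
    have h2 := congrArg Subtype.val h1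
    rw [Subgroup.coe_pow] at h2
    exact h2
  obtain ⟨m, hm⟩ := exists_pow_eq_self_of_coprime hyN.symm
  have : y = (c * y) ^ (Nat.card N * m) := by
    rw [hcomm.mul_pow, pow_mul, hcN', one_pow, one_mul, pow_mul, hm]
  rw [this]; exact pow_mem hcy _

/-- **Step (6) of the asymmetry lemma** (pure form). -/
theorem normalizes_of_frattini [Finite G] (M N Q P : Subgroup G) (q : ℕ) [Fact q.Prime]
    (hNn : M ≤ normalizer (N : Set G))
    (hQ : IsPGroup q Q) (hQM : Q ≤ M)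
    (hQsyl : ∀ Q1 : Subgroup G, IsPGroup q Q1 → Q1 ≤ Q ⊔ N → Q ≤ Q1 → Q1 = Q)
    (hK : M ≤ normalizer ((Q ⊔ N : Subgroup G) : Set G))
    (hPM : P ≤ M) (hPQ : P ≤ normalizer (Q : Set G))
    (hcop : (Nat.card P).Coprime (Nat.card N))
    (hsolv : Group.IsSolvable P ∨ Group.IsSolvable N)
    (y : G) (hyM : y ∈ M) (hyP : y ∈ centralizer (P : Set G))
    (hyX : y ∈ centralizer ((N ⊓ centralizer (P : Set G) : Subgroup G) : Set G))
    (hyN : (orderOf y).Coprime (Nat.card N)) : y ∈ normalizer (Q : Set G) :=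
  normalizes_of_coset N Q P (hPM.trans hNn) hPQ hcop hsolv y hyP hyX hyN
    (frattini_exists M N Q q hNn hQ hQM hQsyl hK y hyM)

end Cfsg.Agent.Lib.helper30.AsymSix
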