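import Mathlib
import Cfsg.Prelude.Def_OddOrderLocal
import Cfsg.Agent.Lib.helper30.BGKsF
import Cfsg.Agent.S1415

/-!
# Bender–Glauberman Theorem 15.2(a): `1 ≠ M_F ≤ M_σ ≤ M' < M` and `M' / M_F` nilpotent

`bg1355_main` proves the five clauses of the frozen statement S1355 from the landed statements
S1350, S1415, S1426, S1429, S1430 and two hypotheses: `H1373` (frozen S1373: `|K*|` prime when
`U = 1`) and the second clause of the frozen S1351 (Hall `κ(M)`-subgroups are cyclic).
-/

set_option autoImplicit false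

namespace Cfsg.Agent.Lib.helper30.BG1355

open Cfsg Subgroup

variable {G : Type*} [Group G]

theorem fittingHall_isNilpotent (M : Type*) [Group M] [Finite M] :
    Group.IsNilpotent (fittingHall M) :=
  Cfsg.Agent.Lib.helper28.isNilpotent_of_le_fittingSubgroup
    (sSup_le_sSup (fun _ hN => ⟨hN.1, hN.2.1⟩))

theorem isNilpotent_map_mk_of_le {X : Type*} [Group X] (V Q F : Subgroup X) [hQ : Q.Normal]
    [hF : F.Normal] (hQF : Q ≤ F) (h : Group.IsNilpotent ↥(V.map (QuotientGroup.mk' Q))) :
    Group.IsNilpotent ↥(V.map (QuotientGroup.mk' F)) := by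
  have hφ : (QuotientGroup.map Q F (MonoidHom.id X) (by simpa using hQF)).comp
      (QuotientGroup.mk' Q) = QuotientGroup.mk' F := by
    ext x; rfl
  have hmap : (V.map (QuotientGroup.mk' Q)).map
      (QuotientGroup.map Q F (MonoidHom.id X) (by simpa using hQF)) =
        V.map (QuotientGroup.mk' F) := by
    rw [Subgroup.map_map, hφ]
  rw [← hmap]
  exact Group.nilpotent_of_surjective
    ((QuotientGroup.map Q F (MonoidHom.id X) (by simpa using hQF)).subgroupMap
      (V.map (QuotientGroup.mk' Q))) (MonoidHom.subgroupMap_surjective _ _)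

/-- `M_F ≤ M_σ`: a normal Sylow subgroup of a maximal subgroup belongs to a prime of `σ(M)`. -/
theorem fittingHallOf_le_sigmaCore [Finite G] (hG : IsMinSimpleOddOrder G) (M : Subgroup G)
    (hM : IsCoatom M) : fittingHallOf M ≤ sigmaCore M := by
  apply Subgroup.map_mono
  apply le_sSup
  refine ⟨inferInstance, fun p hp hdvd => ?_⟩
  have hpf : Fact p.Prime := ⟨hp⟩
  have hnil := fittingHall_isNilpotent M
  obtain ⟨S, hSF, hSn, hSp, hSidx, -⟩ :=
    SylNormal.exists_normal_sylow (fittingHall M) hnil p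
  have hcop := Cfsg.Agent.Lib.helper29.fittingHall_coprime M
  have hidx : ¬ p ∣ S.index := by
    rw [← Subgroup.relIndex_mul_index hSF]
    intro h
    rcases (Nat.Prime.dvd_mul hp).mp h with h | h
    · exact hSidx h
    · exact (Nat.Prime.coprime_iff_not_dvd hp).mp (Nat.Coprime.coprime_dvd_left hdvd hcop) h
  have hS1 : S ≠ ⊥ := by
    rintro rfl
    apply hSidx
    rw [Subgroup.relIndex_bot_left]; exact hdvd
  refine ⟨hp, hdvd.trans (Subgroup.card_subgroup_dvd_card _), hSp.toSylow hidx, ?_⟩
  show normalizer ((S.map M.subtype : Subgroup G) : Set G) ≤ M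
  have h1 : M ≤ normalizer ((S.map M.subtype : Subgroup G) : Set G) := by
    have h1 := Subgroup.le_normalizer_map (H := S) M.subtype
    rw [Subgroup.normalizer_eq_top_iff.mpr hSn, ← MonoidHom.range_eq_map,
      Subgroup.range_subtype] at h1
    exact h1
  have h2 : normalizer ((S.map M.subtype : Subgroup G) : Set G) ≠ ⊤ := by
    intro h
    have hn : (S.map M.subtype).Normal := Subgroup.normalizer_eq_top_iff.mp h
    rcases hG.2.1.eq_bot_or_eq_top_of_normal _ hn with h3 | h3
    · exact hS1 ((Subgroup.map_eq_bot_iff_of_injective S M.subtype_injective).mp h3)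
    · exact hM.1 (top_le_iff.mp (h3 ▸ Subgroup.map_subtype_le S))
  exact ((hM.le_iff.mp h1).resolve_left h2).le

theorem bg1355_main [Finite G] (hG : IsMinSimpleOddOrder G) (h1373 : BGKsF.H1373 G)
    (hKc : ∀ M : Subgroup G, IsCoatom M → ∀ K : Subgroup G, IsPiHallOf (kappa M) K M →
      IsCyclic K)
    (M : Subgroup G) (hM : IsCoatom M) :
    fittingHallOf M ≠ ⊥ ∧ fittingHallOf M ≤ sigmaCore M ∧ sigmaCore M ≤ ⁅M, M⁆ ∧ ⁅M, M⁆ < M ∧
      Group.IsNilpotent ↥((commutator ↥M).map (QuotientGroup.mk' (fittingHall ↥M))) := by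
  classical
  have h30 : Cfsg.Agent.Lib.helper69.H1430 G :=
    fun M hM K hK hK1 => Cfsg.Agent.S1430.result hG M hM K hK hK1
  have h26 : Cfsg.Agent.Lib.helper69.H1426 G := fun M hM E hE =>
    ⟨(Cfsg.Agent.S1426.result hG M hM E hE).1, (Cfsg.Agent.S1426.result hG M hM E hE).2.1⟩
  have hMs : Group.IsSolvable M := hG.2.2.2 M hM.1
  obtain ⟨hHall, -, -⟩ := Cfsg.Agent.S1350.result hG M hM
  have hσM : sigmaCore M ≤ M := hHall.1
  have hσne := Cfsg.Agent.Lib.helper54.sigmaCore_ne_bot hG M hM
  have hB := fittingHallOf_le_sigmaCore hG M hM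
  -- a complement of `M_σ`
  have hcopV : (Nat.card (piCore (sigma M) M)).Coprime (piCore (sigma M) M).index := by
    rw [BGKsF.card_piCore_sigma, BGKsF.index_piCore_sigma]
    exact Cfsg.Agent.Lib.helper69.bgk_hall_coprime hHall
  obtain ⟨H, hH⟩ := Subgroup.exists_left_complement'_of_coprime hcopV
  have hEM : H.map M.subtype ≤ M := Subgroup.map_subtype_le H
  have hE : IsComplIn (H.map M.subtype) (sigmaCore M) M := by
    refine ⟨hEM, hσM, ?_, ?_⟩
    · show H.map M.subtype ⊓ (piCore (sigma M) M).map M.subtype = ⊥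
      rw [← Subgroup.map_inf _ _ _ M.subtype_injective, disjoint_iff.mp hH.disjoint,
        Subgroup.map_bot]
    · intro m hm
      obtain ⟨⟨⟨h, hh⟩, ⟨v, hv⟩⟩, e⟩ := hH.2 ⟨m, hm⟩
      have e' : h * v = ⟨m, hm⟩ := e
      exact ⟨h, Subgroup.mem_map_of_mem _ hh, v, Subgroup.mem_map_of_mem _ hv,
        (congrArg Subtype.val e').symm⟩
  have hC : sigmaCore M ≤ ⁅M, M⁆ := by
    have h1 := (Cfsg.Agent.S1426.result hG M hM _ hE).2.1
    calc sigmaCore M = ⁅sigmaCore M, H.map M.subtype⁆ := h1.symm
      _ ≤ ⁅M, M⁆ := Subgroup.commutator_mono hσM hEM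
  have hD : ⁅M, M⁆ < M := by
    have hMne : M ≠ ⊥ := fun h => hσne (le_bot_iff.mp (h ▸ hσM))
    have hnt : Nontrivial M := (Subgroup.nontrivial_iff_ne_bot M).mpr hMne
    have h1 := Group.IsSolvable.commutator_lt_top_of_nontrivial M
    rw [← Subgroup.map_subtype_commutator]
    refine lt_of_le_of_ne (Subgroup.map_subtype_le _) ?_
    intro h
    apply h1.ne
    apply Subgroup.map_injective M.subtype_injective
    rw [h, ← MonoidHom.range_eq_map, Subgroup.range_subtype]
  by_cases hP1 : ∀ q : ℕ, q.Prime → q ∣ Nat.card M → q ∉ sigma M → q ∈ kappa M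
  · -- type P₁: the complement is a Hall κ(M)-subgroup
    have hcardE : Nat.card (H.map M.subtype) * Nat.card (sigmaCore M) = Nat.card M := by
      rw [Subgroup.card_map_of_injective M.subtype_injective, ← BGKsF.card_piCore_sigma]
      exact hH.card_mul_card
    have hpos : 0 < Nat.card (sigmaCore M) := Nat.card_pos
    have hposE : 0 < Nat.card (H.map M.subtype) := Nat.card_pos
    have hrelσ : (sigmaCore M).relIndex M = Nat.card (H.map M.subtype) := by
      have h1 := Cfsg.Agent.Lib.helper69.bgk_card_mul_relIndex hσM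
      rw [← hcardE, mul_comm (Nat.card (H.map M.subtype))] at h1
      exact Nat.eq_of_mul_eq_mul_left hpos h1
    have hrelE : (H.map M.subtype).relIndex M = Nat.card (sigmaCore M) := by
      have h1 := Cfsg.Agent.Lib.helper69.bgk_card_mul_relIndex hEM
      rw [← hcardE] at h1
      exact Nat.eq_of_mul_eq_mul_left hposE h1
    have hEH : IsPiHallOf (kappa M) (H.map M.subtype) M := by
      refine ⟨hEM, fun q hq hqE => ?_, fun q hq hqκ hdvd => ?_⟩
      · apply hP1 q hq (hqE.trans (Subgroup.card_dvd_of_le hEM))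
        intro hqσ
        exact hHall.2.2 q hq hqσ (by rw [hrelσ]; exact hqE)
      · rw [hrelE] at hdvd
        exact hqκ.2.2.1 (hHall.2.1 q hq hdvd)
    have hEc : IsCyclic (H.map M.subtype) := hKc M hM _ hEH
    have hE1 : H.map M.subtype ≠ ⊥ := by
      intro h
      have h1 : Nat.card (sigmaCore M) = Nat.card M := by
        rw [← hcardE, h, Subgroup.card_bot, one_mul]
      have hσeq : sigmaCore M = M := Subgroup.eq_of_le_of_card_ge hσM h1.ge
      rw [hσeq] at hC
      exact absurd hC (not_le_of_gt hD)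
    have hMK : M ≤ H.map M.subtype ⊔ sigmaCore M := by
      intro m hm
      obtain ⟨a, ha, b, hb, rfl⟩ := hE.2.2.2 m hm
      exact Subgroup.mul_mem _ (Subgroup.mem_sup_left ha) (Subgroup.mem_sup_right hb)
    have hKU : IsSigmaDecomposition M (H.map M.subtype) ⊥ := by
      refine ⟨hEc, hEH, ⟨bot_le, sup_le hEM hσM, bot_inf_eq _, fun m hm =>
        ⟨1, Subgroup.one_mem _, m, hMK hm, (one_mul m).symm⟩⟩, ?_⟩
      intro x _
      rw [Subgroup.mem_normalizer_iff]
      intro y
      simp
    have hcard := h1373 M hM _ ⊥ hKU hE1 rfl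
    obtain ⟨hle, Q0, hQ0n, hQ0F, hnil⟩ := BGKsF.ks_P1 hG M hM _ hEH hE1 hMK hcard
    have hne := (Cfsg.Agent.Lib.helper69.bgk_1354 h30 M hM hσne _ hEc hEH).1
    refine ⟨fun h => hne (le_bot_iff.mp (h ▸ hle)), hB, hC, hD, ?_⟩
    have h65 := (Cfsg.Agent.Lib.helper69.bgk_1365 hG h30 h26 M hM hHall _ ⊥ hKU hE1).1
    have hcV : commutator M = piCore (sigma M) M := by
      apply Subgroup.map_injective M.subtype_injective
      rw [Subgroup.map_subtype_commutator, h65, bot_sup_eq]
      rfl
    rw [hcV]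
    exact isNilpotent_map_mk_of_le _ Q0 _ hQ0F hnil
  · -- not of type P₁: `M_σ` is nilpotent and equals `M_F`
    have hP1' := hP1
    push Not at hP1'
    obtain ⟨p, hp, hpM, hpσ, hpκ⟩ := hP1'
    have hpf : Fact p.Prime := ⟨hp⟩
    obtain ⟨S⟩ : Nonempty (Sylow p M) := inferInstance
    have h29 := Cfsg.Agent.S1429.result hG M hM hP1 p hpM
      (by rintro (h | h); exact hpσ h; exact hpκ h) S
    have hσF : sigmaCore M ≤ fittingHallOf M :=
      BGKsF.sigmaCore_le_fittingHallOf hG M hM h29.2.2
    have hFeq : fittingHallOf M = sigmaCore M := le_antisymm hB hσF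
    refine ⟨fun h => hσne (hFeq ▸ h), hB, hC, hD, ?_⟩
    have hFV : fittingHall M = piCore (sigma M) M :=
      Subgroup.map_injective M.subtype_injective hFeq
    have hHtop : H.map (QuotientGroup.mk' (fittingHall M)) = ⊤ := by
      have h1 : H ⊔ fittingHall M = ⊤ := by rw [hFV]; exact hH.sup_eq_top
      have h2 := congrArg (Subgroup.map (QuotientGroup.mk' (fittingHall M))) h1
      rw [Subgroup.map_sup, Subgroup.map_top_of_surjective _ (QuotientGroup.mk'_surjective _),
        QuotientGroup.map_mk'_self, sup_bot_eq] at h2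
      exact h2
    have hcm : (commutator M).map (QuotientGroup.mk' (fittingHall M)) =
        (⁅H, H⁆).map (QuotientGroup.mk' (fittingHall M)) := by
      rw [commutator_def, Subgroup.map_commutator, Subgroup.map_commutator, hHtop,
        Subgroup.map_top_of_surjective _ (QuotientGroup.mk'_surjective _)]
    rw [hcm]
    have hHH : Group.IsNilpotent ↥⁅H, H⁆ := by
      have h15 := (Cfsg.Agent.S1415.result hG M hM _ hE).1
      have hEE : (⁅H, H⁆).map M.subtype = ⁅H.map M.subtype, H.map M.subtype⁆ :=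
        Subgroup.map_commutator _ _ _
      rw [← hEE] at h15
      exact Group.nilpotent_of_mulEquiv
        (Subgroup.equivMapOfInjective ⁅H, H⁆ M.subtype M.subtype_injective).symm
    exact Group.nilpotent_of_surjective
      ((QuotientGroup.mk' (fittingHall M)).subgroupMap ⁅H, H⁆)
      (MonoidHom.subgroupMap_surjective _ _)

end Cfsg.Agent.Lib.helper30.BG1355
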