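import Mathlib
import Cfsg.Prelude.Def_OddOrderLocal
import Cfsg.Prelude.Def_Local
import Cfsg.Agent.Lib.helper40.Cores
import Cfsg.Agent.S1450

set_option autoImplicit false
open Cfsg

namespace Cfsg.Agent.Lib.helper30

theorem pPrimeCore_sup_normalizer_eq_top {H : Type*} [Group H] [Finite H] [Group.IsSolvable H]
    (hodd : Odd (Nat.card H)) (p : ℕ) [Fact p.Prime] (hr : PRankLE p 2 H) (P : Sylow p H) :
    pPrimeCore p H ⊔ Subgroup.normalizer ((P : Subgroup H) : Set H) = ⊤ := by
  have hp : p.Prime := Fact.out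
  by_cases hpH : p ∣ Nat.card H
  swap
  · have hPbot : (P : Subgroup H) = ⊥ := by
      obtain ⟨k, hk⟩ := IsPGroup.iff_card.mp P.isPGroup'
      have h2 : Nat.card (P : Subgroup H) ∣ Nat.card H := Subgroup.card_subgroup_dvd_card _
      rw [hk] at h2
      rcases Nat.eq_zero_or_pos k with h0 | hpos
      · subst h0
        rw [pow_zero] at hk
        exact Subgroup.card_eq_one.mp hk
      · exact absurd ((dvd_pow_self p hpos.ne').trans h2) hpH
    rw [hPbot, eq_top_iff]
    intro x _
    apply Subgroup.mem_sup_right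
    rw [Subgroup.mem_normalizer_iff]
    intro h
    simp
  · obtain ⟨-, -, -, -, -, hidx⟩ := Cfsg.Agent.S1450.result hodd p hpH hr
    have hKn : (pPrimeCore p H).Normal := Cfsg.Agent.Lib.helper40.pPrimeCore_normal' p H
    have hpcn : (pCore p (H ⧸ pPrimeCore p H)).Normal :=
      Cfsg.Agent.Lib.helper40.pCore_normal' p _
    have hU2n : (pPrimePCore p H).Normal := by
      unfold pPrimePCore
      exact Subgroup.Normal.comap hpcn _
    have hKU : pPrimeCore p H ≤ pPrimePCore p H := by
      intro x hx
      unfold pPrimePCore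
      rw [Subgroup.mem_comap]
      have : QuotientGroup.mk' (pPrimeCore p H) x = 1 := (QuotientGroup.eq_one_iff x).mpr hx
      rw [this]
      exact Subgroup.one_mem _
    have hPU : (P : Subgroup H) ≤ pPrimePCore p H := by
      intro x hx
      obtain ⟨k, hk⟩ := P.isPGroup' ⟨x, hx⟩
      have hk' : x ^ (p ^ k) = 1 := congrArg Subtype.val hk
      have h1 : (QuotientGroup.mk' (pPrimePCore p H) x) ^ (p ^ k) = 1 := by
        rw [← map_pow, hk', map_one]
      have h2 : (QuotientGroup.mk' (pPrimePCore p H) x) ^ (pPrimePCore p H).index = 1 := by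
        rw [Subgroup.index_eq_card]; exact pow_card_eq_one'
      have h3 := (pow_gcd_eq_one (a := QuotientGroup.mk' (pPrimePCore p H) x)).mpr ⟨h1, h2⟩
      have hcop : Nat.gcd (p ^ k) (pPrimePCore p H).index = 1 :=
        Nat.Coprime.pow_left k (Nat.Coprime.symm hidx)
      rw [hcop, pow_one] at h3
      exact (QuotientGroup.eq_one_iff x).mp h3
    have hFr : Subgroup.normalizer ((P : Subgroup H) : Set H) ⊔ pPrimePCore p H = ⊤ :=
      Sylow.normalizer_sup_eq_top' P hPU
    -- the relative index of `K` in `U2` is a power of `p`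
    have hrel : ∃ m : ℕ, (pPrimeCore p H).relIndex (pPrimePCore p H) = p ^ m := by
      have h1 : (pPrimeCore p H) = (⊥ : Subgroup (H ⧸ pPrimeCore p H)).comap
          (QuotientGroup.mk' (pPrimeCore p H)) := by
        rw [MonoidHom.comap_bot, QuotientGroup.ker_mk']
      have h2 : (pPrimePCore p H).map (QuotientGroup.mk' (pPrimeCore p H)) =
          pCore p (H ⧸ pPrimeCore p H) := by
        unfold pPrimePCore
        exact Subgroup.map_comap_eq_self_of_surjective (QuotientGroup.mk'_surjective _) _
      obtain ⟨m, hm⟩ := IsPGroup.iff_card.mp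
        (Cfsg.Agent.Lib.helper40.pCore_isPGroup p (H ⧸ pPrimeCore p H))
      refine ⟨m, ?_⟩
      conv_lhs => rw [h1]
      rw [Subgroup.relIndex_comap, h2, Subgroup.relIndex_bot_left, hm]
    obtain ⟨m, hm⟩ := hrel
    have hd1 : (pPrimeCore p H ⊔ (P : Subgroup H)).relIndex (pPrimePCore p H) ∣ p ^ m := by
      rw [← hm]
      exact Subgroup.relIndex_dvd_of_le_left _ le_sup_left
    have hd2 : (pPrimeCore p H ⊔ (P : Subgroup H)).relIndex (pPrimePCore p H) ∣
        (P : Subgroup H).index := by
      have h1 : (pPrimeCore p H ⊔ (P : Subgroup H)).relIndex (pPrimePCore p H) ∣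
          (P : Subgroup H).relIndex (pPrimePCore p H) :=
        Subgroup.relIndex_dvd_of_le_left _ le_sup_right
      have h2 : (P : Subgroup H).relIndex (pPrimePCore p H) ∣ (P : Subgroup H).index :=
        ⟨_, (Subgroup.relIndex_mul_index hPU).symm⟩
      exact h1.trans h2
    have hPidx : ¬ p ∣ (P : Subgroup H).index := P.not_dvd_index
    have hone : (pPrimeCore p H ⊔ (P : Subgroup H)).relIndex (pPrimePCore p H) = 1 := by
      have hc : ((pPrimeCore p H ⊔ (P : Subgroup H)).relIndex (pPrimePCore p H)).Coprime (p ^ m) := by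
        apply Nat.Coprime.pow_right
        exact Nat.Coprime.coprime_dvd_left hd2
          (Nat.Coprime.symm ((Nat.Prime.coprime_iff_not_dvd hp).mpr hPidx))
      exact Nat.Coprime.eq_one_of_dvd hc hd1
    have hU2le : pPrimePCore p H ≤ pPrimeCore p H ⊔ (P : Subgroup H) :=
      Subgroup.relIndex_eq_one.mp hone
    rw [eq_top_iff, ← hFr]
    apply sup_le le_sup_right
    refine hU2le.trans (sup_le le_sup_left ?_)
    exact Subgroup.le_normalizer.trans le_sup_right

end Cfsg.Agent.Lib.helper30
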