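import Mathlib

/-!
# S4504 piece GC1 (helper30): `helper21_X_arith` (pure arithmetic / combinatorics)
-/

set_option autoImplicit false
set_option linter.unusedVariables false

namespace Cfsg.Agent.Lib.helper30

/-- A natural number `≡ 1 [ZMOD p]`, `≥ p + 1` and `≠ p + 1` is `≥ 2 p + 1`. -/
theorem h30_deg_plus (n p : ℕ) (hp : 0 < p) (hc : (n : ℤ) ≡ 1 [ZMOD (p : ℤ)]) (hge : p + 1 ≤ n)
    (hne : n ≠ p + 1) : 2 * p + 1 ≤ n := by
  have h1 : (p : ℤ) ∣ (n : ℤ) - 1 := Int.modEq_iff_dvd.mp hc.symm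
  obtain ⟨k, hk⟩ := h1
  have hp' : (0 : ℤ) < (p : ℤ) := by exact_mod_cast hp
  have hn' : (p : ℤ) + 1 ≤ (n : ℤ) := by exact_mod_cast hge
  have hk1 : 1 ≤ k := by
    by_contra h
    have h0 : k ≤ 0 := by omega
    have := mul_nonpos_of_nonneg_of_nonpos hp'.le h0
    omega
  have hk2 : 2 ≤ k := by
    by_contra h
    have h1 : k = 1 := by omega
    rw [h1, mul_one] at hk
    apply hne
    omega
  have h2 : (p : ℤ) * 2 ≤ (p : ℤ) * k := mul_le_mul_of_nonneg_left hk2 hp'.le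
  omega

/-- A natural number `≡ -1 [ZMOD p]`, `≥ p - 1` and `≠ p - 1` is `≥ 2 p - 1`. -/
theorem h30_deg_minus (n p : ℕ) (hp : 2 ≤ p) (hc : (n : ℤ) ≡ -1 [ZMOD (p : ℤ)]) (hge : p - 1 ≤ n)
    (hne : n ≠ p - 1) : 2 * p - 1 ≤ n := by
  have h1 : (p : ℤ) ∣ (n : ℤ) - (-1) := Int.modEq_iff_dvd.mp hc.symm
  obtain ⟨k, hk⟩ := h1
  have hp' : (0 : ℤ) < (p : ℤ) := by exact_mod_cast (by omega : 0 < p)
  have hn' : (p : ℤ) - 1 ≤ (n : ℤ) := by omega
  have hk1 : 1 ≤ k := by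
    by_contra h
    have h0 : k ≤ 0 := by omega
    have := mul_nonpos_of_nonneg_of_nonpos hp'.le h0
    omega
  have hk2 : 2 ≤ k := by
    by_contra h
    have h1 : k = 1 := by omega
    rw [h1, mul_one] at hk
    apply hne
    omega
  have h2 : (p : ℤ) * 2 ≤ (p : ℤ) * k := mul_le_mul_of_nonneg_left hk2 hp'.le
  omega

/-- If the total of `f` equals the sum of lower bounds over `S`, then `f` meets the bounds on `S`
and vanishes off `S`. -/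
theorem h30_sum_eq_lb {ι : Type*} [Fintype ι] [DecidableEq ι] (S : Finset ι) (f lb : ι → ℕ)
    (hle : ∀ ξ ∈ S, lb ξ ≤ f ξ) (htot : ∑ ξ, f ξ = ∑ ξ ∈ S, lb ξ) :
    (∀ ξ ∈ S, f ξ = lb ξ) ∧ (∀ ξ, ξ ∉ S → f ξ = 0) := by
  have hsplit := Finset.sum_sdiff (Finset.subset_univ S) (f := f)
  have hge : ∑ ξ ∈ S, lb ξ ≤ ∑ ξ ∈ S, f ξ := Finset.sum_le_sum hle
  have h1 : ∑ ξ ∈ S, lb ξ = ∑ ξ ∈ S, f ξ := by omega
  have h2 : ∑ ξ ∈ Finset.univ \ S, f ξ = 0 := by omega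
  refine ⟨fun ξ h => ((Finset.sum_eq_sum_iff_of_le hle).mp h1 ξ h).symm, fun ξ h => ?_⟩
  exact Finset.sum_eq_zero_iff.mp h2 ξ (by simp [h])

end Cfsg.Agent.Lib.helper30

namespace Cfsg.Agent.Lib.helper2.BG

open Cfsg.Agent.Lib.helper30 in
/-- GC1 (pure arithmetic/combinatorics; no groups). -/
theorem helper21_X_arith {ι : Type*} [Fintype ι] (X : Finset ι) (one : ι)
    (εX : ι → ℤ) (deg m₁ m₂ : ι → ℕ) (d p : ℕ) (hp : 2 * d + 1 = p) (hp5 : 5 ≤ p)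
    (h1X : one ∈ X) (hε1 : εX one = 1) (hdeg1 : deg one = 1) (hcard : X.card = d)
    (hsign : ∀ ξ ∈ X, εX ξ = 1 ∨ εX ξ = -1)
    (hpos : ∀ ξ, 0 < deg ξ)
    (hcong : ∀ ξ ∈ X, (deg ξ : ℤ) ≡ εX ξ [ZMOD (p : ℤ)])
    (hlbp : ∀ ξ ∈ X, ξ ≠ one → εX ξ = 1 → p + 1 ≤ deg ξ)
    (hlbm : ∀ ξ ∈ X, εX ξ = -1 → p - 1 ≤ deg ξ)
    (hdiff : ∀ ξ ∈ X, (m₁ ξ : ℤ) - (m₂ ξ : ℤ) = εX ξ)
    (hs1 : ∑ ξ, m₁ ξ * deg ξ = d * d) (hs2 : ∑ ξ, m₂ ξ * deg ξ = d * d) :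
    (∀ ξ ∈ X, ξ ≠ one → εX ξ = 1 → deg ξ = p + 1) ∧
    (∀ ξ ∈ X, εX ξ = -1 → deg ξ = p - 1) ∧
    (∃ ξ ∈ X, εX ξ = -1) ∧
    (∀ ξ, m₁ ξ * m₂ ξ = 0) ∧
    (((∀ ξ, ξ ∉ X → m₁ ξ = 0) ∧ ∑ ξ ∈ X, εX ξ * (deg ξ : ℤ) = (d : ℤ)) ∨
     ((∀ ξ, ξ ∉ X → m₂ ξ = 0) ∧ ∑ ξ ∈ X, εX ξ * (deg ξ : ℤ) = -((d : ℤ) + 1))) := by
  classical
  set Xp : Finset ι := X.filter (fun ξ => ξ ≠ one ∧ εX ξ = 1) with hXp
  set Xm : Finset ι := X.filter (fun ξ => εX ξ = -1) with hXm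
  set T : Finset ι := insert one Xp with hT
  have hmemXp : ∀ ξ, ξ ∈ Xp ↔ ξ ∈ X ∧ ξ ≠ one ∧ εX ξ = 1 := by
    intro ξ; simp [hXp]
  have hmemXm : ∀ ξ, ξ ∈ Xm ↔ ξ ∈ X ∧ εX ξ = -1 := by
    intro ξ; simp [hXm]
  have hmemT : ∀ ξ, ξ ∈ T ↔ ξ = one ∨ ξ ∈ Xp := by
    intro ξ; simp [hT]
  have hone_notin_Xp : one ∉ Xp := by
    intro h; exact ((hmemXp one).mp h).2.1 rfl
  have hεT : ∀ ξ ∈ T, εX ξ = 1 := by
    intro ξ h
    rcases (hmemT ξ).mp h with rfl | h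
    · exact hε1
    · exact ((hmemXp ξ).mp h).2.2
  have hdisj : Disjoint T Xm := by
    rw [Finset.disjoint_left]
    intro ξ h1 h2
    have h3 := hεT ξ h1
    have h4 := ((hmemXm ξ).mp h2).2
    omega
  have hunion : X = T ∪ Xm := by
    ext ξ
    simp only [Finset.mem_union, hmemT, hmemXp, hmemXm]
    constructor
    · intro h
      by_cases h1 : ξ = one
      · exact Or.inl (Or.inl h1)
      · rcases hsign ξ h with h2 | h2
        · exact Or.inl (Or.inr ⟨h, h1, h2⟩)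
        · exact Or.inr ⟨h, h2⟩
    · rintro ((rfl | h) | h)
      · exact h1X
      · exact h.1
      · exact h.1
  have hTX : ∀ ξ ∈ T, ξ ∈ X := fun ξ h => by rw [hunion]; exact Finset.mem_union_left _ h
  have hcards : 1 + Xp.card + Xm.card = d := by
    rw [← hcard, hunion, Finset.card_union_of_disjoint hdisj, hT,
      Finset.card_insert_of_notMem hone_notin_Xp]
    ring
  -- multiplicities
  have hm1T : ∀ ξ ∈ T, m₁ ξ = m₂ ξ + 1 := by
    intro ξ h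
    have h1 := hdiff ξ (hTX ξ h)
    rw [hεT ξ h] at h1
    omega
  have hm2Xm : ∀ ξ ∈ Xm, m₂ ξ = m₁ ξ + 1 := by
    intro ξ h
    have h' := (hmemXm ξ).mp h
    have h1 := hdiff ξ h'.1
    rw [h'.2] at h1
    omega
  have hdegP : ∀ ξ ∈ Xp, p + 1 ≤ deg ξ := fun ξ h =>
    hlbp ξ ((hmemXp ξ).mp h).1 ((hmemXp ξ).mp h).2.1 ((hmemXp ξ).mp h).2.2
  have hdegM : ∀ ξ ∈ Xm, p - 1 ≤ deg ξ := fun ξ h =>
    hlbm ξ ((hmemXm ξ).mp h).1 ((hmemXm ξ).mp h).2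
  -- termwise lower bounds
  have hleP : ∀ ξ ∈ Xp, deg ξ ≤ m₁ ξ * deg ξ := by
    intro ξ h
    have h1 := hm1T ξ ((hmemT ξ).mpr (Or.inr h))
    calc deg ξ = 1 * deg ξ := (one_mul _).symm
      _ ≤ m₁ ξ * deg ξ := Nat.mul_le_mul_right _ (by omega)
  have hleM : ∀ ξ ∈ Xm, deg ξ ≤ m₂ ξ * deg ξ := by
    intro ξ h
    have h1 := hm2Xm ξ h
    calc deg ξ = 1 * deg ξ := (one_mul _).symm
      _ ≤ m₂ ξ * deg ξ := Nat.mul_le_mul_right _ (by omega)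
  have hle1 : 1 ≤ m₁ one * deg one := by
    rw [hdeg1, mul_one]
    have := hm1T one ((hmemT one).mpr (Or.inl rfl))
    omega
  set lbT : ι → ℕ := fun ξ => if ξ = one then 1 else p + 1 with hlbT
  have hlbT_le : ∀ ξ ∈ T, lbT ξ ≤ m₁ ξ * deg ξ := by
    intro ξ h
    rcases (hmemT ξ).mp h with rfl | h
    · simp only [hlbT, if_true]; exact hle1
    · have hne : ξ ≠ one := ((hmemXp ξ).mp h).2.1
      simp only [hlbT, if_neg hne]
      exact (hdegP ξ h).trans (hleP ξ h)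
  have hlbT_sum : ∑ ξ ∈ T, lbT ξ = 1 + Xp.card * (p + 1) := by
    rw [hT, Finset.sum_insert hone_notin_Xp]
    have h1 : ∑ ξ ∈ Xp, lbT ξ = ∑ ξ ∈ Xp, (p + 1) := by
      refine Finset.sum_congr rfl fun ξ h => ?_
      have hne : ξ ≠ one := ((hmemXp ξ).mp h).2.1
      simp only [hlbT, if_neg hne]
    rw [h1, Finset.sum_const, smul_eq_mul]
    simp only [hlbT, if_true]
  have hlbM_le : ∀ ξ ∈ Xm, p - 1 ≤ m₂ ξ * deg ξ := fun ξ h => (hdegM ξ h).trans (hleM ξ h)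
  have hlbM_sum : ∑ ξ ∈ Xm, (p - 1) = Xm.card * (p - 1) := by
    rw [Finset.sum_const, smul_eq_mul]
  have hT_le : ∑ ξ ∈ T, m₁ ξ * deg ξ ≤ d * d := by
    rw [← hs1]; exact Finset.sum_le_sum_of_subset (Finset.subset_univ T)
  have hM_le : ∑ ξ ∈ Xm, m₂ ξ * deg ξ ≤ d * d := by
    rw [← hs2]; exact Finset.sum_le_sum_of_subset (Finset.subset_univ Xm)
  have hT_lb : 1 + Xp.card * (p + 1) ≤ d * d := by
    rw [← hlbT_sum]; exact (Finset.sum_le_sum hlbT_le).trans hT_le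
  have hM_lb : Xm.card * (p - 1) ≤ d * d := by
    rw [← hlbM_sum]; exact (Finset.sum_le_sum hlbM_le).trans hM_le
  -- refined bounds
  have hrefP : ∀ ξ₀ ∈ Xp, 1 + (Xp.card - 1) * (p + 1) + deg ξ₀ ≤ d * d := by
    intro ξ₀ h0
    refine le_trans ?_ hT_le
    rw [hT, Finset.sum_insert hone_notin_Xp, ← Finset.add_sum_erase Xp _ h0]
    have h1 : (Xp.card - 1) * (p + 1) ≤ ∑ ξ ∈ Xp.erase ξ₀, m₁ ξ * deg ξ := by
      rw [← Finset.card_erase_of_mem h0, ← smul_eq_mul, ← Finset.sum_const]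
      apply Finset.sum_le_sum
      intro ξ h
      have h' := Finset.mem_of_mem_erase h
      exact (hdegP ξ h').trans (hleP ξ h')
    have h2 := hleP ξ₀ h0
    omega
  have hrefM : ∀ ξ₀ ∈ Xm, (Xm.card - 1) * (p - 1) + deg ξ₀ ≤ d * d := by
    intro ξ₀ h0
    refine le_trans ?_ hM_le
    rw [← Finset.add_sum_erase Xm _ h0]
    have h1 : (Xm.card - 1) * (p - 1) ≤ ∑ ξ ∈ Xm.erase ξ₀, m₂ ξ * deg ξ := by
      rw [← Finset.card_erase_of_mem h0, ← smul_eq_mul, ← Finset.sum_const]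
      apply Finset.sum_le_sum
      intro ξ h
      have h' := Finset.mem_of_mem_erase h
      exact (hdegM ξ h').trans (hleM ξ h')
    have h2 := hleM ξ₀ h0
    omega
  -- arithmetic
  generalize hacard : Xp.card = a at *
  generalize hbcard : Xm.card = b at *
  have hp1 : p - 1 = 2 * d := by omega
  have h2a : 2 * a + 1 ≤ d := by
    by_contra hcon
    have h1 : d ≤ 2 * a := by omega
    have h2 := hT_lb
    rw [← hp] at h2
    nlinarith [Nat.mul_le_mul_right (d + 1) h1]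
  have h2b : 2 * b ≤ d := by
    by_contra hcon
    have h1 : d + 1 ≤ 2 * b := by omega
    have h2 := hM_lb
    rw [hp1] at h2
    nlinarith [Nat.mul_le_mul_right d h1]
  -- the sum of signed degrees, once the degrees are known
  have hsigned : (∀ ξ ∈ Xp, deg ξ = p + 1) → (∀ ξ ∈ Xm, deg ξ = p - 1) →
      ∑ ξ ∈ X, εX ξ * (deg ξ : ℤ) = 1 + (a : ℤ) * ((p : ℤ) + 1) - (b : ℤ) * (2 * (d : ℤ)) := by
    intro hP hM
    rw [hunion, Finset.sum_union hdisj, hT, Finset.sum_insert hone_notin_Xp, hε1, hdeg1]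
    have h1 : ∑ ξ ∈ Xp, εX ξ * (deg ξ : ℤ) = ∑ ξ ∈ Xp, ((p : ℤ) + 1) := by
      refine Finset.sum_congr rfl fun ξ h => ?_
      rw [((hmemXp ξ).mp h).2.2, hP ξ h]
      push_cast; ring
    have h2 : ∑ ξ ∈ Xm, εX ξ * (deg ξ : ℤ) = ∑ ξ ∈ Xm, (-(2 * (d : ℤ))) := by
      refine Finset.sum_congr rfl fun ξ h => ?_
      rw [((hmemXm ξ).mp h).2, hM ξ h, hp1]
      push_cast; ring
    rw [h1, h2, Finset.sum_const, Finset.sum_const, hacard, hbcard]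
    simp only [nsmul_eq_mul]
    push_cast; ring
  have hcase : (2 * b = d ∧ 2 * a + 2 = d) ∨ (2 * a + 1 = d ∧ 2 * b + 1 = d) := by omega
  rcases hcase with ⟨hb2, ha2⟩ | ⟨ha2, hb2⟩
  · -- `d` even: equality in the second sum
    have hd : d = 2 * a + 2 := by omega
    have hbv : b = a + 1 := by omega
    have hpv : p = 4 * a + 5 := by omega
    have htot : ∑ ξ, m₂ ξ * deg ξ = ∑ ξ ∈ Xm, (p - 1) := by
      rw [hs2, hlbM_sum, hp1, hd, hbv]; ring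
    obtain ⟨heq, hoff⟩ := h30_sum_eq_lb Xm (fun ξ => m₂ ξ * deg ξ) (fun _ => p - 1) hlbM_le htot
    have hXm1 : ∀ ξ ∈ Xm, m₂ ξ = 1 ∧ deg ξ = p - 1 := by
      intro ξ h
      have h1 : m₂ ξ * deg ξ = p - 1 := heq ξ h
      have h2 := hdegM ξ h
      have h3 := hm2Xm ξ h
      have h4 : m₂ ξ = 1 := by
        by_contra hne
        have h5 : 2 ≤ m₂ ξ := by omega
        have h6 := Nat.mul_le_mul_right (deg ξ) h5
        omega
      refine ⟨h4, ?_⟩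
      rw [h4, one_mul] at h1
      exact h1
    have hm2off : ∀ ξ, ξ ∉ Xm → m₂ ξ = 0 := by
      intro ξ h
      have h1 : m₂ ξ * deg ξ = 0 := hoff ξ h
      rcases Nat.mul_eq_zero.mp h1 with h2 | h2
      · exact h2
      · have := hpos ξ; omega
    have hPdeg : ∀ ξ ∈ Xp, deg ξ = p + 1 := by
      intro ξ h
      by_contra hne
      have hX := (hmemXp ξ).mp h
      have hc := hcong ξ hX.1
      rw [hX.2.2] at hc
      have h1 := h30_deg_plus (deg ξ) p (by omega) hc (hdegP ξ h) hne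
      have h2 := hrefP ξ h
      have ha1 : 1 ≤ a := by
        rw [← hacard]; exact Finset.card_pos.mpr ⟨ξ, h⟩
      obtain ⟨a', rfl⟩ : ∃ a', a = a' + 1 := ⟨a - 1, by omega⟩
      rw [hd, hpv] at h2
      simp only [Nat.add_sub_cancel] at h2
      nlinarith
    have hMdeg : ∀ ξ ∈ Xm, deg ξ = p - 1 := fun ξ h => (hXm1 ξ h).2
    refine ⟨fun ξ hξ hne he => hPdeg ξ ((hmemXp ξ).mpr ⟨hξ, hne, he⟩),
      fun ξ hξ he => hMdeg ξ ((hmemXm ξ).mpr ⟨hξ, he⟩), ?_, ?_, Or.inr ⟨?_, ?_⟩⟩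
    · have hb1 : 0 < Xm.card := by rw [hbcard]; omega
      obtain ⟨ξ, h⟩ := Finset.card_pos.mp hb1
      exact ⟨ξ, ((hmemXm ξ).mp h).1, ((hmemXm ξ).mp h).2⟩
    · intro ξ
      by_cases h : ξ ∈ Xm
      · have h1 := hm2Xm ξ h
        have h2 := (hXm1 ξ h).1
        have h3 : m₁ ξ = 0 := by omega
        rw [h3, zero_mul]
      · rw [hm2off ξ h, mul_zero]
    · intro ξ h
      exact hm2off ξ (fun h' => h ((hmemXm ξ).mp h').1)
    · rw [hsigned hPdeg hMdeg, hd, hbv, hpv]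
      push_cast; ring
  · -- `d` odd: equality in the first sum
    have hd : d = 2 * a + 1 := by omega
    have hbv : b = a := by omega
    have hpv : p = 4 * a + 3 := by omega
    have ha1 : 1 ≤ a := by omega
    have htot : ∑ ξ, m₁ ξ * deg ξ = ∑ ξ ∈ T, lbT ξ := by
      rw [hs1, hlbT_sum, hd, hpv]; ring
    obtain ⟨heq, hoff⟩ := h30_sum_eq_lb T (fun ξ => m₁ ξ * deg ξ) lbT hlbT_le htot
    have hXp1 : ∀ ξ ∈ Xp, m₁ ξ = 1 ∧ deg ξ = p + 1 := by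
      intro ξ h
      have hne : ξ ≠ one := ((hmemXp ξ).mp h).2.1
      have h1 : m₁ ξ * deg ξ = p + 1 := by
        have := heq ξ ((hmemT ξ).mpr (Or.inr h))
        simpa only [hlbT, if_neg hne] using this
      have h2 := hdegP ξ h
      have h3 := hm1T ξ ((hmemT ξ).mpr (Or.inr h))
      have h4 : m₁ ξ = 1 := by
        by_contra hne'
        have h5 : 2 ≤ m₁ ξ := by omega
        have h6 := Nat.mul_le_mul_right (deg ξ) h5
        omega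
      refine ⟨h4, ?_⟩
      rw [h4, one_mul] at h1
      exact h1
    have hm1one : m₁ one = 1 := by
      have := heq one ((hmemT one).mpr (Or.inl rfl))
      simpa only [hlbT, if_true, hdeg1, mul_one] using this
    have hm1off : ∀ ξ, ξ ∉ T → m₁ ξ = 0 := by
      intro ξ h
      have h1 : m₁ ξ * deg ξ = 0 := hoff ξ h
      rcases Nat.mul_eq_zero.mp h1 with h2 | h2
      · exact h2
      · have := hpos ξ; omega
    have hm1T1 : ∀ ξ ∈ T, m₁ ξ = 1 := by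
      intro ξ h
      rcases (hmemT ξ).mp h with rfl | h
      · exact hm1one
      · exact (hXp1 ξ h).1
    have hPdeg : ∀ ξ ∈ Xp, deg ξ = p + 1 := fun ξ h => (hXp1 ξ h).2
    have hMdeg : ∀ ξ ∈ Xm, deg ξ = p - 1 := by
      intro ξ h
      by_contra hne
      have hX := (hmemXm ξ).mp h
      have hc := hcong ξ hX.1
      rw [hX.2] at hc
      have h1 := h30_deg_minus (deg ξ) p (by omega) hc (hdegM ξ h) hne
      have h2 := hrefM ξ h
      obtain ⟨a', rfl⟩ : ∃ a', a = a' + 1 := ⟨a - 1, by omega⟩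
      rw [hp1, hd, hbv] at h2
      simp only [Nat.add_sub_cancel] at h2
      have h3 : 2 * p - 1 = 8 * a' + 13 := by omega
      rw [h3] at h1
      nlinarith
    refine ⟨fun ξ hξ hne he => hPdeg ξ ((hmemXp ξ).mpr ⟨hξ, hne, he⟩),
      fun ξ hξ he => hMdeg ξ ((hmemXm ξ).mpr ⟨hξ, he⟩), ?_, ?_, Or.inl ⟨?_, ?_⟩⟩
    · have hb1 : 0 < Xm.card := by rw [hbcard]; omega
      obtain ⟨ξ, h⟩ := Finset.card_pos.mp hb1
      exact ⟨ξ, ((hmemXm ξ).mp h).1, ((hmemXm ξ).mp h).2⟩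
    · intro ξ
      by_cases h : ξ ∈ T
      · have h1 := hm1T ξ h
        have h2 := hm1T1 ξ h
        have h3 : m₂ ξ = 0 := by omega
        rw [h3, mul_zero]
      · rw [hm1off ξ h, zero_mul]
    · intro ξ h
      exact hm1off ξ (fun h' => h (hTX ξ h'))
    · rw [hsigned hPdeg hMdeg, hd, hbv, hpv]
      push_cast; ring

end Cfsg.Agent.Lib.helper2.BG
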