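import Mathlib
import Cfsg.Agent.Lib.helper8.BGT3Defs
import Cfsg.Agent.Lib.helper70.BGAsym
import Cfsg.Agent.Lib.helper97.BGEight1
import Cfsg.Agent.S1428

/-!
# S1430 (O-c), PIECE FIN: the common centralizer

In the singular `τ₃` context every subgroup of prime order of `E` has centralizer `C_{M_σ}(R)`
in `M_σ`.
-/

set_option autoImplicit false
open Cfsg

namespace Cfsg.Agent.Lib.helper30.BGT3

open Cfsg.Agent.Lib.helper8.BGT3

variable {G : Type*} [Group G]

/-- PIECE FIN: the common centralizer. -/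
theorem t3_fin [Finite G] (hG : IsMinSimpleOddOrder G) (hT2 : HTau2 G) (hE3 : HE3 G)
    (hKC : HKillC G) (hKA : HKillA G) :
    ∀ (M E R : Subgroup G) (r : ℕ), SCtx M E R r →
      ∀ X : Subgroup G, X ≤ E → (Nat.card X).Prime →
        sigmaCore M ⊓ Subgroup.centralizer (X : Set G) =
          sigmaCore M ⊓ Subgroup.centralizer (R : Set G) := by
  intro M E R r hS X hXE hXp
  obtain ⟨⟨hM, hE, hr, hRE, hRc⟩, hC⟩ := hS
  have hS' : SCtx M E R r := ⟨⟨hM, hE, hr, hRE, hRc⟩, hC⟩
  have hsE : Nat.card X ∣ Nat.card E := Subgroup.card_dvd_of_le hXE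
  have hσ : Nat.card X ∉ sigma M :=
    Cfsg.Agent.Lib.helper97.bg8_not_sigma hG M hM E hE _ hXp hsE
  have hτ2 : Nat.card X ∉ tau2 M := hT2 M E R r hS' _
  rcases Cfsg.Agent.Lib.helper70.asym_tau13 hG hM hXp (hXE.trans hE.1) rfl hσ hτ2 with h1 | h3
  · -- `τ₁` case
    have hXR : X ≤ Subgroup.centralizer (R : Set G) := hKC M E R r hS' _ X h1 hXE rfl
    have hRX : R ≤ Subgroup.centralizer (X : Set G) := by
      intro y hy
      rw [Subgroup.mem_centralizer_iff]
      intro x hx
      exact ((Subgroup.mem_centralizer_iff.mp (hXR hx)) y hy).symm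
    have hle1 : sigmaCore M ⊓ Subgroup.centralizer (X : Set G) ≤
        sigmaCore M ⊓ Subgroup.centralizer (R : Set G) :=
      Cfsg.Agent.S1428.result hG M hM E hE _ h1 X hXE rfl R (le_inf hRE hRX)
        (by rw [hRc]; exact hr.1)
    have hle2 : sigmaCore M ⊓ Subgroup.centralizer (R : Set G) ≤
        sigmaCore M ⊓ Subgroup.centralizer (X : Set G) :=
      le_inf inf_le_left (hKA M E R r hS' _ X h1 hXE rfl)
    exact le_antisymm hle1 hle2
  · exact hE3 M E R r hS' X hXE h3

end Cfsg.Agent.Lib.helper30.BGT3
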