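import Mathlib
import Cfsg.Agent.Lib.helper8.BGT3Defs

/-!
# S1430 (O-c), PIECE KC: every `P ≤ E` of order in `τ₁(M)` centralizes `R`
-/

set_option autoImplicit false
open Cfsg

namespace Cfsg.Agent.Lib.helper30.BGT3

open Cfsg.Agent.Lib.helper8.BGT3

variable {G : Type*} [Group G]

/-- PIECE KC (assembly). -/
theorem t3_killC [Finite G] (h4 : HKill4 G) (h5 : HKill5 G) : HKillC G := by
  intro M E R r hS p P hp hPE hP
  by_contra hnc
  have hC : sigmaCore M ⊓ Subgroup.centralizer (R : Set G) ≠ ⊥ := hS.2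
  have hcard : Nat.card ↥(sigmaCore M ⊓ Subgroup.centralizer (R : Set G)) ≠ 1 := by
    intro h
    exact hC (Subgroup.card_eq_one.mp h)
  obtain ⟨q, hq, hqd⟩ := Nat.exists_prime_and_dvd hcard
  exact h5 M E R r hS p P hp hPE hP hnc q hq hqd (h4 M E R r hS p P hp hPE hP hnc q hq hqd)

end Cfsg.Agent.Lib.helper30.BGT3
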