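import Mathlib
import Cfsg.Prelude.Def_Solvable

/-!
# S4471, piece C4 (helper30, racing copy): a commutative normal subgroup `C` with `|G : C|`
dividing `n!`, `n < 2p`, forces `p² ∤ |G : O_p(G)|`.
-/

set_option autoImplicit false

namespace Cfsg.Agent.Lib.helper30

/-- `p² ∤ n!` for `n < 2p`. -/
theorem helper30_not_sq_dvd_factorial (p n : ℕ) (hp : p.Prime) (hn : n < 2 * p) :
    ¬ p ^ 2 ∣ n.factorial := by
  have hp2 : 2 ≤ p := hp.two_le
  have hlt : n < p ^ 2 := by nlinarith
  have hlog : Nat.log p n < 2 := Nat.log_lt_of_lt_pow' (by norm_num) hlt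
  rw [hp.pow_dvd_factorial_iff hlog]
  have hdiv : n / p < 2 := by
    rw [Nat.div_lt_iff_lt_mul hp.pos]
    omega
  simp
  omega

end Cfsg.Agent.Lib.helper30

namespace Cfsg.Agent.Lib.helper68.BL

open Cfsg

universe u

/-- C4 (pure group theory): a commutative normal subgroup `C` with `|G : C|` dividing `n!`, `n < 2p`. -/
theorem helper30_pcore_index_of_comm_normal {G : Type u} [Group G] [Finite G] (p n : ℕ) (hp : p.Prime)
    (hn : n < 2 * p) (C : Subgroup G) [C.Normal] (hC : ∀ a ∈ C, ∀ b ∈ C, a * b = b * a)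
    (hidx : C.index ∣ n.factorial) : ¬ p ^ 2 ∣ (Cfsg.pCore p G).index := by
  have : Fact p.Prime := ⟨hp⟩
  obtain ⟨P⟩ : Nonempty (Sylow p C) := inferInstance
  have hPn : (P : Subgroup C).Normal := by
    refine ⟨fun x hx g => ?_⟩
    have hcomm : g * x * g⁻¹ = x := by
      have h1 : g * x = x * g := Subtype.ext (hC g.1 g.2 x.1 x.2)
      rw [h1, mul_inv_cancel_right]
    rw [hcomm]
    exact hx
  have hPc : (P : Subgroup C).Characteristic := P.characteristic_of_normal hPn
  have hSn : ((P : Subgroup C).map C.subtype).Normal :=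
    ConjAct.normal_of_characteristic_of_normal
  have hSp : IsPGroup p ((P : Subgroup C).map C.subtype) := P.isPGroup'.map C.subtype
  have hle : (P : Subgroup C).map C.subtype ≤ Cfsg.pCore p G := le_sSup ⟨hSn, hSp⟩
  have hdvd : (Cfsg.pCore p G).index ∣ ((P : Subgroup C).map C.subtype).index :=
    Subgroup.index_dvd_of_le hle
  rw [Subgroup.index_map_subtype] at hdvd
  intro hsq
  have h1 : p ^ 2 ∣ (P : Subgroup C).index * C.index := hsq.trans hdvd
  have hnd : ¬ p ∣ (P : Subgroup C).index := P.not_dvd_index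
  have hcop : Nat.Coprime (p ^ 2) (P : Subgroup C).index :=
    Nat.Coprime.pow_left 2 ((Nat.Prime.coprime_iff_not_dvd hp).mpr hnd)
  have h2 : p ^ 2 ∣ C.index := hcop.dvd_of_dvd_mul_left h1
  exact Cfsg.Agent.Lib.helper30.helper30_not_sq_dvd_factorial p n hp hn (h2.trans hidx)

end Cfsg.Agent.Lib.helper68.BL
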