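import Mathlib

/-!
# S4471, piece Q2 (helper30): if `p² ∤ |H|` the Sylow `p`-subgroups of `H` are commutative.
-/

set_option autoImplicit false

namespace Cfsg.Agent.Lib.helper30

/-- marker (file of helper30). -/
theorem blq2_marker : True := by trivial

end Cfsg.Agent.Lib.helper30

namespace Cfsg.Agent.Lib.helper68.BL

universe u

/-- Q2 : if `p² ∤ |H|` the Sylow `p`-subgroups of `H` are commutative. -/
theorem sylow_comm_of_not_sq {H : Type u} [Group H] [Finite H] (p : ℕ) (hp : p.Prime)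
    (h : ¬ p ^ 2 ∣ Nat.card H) (Q : Sylow p H) :
    ∀ x ∈ (Q : Subgroup H), ∀ y ∈ (Q : Subgroup H), x * y = y * x := by
  have : Fact p.Prime := ⟨hp⟩
  obtain ⟨k, hk⟩ := (IsPGroup.iff_card).mp Q.isPGroup'
  have hdvd : Nat.card (Q : Subgroup H) ∣ Nat.card H := Subgroup.card_subgroup_dvd_card _
  have hk1 : k ≤ 1 := by
    by_contra hc
    apply h
    have h2 : p ^ 2 ∣ p ^ k := pow_dvd_pow p (by omega)
    exact h2.trans (hk ▸ hdvd)
  intro x hx y hy
  interval_cases k
  · have h1 : Nat.card (Q : Subgroup H) = 1 := by simpa using hk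
    have hb : (Q : Subgroup H) = ⊥ := Subgroup.card_eq_one.mp h1
    rw [hb, Subgroup.mem_bot] at hx hy
    rw [hx, hy]
  · have hp' : Nat.card (Q : Subgroup H) = p := by simpa using hk
    have : IsCyclic (Q : Subgroup H) := isCyclic_of_prime_card hp'
    obtain ⟨g, hg⟩ := IsCyclic.exists_generator (α := (Q : Subgroup H))
    obtain ⟨i, hi⟩ := Subgroup.mem_zpowers_iff.mp (hg ⟨x, hx⟩)
    obtain ⟨j, hj⟩ := Subgroup.mem_zpowers_iff.mp (hg ⟨y, hy⟩)
    have hab : (⟨x, hx⟩ : (Q : Subgroup H)) * ⟨y, hy⟩ = ⟨y, hy⟩ * ⟨x, hx⟩ := by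
      rw [← hi, ← hj]
      exact zpow_mul_comm g i j
    exact congrArg Subtype.val hab

end Cfsg.Agent.Lib.helper68.BL
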