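import Mathlib
import Cfsg.Agent.Lib.helper47.BLU

/-!
# S4471, piece T in core form (helper30, racing copy): transfer of the Frobenius–Blichfeldt
commutation statement `FB` (taken as a hypothesis) to a faithful representation.
-/

set_option autoImplicit false

namespace Cfsg.Agent.Lib.helper30

/-- marker (file of helper30). -/
theorem bltcore_marker : True := by trivial

end Cfsg.Agent.Lib.helper30

namespace Cfsg.Agent.Lib.helper68.BL

open scoped ComplexConjugate Matrix

universe u

/-- T (core form): the statement of `commute_of_rep`, with `fb_commute` (for the same group and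
degree) as a hypothesis. -/
theorem helper30_commute_of_rep_core {G : Type u} [Group G] [Finite G] {n : ℕ}
    (hFB : ∀ (U : G →* Matrix (Fin n) (Fin n) ℂ), (∀ g : G, (U g)ᴴ * U g = 1) →
      ∀ (z : G) (ω : ℂ), star ω * ω = 1 → ω ≠ 1 → ‖ω - 1‖ < 1 →
      (U z - 1) * (U z - ω • (1 : Matrix (Fin n) (Fin n) ℂ)) = 0 →
      ∀ g : G, U z * U (g * z * g⁻¹) = U (g * z * g⁻¹) * U z)
    (ρ : Representation ℂ G (Fin n → ℂ))
    (hfaith : ∀ g : G, ρ.character g = ρ.character 1 → g = 1) (z : G) (ω : ℂ)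
    (hω : star ω * ω = 1) (hω1 : ω ≠ 1) (hr : ‖ω - 1‖ < 1)
    (hz : (ρ z - 1) * (ρ z - ω • (1 : Module.End ℂ (Fin n → ℂ))) = 0) (g : G) :
    z * (g * z * g⁻¹) = (g * z * g⁻¹) * z := by
  obtain ⟨e, -⟩ : ∃ e : Module.End ℂ (Fin n → ℂ) ≃ₐ[ℂ] Matrix (Fin n) (Fin n) ℂ, True :=
    ⟨LinearMap.toMatrixAlgEquiv', trivial⟩
  let R : G →* Matrix (Fin n) (Fin n) ℂ :=
    { toFun := fun g => e (ρ g)
      map_one' := by rw [map_one, map_one]
      map_mul' := fun a b => by rw [map_mul, map_mul] }
  have hR : ∀ g : G, R g = e (ρ g) := fun _ => rfl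
  obtain ⟨C, D, U, hCD, hDC, hUdef, hUu⟩ := exists_unitary_hom R
  have hz' : (U z - 1) * (U z - ω • (1 : Matrix (Fin n) (Fin n) ℂ)) = 0 := by
    have h1 : U z - 1 = C * (e (ρ z) - 1) * D := by
      rw [hUdef, hR, mul_sub, sub_mul, mul_one, hCD]
    have h2 : U z - ω • (1 : Matrix (Fin n) (Fin n) ℂ)
        = C * (e (ρ z) - ω • (1 : Matrix (Fin n) (Fin n) ℂ)) * D := by
      rw [hUdef, hR, mul_sub, sub_mul, Matrix.mul_smul, Matrix.smul_mul, mul_one, hCD]
    have h3 : (e (ρ z) - 1) * (e (ρ z) - ω • (1 : Matrix (Fin n) (Fin n) ℂ)) = 0 := by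
      have h4 := congrArg e hz
      rw [map_mul, map_sub, map_sub, map_one, map_smul, map_one, map_zero] at h4
      exact h4
    rw [h1, h2]
    calc C * (e (ρ z) - 1) * D * (C * (e (ρ z) - ω • (1 : Matrix (Fin n) (Fin n) ℂ)) * D)
        = C * ((e (ρ z) - 1) * (D * C) * (e (ρ z) - ω • (1 : Matrix (Fin n) (Fin n) ℂ))) * D := by
          simp only [mul_assoc]
      _ = 0 := by rw [hDC, mul_one, h3, mul_zero, zero_mul]
  have hcomm := hFB U hUu z ω hω hω1 hr hz' g
  rw [← map_mul, ← map_mul] at hcomm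
  have hinj : ∀ a b : G, U a = U b → a = b := by
    intro a b hab
    rw [hUdef, hUdef] at hab
    have h5 : R a = R b := by
      have h6 : D * (C * R a * D) * C = D * (C * R b * D) * C := by rw [hab]
      have h7 : ∀ M : Matrix (Fin n) (Fin n) ℂ, D * (C * M * D) * C = M := by
        intro M
        calc D * (C * M * D) * C = (D * C) * M * (D * C) := by simp only [mul_assoc]
          _ = M := by rw [hDC, one_mul, mul_one]
      rw [h7, h7] at h6
      exact h6
    rw [hR, hR] at h5
    have h8 : ρ a = ρ b := e.injective h5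
    have h9 : ρ (a * b⁻¹) = ρ 1 := by
      rw [map_mul, h8, ← map_mul, mul_inv_cancel]
    have h10 : ρ.character (a * b⁻¹) = ρ.character 1 := by
      unfold Representation.character
      rw [h9]
    exact mul_inv_eq_one.mp (hfaith _ h10)
  exact hinj _ _ hcomm

end Cfsg.Agent.Lib.helper68.BL
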