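import Mathlib
import Cfsg.Prelude.Def_Solvable
import Cfsg.Prelude.Def_CaseTheorems
import Cfsg.Agent.Lib.helper40.Cores
import Cfsg.Agent.Lib.helper14.PConstrained

/-!
# S4700 piece QC (helper30): `quot_core`

The quotient by `O_{p'}(G)` of a perfect group.
-/

set_option autoImplicit false

namespace Cfsg.Agent.Lib.helper30.BR

universe u

/-- A quotient of a perfect group is perfect. -/
theorem h30_commutator_quotient_eq_top {G : Type u} [Group G] (hperf : commutator G = ⊤)
    (N : Subgroup G) [N.Normal] : commutator (G ⧸ N) = ⊤ := by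
  have hs : Function.Surjective (QuotientGroup.mk' N) := QuotientGroup.mk'_surjective N
  have h1 : Subgroup.map (QuotientGroup.mk' N) (commutator G) = commutator (G ⧸ N) := by
    rw [commutator_def, commutator_def, Subgroup.map_commutator,
      ← MonoidHom.range_eq_map, MonoidHom.range_eq_top.mpr hs]
  rw [← h1, hperf, ← MonoidHom.range_eq_map, MonoidHom.range_eq_top.mpr hs]

/-- QC : the quotient by `O_{p'}(G)`. -/
theorem quot_core {G : Type u} [Group G] [Finite G] (hperf : commutator G = ⊤) (p : ℕ)
    [Fact p.Prime] :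
    commutator (G ⧸ Cfsg.pPrimeCore p G) = ⊤ ∧
      Cfsg.pPrimeCore p (G ⧸ Cfsg.pPrimeCore p G) = ⊥ ∧
      (Nat.card (Cfsg.pPrimeCore p G)).Coprime p :=
  ⟨h30_commutator_quotient_eq_top hperf _,
    Cfsg.Agent.Lib.helper14.pPrimeCore_quotient_pPrimeCore p,
    Cfsg.Agent.Lib.helper40.pPrimeCore_card_coprime p G⟩

end Cfsg.Agent.Lib.helper30.BR
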