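import Mathlib

/-!
# S4501 piece AR1 (helper30): `ar_plus` (pure arithmetic)
-/

set_option autoImplicit false
set_option linter.unusedVariables false

namespace Cfsg.Agent.Lib.helper30.BW

/-- A divisor `≥ 2` of `p ^ a * q ^ b` is divisible by `p` or by `q`. -/
theorem h30_pq_dvd (p q a b n : ℕ) (hp : p.Prime) (hq : q.Prime) (hn : 2 ≤ n)
    (hd : n ∣ p ^ a * q ^ b) : p ∣ n ∨ q ∣ n := by
  obtain ⟨r, hr, hrn⟩ := Nat.exists_prime_and_dvd (show n ≠ 1 by omega)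
  have h1 : r ∣ p ^ a * q ^ b := hrn.trans hd
  rcases (Nat.Prime.dvd_mul hr).mp h1 with h | h
  · have h2 := (Nat.prime_dvd_prime_iff_eq hr hp).mp (hr.dvd_of_dvd_pow h)
    subst h2; exact Or.inl hrn
  · have h2 := (Nat.prime_dvd_prime_iff_eq hr hq).mp (hr.dvd_of_dvd_pow h)
    subst h2; exact Or.inr hrn

/-- Three pairwise coprime numbers `≥ 2` cannot all divide `p ^ a * q ^ b`. -/
theorem h30_three_coprime (p q a b x u v : ℕ) (hp : p.Prime) (hq : q.Prime) (hx : 2 ≤ x)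
    (hu : 2 ≤ u) (hv : 2 ≤ v) (hxd : x ∣ p ^ a * q ^ b) (hud : u ∣ p ^ a * q ^ b)
    (hvd : v ∣ p ^ a * q ^ b) (hxu : Nat.Coprime x u) (hxv : Nat.Coprime x v)
    (huv : Nat.Coprime u v) : False := by
  have key : ∀ r : ℕ, r.Prime → ∀ m n : ℕ, Nat.Coprime m n → r ∣ m → r ∣ n → False := by
    intro r hr m n hmn h1 h2
    have h3 := Nat.dvd_gcd h1 h2
    rw [hmn] at h3
    exact hr.one_lt.ne' (Nat.dvd_one.mp h3)
  rcases h30_pq_dvd p q a b x hp hq hx hxd with h1 | h1 <;>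
  rcases h30_pq_dvd p q a b u hp hq hu hud with h2 | h2 <;>
  rcases h30_pq_dvd p q a b v hp hq hv hvd with h3 | h3
  · exact key p hp x u hxu h1 h2
  · exact key p hp x u hxu h1 h2
  · exact key p hp x v hxv h1 h3
  · exact key q hq u v huv h2 h3
  · exact key p hp u v huv h2 h3
  · exact key q hq x v hxv h1 h3
  · exact key q hq x u hxu h1 h2
  · exact key q hq x u hxu h1 h2

/-- `c * n = m + 1` makes `m` and `n` coprime. -/
theorem h30_coprime_of_mul_eq_succ (m n c : ℕ) (h : c * n = m + 1) : Nat.Coprime m n := by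
  have h1 := Nat.gcd_dvd_left m n
  have h2 := Nat.gcd_dvd_right m n
  have h3 : Nat.gcd m n ∣ c * n - m := Nat.dvd_sub (h2.mul_left c) h1
  have h4 : c * n - m = 1 := by omega
  rw [h4] at h3
  exact Nat.dvd_one.mp h3

/-- `m = c * n + 1` makes `m` and `n` coprime. -/
theorem h30_coprime_of_eq_mul_succ (m n c : ℕ) (h : m = c * n + 1) : Nat.Coprime m n := by
  have h1 := Nat.gcd_dvd_left m n
  have h2 := Nat.gcd_dvd_right m n
  have h3 : Nat.gcd m n ∣ m - c * n := Nat.dvd_sub h1 (h2.mul_left c)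
  have h4 : m - c * n = 1 := by omega
  rw [h4] at h3
  exact Nat.dvd_one.mp h3

/-- An odd number is coprime to a power of `2`. -/
theorem h30_coprime_two_pow (n k : ℕ) (hn : n % 2 = 1) : Nat.Coprime n (2 ^ k) := by
  apply Nat.Coprime.pow_right
  rw [Nat.coprime_comm, Nat.Prime.coprime_iff_not_dvd Nat.prime_two]
  omega

/-- AR1 (sign `+`): `x`, `(x-1)/2`, `(x+1)/4` are three pairwise coprime divisors `≥ 2` of
`p^a q^b`. -/
theorem ar_plus (p q a b x cJ cP m : ℕ) (hp : p.Prime) (hq : q.Prime) (hp2 : p ≠ 2) (hq2 : q ≠ 2)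
    (hx5 : 5 ≤ x) (hx4 : x % 4 = 3) (hxd : x ∣ 4 * p ^ a * q ^ b)
    (hcJ : cJ ∣ 4 * p ^ a * q ^ b) (hcP : 4 ∣ cP)
    (h1 : 4 * cJ = m * cP * (x + 1))
    (h2 : 8 * (4 * p ^ a * q ^ b) = m ^ 3 * cP * (x ^ 3 - x)) : False := by
  have hg4 : 4 * p ^ a * q ^ b = 4 * (p ^ a * q ^ b) := by ring
  rw [hg4] at hxd hcJ h2
  generalize hg : p ^ a * q ^ b = g at hxd hcJ h2
  obtain ⟨v, hv⟩ : ∃ v, x + 1 = 4 * v := ⟨(x + 1) / 4, by omega⟩
  obtain ⟨u, hu⟩ : ∃ u, x = 2 * u + 1 := ⟨(x - 1) / 2, by omega⟩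
  have hv2 : 2 ≤ v := by omega
  have hu2 : 2 ≤ u := by omega
  have huodd : u % 2 = 1 := by omega
  have hxodd : x % 2 = 1 := by omega
  -- `x ∣ g`
  have hxg : x ∣ g := by
    have hc : Nat.Coprime x 4 := h30_coprime_two_pow x 2 hxodd
    exact (Nat.Coprime.dvd_mul_left hc).mp hxd
  -- `v ∣ g`
  have hvg : v ∣ g := by
    obtain ⟨c', hc'⟩ := hcP
    have h3 : cJ = 4 * (m * c' * v) := by
      have h4 : 4 * cJ = 4 * (4 * (m * c' * v)) := by rw [h1, hv, hc']; ring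
      omega
    rw [h3] at hcJ
    have h5 : m * c' * v ∣ g := Nat.dvd_of_mul_dvd_mul_left (by norm_num) hcJ
    exact (Dvd.intro_left (m * c') rfl).trans h5
  -- `u ∣ g`
  have hug : u ∣ g := by
    have h3 : x ^ 3 - x = u * (2 * x * (x + 1)) := by
      apply Nat.sub_eq_of_eq_add
      rw [hu]; ring
    have h4 : u ∣ 2 ^ 5 * g := by
      have h5 : 2 ^ 5 * g = m ^ 3 * cP * (x ^ 3 - x) := by rw [← h2]; ring
      rw [h5, h3]
      exact ⟨m ^ 3 * cP * (2 * x * (x + 1)), by ring⟩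
    have hc : Nat.Coprime u (2 ^ 5) := h30_coprime_two_pow u 5 huodd
    exact (Nat.Coprime.dvd_mul_left hc).mp h4
  have hxu : Nat.Coprime x u := h30_coprime_of_eq_mul_succ x u 2 hu
  have hxv : Nat.Coprime x v := h30_coprime_of_mul_eq_succ x v 4 (by omega)
  have huv : Nat.Coprime u v := h30_coprime_of_mul_eq_succ u v 2 (by omega)
  rw [← hg] at hxg hvg hug
  exact h30_three_coprime p q a b x u v hp hq (by omega) hu2 hv2 hxg hug hvg hxu hxv huv

end Cfsg.Agent.Lib.helper30.BW
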