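import Mathlib

namespace Cfsg.Agent.Lib.helper30

theorem bruhat_of_card {G : Type*} [Group G] [Finite G] (B U : Subgroup G) (w : G)
    (hUB : U ≤ B) (hU : U ≠ ⊥) (hdisj : ∀ u ∈ U, w * u * w⁻¹ ∈ B → u = 1)
    (hcard : Nat.card B * (1 + Nat.card U) = Nat.card G) :
    ∀ g : G, g ∈ B ∨ ∃ b ∈ B, ∃ u ∈ U, g = b * w * u := by
  classical
  have hw : w ∉ B := by
    intro hwB
    obtain ⟨u0, hu0ne⟩ := (Subgroup.ne_bot_iff_exists_ne_one).mp hU
    have hu0U : (u0 : G) ∈ U := u0.2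
    have h1 : w * (u0 : G) * w⁻¹ ∈ B := B.mul_mem (B.mul_mem hwB (hUB hu0U)) (B.inv_mem hwB)
    have h2 := hdisj _ hu0U h1
    exact hu0ne (Subtype.ext h2)
  let f : B ⊕ (B × U) → G := fun x => match x with
    | Sum.inl b => (b : G)
    | Sum.inr (b, u) => (b : G) * w * (u : G)
  have hinj : Function.Injective f := by
    rintro (b | ⟨b, u⟩) (b' | ⟨b', u'⟩) hxy
    · have : (b : G) = (b' : G) := hxy
      rw [Subtype.ext this]
    · exfalso
      have h1 : (b : G) = (b' : G) * w * (u' : G) := hxy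
      apply hw
      have h2 : w = (b' : G)⁻¹ * (b : G) * (u' : G)⁻¹ := by rw [h1]; group
      rw [h2]
      exact B.mul_mem (B.mul_mem (B.inv_mem b'.2) b.2) (B.inv_mem (hUB u'.2))
    · exfalso
      have h1 : (b : G) * w * (u : G) = (b' : G) := hxy
      apply hw
      have h2 : w = (b : G)⁻¹ * (b' : G) * (u : G)⁻¹ := by rw [← h1]; group
      rw [h2]
      exact B.mul_mem (B.mul_mem (B.inv_mem b.2) b'.2) (B.inv_mem (hUB u.2))
    · have h1 : (b : G) * w * (u : G) = (b' : G) * w * (u' : G) := hxy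
      have h2 : w * ((u : G) * (u' : G)⁻¹) * w⁻¹ = (b : G)⁻¹ * (b' : G) := by
        have : w * (u : G) = (b : G)⁻¹ * ((b' : G) * w * (u' : G)) := by
          rw [← h1]; group
        calc w * ((u : G) * (u' : G)⁻¹) * w⁻¹ = (w * (u : G)) * (u' : G)⁻¹ * w⁻¹ := by group
          _ = (b : G)⁻¹ * ((b' : G) * w * (u' : G)) * (u' : G)⁻¹ * w⁻¹ := by rw [this]
          _ = (b : G)⁻¹ * (b' : G) := by group
      have h3 : (u : G) * (u' : G)⁻¹ = 1 :=
        hdisj _ (U.mul_mem u.2 (U.inv_mem u'.2)) (by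
          rw [h2]; exact B.mul_mem (B.inv_mem b.2) b'.2)
      have h4 : (u : G) = (u' : G) := mul_inv_eq_one.mp h3
      have h5 : (b : G) = (b' : G) := by
        rw [h4] at h1
        exact mul_right_cancel (mul_right_cancel h1)
      rw [Subtype.ext h4, Subtype.ext h5]
  have hcard2 : Nat.card (B ⊕ (B × U)) = Nat.card G := by
    rw [Nat.card_sum, Nat.card_prod, ← hcard]; ring
  have hbij : Function.Bijective f := (Nat.bijective_iff_injective_and_card f).mpr ⟨hinj, hcard2⟩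
  intro g
  obtain ⟨x, hx⟩ := hbij.2 g
  rcases x with b | ⟨b, u⟩
  · left
    have : (b : G) = g := hx
    rw [← this]; exact b.2
  · right
    exact ⟨b, b.2, u, u.2, hx.symm⟩

end Cfsg.Agent.Lib.helper30
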