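import Mathlib
import Cfsg.Agent.S3888
import Cfsg.Agent.Lib.helper30.MetaAutBasic
import Cfsg.Agent.Lib.helper30.RankTwoB
import Cfsg.Agent.Lib.helper15.MaxClass
import Cfsg.Agent.Lib.helper3.PGroupFrattini

/-!
# Chief factors in groups of `p`-rank at most two (odd `p`)

Type-level lemma: a `p`-group `T` of rank at most two (`p` odd) and a normal subgroup `T₀` such
that every characteristic subgroup of `T` is contained in `T₀` or supplements it: then
`|T : T₀| ≤ p ^ 2`.
-/

set_option autoImplicit false

namespace Cfsg.Agent.Lib.helper30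

open scoped commutatorElement

/-- A cyclic group of exponent dividing `p` has at most `p` elements. -/
theorem card_le_of_isCyclic_of_exp (p : ℕ) [Fact p.Prime] {C : Type*} [Group C] [IsCyclic C]
    (hexp : ∀ c : C, c ^ p = 1) : Nat.card C ≤ p := by
  obtain ⟨g, hg⟩ := IsCyclic.exists_generator (α := C)
  have h1 : orderOf g = Nat.card C := orderOf_eq_card_of_forall_mem_zpowers hg
  rw [← h1]
  exact Nat.le_of_dvd (Fact.out : p.Prime).pos (orderOf_dvd_of_pow_eq_one (hexp g))

/-- A metacyclic group of exponent dividing `p` has at most `p ^ 2` elements. -/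
theorem card_le_sq_of_isMetacyclic_of_exp (p : ℕ) [Fact p.Prime] {Q : Type*} [Group Q] [Finite Q]
    (h : Cfsg.IsMetacyclic Q) (hexp : ∀ q : Q, q ^ p = 1) : Nat.card Q ≤ p ^ 2 := by
  obtain ⟨N, hN, hNc, hQc⟩ := h
  have h1 : Nat.card N ≤ p := by
    have := hNc
    exact card_le_of_isCyclic_of_exp p (fun c => Subtype.ext (by simpa using hexp c.1))
  have h2 : Nat.card (Q ⧸ N) ≤ p := by
    have := hQc
    refine card_le_of_isCyclic_of_exp p (fun c => ?_)
    induction c using QuotientGroup.induction_on with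
    | H c => rw [← QuotientGroup.mk_pow, hexp]; rfl
  rw [Subgroup.card_eq_card_quotient_mul_card_subgroup N, sq]
  exact Nat.mul_le_mul h2 h1

/-- A commutative group of exponent dividing `p` generated by two elements has at most `p ^ 2`
elements. -/
theorem card_le_sq_of_closure_pair (p : ℕ) [Fact p.Prime] {Q : Type*} [CommGroup Q]
    (hexp : ∀ q : Q, q ^ p = 1) (u v : Q) (huv : Subgroup.closure ({u, v} : Set Q) = ⊤) :
    Nat.card Q ≤ p ^ 2 := by
  have hp : p.Prime := Fact.out
  have hp0 : (p : ℤ) ≠ 0 := by exact_mod_cast hp.ne_zero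
  have hpos : (0 : ℤ) < p := by exact_mod_cast hp.pos
  have key : ∀ (w : Q) (m : ℤ), ∃ i : Fin p, w ^ m = w ^ (i : ℕ) := by
    intro w m
    have h1 : w ^ m = w ^ (m % (p : ℤ)) := zpow_eq_zpow_emod' m (hexp w)
    have h2 : 0 ≤ m % (p : ℤ) := Int.emod_nonneg m hp0
    have h3 : m % (p : ℤ) < p := Int.emod_lt_of_pos m hpos
    refine ⟨⟨(m % (p : ℤ)).toNat, by omega⟩, ?_⟩
    rw [h1]
    conv_lhs => rw [← Int.toNat_of_nonneg h2]
    rw [zpow_natCast]
  have hsurj : Function.Surjective
      (fun ij : Fin p × Fin p => u ^ (ij.1 : ℕ) * v ^ (ij.2 : ℕ)) := by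
    intro q
    have hq : q ∈ Subgroup.closure ({u, v} : Set Q) := by rw [huv]; trivial
    rw [Subgroup.mem_closure_pair] at hq
    obtain ⟨m, n, rfl⟩ := hq
    obtain ⟨i, hi⟩ := key u m
    obtain ⟨j, hj⟩ := key v n
    exact ⟨(i, j), by simp only [hi, hj]⟩
  have h := Nat.card_le_card_of_surjective _ hsurj
  simpa [Nat.card_prod, sq] using h

/-- If the quotient `T ⧸ T₀` is abelian of exponent `p` and generated by the images of two
elements, then `|T : T₀| ≤ p ^ 2`. -/
theorem index_le_sq_of_gen_two (p : ℕ) [Fact p.Prime] {T : Type*} [Group T]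
    (T₀ : Subgroup T) [T₀.Normal] (hcomm : ∀ x y : T, ⁅x, y⁆ ∈ T₀) (hpow : ∀ x : T, x ^ p ∈ T₀)
    (u v : T) (huv : Subgroup.closure ({u, v} : Set T) ⊔ T₀ = ⊤) : T₀.index ≤ p ^ 2 := by
  let _ : CommGroup (T ⧸ T₀) :=
    { (inferInstance : Group (T ⧸ T₀)) with
      mul_comm := by
        intro a b
        induction a using QuotientGroup.induction_on with
        | H a =>
          induction b using QuotientGroup.induction_on with
          | H b =>
            rw [← QuotientGroup.mk_mul, ← QuotientGroup.mk_mul, QuotientGroup.eq]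
            have h := hcomm b⁻¹ a⁻¹
            rw [commutatorElement_def] at h
            simpa [mul_assoc] using h }
  rw [Subgroup.index_eq_card]
  refine card_le_sq_of_closure_pair p ?_ (QuotientGroup.mk' T₀ u) (QuotientGroup.mk' T₀ v) ?_
  · intro q
    induction q using QuotientGroup.induction_on with
    | H t =>
      rw [← QuotientGroup.mk_pow]
      exact (QuotientGroup.eq_one_iff _).mpr (hpow t)
  · have h1 : Subgroup.map (QuotientGroup.mk' T₀) (Subgroup.closure ({u, v} : Set T) ⊔ T₀) = ⊤ := by
      rw [huv]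
      exact Subgroup.map_top_of_surjective _ (QuotientGroup.mk'_surjective T₀)
    rw [Subgroup.map_sup, QuotientGroup.map_mk'_self, sup_bot_eq, MonoidHom.map_closure,
      Set.image_pair] at h1
    exact h1

/-- A surjection from a finite commutative group `Z` onto a group of exponent `p` has image of
order at most `|Ω₁(Z)|`. -/
theorem card_le_card_ker_pow (p : ℕ) {Z : Type*} [Group Z] [Finite Z]
    (hZ : ∀ a b : Z, a * b = b * a) {Q : Type*} [Group Q]
    (φ : Z →* Q) (hφ : Function.Surjective φ) (hexp : ∀ q : Q, q ^ p = 1) :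
    Nat.card Q ≤ Nat.card {z : Z // z ^ p = 1} := by
  obtain ⟨ψ, hψ⟩ : ∃ ψ : Z →* Z, ∀ z, ψ z = z ^ p :=
    ⟨MonoidHom.mk' (fun z => z ^ p) (fun a b => Commute.mul_pow (hZ a b) p), fun _ => rfl⟩
  have h1 : ψ.range ≤ φ.ker := by
    rintro _ ⟨w, rfl⟩
    rw [MonoidHom.mem_ker, hψ, map_pow]
    exact hexp _
  have h2 : φ.ker.index = Nat.card Q := by
    rw [Subgroup.index_ker, MonoidHom.range_eq_top.mpr hφ, Subgroup.card_top]
  have h3 : φ.ker.index ∣ ψ.range.index := Subgroup.index_dvd_of_le h1
  have h4 : ψ.range.index ≠ 0 := Subgroup.index_ne_zero_of_finite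
  have h5 : ψ.range.index = Nat.card ψ.ker := by
    have a := Subgroup.card_mul_index ψ.ker
    have b := Subgroup.card_mul_index ψ.range
    rw [Subgroup.index_ker] at a
    have hpos : 0 < Nat.card ψ.range := Nat.card_pos
    have : Nat.card ψ.range * ψ.range.index = Nat.card ψ.range * Nat.card ψ.ker := by
      rw [b, mul_comm, a]
    exact Nat.eq_of_mul_eq_mul_left hpos this
  have h6 : Nat.card ψ.ker = Nat.card {z : Z // z ^ p = 1} :=
    Nat.card_congr (Equiv.subtypeEquivRight (fun z => by rw [MonoidHom.mem_ker, hψ]))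
  rw [← h2, ← h6, ← h5]
  exact Nat.le_of_dvd (Nat.pos_of_ne_zero h4) h3

/-- If `T = Z(T) T₀` with `T ⧸ T₀` of exponent `p` and `T` of `p`-rank at most two, then
`|T : T₀| ≤ p ^ 2`. -/
theorem index_le_sq_of_center_sup (p : ℕ) [Fact p.Prime] {T : Type*} [Group T] [Finite T]
    (hr : Cfsg.PRankLE p 2 T) (T₀ : Subgroup T) [T₀.Normal] (hpow : ∀ x : T, x ^ p ∈ T₀)
    (hc : Subgroup.center T ⊔ T₀ = ⊤) : T₀.index ≤ p ^ 2 := by
  let φ : Subgroup.center T →* T ⧸ T₀ := (QuotientGroup.mk' T₀).comp (Subgroup.center T).subtype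
  have hφ : Function.Surjective φ := by
    intro q
    induction q using QuotientGroup.induction_on with
    | H t =>
      have ht : t ∈ Subgroup.center T ⊔ T₀ := by rw [hc]; trivial
      rw [Subgroup.mem_sup_of_normal_right] at ht
      obtain ⟨z, hz, s, hs, rfl⟩ := ht
      refine ⟨⟨z, hz⟩, ?_⟩
      change (QuotientGroup.mk z : T ⧸ T₀) = QuotientGroup.mk (z * s)
      exact (QuotientGroup.mk_mul_of_mem z hs).symm
  have hexp : ∀ q : T ⧸ T₀, q ^ p = 1 := by
    intro q
    induction q using QuotientGroup.induction_on with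
    | H t =>
      rw [← QuotientGroup.mk_pow]
      exact (QuotientGroup.eq_one_iff _).mpr (hpow t)
  have hZ : ∀ a b : Subgroup.center T, a * b = b * a := fun a b =>
    Subtype.ext (Subgroup.mem_center_iff.mp b.2 a.1)
  have h1 := card_le_card_ker_pow p hZ φ hφ hexp
  rw [Subgroup.index_eq_card]
  refine h1.trans ?_
  let A : Subgroup T :=
    { carrier := {t | t ∈ Subgroup.center T ∧ t ^ p = 1}
      mul_mem' := by
        rintro a b ⟨ha, hap⟩ ⟨hb, hbp⟩
        refine ⟨mul_mem ha hb, ?_⟩
        have hcm : Commute a b := Subgroup.mem_center_iff.mp hb a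
        rw [hcm.mul_pow, hap, hbp, mul_one]
      one_mem' := ⟨one_mem _, one_pow p⟩
      inv_mem' := by
        rintro a ⟨ha, hap⟩
        exact ⟨inv_mem ha, by rw [inv_pow, hap, inv_one]⟩ }
  have hmemA : ∀ t : T, t ∈ A ↔ t ∈ Subgroup.center T ∧ t ^ p = 1 := fun t => Iff.rfl
  have hcard : Nat.card {z : Subgroup.center T // z ^ p = 1} ≤ Nat.card A := by
    refine Nat.card_le_card_of_injective
      (fun z => (⟨z.1.1, (hmemA _).mpr ⟨z.1.2, by
        have := congrArg Subtype.val z.2
        simpa using this⟩⟩ : A)) ?_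
    intro z w hzw
    have h := congrArg Subtype.val hzw
    exact Subtype.ext (Subtype.ext h)
  refine hcard.trans ?_
  refine hr A ⟨⟨fun a b => ?_⟩⟩ ?_
  · apply Subtype.ext
    exact Subgroup.mem_center_iff.mp ((hmemA _).mp b.2).1 a.1
  · intro a ha
    exact ((hmemA a).mp ha).2

/-- A group of order `p ^ n` with `γ_{n-1} ≠ 1` (maximal class) has `|T : T'| ≤ p ^ 2`. -/
theorem index_commutator_le_sq_of_lcs (p : ℕ) [Fact p.Prime] {T : Type*} [Group T] [Finite T]
    (n : ℕ) (hT : Nat.card T = p ^ n) (hn : 2 ≤ n)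
    (hl : (⊤ : Subgroup T).lowerCentralSeries (n - 2) ≠ ⊥) : (commutator T).index ≤ p ^ 2 := by
  have hpp : p.Prime := Fact.out
  have hTp : IsPGroup p T := IsPGroup.of_card hT
  have : Group.IsNilpotent T := hTp.isNilpotent
  rcases Nat.lt_or_ge n 3 with h3 | h3
  · have h2 : n = 2 := by omega
    subst h2
    rw [← hT]
    exact Nat.le_of_dvd Nat.card_pos (Subgroup.index_dvd_card _)
  have key : ∀ j : ℕ, j + 3 ≤ n →
      p ^ (j + 1) ≤ Nat.card ((⊤ : Subgroup T).lowerCentralSeries (n - 2 - j)) := by
    intro j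
    induction j with
    | zero =>
      intro _
      rw [Nat.sub_zero, zero_add, pow_one]
      have hP : IsPGroup p ((⊤ : Subgroup T).lowerCentralSeries (n - 2)) := hTp.to_subgroup _
      obtain ⟨m, hm⟩ := (IsPGroup.iff_card).mp hP
      rw [hm]
      rcases Nat.eq_zero_or_pos m with rfl | hmpos
      · exfalso
        rw [pow_zero] at hm
        exact hl ((Subgroup.card_eq_one).mp hm)
      · calc p = p ^ 1 := (pow_one p).symm
          _ ≤ p ^ m := Nat.pow_le_pow_right hpp.pos hmpos
    | succ j ih =>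
      intro hj
      have ih' := ih (by omega)
      obtain ⟨k, hk⟩ : ∃ k : ℕ, k = n - 2 - (j + 1) := ⟨_, rfl⟩
      have hk1 : n - 2 - j = k + 1 := by omega
      rw [hk1] at ih'
      rw [← hk]
      have hne : (⊤ : Subgroup T).lowerCentralSeries (k + 1) ≠
          (⊤ : Subgroup T).lowerCentralSeries k := by
        intro heq
        have hbot := Cfsg.Agent.Lib.helper15.MaxClass.lcs_eq_bot_of_succ_eq k heq
        rw [heq, hbot, Subgroup.card_bot] at ih'
        have : 1 < p ^ (j + 1) := Nat.one_lt_pow (by omega) hpp.one_lt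
        omega
      have hle : (⊤ : Subgroup T).lowerCentralSeries (k + 1) ≤
          (⊤ : Subgroup T).lowerCentralSeries k :=
        Subgroup.lowerCentralSeries_antitone _ (Nat.le_succ k)
      have hdvd := Cfsg.Agent.Lib.helper15.MaxClass.p_dvd_relIndex hT hle hne
      have hmul : Nat.card ((⊤ : Subgroup T).lowerCentralSeries (k + 1)) *
          ((⊤ : Subgroup T).lowerCentralSeries (k + 1)).relIndex
            ((⊤ : Subgroup T).lowerCentralSeries k) =
          Nat.card ((⊤ : Subgroup T).lowerCentralSeries k) := by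
        have := Subgroup.relIndex_mul_relIndex _ _ _ (bot_le :
          (⊥ : Subgroup T) ≤ (⊤ : Subgroup T).lowerCentralSeries (k + 1)) hle
        rwa [Subgroup.relIndex_bot_left, Subgroup.relIndex_bot_left] at this
      have hpos : 0 < ((⊤ : Subgroup T).lowerCentralSeries (k + 1)).relIndex
          ((⊤ : Subgroup T).lowerCentralSeries k) := by
        apply Nat.pos_of_ne_zero
        intro h0
        rw [h0, mul_zero] at hmul
        exact (Nat.card_pos (α := ↥((⊤ : Subgroup T).lowerCentralSeries k))).ne hmul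
      have hpl := Nat.le_of_dvd hpos hdvd
      rw [← hmul, pow_succ]
      exact Nat.mul_le_mul ih' hpl
  have h1 := key (n - 3) (by omega)
  have h2 : n - 2 - (n - 3) = 1 := by omega
  rw [h2, Subgroup.top_lowerCentralSeries_one] at h1
  have h3' := Subgroup.card_mul_index (commutator T)
  rw [hT] at h3'
  have h4 : n - 3 + 1 = n - 2 := by omega
  rw [h4] at h1
  have h5 : p ^ n = p ^ (n - 2) * p ^ 2 := by rw [← pow_add]; congr 1; omega
  by_contra hcon
  push Not at hcon
  have h6 : p ^ (n - 2) * p ^ 2 < Nat.card (commutator T) * (commutator T).index :=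
    Nat.mul_lt_mul_of_le_of_lt h1 hcon Nat.card_pos
  rw [h3', ← h5] at h6
  exact lt_irrefl _ h6

/-- **Main type-level lemma.** Let `T` be a `p`-group of `p`-rank at most two (`p` odd) and `T₀`
a normal subgroup such that every characteristic subgroup of `T` either lies in `T₀` or
supplements `T₀`. Then `|T : T₀| ≤ p ^ 2`. -/
theorem index_le_sq_of_char_supplement (p : ℕ) [Fact p.Prime] (hp : p ≠ 2) {T : Type*} [Group T]
    [Finite T] (hT : IsPGroup p T) (hr : Cfsg.PRankLE p 2 T) (T₀ : Subgroup T) [T₀.Normal]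
    (hchar : ∀ L : Subgroup T, L.Characteristic → L ≤ T₀ ∨ L ⊔ T₀ = ⊤) : T₀.index ≤ p ^ 2 := by
  have hpp : p.Prime := Fact.out
  by_cases htop : T₀ = ⊤
  · rw [htop, Subgroup.index_top]
    exact Nat.one_le_pow _ _ hpp.pos
  have hfr : frattini T ≤ T₀ := by
    rcases hchar (frattini T) inferInstance with h | h
    · exact h
    · exact absurd (frattini_nongenerating (by rwa [sup_comm] at h)) htop
  have hcomm : ∀ x y : T, ⁅x, y⁆ ∈ T₀ := fun x y =>
    hfr (Cfsg.Agent.Lib.helper3.commutator_le_frattini hT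
      (Subgroup.commutator_mem_commutator (Subgroup.mem_top x) (Subgroup.mem_top y)))
  have hpow : ∀ x : T, x ^ p ∈ T₀ := fun x =>
    hfr (Cfsg.Agent.Lib.helper3.pow_prime_mem_frattini hT x)
  have hcen := hchar (Subgroup.center T) inferInstance
  obtain ⟨n, hn⟩ := (IsPGroup.iff_card).mp hT
  rcases Cfsg.Agent.S3888.result hp n hn hr with hm |
    ⟨h3, x, y, z, hgen, hx, hy, hz, hxz, hyz, hxy⟩ |
    ⟨h4, s, x, y, z, hs, hgen, hx, hy, hz, hyz, hxy, hxz⟩ | ⟨hp3, hn2, hl⟩
  · -- metacyclic
    rw [Subgroup.index_eq_card]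
    refine card_le_sq_of_isMetacyclic_of_exp p (isMetacyclic_quotient hm T₀) ?_
    intro q
    induction q using QuotientGroup.induction_on with
    | H t =>
      rw [← QuotientGroup.mk_pow]
      exact (QuotientGroup.eq_one_iff _).mpr (hpow t)
  · -- central `z`
    rcases hcen with hc | hc
    · have hzc : z ∈ Subgroup.center T := by
        rw [Subgroup.mem_center_iff]
        intro g
        have hg : g ∈ Subgroup.closure ({x, y, z} : Set T) := by rw [hgen]; trivial
        have hle : Subgroup.closure ({x, y, z} : Set T) ≤ Subgroup.centralizer {z} := by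
          rw [Subgroup.closure_le]
          intro w hw
          rw [SetLike.mem_coe, Subgroup.mem_centralizer_iff]
          intro h hh
          rw [Set.mem_singleton_iff] at hh
          subst hh
          rcases hw with rfl | rfl | rfl
          · exact hxz.symm
          · exact hyz.symm
          · rfl
        have := Subgroup.mem_centralizer_iff.mp (hle hg) z (Set.mem_singleton z)
        exact this.symm
      refine index_le_sq_of_gen_two p T₀ hcomm hpow x y ?_
      rw [eq_top_iff, ← hgen, Subgroup.closure_le]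
      intro w hw
      rcases hw with rfl | rfl | rfl
      · exact Subgroup.mem_sup_left (Subgroup.subset_closure (by simp))
      · exact Subgroup.mem_sup_left (Subgroup.subset_closure (by simp))
      · exact Subgroup.mem_sup_right (hc hzc)
    · exact index_le_sq_of_center_sup p hr T₀ hpow hc
  · -- `y` is a commutator
    have hyT : y ∈ T₀ := by
      have h := hcomm x⁻¹ z
      rw [commutatorElement_def, inv_inv, hxz] at h
      simpa using h
    refine index_le_sq_of_gen_two p T₀ hcomm hpow x z ?_
    rw [eq_top_iff, ← hgen, Subgroup.closure_le]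
    intro w hw
    rcases hw with rfl | rfl | rfl
    · exact Subgroup.mem_sup_left (Subgroup.subset_closure (by simp))
    · exact Subgroup.mem_sup_right hyT
    · exact Subgroup.mem_sup_left (Subgroup.subset_closure (by simp))
  · -- maximal class
    have h1 := index_commutator_le_sq_of_lcs p n hn hn2 hl
    have h2 : commutator T ≤ T₀ := by
      rw [commutator_def, Subgroup.commutator_le]
      intro a _ b _
      exact hcomm a b
    have h3 := Subgroup.index_dvd_of_le h2
    exact (Nat.le_of_dvd (Nat.pos_of_ne_zero Subgroup.index_ne_zero_of_finite) h3).trans h1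

/-- A characteristic subgroup of `N`, viewed in `G`, is normalized by the normalizer of `N`. -/
theorem normalizer_le_normalizer_map_char {G : Type*} [Group G] (N : Subgroup G)
    (L : Subgroup N) (hL : L.Characteristic) :
    Subgroup.normalizer (N : Set G) ≤ Subgroup.normalizer ((L.map N.subtype : Subgroup G) : Set G) := by
  rw [Subgroup.le_normalizer_iff]
  rintro g hg _ ⟨k, hk, rfl⟩
  have h1 : L.map (N.normalizerMonoidHom ⟨g, hg⟩).toMonoidHom = L :=
    Subgroup.characteristic_iff_map_eq.mp hL _
  have h2 : (N.normalizerMonoidHom ⟨g, hg⟩) k ∈ L := by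
    rw [← h1]
    exact Subgroup.mem_map_of_mem _ hk
  refine ⟨_, h2, ?_⟩
  simp

end Cfsg.Agent.Lib.helper30
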