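import Cfsg.Agent.Lib.helper30.CseL

/-!
Centralizer of a normal subsystem, part (b) (helper30): `Y = C_S(E)` is strongly closed and every
map of `F` on a subgroup `A` of `Y` extends to `A T`.
-/

set_option autoImplicit false

namespace Cfsg.Agent.Lib.helper30.CseClosed

open Cfsg Cfsg.FusionSystem
open Cfsg.Agent.Lib.helper88

variable {Ω : Type*} [Group Ω] {S : Subgroup Ω}

/-- Every map `ν` of `F` on `U ≤ S` satisfies the claim: its restriction to `U ∩ Y` extends to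
`T (U ∩ Y)`. -/
theorem claim_all [Finite S] {p : ℕ} [Fact p.Prime] (hS : IsPGroup p S) (F : FusionSystem S)
    (hF : F.IsSaturated p) {T : Subgroup Ω} (E : FusionSystem T) (hinv : E.IsInvariantIn F)
    (Y : Subgroup Ω) (hY : Y ≤ centralizerIn S T)
    (hEY : ∀ P : Subgroup Ω, E.Hom P ⊆ F.centralizerHom Y P)
    (hmax : ∀ Y' : Subgroup Ω, Y' ≤ centralizerIn S T →
      (∀ P : Subgroup Ω, E.Hom P ⊆ F.centralizerHom Y' P) → Y' ≤ Y) :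
    ∀ (n : ℕ) (U : Subgroup Ω) (ν : Ω → Ω), MapOn F U ν →
      Nat.card T - Nat.card ↥(U ⊓ T) = n → Claim F T Y U ν := by
  classical
  have hT := hinv.2.1
  have hTS : T ≤ S := hT.1
  have hTfin : Finite T := finite_of_le hTS
  have hTn : ∀ g ∈ S, ∀ t ∈ T, g * t * g⁻¹ ∈ T :=
    fun g hg t ht => Cfsg.Agent.Lib.helper89.conj_mem_of_stronglyClosed F hT hg ht
  intro n
  induction n using Nat.strong_induction_on with
  | _ n ih =>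
  intro U ν hν hn
  have IH : ∀ (W : Subgroup Ω) (ν' : Ω → Ω), MapOn F W ν' →
      Nat.card ↥(U ⊓ T) < Nat.card ↥(W ⊓ T) → Claim F T Y W ν' := by
    intro W ν' hν' hlt
    refine ih (Nat.card T - Nat.card ↥(W ⊓ T)) ?_ W ν' hν' rfl
    have h1 : Nat.card ↥(W ⊓ T) ≤ Nat.card T := Subgroup.card_le_of_le inf_le_right
    omega
  by_cases hTU : T ≤ U
  · exact ⟨ν, hν.restrict (sup_le hTU inf_le_left), fun x _ => rfl⟩
  -- reduce to `U₁ = (U ∩ T)(U ∩ Y)`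
  have hU₁U : (U ⊓ T) ⊔ (U ⊓ Y) ≤ U := sup_le inf_le_left inf_le_left
  have hU₁T : ((U ⊓ T) ⊔ (U ⊓ Y)) ⊓ T = U ⊓ T :=
    le_antisymm (inf_le_inf_right T hU₁U) (le_inf le_sup_left inf_le_right)
  have hU₁Y : ((U ⊓ T) ⊔ (U ⊓ Y)) ⊓ Y = U ⊓ Y :=
    le_antisymm (inf_le_inf_right Y hU₁U) (le_inf le_sup_right inf_le_right)
  suffices h : Claim F T Y ((U ⊓ T) ⊔ (U ⊓ Y)) ν by
    obtain ⟨ψ, hψ, hψ'⟩ := h
    rw [hU₁Y] at hψ hψ'
    exact ⟨ψ, hψ, hψ'⟩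
  generalize hU₁def : (U ⊓ T) ⊔ (U ⊓ Y) = U₁ at hU₁U hU₁T hU₁Y ⊢
  have hν₁ : MapOn F U₁ ν := hν.restrict hU₁U
  have IH₁ : ∀ (W : Subgroup Ω) (ν' : Ω → Ω), MapOn F W ν' →
      Nat.card ↥(U₁ ⊓ T) < Nat.card ↥(W ⊓ T) → Claim F T Y W ν' := by
    rw [hU₁T]
    exact IH
  have hTU₁ : ¬ T ≤ U₁ := fun h => hTU (h.trans hU₁U)
  have hU₁dec : U₁ ≤ (U₁ ⊓ T) ⊔ (U₁ ⊓ Y) := by
    rw [hU₁T, hU₁Y, hU₁def]
  have hU₁S : U₁ ≤ S := hν₁.le
  have hU₁N : U₁ ≤ normalizerIn S U₁ := le_normalizerIn hU₁S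
  -- a fully normalized conjugate
  obtain ⟨Us, hconj, hfn⟩ := exists_fullyNormalized_conj F hU₁S
  obtain ⟨φ1, hφ1, hφ1'⟩ := exists_map_normalizer_of_fullyNormalized hS F hF hfn hconj
  have hμ1 : MapOn F (normalizerIn S U₁) (extFun φ1) := mapOn_extFun F hφ1
  have hμ1U : MapOn F U₁ (extFun φ1) := hμ1.restrict hU₁N
  have e1 : img (extFun φ1) U₁ = Us := (img_extFun_eq hU₁N hφ1).trans hφ1'
  -- Step A: the claim for μ1
  obtain ⟨w, hwT, hwN, hwU⟩ :=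
    Cfsg.Agent.Lib.helper89.exists_normalizing_not_mem hS hTS hU₁S hTn hTU₁
  have hfinN : ∀ R : Subgroup Ω, Finite ↥(normalizerIn S R ⊓ T) :=
    fun R => finite_of_le (inf_le_left.trans inf_le_left)
  have hcard1 : Nat.card ↥(U₁ ⊓ T) < Nat.card ↥(normalizerIn S U₁ ⊓ T) := by
    have := hfinN U₁
    exact card_lt_of_mem_of_notMem (inf_le_inf_right T hU₁N) (x := w)
      ⟨⟨hTS hwT, hwN⟩, hwT⟩ (fun h => hwU h.1)
  obtain ⟨ψ1, hψ1, hψ1'⟩ := IH₁ _ _ hμ1 hcard1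
  have hμ1Y : ∀ y ∈ U₁ ⊓ Y, extFun φ1 y ∈ Y := by
    intro y hy
    have hyN : y ∈ normalizerIn S U₁ ⊓ Y := ⟨hU₁N hy.1, hy.2⟩
    rw [← hψ1' y hyN]
    exact tr F E hinv Y hY hEY hmax inf_le_right hψ1 y hyN
  have hUsdec : Us ≤ (Us ⊓ T) ⊔ (Us ⊓ Y) := by
    intro z hz
    rw [← e1] at hz
    obtain ⟨u, hu, rfl⟩ := hμ1U.mem_img.mp hz
    have hm : MapOn F ((U₁ ⊓ T) ⊔ (U₁ ⊓ Y)) (extFun φ1) :=
      hμ1U.restrict (sup_le inf_le_left inf_le_left)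
    refine hm.forall_mem_sup _ (fun x hx => Subgroup.mem_sup_left ?_)
      (fun x hx => Subgroup.mem_sup_right ?_) u (hU₁dec hu)
    · exact ⟨e1 ▸ hμ1U.img_mem hx.1, hμ1U.sc hT hx.1 hx.2⟩
    · exact ⟨e1 ▸ hμ1U.img_mem hx.1, hμ1Y x hx⟩
  -- the map μ2 on the normalizer of the image of ν
  have hVS : img ν U₁ ≤ S := hν₁.img_le
  have hVN : img ν U₁ ≤ normalizerIn S (img ν U₁) := le_normalizerIn hVS
  have hconjV : F.IsConj (img ν U₁) Us := isConj_trans F (isConj_symm F hν₁.isConj) hconj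
  obtain ⟨φ2, hφ2, hφ2'⟩ := exists_map_normalizer_of_fullyNormalized hS F hF hfn hconjV
  have hμ2 : MapOn F (normalizerIn S (img ν U₁)) (extFun φ2) := mapOn_extFun F hφ2
  have hμ2V : MapOn F (img ν U₁) (extFun φ2) := hμ2.restrict hVN
  have e2' : img (extFun φ2) (img ν U₁) = Us := (img_extFun_eq hVN hφ2).trans hφ2'
  have hρ2 : MapOn F U₁ (fun x => extFun φ2 (ν x)) :=
    hν₁.comp hμ2 (fun x hx => hVN (hν₁.img_mem hx))
  have e2 : img (fun x => extFun φ2 (ν x)) U₁ = Us := by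
    rw [← e2']
    ext y
    rw [hρ2.mem_img, hμ2V.mem_img]
    constructor
    · rintro ⟨x, hx, rfl⟩
      exact ⟨ν x, hν₁.img_mem hx, rfl⟩
    · rintro ⟨v, hv, rfl⟩
      obtain ⟨x, hx, rfl⟩ := hν₁.mem_img.mp hv
      exact ⟨x, hx, rfl⟩
  -- Step L
  obtain ⟨ψL, hψL, hψL'⟩ := lemL hS F hF E hinv Y hY hEY hmax IH₁ hU₁dec hTU₁ hρ2
    (e2 ▸ hfn) (by rw [e2]; exact hUsdec)
  replace hψL' : ∀ x ∈ U₁ ⊓ Y, ψL x = extFun φ2 (ν x) := hψL'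
  have hρ2Y : ∀ y ∈ U₁ ⊓ Y, extFun φ2 (ν y) ∈ Y := by
    intro y hy
    rw [← hψL' y hy]
    exact tr F E hinv Y hY hEY hmax inf_le_right hψL y hy
  -- Step B: the claim for the inverse of μ2
  obtain ⟨μ2inv, hμ2inv, hμ2inv'⟩ := hμ2.exists_inv'
  obtain ⟨w', hw'T, hw'N, hw'V⟩ :=
    Cfsg.Agent.Lib.helper89.exists_normalizing_not_mem hS hTS hVS hTn (hν₁.not_le_img hT hTU₁)
  have hcard2 : Nat.card ↥(U₁ ⊓ T) <
      Nat.card ↥(img (extFun φ2) (normalizerIn S (img ν U₁)) ⊓ T) := by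
    rw [hμ2.card_img_inf hT, ← hν₁.card_img_inf hT]
    have := hfinN (img ν U₁)
    exact card_lt_of_mem_of_notMem (inf_le_inf_right T hVN) (x := w')
      ⟨⟨hTS hw'T, hw'N⟩, hw'T⟩ (fun h => hw'V h.1)
  obtain ⟨ψ2, hψ2, hψ2'⟩ := IH₁ _ _ hμ2inv hcard2
  have hmem : ∀ y ∈ U₁ ⊓ Y, extFun φ2 (ν y) ∈
      img (extFun φ2) (normalizerIn S (img ν U₁)) ⊓ Y :=
    fun y hy => ⟨hμ2.img_mem (hVN (hν₁.img_mem hy.1)), hρ2Y y hy⟩
  refine ⟨fun x => ψ2 (ψL x), hψL.comp hψ2 ?_, fun x hx => ?_⟩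
  · refine hψL.forall_mem_sup _
      (fun x hx => Subgroup.mem_sup_left (hψL.sc hT (Subgroup.mem_sup_left hx) hx))
      (fun y hy => Subgroup.mem_sup_right ?_)
    rw [hψL' y hy]
    exact hmem y hy
  · show ψ2 (ψL x) = ν x
    rw [hψL' x hx, hψ2' _ (hmem x hx), hμ2inv' _ (hVN (hν₁.img_mem hx.1))]

/-- Part (b) of S5127/S5155: `Y = C_S(E)` is strongly closed in `F`, and every map of `F` on a
subgroup `A` of `Y` extends to a map of `F` on `A T`. -/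
theorem cse_closed [Finite S] (p : ℕ) [Fact p.Prime] (hS : IsPGroup p S) (F : FusionSystem S)
    (hF : F.IsSaturated p) {T : Subgroup Ω} (E : FusionSystem T) (hE : E.IsNormalIn F p)
    (Y : Subgroup Ω) (hY : Y ≤ centralizerIn S T)
    (hEY : ∀ P : Subgroup Ω, E.Hom P ⊆ F.centralizerHom Y P)
    (hmax : ∀ Y' : Subgroup Ω, Y' ≤ centralizerIn S T →
      (∀ P : Subgroup Ω, E.Hom P ⊆ F.centralizerHom Y' P) → Y' ≤ Y) :
    F.StronglyClosed Y ∧ ∀ A : Subgroup Ω, A ≤ Y → ∀ φ ∈ F.Hom A,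
      ∃ ψ ∈ F.Hom (A ⊔ T), ∀ x : A, ψ (Subgroup.inclusion le_sup_left x) = φ x := by
  have hinv : E.IsInvariantIn F := hE.1.2.2
  have hclaim : ∀ (U : Subgroup Ω) (ν : Ω → Ω), MapOn F U ν → Claim F T Y U ν :=
    fun U ν hν => claim_all hS F hF E hinv Y hY hEY hmax _ U ν hν rfl
  constructor
  · refine ⟨hY.trans inf_le_left, fun R hR φ hφ x => ?_⟩
    obtain ⟨ψ, hψ, hψ'⟩ := hclaim R (extFun φ) (mapOn_extFun F hφ)
    have hx : (x : Ω) ∈ R ⊓ Y := ⟨x.2, hR x.2⟩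
    have h1 := tr F E hinv Y hY hEY hmax inf_le_right hψ x hx
    rwa [hψ' x hx, extFun_coe] at h1
  · intro A hA φ hφ
    obtain ⟨ψ, hψ, hψ'⟩ := hclaim A (extFun φ) (mapOn_extFun F hφ)
    have hle : A ⊔ T ≤ T ⊔ (A ⊓ Y) := sup_le (le_sup_of_le_right (le_inf le_rfl hA)) le_sup_left
    obtain ⟨ψ₀, hψ₀, hψ₀'⟩ := hψ.restrict hle
    refine ⟨ψ₀, hψ₀, fun x => ?_⟩
    rw [hψ₀', ← extFun_coe φ x]
    exact hψ' x ⟨x.2, hA x.2⟩

end Cfsg.Agent.Lib.helper30.CseClosed
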