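import Cfsg.Agent.Lib.helper30.CseTR

/-!
Centralizer of a normal subsystem, part (b) (helper30): the key step of the induction.
-/

set_option autoImplicit false

namespace Cfsg.Agent.Lib.helper30.CseClosed

open Cfsg Cfsg.FusionSystem
open Cfsg.Agent.Lib.helper88

variable {Ω : Type*} [Group Ω] {S : Subgroup Ω}

/-- The restriction of `ν` to `U ∩ Y` extends to a map of the system on `T (U ∩ Y)`. -/
def Claim (F : FusionSystem S) (T Y U : Subgroup Ω) (ν : Ω → Ω) : Prop :=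
  ∃ ψ, MapOn F (T ⊔ (U ⊓ Y)) ψ ∧ ∀ x ∈ U ⊓ Y, ψ x = ν x

theorem MapOn.isConj {F : FusionSystem S} {U : Subgroup Ω} {f : Ω → Ω} (h : MapOn F U f) :
    F.IsConj U (img f U) := by
  have hm := fun y => h.mem_img (y := y)
  obtain ⟨φ, hφ, hf⟩ := h
  refine ⟨φ, hφ, ?_⟩
  ext y
  rw [hm]
  constructor
  · rintro ⟨x, rfl⟩
    exact ⟨x, x.2, (hf x).symm⟩
  · rintro ⟨x, hx, rfl⟩
    exact ⟨⟨x, hx⟩, hf ⟨x, hx⟩⟩

theorem img_extFun_eq {F : FusionSystem S} {N U : Subgroup Ω} (hUN : U ≤ N) {φ : N →* Ω}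
    (hφ : φ ∈ F.Hom N) : img (extFun φ) U = (U.subgroupOf N).map φ := by
  ext y
  rw [((mapOn_extFun F hφ).restrict hUN).mem_img]
  constructor
  · rintro ⟨x, hx, rfl⟩
    exact ⟨⟨x, hUN hx⟩, Subgroup.mem_subgroupOf.mpr hx, (extFun_mem φ (hUN hx)).symm⟩
  · rintro ⟨x, hx, rfl⟩
    exact ⟨x, Subgroup.mem_subgroupOf.mp hx, extFun_coe φ x⟩

theorem MapOn.not_le_img [Finite S] {F : FusionSystem S} {T U : Subgroup Ω} {f : Ω → Ω}
    (hT : F.StronglyClosed T) (h : MapOn F U f) (hTU : ¬ T ≤ U) : ¬ T ≤ img f U := by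
  intro hle
  have hc := h.card_img_inf hT
  have h1 : img f U ⊓ T = T := inf_eq_right.mpr hle
  rw [h1] at hc
  have : Finite T := finite_of_le hT.1
  have h2 : U ⊓ T = T := Subgroup.eq_of_le_of_card_ge inf_le_right hc.le
  exact hTU (inf_eq_right.mp h2)

/-- Key step: a map `ρ` of `F` from `U = (U ∩ T)(U ∩ Y)` onto a fully normalized subgroup of the
same shape satisfies the claim, given the claim for all subgroups with a bigger intersection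
with `T`. -/
theorem lemL [Finite S] {p : ℕ} [Fact p.Prime] (hS : IsPGroup p S) (F : FusionSystem S)
    (hF : F.IsSaturated p) {T : Subgroup Ω} (E : FusionSystem T) (hinv : E.IsInvariantIn F)
    (Y : Subgroup Ω) (hY : Y ≤ centralizerIn S T)
    (hEY : ∀ P : Subgroup Ω, E.Hom P ⊆ F.centralizerHom Y P)
    (hmax : ∀ Y' : Subgroup Ω, Y' ≤ centralizerIn S T →
      (∀ P : Subgroup Ω, E.Hom P ⊆ F.centralizerHom Y' P) → Y' ≤ Y)
    {U : Subgroup Ω} {ρ : Ω → Ω}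
    (IH : ∀ (W : Subgroup Ω) (ν' : Ω → Ω), MapOn F W ν' →
      Nat.card ↥(U ⊓ T) < Nat.card ↥(W ⊓ T) → Claim F T Y W ν')
    (hU : U ≤ (U ⊓ T) ⊔ (U ⊓ Y)) (hUT : ¬ T ≤ U) (hρ : MapOn F U ρ)
    (hfn : F.IsFullyNormalized (img ρ U))
    (hUs : img ρ U ≤ (img ρ U ⊓ T) ⊔ (img ρ U ⊓ Y)) : Claim F T Y U ρ := by
  classical
  have hT := hinv.2.1
  have hTS : T ≤ S := hT.1
  have hUS : U ≤ S := hρ.le
  have hUsS : img ρ U ≤ S := hρ.img_le
  have hTn : ∀ g ∈ S, ∀ t ∈ T, g * t * g⁻¹ ∈ T :=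
    fun g hg t ht => Cfsg.Agent.Lib.helper89.conj_mem_of_stronglyClosed F hT hg ht
  have hYC : ∀ y ∈ Y, ∀ t ∈ T, t * y = y * t :=
    fun y hy t ht => (Subgroup.mem_centralizer_iff.mp (hY hy).2) t ht
  -- Frattini
  obtain ⟨b₀, a, hb₀, ha, hbP, hbY⟩ := exists_fr hS F hF E hinv Y hY hEY
    (inf_le_right : U ⊓ T ≤ T) (hρ.restrict inf_le_left)
  have hUle : U ≤ (U ⊓ T) ⊔ Y := hU.trans (sup_le_sup_left inf_le_right _)
  have hb : MapOn F U b₀ := hb₀.restrict hUle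
  have haY : ∀ y ∈ Y, a y ∈ Y := tr F E hinv Y hY hEY hmax le_rfl ha
  obtain ⟨binv, hbinv, hbinv'⟩ := hb.exists_inv'
  have hν0 : MapOn F (img b₀ U) (fun x => ρ (binv x)) := by
    refine hbinv.comp hρ (fun x hx => ?_)
    obtain ⟨u, hu, rfl⟩ := hb.mem_img.mp hx
    rw [hbinv' u hu]
    exact hu
  have hν0img : ∀ y, y ∈ img ρ U ↔ ∃ x ∈ img b₀ U, ρ (binv x) = y := by
    intro y
    rw [hρ.mem_img]
    constructor
    · rintro ⟨u, hu, rfl⟩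
      exact ⟨b₀ u, hb.img_mem hu, by rw [hbinv' u hu]⟩
    · rintro ⟨x, hx, rfl⟩
      obtain ⟨u, hu, rfl⟩ := hb.mem_img.mp hx
      exact ⟨u, hu, by rw [hbinv' u hu]⟩
  have hPs : ∀ z, z ∈ T → (z ∈ img b₀ U ↔ z ∈ img ρ U) := by
    intro z hz
    constructor
    · intro hzU
      obtain ⟨u, hu, rfl⟩ := hb.mem_img.mp hzU
      have huT : u ∈ T := hb.sc_inv hT hu hz
      rw [hbP u ⟨hu, huT⟩]
      exact hρ.img_mem hu
    · intro hzU
      obtain ⟨u, hu, rfl⟩ := hρ.mem_img.mp hzU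
      have huT : u ∈ T := hρ.sc_inv hT hu hz
      rw [← hbP u ⟨hu, huT⟩]
      exact hb.img_mem hu
  have hν0id : ∀ z ∈ img b₀ U, z ∈ T → ρ (binv z) = z := by
    intro z hzU hz
    obtain ⟨u, hu, rfl⟩ := hb.mem_img.mp hzU
    have huT : u ∈ T := hb.sc_inv hT hu hz
    rw [hbinv' u hu, hbP u ⟨hu, huT⟩]
  have hU'S : img b₀ U ≤ S := hb.img_le
  have hcardU' : Nat.card ↥(img b₀ U ⊓ T) = Nat.card ↥(U ⊓ T) := hb.card_img_inf hT
  obtain ⟨t, htT, htN, htU'⟩ := Cfsg.Agent.Lib.helper89.exists_normalizing_not_mem hS hTS hU'S hTn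
    (hb.not_le_img hT hUT)
  have htS : t ∈ S := hTS htT
  have htc : ∀ u ∈ img b₀ U, t * u * t⁻¹ ∈ img b₀ U :=
    fun u hu => (Subgroup.mem_normalizer_iff.mp htN u).mp hu
  have htc' : ∀ u ∈ img b₀ U, t⁻¹ * u * t⁻¹⁻¹ ∈ img b₀ U :=
    fun u hu => (Subgroup.mem_normalizer_iff.mp (inv_mem htN) u).mp hu
  -- `T`-elements normalizing `U'` normalize `U*`
  have hnormUs : ∀ t' ∈ T, (∀ u ∈ img b₀ U, t' * u * t'⁻¹ ∈ img b₀ U) →
      ∀ u ∈ img ρ U, t' * u * t'⁻¹ ∈ img ρ U := by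
    intro t' ht' hc u hu
    have hm : MapOn F ((img ρ U ⊓ T) ⊔ (img ρ U ⊓ Y)) (fun x => t' * x * t'⁻¹) :=
      mapOn_conj F (sup_le (inf_le_left.trans hUsS) (inf_le_left.trans hUsS)) (hTS ht')
    refine hm.forall_mem_sup (img ρ U) (fun x hx => ?_) (fun x hx => ?_) u (hUs hu)
    · have hxT : t' * x * t'⁻¹ ∈ T := T.mul_mem (T.mul_mem ht' hx.2) (T.inv_mem ht')
      exact (hPs _ hxT).mp (hc x ((hPs x hx.2).mpr hx.1))
    · show t' * x * t'⁻¹ ∈ img ρ U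
      rw [hYC x hx.2 t' ht', mul_inv_cancel_right]
      exact hx.1
  have htUs : ∀ u ∈ img ρ U, t * u * t⁻¹ ∈ img ρ U := hnormUs t htT htc
  have htUs' : ∀ u ∈ img ρ U, t⁻¹ * u * t⁻¹⁻¹ ∈ img ρ U := hnormUs t⁻¹ (T.inv_mem htT) htc'
  -- the inverse of ν0
  obtain ⟨ν0inv, hν0inv, hν0inv'⟩ := hν0.exists_inv hν0img
  have hinvU' : ∀ x ∈ img ρ U, ν0inv x ∈ img b₀ U := by
    intro x hx
    obtain ⟨x', hx', rfl⟩ := (hν0img x).mp hx
    rw [hν0inv' x' hx']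
    exact hx'
  have hνinvν : ∀ x ∈ img ρ U, ρ (binv (ν0inv x)) = x := by
    intro x hx
    obtain ⟨x', hx', rfl⟩ := (hν0img x).mp hx
    rw [hν0inv' x' hx']
  have hν0Us : ∀ x ∈ img b₀ U, ρ (binv x) ∈ img ρ U := fun x hx => (hν0img _).mpr ⟨x, hx, rfl⟩
  -- the automorphism δ of U*
  have hδ : MapOn F (img ρ U) (fun x => t⁻¹ * ρ (binv (t * ν0inv x * t⁻¹)) * t⁻¹⁻¹) := by
    have h1 : MapOn F (img ρ U) (fun x => t * ν0inv x * t⁻¹) :=
      hν0inv.comp (mapOn_conj F hU'S htS) hinvU'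
    have h2 : MapOn F (img ρ U) (fun x => ρ (binv (t * ν0inv x * t⁻¹))) :=
      h1.comp hν0 (fun x hx => htc _ (hinvU' x hx))
    exact h2.comp (mapOn_conj F hUsS (S.inv_mem htS)) (fun x hx => hν0Us _ (htc _ (hinvU' x hx)))
  have hδm : ∀ x ∈ img ρ U, t⁻¹ * ρ (binv (t * ν0inv x * t⁻¹)) * t⁻¹⁻¹ ∈ img ρ U :=
    fun x hx => htUs' _ (hν0Us _ (htc _ (hinvU' x hx)))
  obtain ⟨α, hα, hα'⟩ := hδ.exists_aut hδm
  -- the value of ν0 on a conjugate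
  have hconjval : ∀ u' ∈ img b₀ U, ρ (binv (t * u' * t⁻¹)) =
      ρ (binv u') * (u'⁻¹ * (t * u' * t⁻¹)) := by
    intro u' hu'
    have hz1 : u'⁻¹ * (t * u' * t⁻¹) ∈ img b₀ U := (img b₀ U).mul_mem ((img b₀ U).inv_mem hu') (htc u' hu')
    have hz2 : u'⁻¹ * (t * u' * t⁻¹) ∈ T := by
      have e : u'⁻¹ * (t * u' * t⁻¹) = (u'⁻¹ * t * u'⁻¹⁻¹) * t⁻¹ := by group
      rw [e]
      exact T.mul_mem (hTn _ (S.inv_mem (hU'S hu')) t htT) (T.inv_mem htT)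
    have e : t * u' * t⁻¹ = u' * (u'⁻¹ * (t * u' * t⁻¹)) := by group
    have h3 := hν0.map_mul hu' hz1
    rw [hν0id _ hz1 hz2] at h3
    rw [← h3, ← e]
  have hαS : α ∈ autInducedBy S (img ρ U) := by
    refine CSE.stab_mem_autInducedBy hS F hF hT hfn hα (fun x => ?_) (fun x hxT => ?_)
    · rw [hα' x, hconjval _ (hinvU' x x.2), hνinvν x x.2]
      have hz2 : (ν0inv x)⁻¹ * (t * ν0inv x * t⁻¹) ∈ T := by
        have e : (ν0inv x)⁻¹ * (t * ν0inv x * t⁻¹) = ((ν0inv x)⁻¹ * t * (ν0inv x)⁻¹⁻¹) * t⁻¹ := by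
          group
        rw [e]
        exact T.mul_mem (hTn _ (S.inv_mem (hU'S (hinvU' x x.2))) t htT) (T.inv_mem htT)
      have e : (x : Ω)⁻¹ * (t⁻¹ * ((x : Ω) * ((ν0inv x)⁻¹ * (t * ν0inv x * t⁻¹))) * t⁻¹⁻¹) =
          ((x : Ω)⁻¹ * t⁻¹ * (x : Ω)⁻¹⁻¹) * ((ν0inv x)⁻¹ * (t * ν0inv x * t⁻¹)) * t := by group
      rw [e]
      exact T.mul_mem (T.mul_mem (hTn _ (S.inv_mem (hUsS x.2)) _ (T.inv_mem htT)) hz2) htT
    · apply Subtype.ext
      rw [hα' x]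
      have hxU' : (x : Ω) ∈ img b₀ U := (hPs _ hxT).mpr x.2
      have h1 : ν0inv (x : Ω) = x := by
        have := hν0inv' x hxU'
        rwa [hν0id _ hxU' hxT] at this
      rw [h1, hν0id _ (htc _ hxU') (T.mul_mem (T.mul_mem htT hxT) (T.inv_mem htT))]
      group
  obtain ⟨s, hs, hs'⟩ := (mem_autInducedBy_iff S (img ρ U) α).mp hαS
  -- the extender condition for `t`
  have hext : ∀ x ∈ img b₀ U, ρ (binv (t * x * t⁻¹)) = (t * s) * ρ (binv x) * (t * s)⁻¹ := by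
    intro x hx
    have hy := hν0Us x hx
    have h1 := hα' ⟨_, hy⟩
    rw [hs' ⟨_, hy⟩] at h1
    rw [hν0inv' x hx] at h1
    have e : ρ (binv (t * x * t⁻¹)) = t * (t⁻¹ * ρ (binv (t * x * t⁻¹)) * t⁻¹⁻¹) * t⁻¹ := by group
    rw [e, ← h1]
    group
  have hrec : F.IsReceptive (img ρ U) := (fullyAutomized_receptive_of_fullyNormalized hS F hF hfn).2
  obtain ⟨ν0e, hν0e, hν0e'⟩ := hν0.exists_ext_of_receptive hrec hν0img
    ((img b₀ U : Set Ω) ∪ {t}) (by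
      rintro g (hg | hg)
      · refine ⟨hU'S hg, Subgroup.le_normalizer hg, ρ (binv g), hν0.mem_S hg, fun x hx => ?_⟩
        have h1 := hν0.map_mul ((img b₀ U).mul_mem hg hx) ((img b₀ U).inv_mem hg)
        have h2 := hν0.map_mul hg hx
        have h3 := hν0.map_inv hg
        rw [h1, h2, h3]
      · rw [Set.mem_singleton_iff] at hg
        subst hg
        exact ⟨htS, htN, g * s, S.mul_mem htS hs, hext⟩)
  have hU'W : img b₀ U ≤ Subgroup.closure ((img b₀ U : Set Ω) ∪ {t}) :=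
    fun x hx => Subgroup.subset_closure (Or.inl hx)
  have htW : t ∈ Subgroup.closure ((img b₀ U : Set Ω) ∪ {t}) :=
    Subgroup.subset_closure (Or.inr rfl)
  have hWS : Subgroup.closure ((img b₀ U : Set Ω) ∪ {t}) ≤ S := hν0e.le
  have : Finite ↥(Subgroup.closure ((img b₀ U : Set Ω) ∪ {t}) ⊓ T) :=
    finite_of_le (inf_le_left.trans hWS)
  have hcard : Nat.card ↥(U ⊓ T) < Nat.card ↥(Subgroup.closure ((img b₀ U : Set Ω) ∪ {t}) ⊓ T) := by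
    rw [← hcardU']
    exact card_lt_of_mem_of_notMem (inf_le_inf_right T hU'W) (x := t) ⟨htW, htT⟩
      (fun h => htU' h.1)
  obtain ⟨ψ0, hψ0, hψ0'⟩ := IH _ ν0e hν0e hcard
  have ha' : MapOn F (T ⊔ (U ⊓ Y)) a := ha.restrict (sup_le_sup_left inf_le_right T)
  have haU' : ∀ y ∈ U ⊓ Y, a y ∈ img b₀ U := by
    intro y hy
    rw [← hbY y hy.2]
    exact hb.img_mem hy.1
  refine ⟨fun x => ψ0 (a x), ha'.comp hψ0 ?_, fun x hx => ?_⟩
  · exact ha'.forall_mem_sup _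
      (fun x hx => Subgroup.mem_sup_left (ha'.sc hT (Subgroup.mem_sup_left hx) hx))
      (fun y hy => Subgroup.mem_sup_right ⟨hU'W (haU' y hy), haY y hy.2⟩)
  · show ψ0 (a x) = ρ x
    rw [hψ0' (a x) ⟨hU'W (haU' x hx), haY x hx.2⟩, hν0e' (a x) (haU' x hx) (hU'W (haU' x hx)),
      ← hbY x hx.2, hbinv' x hx.1]

end Cfsg.Agent.Lib.helper30.CseClosed
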