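import Cfsg.Agent.Lib.helper30.MapOn

/-!
Centralizer of a normal subsystem, part (b) (helper30): the transport lemma.

`E` invariant in `F` (over `T ≤ S`), `Y ≤ C_S(T)` the largest subgroup with `E ≤ C_F(Y)`.
* `tr`: a map of `F` on `T X`, `X ≤ Y`, sends `X` into `Y`.
* `exists_fr`: a map of `F` on `P ≤ T` agrees on `P` with a map `b` on `P Y`, which agrees on `Y`
  with a map `a` on `T Y`.
-/

set_option autoImplicit false

namespace Cfsg.Agent.Lib.helper30.CseClosed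

open Cfsg Cfsg.FusionSystem
open Cfsg.Agent.Lib.helper88

variable {Ω : Type*} [Group Ω] {S : Subgroup Ω}

theorem exists_fix_ext {F : FusionSystem S} {Y P : Subgroup Ω} {φ : P →* Ω}
    (h : φ ∈ F.centralizerHom Y P) :
    ∃ g, MapOn F (P ⊔ Y) g ∧ (∀ x : P, g x = φ x) ∧ ∀ y ∈ Y, g y = y := by
  obtain ⟨-, -, -, ψ, hψ, hψP, hψY⟩ := h
  refine ⟨extFun ψ, mapOn_extFun F hψ, fun x => ?_, fun y hy => ?_⟩
  · rw [extFun_mem ψ (Subgroup.mem_sup_left x.2)]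
    exact hψP x
  · rw [extFun_mem ψ (Subgroup.mem_sup_right hy)]
    exact hψY ⟨y, hy⟩

theorem mem_centralizerHom_of_mapOn {F : FusionSystem S} {Y P : Subgroup Ω} {φ : P →* Ω}
    (hφ : φ ∈ F.Hom P) (hP : P ≤ centralizerIn S Y) (hφC : ∀ x : P, φ x ∈ centralizerIn S Y)
    {g : Ω → Ω} (hg : MapOn F (P ⊔ Y) g) (hgP : ∀ x : P, g x = φ x) (hgY : ∀ y ∈ Y, g y = y) :
    φ ∈ F.centralizerHom Y P := by
  obtain ⟨ψ, hψ, hψg⟩ := hg
  exact ⟨hφ, hP, hφC, ψ, hψ, fun x => (hψg _).trans (hgP x), fun x => (hψg _).trans (hgY x x.2)⟩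

/-- The invariance clause in functional form: for an automorphism `a` of `T` in `F` and a map
`φ` of `E` on `P`, some map `χ` of `E` on a subgroup `P₀ ⊇ a(P)` sends `a x` to `a (φ x)`. -/
theorem invariant_mapOn [Finite S] {F : FusionSystem S} {T : Subgroup Ω} {E : FusionSystem T}
    (hinv : E.IsInvariantIn F) {P : Subgroup Ω} {φ : P →* Ω} (hφ : φ ∈ E.Hom P) {a : Ω → Ω}
    (ha : MapOn F T a) :
    ∃ (P₀ : Subgroup Ω) (χ : P₀ →* Ω), χ ∈ E.Hom P₀ ∧ (∀ x ∈ P, a x ∈ P₀) ∧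
      ∀ (x : P) (hx : a x ∈ P₀), χ ⟨a x, hx⟩ = a (φ x) := by
  obtain ⟨-, hT, hinvar, -⟩ := hinv
  have hPT : P ≤ T := (E.le_of_mem hφ).1
  have hφT : ∀ x : P, φ x ∈ T := (E.le_of_mem hφ).2
  obtain ⟨α, hα, hα'⟩ := ha.exists_aut (fun x hx => ha.sc hT hx hx)
  obtain ⟨χ, hχ, hχ'⟩ := hinvar P hPT φ hφ α hα
  have hmem : ∀ x (hx : x ∈ P), ((α ⟨x, hPT hx⟩ : T) : Ω) ∈
      (P.subgroupOf T).map (T.subtype.comp α.toMonoidHom) :=
    fun x hx => ⟨⟨x, hPT hx⟩, Subgroup.mem_subgroupOf.mpr hx, rfl⟩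
  refine ⟨_, χ, hχ, fun x hx => ?_, fun x hx => ?_⟩
  · have := hmem x hx
    rwa [hα' ⟨x, hPT hx⟩] at this
  · have e : a x = ((α ⟨x, hPT x.2⟩ : T) : Ω) := (hα' ⟨x, hPT x.2⟩).symm
    have h1 := hχ' x (hφT x) (hmem x x.2)
    have h2 : (⟨a x, hx⟩ : ↥((P.subgroupOf T).map (T.subtype.comp α.toMonoidHom))) =
        ⟨((α ⟨x, hPT x.2⟩ : T) : Ω), hmem x x.2⟩ := Subtype.ext e
    rw [h2, h1]
    exact hα' ⟨φ x, hφT x⟩

/-- Transport: a map of `F` defined on `T X` with `X ≤ Y` sends `X` into `Y`. -/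
theorem tr [Finite S] (F : FusionSystem S) {T : Subgroup Ω} (E : FusionSystem T)
    (hinv : E.IsInvariantIn F) (Y : Subgroup Ω) (hY : Y ≤ centralizerIn S T)
    (hEY : ∀ P : Subgroup Ω, E.Hom P ⊆ F.centralizerHom Y P)
    (hmax : ∀ Y' : Subgroup Ω, Y' ≤ centralizerIn S T →
      (∀ P : Subgroup Ω, E.Hom P ⊆ F.centralizerHom Y' P) → Y' ≤ Y)
    {X : Subgroup Ω} (hX : X ≤ Y) {f : Ω → Ω} (h : MapOn F (T ⊔ X) f) :
    ∀ x ∈ X, f x ∈ Y := by
  have hsub := hinv.1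
  have hT := hinv.2.1
  have hTS : T ≤ S := hT.1
  have hXC : X ≤ centralizerIn S T := hX.trans hY
  have hfT : MapOn F T f := h.restrict le_sup_left
  have hfX : MapOn F X f := h.restrict le_sup_right
  have hfTT : ∀ x ∈ T, f x ∈ T := fun x hx => hfT.sc hT hx hx
  have hsurj := hfT.surj_of_maps hfTT
  have hcomm : ∀ x ∈ X, ∀ t ∈ T, t * f x = f x * t := by
    intro x hx t ht
    obtain ⟨t₀, ht₀, rfl⟩ := hsurj t ht
    rw [← h.map_mul (Subgroup.mem_sup_right hx) (Subgroup.mem_sup_left ht₀),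
      ← h.map_mul (Subgroup.mem_sup_left ht₀) (Subgroup.mem_sup_right hx)]
    congr 1
    exact (Subgroup.mem_centralizer_iff.mp (hXC hx).2) t₀ ht₀
  have hX'C : img f X ≤ centralizerIn S T := by
    intro y hy
    obtain ⟨x, hx, rfl⟩ := hfX.mem_img.mp hy
    refine Subgroup.mem_inf.mpr ⟨hfX.mem_S hx, Subgroup.mem_centralizer_iff.mpr ?_⟩
    intro t ht
    exact hcomm x hx t ht
  have key : img f X ≤ Y := by
    refine hmax (img f X) hX'C ?_
    intro P φ hφ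
    have hPT : P ≤ T := (E.le_of_mem hφ).1
    have hφT : ∀ x : P, φ x ∈ T := (E.le_of_mem hφ).2
    have hcenT : ∀ t ∈ T, t ∈ centralizerIn S (img f X) := by
      intro t ht
      refine Subgroup.mem_inf.mpr ⟨hTS ht, Subgroup.mem_centralizer_iff.mpr ?_⟩
      intro y hy
      obtain ⟨x, hx, rfl⟩ := hfX.mem_img.mp hy
      exact (hcomm x hx t ht).symm
    -- the inverse of `f`
    obtain ⟨finv, hfinv, hfinv'⟩ := h.exists_inv'
    have hTimg : T ≤ img f (T ⊔ X) := by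
      intro t ht
      obtain ⟨t₀, ht₀, rfl⟩ := hsurj t ht
      exact h.img_mem (Subgroup.mem_sup_left ht₀)
    have ha : MapOn F T finv := hfinv.restrict hTimg
    have hffinv : ∀ z ∈ T, f (finv z) = z := by
      intro z hz
      obtain ⟨t₀, ht₀, rfl⟩ := hsurj z hz
      rw [hfinv' t₀ (Subgroup.mem_sup_left ht₀)]
    obtain ⟨P₀, χ, hχ, hP₀, hχ'⟩ := invariant_mapOn hinv hφ ha
    obtain ⟨χe, hχe, hχeP, hχeY⟩ := exists_fix_ext (hEY P₀ hχ)
    have hle : P ⊔ img f X ≤ img f (T ⊔ X) := by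
      refine sup_le (hPT.trans hTimg) ?_
      intro y hy
      obtain ⟨x, hx, rfl⟩ := hfX.mem_img.mp hy
      exact h.img_mem (Subgroup.mem_sup_right hx)
    have hfinvR : MapOn F (P ⊔ img f X) finv := hfinv.restrict hle
    have hfinvX : ∀ c ∈ X, finv (f c) = c := fun c hc => hfinv' c (Subgroup.mem_sup_right hc)
    have h1 : MapOn F (P ⊔ img f X) (fun x => χe (finv x)) := by
      refine hfinvR.comp hχe ?_
      refine hfinvR.forall_mem_sup _ (fun x hx => Subgroup.mem_sup_left (hP₀ x hx)) ?_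
      intro y hy
      obtain ⟨c, hc, rfl⟩ := hfX.mem_img.mp hy
      rw [hfinvX c hc]
      exact Subgroup.mem_sup_right (hX hc)
    have hval : ∀ x : P, χe (finv x) = finv (φ x) := by
      intro x
      have := hχeP ⟨finv x, hP₀ x x.2⟩
      rw [this]
      exact hχ' x (hP₀ x x.2)
    have h2 : MapOn F (P ⊔ img f X) (fun x => f (χe (finv x))) := by
      refine h1.comp h ?_
      refine h1.forall_mem_sup _ (fun x hx => ?_) ?_
      · show χe (finv x) ∈ T ⊔ X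
        rw [hval ⟨x, hx⟩]
        exact Subgroup.mem_sup_left (ha.sc hT (hφT _) (hφT _))
      · intro y hy
        obtain ⟨c, hc, rfl⟩ := hfX.mem_img.mp hy
        show χe (finv (f c)) ∈ T ⊔ X
        rw [hfinvX c hc, hχeY c (hX hc)]
        exact Subgroup.mem_sup_right hc
    refine mem_centralizerHom_of_mapOn (hsub P hφ) (fun x hx => hcenT x (hPT hx))
      (fun x => hcenT _ (hφT x)) h2 (fun x => ?_) (fun y hy => ?_)
    · show f (χe (finv x)) = φ x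
      rw [hval x, hffinv _ (hφT x)]
    · obtain ⟨c, hc, rfl⟩ := hfX.mem_img.mp hy
      show f (χe (finv (f c))) = f c
      rw [hfinvX c hc, hχeY c (hX hc)]
  exact fun x hx => key (hfX.img_mem hx)

/-- Frattini + extension: a map `f` of `F` on `P ≤ T` agrees on `P` with a map `b` of `F` on
`P Y`, and `b` agrees on `Y` with a map `a` of `F` on `T Y`. -/
theorem exists_fr [Finite S] {p : ℕ} [Fact p.Prime] (hS : IsPGroup p S) (F : FusionSystem S)
    (hF : F.IsSaturated p) {T : Subgroup Ω} (E : FusionSystem T) (hinv : E.IsInvariantIn F)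
    (Y : Subgroup Ω) (hY : Y ≤ centralizerIn S T)
    (hEY : ∀ P : Subgroup Ω, E.Hom P ⊆ F.centralizerHom Y P) {P : Subgroup Ω} (hPT : P ≤ T)
    {f : Ω → Ω} (h : MapOn F P f) :
    ∃ b a, MapOn F (P ⊔ Y) b ∧ MapOn F (T ⊔ Y) a ∧ (∀ x ∈ P, b x = f x) ∧ ∀ y ∈ Y, b y = a y := by
  obtain ⟨φ, hφ, hf⟩ := h
  have hT := hinv.2.1
  obtain ⟨α, hα, φ₀, hφ₀, hfr⟩ := hinv.2.2.2 P hPT φ hφ
  obtain ⟨g, hg, hgP, hgY⟩ := exists_fix_ext (hEY P hφ₀)
  obtain ⟨β, hβ, hβα⟩ := Cfsg.Agent.Lib.helper87.Craven.exists_ext_aut hS F hF hT hα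
  have hTC : T ⊔ centralizerIn S T ≤ S := sup_le hT.1 inf_le_left
  have ha := mapOn_of_aut F hTC hβ
  have hφ₀T : ∀ x : P, φ₀ x ∈ T := (E.le_of_mem hφ₀).2
  have haT : ∀ (z : Ω) (hz : z ∈ T),
      extFun ((T ⊔ centralizerIn S T).subtype.comp β.toMonoidHom) z = ((α ⟨z, hz⟩ : T) : Ω) := by
    intro z hz
    rw [extFun_mem _ (Subgroup.mem_sup_left hz)]
    have := hβα ⟨z, hz⟩
    exact congrArg Subtype.val this
  refine ⟨fun x => extFun ((T ⊔ centralizerIn S T).subtype.comp β.toMonoidHom) (g x), _,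
    hg.comp ha ?_, ha.restrict (sup_le_sup_left hY T), ?_, ?_⟩
  · refine hg.forall_mem_sup _ (fun x hx => Subgroup.mem_sup_left ?_)
      (fun y hy => Subgroup.mem_sup_right ?_)
    · rw [hgP ⟨x, hx⟩]
      exact hφ₀T _
    · rw [hgY y hy]
      exact hY hy
  · intro x hx
    show extFun _ (g x) = f x
    rw [hgP ⟨x, hx⟩, haT _ (hφ₀T _), ← hf ⟨x, hx⟩]
    exact (hfr ⟨x, hx⟩ (hφ₀T _)).symm
  · intro y hy
    show extFun _ (g y) = _
    rw [hgY y hy]

end Cfsg.Agent.Lib.helper30.CseClosed
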