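import Mathlib
import Cfsg.Prelude.Def_Classical
import Cfsg.Prelude.Def_GeometricClasses

set_option autoImplicit false

namespace Cfsg.Agent.Lib.helper30

/-- marker for the S5977B COMM piece -/
theorem h30_fe_comm_marker : True := by trivial

/-- no zero divisors in a field subalgebra -/
theorem h30_fe_no_zero_div {F : Type*} [Field F] {ι : Type} [Fintype ι] [DecidableEq ι]
    (K : Subalgebra F (Matrix ι ι F)) {n : ℕ} (hK : Cfsg.Geo.IsFieldSubalgebra n K)
    (u v : Matrix ι ι F) (hu : u ∈ K) (_hv : v ∈ K) (huv : u * v = 0) : u = 0 ∨ v = 0 := by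
  by_cases hu0 : u = 0
  · exact Or.inl hu0
  · right
    obtain ⟨w, hw, huw⟩ := hK.inv u hu hu0
    have hwu : w * u = 1 := by rw [hK.comm w hw u hu, huw]
    calc v = (w * u) * v := by rw [hwu, one_mul]
      _ = w * (u * v) := by rw [mul_assoc]
      _ = 0 := by rw [huv, mul_zero]

/-- conjugation by a normalizing element is an involution on a quadratic field subalgebra -/
theorem h30_fe_conj_sq {F : Type*} [Field F] {ι : Type} [Fintype ι] [DecidableEq ι]
    (K : Subalgebra F (Matrix ι ι F)) (hK : Cfsg.Geo.IsFieldSubalgebra 2 K)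
    (Y Yi : Matrix ι ι F) (hYYi : Y * Yi = 1) (hYiY : Yi * Y = 1)
    (hY : ∀ k ∈ K, Y * k * Yi ∈ K) (k : Matrix ι ι F) (hk : k ∈ K) :
    Y * (Y * k * Yi) * Yi = k := by
  have hfin : Module.Finite F ↥K := Module.finite_of_finrank_pos (by rw [hK.finrank_eq]; norm_num)
  have hdep : ¬ LinearIndependent F (![1, ⟨k, hk⟩, ⟨k, hk⟩ * ⟨k, hk⟩] : Fin 3 → ↥K) := by
    intro hli
    have h := hli.fintype_card_le_finrank
    rw [hK.finrank_eq] at h
    simp at h
  rw [Fintype.not_linearIndependent_iff] at hdep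
  obtain ⟨g, hg, hne⟩ := hdep
  rw [Fin.sum_univ_three] at hg
  have hg' : g 0 • (1 : Matrix ι ι F) + g 1 • k + g 2 • (k * k) = 0 := by
    have := congrArg Subtype.val hg
    simpa using this
  have hk'K : Y * k * Yi ∈ K := hY k hk
  obtain ⟨k', hk'⟩ : ∃ k' : Matrix ι ι F, k' = Y * k * Yi := ⟨_, rfl⟩
  rw [← hk'] at hk'K ⊢
  by_cases h2 : g 2 = 0
  · rw [h2, zero_smul, add_zero] at hg'
    by_cases h1 : g 1 = 0
    · rw [h1, zero_smul, add_zero] at hg'
      have h0 : g 0 ≠ 0 := by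
        obtain ⟨i, hi⟩ := hne
        fin_cases i
        · exact hi
        · exact absurd h1 hi
        · exact absurd h2 hi
      have hone : (1 : Matrix ι ι F) = 0 := by
        have h4 := congrArg (fun M => (g 0)⁻¹ • M) hg'
        simpa [smul_smul, inv_mul_cancel₀ h0] using h4
      have hall : ∀ M : Matrix ι ι F, M = 0 := fun M => by rw [← mul_one M, hone, mul_zero]
      rw [hall (Y * k' * Yi), hall k]
    · have hkc : ∃ c : F, k = c • (1 : Matrix ι ι F) := by
        refine ⟨-((g 1)⁻¹ * g 0), ?_⟩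
        have h3 : g 1 • k = -(g 0 • (1 : Matrix ι ι F)) := by
          rw [eq_neg_iff_add_eq_zero, add_comm]
          exact hg'
        have h4 := congrArg (fun M => (g 1)⁻¹ • M) h3
        simp only [smul_smul, inv_mul_cancel₀ h1, one_smul, smul_neg] at h4
        rw [h4, neg_smul]
      obtain ⟨c, hc⟩ := hkc
      have hfix : Y * k * Yi = k := by
        rw [hc, Matrix.mul_smul, Matrix.smul_mul, mul_one, hYYi]
      rw [hk', hfix, hfix]
  · obtain ⟨a, b, hab⟩ : ∃ a b : F, k * k = a • k + b • (1 : Matrix ι ι F) := by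
      refine ⟨-((g 2)⁻¹ * g 1), -((g 2)⁻¹ * g 0), ?_⟩
      have h3 : g 2 • (k * k) = -(g 0 • (1 : Matrix ι ι F) + g 1 • k) := by
        rw [eq_neg_iff_add_eq_zero, add_comm]
        exact hg'
      have h4 := congrArg (fun M => (g 2)⁻¹ • M) h3
      simp only [smul_smul, inv_mul_cancel₀ h2, one_smul, smul_neg, smul_add] at h4
      rw [h4, neg_smul, neg_smul, neg_add, add_comm]
    have hab' : k' * k' = a • k' + b • (1 : Matrix ι ι F) := by
      have h5 : k' * k' = Y * (k * k) * Yi := by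
        rw [hk']
        calc Y * k * Yi * (Y * k * Yi) = Y * k * (Yi * Y) * k * Yi := by simp only [mul_assoc]
          _ = Y * (k * k) * Yi := by rw [hYiY, mul_one, mul_assoc Y k k]
      rw [h5, hab, mul_add, add_mul, Matrix.mul_smul, Matrix.smul_mul, Matrix.mul_smul,
        Matrix.smul_mul, mul_one, hYYi, hk']
    have hcomm : k' * k = k * k' := hK.comm k' hk'K k hk
    have hprod : (k' - k) * (k' + k - a • (1 : Matrix ι ι F)) = 0 := by
      have h6 : (k' - k) * (k' + k - a • (1 : Matrix ι ι F)) =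
          (k' * k' - a • k') - (k * k - a • k) + (k' * k - k * k') := by
        simp only [sub_mul, mul_sub, mul_add, Matrix.mul_smul, mul_one]
        abel
      rw [h6, hab, hab', hcomm]
      abel
    have hmem1 : k' - k ∈ K := K.sub_mem hk'K hk
    have hmem2 : k' + k - a • (1 : Matrix ι ι F) ∈ K :=
      K.sub_mem (K.add_mem hk'K hk) (K.smul_mem K.one_mem a)
    rcases h30_fe_no_zero_div K hK _ _ hmem1 hmem2 hprod with h | h
    · have hfix : k' = k := sub_eq_zero.1 h
      rw [hfix]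
      rw [hfix] at hk'
      exact hk'.symm
    · have hk'eq : k' = a • (1 : Matrix ι ι F) - k := by
        have h7 := sub_eq_zero.1 h
        rw [← h7]
        abel
      calc Y * k' * Yi = Y * (a • (1 : Matrix ι ι F) - k) * Yi := by rw [← hk'eq]
        _ = a • (1 : Matrix ι ι F) - k' := by
            rw [mul_sub, sub_mul, Matrix.mul_smul, Matrix.smul_mul, mul_one, hYYi, hk']
        _ = k := by
            rw [hk'eq]
            abel

end Cfsg.Agent.Lib.helper30

namespace Cfsg.Agent.Lib.helper96.FE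

open Polynomial

/-- COMM (M): an element of the normalizer of `K` whose `r`-th power is scalar, `r` odd, centralizes `K`. -/
theorem fe_comm {F : Type*} [Field F] {ι : Type} [Fintype ι] [DecidableEq ι]
    (K : Subalgebra F (Matrix ι ι F)) (hK : Cfsg.Geo.IsFieldSubalgebra 2 K)
    (y : GL ι F) (hy : y ∈ Cfsg.Geo.subalgebraNormalizer K) (r : ℕ) (hr : Odd r)
    (hyr : ∃ z : F, ((y ^ r : GL ι F) : Matrix ι ι F) = z • (1 : Matrix ι ι F)) :
    ∀ k ∈ K, (y : Matrix ι ι F) * k = k * (y : Matrix ι ι F) := by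
  intro k hk
  obtain ⟨z, hz⟩ := hyr
  obtain ⟨Y, hYdef⟩ : ∃ Y : Matrix ι ι F, Y = (y : Matrix ι ι F) := ⟨_, rfl⟩
  obtain ⟨Yi, hYidef⟩ : ∃ Yi : Matrix ι ι F, Yi = ((y⁻¹ : GL ι F) : Matrix ι ι F) := ⟨_, rfl⟩
  have hYYi : Y * Yi = 1 := by
    rw [hYdef, hYidef, ← Units.val_mul, mul_inv_cancel, Units.val_one]
  have hYiY : Yi * Y = 1 := by
    rw [hYdef, hYidef, ← Units.val_mul, inv_mul_cancel, Units.val_one]
  have hY : ∀ k ∈ K, Y * k * Yi ∈ K := by
    intro k hk
    rw [hYdef, hYidef]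
    exact (hy k).1 hk
  have h3 : Yi * Yi * (Y * Y) = 1 := by
    rw [mul_assoc, ← mul_assoc Yi Y Y, hYiY, one_mul, hYiY]
  have h3' : Y * Y * (Yi * Yi) = 1 := by
    rw [mul_assoc, ← mul_assoc Y Yi Yi, hYYi, one_mul, hYYi]
  have hsq : ∀ k ∈ K, (Y * Y) * k = k * (Y * Y) := by
    intro k hk
    have h := Cfsg.Agent.Lib.helper30.h30_fe_conj_sq K hK Y Yi hYYi hYiY hY k hk
    calc Y * Y * k = Y * Y * k * (Yi * Yi * (Y * Y)) := by rw [h3, mul_one]
      _ = (Y * (Y * k * Yi) * Yi) * (Y * Y) := by simp only [mul_assoc]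
      _ = k * (Y * Y) := by rw [h]
  obtain ⟨m, hm⟩ := hr
  have hpow : Y ^ r = z • (1 : Matrix ι ι F) := by
    rw [← hz, hYdef, Units.val_pow_eq_pow_val]
  have hc1 : Y ^ r * k = k * Y ^ r := by
    rw [hpow, Matrix.smul_mul, Matrix.mul_smul, one_mul, mul_one]
  have hc2 : (Y * Y) ^ m * k = k * (Y * Y) ^ m :=
    ((show Commute (Y * Y) k from hsq k hk).pow_left m).eq
  have hYr : Y ^ r = (Y * Y) ^ m * Y := by
    rw [hm, pow_succ, pow_mul, pow_two]
  have hinv : (Yi * Yi) ^ m * (Y * Y) ^ m = 1 := by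
    have hcomm : Commute (Yi * Yi) (Y * Y) := by
      show Yi * Yi * (Y * Y) = Y * Y * (Yi * Yi)
      rw [h3, h3']
    rw [← hcomm.mul_pow, h3, one_pow]
  have h1 : (Y * Y) ^ m * (Y * k) = (Y * Y) ^ m * (k * Y) := by
    calc (Y * Y) ^ m * (Y * k) = Y ^ r * k := by rw [hYr, mul_assoc]
      _ = k * Y ^ r := hc1
      _ = k * (Y * Y) ^ m * Y := by rw [hYr, mul_assoc]
      _ = (Y * Y) ^ m * k * Y := by rw [hc2]
      _ = (Y * Y) ^ m * (k * Y) := by rw [mul_assoc]
  rw [← hYdef]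
  calc Y * k = ((Yi * Yi) ^ m * (Y * Y) ^ m) * (Y * k) := by rw [hinv, one_mul]
    _ = (Yi * Yi) ^ m * ((Y * Y) ^ m * (Y * k)) := by rw [mul_assoc]
    _ = (Yi * Yi) ^ m * ((Y * Y) ^ m * (k * Y)) := by rw [h1]
    _ = ((Yi * Yi) ^ m * (Y * Y) ^ m) * (k * Y) := by rw [mul_assoc]
    _ = k * Y := by rw [hinv, one_mul]

end Cfsg.Agent.Lib.helper96.FE
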