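import Mathlib
import Cfsg.Prelude.Def_Classical
import Cfsg.Prelude.Def_GeometricClasses
import Cfsg.Agent.Lib.helper24.SfoDefs

set_option autoImplicit false

namespace Cfsg.Agent.Lib.helper30

/-- marker for the S5977I ARITH piece -/
theorem h30_hci_arith_marker : True := by trivial

/-- `padicValNat` of a product over a range of non-zero factors -/
theorem h30_padic_prod_range (r : ℕ) [Fact r.Prime] (f : ℕ → ℕ) (hf : ∀ j, f j ≠ 0) (m : ℕ) :
    padicValNat r (∏ j ∈ Finset.range m, f j) = ∑ j ∈ Finset.range m, padicValNat r (f j) := by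
  induction m with
  | zero => simp
  | succ m ih =>
    rw [Finset.prod_range_succ, Finset.sum_range_succ,
      padicValNat.mul (Finset.prod_ne_zero_iff.2 (fun j _ => hf j)) (hf m), ih]

/-- the valuation of the product in the order formula as a filtered sum -/
theorem h30_hci_sum (q d r : ℕ) [Fact r.Prime] (hq : 2 ≤ q) (hd : 1 ≤ d) (o2 : ℕ)
    (hF1 : ∀ t, r ∣ (q ^ 2) ^ t - 1 → o2 ∣ t) :
    padicValNat r (∏ j ∈ Finset.range (d - 1), (q ^ (2 * (j + 1)) - 1)) =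
      ∑ t ∈ (Finset.range d).filter (fun t => o2 ∣ t), padicValNat r ((q ^ 2) ^ t - 1) := by
  have hfj : ∀ j, q ^ (2 * (j + 1)) - 1 ≠ 0 := by
    intro j
    have h1 : 1 < q ^ (2 * (j + 1)) := Nat.one_lt_pow (by omega) (by omega)
    omega
  rw [Finset.sum_filter_of_ne]
  · obtain ⟨d', rfl⟩ : ∃ d', d = d' + 1 := ⟨d - 1, by omega⟩
    rw [Nat.add_sub_cancel, Finset.sum_range_succ']
    simp only [pow_zero, Nat.sub_self, padicValNat_zero_right, add_zero]
    rw [h30_padic_prod_range r _ hfj]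
    apply Finset.sum_congr rfl
    intro j _
    rw [pow_mul]
  · intro t _ ht
    apply hF1
    exact dvd_of_one_le_padicValNat (Nat.one_le_iff_ne_zero.2 ht)

/-- the counting identity gives `q * n1 = q^(d-1) * e` -/
theorem h30_hci_key (q A n1 n0 e : ℕ) (hq : 2 ≤ q) (hA : 1 ≤ A)
    (he : (e = q * A - 1 ∧ n0 = A * A * q + q * A - A) ∨
      (e = q * A + 1 ∧ n0 = A * A * q + A - q * A))
    (hn : q * (q - 1) * n1 + n0 = (q * A) * (q * A)) : q * n1 = A * e := by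
  obtain ⟨s, rfl⟩ : ∃ s, q = s + 1 := ⟨q - 1, by omega⟩
  rw [Nat.add_sub_cancel] at hn
  have hsA : A ≤ (s + 1) * A := Nat.le_mul_of_pos_left A (by omega)
  have hsA1 : 1 ≤ (s + 1) * A := le_trans hA hsA
  have hle2 : (s + 1) * A ≤ A * A * (s + 1) := by
    calc (s + 1) * A = 1 * (A * (s + 1)) := by ring
      _ ≤ A * (A * (s + 1)) := Nat.mul_le_mul_right _ hA
      _ = A * A * (s + 1) := by ring
  apply Nat.eq_of_mul_eq_mul_left (show 0 < s by omega)
  rcases he with ⟨h1, h2⟩ | ⟨h1, h2⟩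
  · have h1' : e + 1 = (s + 1) * A := by omega
    have h2' : n0 + A = A * A * (s + 1) + (s + 1) * A := by omega
    zify at h1' h2' hn ⊢
    linear_combination hn - h2' - ((s : ℤ) * A) * h1'
  · have h2' : n0 + (s + 1) * A = A * A * (s + 1) + A := by omega
    zify at h1 h2' hn ⊢
    linear_combination hn - h2' - ((s : ℤ) * A) * h1

end Cfsg.Agent.Lib.helper30

namespace Cfsg.Agent.Lib.helper99.HCI

open Matrix Cfsg.Geo Cfsg.Agent.Lib.helper24

/-- ARITH (L, pure arithmetic): `i = ord_r(q) ≡ 0 mod 4`, so `ord_r(q^2) = i/2` is even and `≥ 2`;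
`v_r(cardO) = v_r(e) + Σ_{j<d-1} v_r(q^(2(j+1)) - 1)`, the sum equals the sum in `hlb`
(terms with `ord_r(q^2) ∤ t` vanish, `t = 0` gives `v_r(0) = 0`); if `r ∣ e` then `r ∣ q^(2d) - 1`,
so `ord_r(q^2) ∣ d`, `d` is even, `hn` gives `q * n1 = q^(d-1) * e`, so `r ∣ n1`, and `e ∣ q^(2d) - 1`. -/
theorem hci_arith (q d r : ℕ) [Fact r.Prime] (hq : 2 ≤ q) (hd : 1 ≤ d) (hr2 : r ≠ 2)
    (hrq : ¬ r ∣ q) (hi : orderOf ((q : ℕ) : ZMod r) % 4 = 0) (cardO cardI n1 n0 e : ℕ)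
    (he : (e = q ^ d - 1 ∧ n0 = q ^ (2 * d - 1) + q ^ d - q ^ (d - 1)) ∨
      (e = q ^ d + 1 ∧ n0 = q ^ (2 * d - 1) + q ^ (d - 1) - q ^ d))
    (hO : cardO = 2 * q ^ (d * (d - 1)) * e *
      ∏ j ∈ Finset.range (d - 1), (q ^ (2 * (j + 1)) - 1))
    (hlb : (∑ t ∈ (Finset.range d).filter (fun t => orderOf ((q ^ 2 : ℕ) : ZMod r) ∣ t),
          padicValNat r ((q ^ 2) ^ t - 1)) +
        (if orderOf ((q ^ 2 : ℕ) : ZMod r) ∣ d ∧ r ∣ n1 then padicValNat r ((q ^ 2) ^ d - 1)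
          else 0) ≤ padicValNat r cardI)
    (hn : Even d → q * (q - 1) * n1 + n0 = q ^ (2 * d)) :
    padicValNat r cardO ≤ padicValNat r cardI := by
  have hr : r.Prime := Fact.out
  have hq0 : q ≠ 0 := by omega
  have hF1 : ∀ t, r ∣ (q ^ 2) ^ t - 1 → orderOf ((q ^ 2 : ℕ) : ZMod r) ∣ t := by
    intro t ht
    apply orderOf_dvd_of_pow_eq_one
    have h1 : 1 ≤ (q ^ 2) ^ t := Nat.one_le_pow _ _ (by positivity)
    have h2 := (ZMod.natCast_eq_zero_iff ((q ^ 2) ^ t - 1) r).2 ht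
    rw [Nat.cast_sub h1, Nat.cast_one, sub_eq_zero, Nat.cast_pow] at h2
    exact h2
  have hF2 : Even (orderOf ((q ^ 2 : ℕ) : ZMod r)) := by
    have h1 : ((q ^ 2 : ℕ) : ZMod r) = ((q : ℕ) : ZMod r) ^ 2 := Nat.cast_pow q 2
    rw [h1, orderOf_pow' _ (by norm_num : (2 : ℕ) ≠ 0)]
    generalize orderOf ((q : ℕ) : ZMod r) = i at hi ⊢
    have h2i : 2 ∣ i := by omega
    rw [Nat.gcd_eq_right h2i]
    exact ⟨i / 4, by omega⟩
  have hqd : 2 ≤ q ^ d := by
    calc 2 ≤ q := hq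
      _ = q ^ 1 := (pow_one q).symm
      _ ≤ q ^ d := Nat.pow_le_pow_right (by omega) hd
  have he0 : e ≠ 0 := by
    rcases he with ⟨h, -⟩ | ⟨h, -⟩ <;> omega
  have hfj : ∀ j, q ^ (2 * (j + 1)) - 1 ≠ 0 := by
    intro j
    have h1 : 1 < q ^ (2 * (j + 1)) := Nat.one_lt_pow (by omega) (by omega)
    omega
  have hP0 : (∏ j ∈ Finset.range (d - 1), (q ^ (2 * (j + 1)) - 1)) ≠ 0 :=
    Finset.prod_ne_zero_iff.2 (fun j _ => hfj j)
  have hv2 : padicValNat r 2 = 0 :=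
    padicValNat.eq_zero_of_not_dvd
      (fun h => hr2 ((Nat.prime_dvd_prime_iff_eq hr Nat.prime_two).1 h))
  have hvq : padicValNat r (q ^ (d * (d - 1))) = 0 :=
    padicValNat.eq_zero_of_not_dvd (fun h => hrq (hr.dvd_of_dvd_pow h))
  have hqp0 : q ^ (d * (d - 1)) ≠ 0 := pow_ne_zero _ hq0
  have hvO : padicValNat r cardO = padicValNat r e +
      ∑ t ∈ (Finset.range d).filter (fun t => orderOf ((q ^ 2 : ℕ) : ZMod r) ∣ t),
        padicValNat r ((q ^ 2) ^ t - 1) := by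
    rw [hO, padicValNat.mul (mul_ne_zero (mul_ne_zero two_ne_zero hqp0) he0) hP0,
      padicValNat.mul (mul_ne_zero two_ne_zero hqp0) he0, padicValNat.mul two_ne_zero hqp0, hv2,
      hvq, Cfsg.Agent.Lib.helper30.h30_hci_sum q d r hq hd _ hF1]
    ring
  rw [hvO]
  by_cases hre : r ∣ e
  · have hM0 : (q ^ 2) ^ d - 1 ≠ 0 := by
      have h1 : 1 < (q ^ 2) ^ d :=
        Nat.one_lt_pow (by omega) (Nat.one_lt_pow (by omega) (by omega))
      omega
    have hediv : e ∣ (q ^ 2) ^ d - 1 := by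
      have hsq : (q ^ 2) ^ d = q ^ d * q ^ d := by
        rw [← pow_mul, mul_comm, pow_mul, pow_two]
      obtain ⟨Q', hQ'⟩ : ∃ Q', q ^ d = Q' + 2 := ⟨q ^ d - 2, by omega⟩
      have hfac : (q ^ 2) ^ d - 1 = (Q' + 1) * (Q' + 3) := by
        rw [hsq, hQ']
        have h3 : (Q' + 2) * (Q' + 2) = (Q' + 1) * (Q' + 3) + 1 := by ring
        rw [h3, Nat.add_sub_cancel]
      rcases he with ⟨h, -⟩ | ⟨h, -⟩
      · have h4 : e = Q' + 1 := by omega
        rw [hfac, h4]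
        exact Dvd.intro _ rfl
      · have h4 : e = Q' + 3 := by omega
        rw [hfac, h4]
        exact Dvd.intro_left _ rfl
    have ho2d : orderOf ((q ^ 2 : ℕ) : ZMod r) ∣ d := hF1 d (hre.trans hediv)
    have hdeven : Even d := hF2.trans_dvd ho2d
    have hkey : q * n1 = q ^ (d - 1) * e := by
      have hA : 1 ≤ q ^ (d - 1) := Nat.one_le_pow _ _ (by omega)
      have e1 : q ^ d = q * q ^ (d - 1) := by
        conv_lhs => rw [← Nat.sub_add_cancel hd, pow_succ']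
      have e2 : q ^ (2 * d - 1) = q ^ (d - 1) * q ^ (d - 1) * q := by
        have h5 : 2 * d - 1 = (d - 1) + (d - 1) + 1 := by omega
        rw [h5, pow_succ, pow_add]
      have e3 : q ^ (2 * d) = (q * q ^ (d - 1)) * (q * q ^ (d - 1)) := by
        rw [two_mul, pow_add, e1]
      have hnn := hn hdeven
      rw [e3] at hnn
      rw [e2, e1] at he
      exact Cfsg.Agent.Lib.helper30.h30_hci_key q (q ^ (d - 1)) n1 n0 e hq hA he hnn
    have hrn1 : r ∣ n1 := by
      have h6 : r ∣ q * n1 := by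
        rw [hkey]
        exact Dvd.dvd.mul_left hre _
      rcases (Nat.Prime.dvd_mul hr).1 h6 with h | h
      · exact absurd h hrq
      · exact h
    have hve : padicValNat r e ≤ padicValNat r ((q ^ 2) ^ d - 1) :=
      (padicValNat_dvd_iff_le hM0).1 (pow_padicValNat_dvd.trans hediv)
    rw [if_pos ⟨ho2d, hrn1⟩] at hlb
    omega
  · have hve : padicValNat r e = 0 := padicValNat.eq_zero_of_not_dvd hre
    have h7 := le_trans (Nat.le_add_right _ _) hlb
    omega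

end Cfsg.Agent.Lib.helper99.HCI
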