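import Mathlib
import Cfsg.Prelude.Def_LieTypeChar
import Cfsg.Agent.Lib.helper44.LODefs
import Cfsg.Agent.Lib.helper53.LOARITHr
import Cfsg.Agent.S0243

set_option autoImplicit false

namespace Cfsg.Agent.Lib.helper30

/-- marker for the S2363 PSL2 racing copy -/
theorem h30_lo_psl2_marker : True := by trivial

end Cfsg.Agent.Lib.helper30

namespace Cfsg.Agent.Lib.helper44.LO

open Cfsg

/-- arithmetic core of PSL2: from the order formula of `PSL_2(q)`, `q = p ^ f`. -/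
theorem h30_lo_psl2_core {p : ℕ} (hp : p.Prime) (f : ℕ) (hf : 1 ≤ f) (n : ℕ)
    (hS : Nat.gcd 2 (p ^ f - 1) * ((p ^ f - 1) * n) = ((p ^ f) ^ 2 - 1) * ((p ^ f) ^ 2 - p ^ f)) :
    n < p ^ (3 * n.factorization p) ∧ p ^ f = p ^ n.factorization p := by
  have hq2 : 2 ≤ p ^ f := Nat.one_lt_pow (by omega) hp.one_lt
  have hpq : p ∣ p ^ f := dvd_pow_self p (by omega)
  have hp1 : ¬ p ∣ 1 := fun h => (Nat.ne_of_gt hp.one_lt) (Nat.dvd_one.1 h)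
  have hnd : ¬ p ∣ p ^ f - 1 := by
    intro h
    have h1 := Nat.dvd_sub hpq h
    rw [show p ^ f - (p ^ f - 1) = 1 by omega] at h1
    exact hp1 h1
  have hq2pos : 1 ≤ (p ^ f) ^ 2 := Nat.one_le_pow _ _ (by omega)
  have hnd2 : ¬ p ∣ (p ^ f) ^ 2 - 1 := by
    intro h
    have h1 := Nat.dvd_sub (dvd_pow hpq (two_ne_zero)) h
    rw [show (p ^ f) ^ 2 - ((p ^ f) ^ 2 - 1) = 1 by omega] at h1
    exact hp1 h1
  have h1 : (p ^ f) ^ 2 - p ^ f = p ^ f * (p ^ f - 1) := by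
    rw [Nat.mul_sub_one, sq]
  have hc : Nat.gcd 2 (p ^ f - 1) * (p ^ f - 1) * n =
      (p ^ f) ^ 1 * (((p ^ f) ^ 2 - 1) * (p ^ f - 1)) := by
    calc Nat.gcd 2 (p ^ f - 1) * (p ^ f - 1) * n
        = Nat.gcd 2 (p ^ f - 1) * ((p ^ f - 1) * n) := mul_assoc _ _ _
      _ = ((p ^ f) ^ 2 - 1) * ((p ^ f) ^ 2 - p ^ f) := hS
      _ = (p ^ f) ^ 1 * (((p ^ f) ^ 2 - 1) * (p ^ f - 1)) := by
          rw [h1, pow_one, mul_left_comm]
  have hcp : ¬ p ∣ Nat.gcd 2 (p ^ f - 1) * (p ^ f - 1) := by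
    intro h
    rcases (Nat.Prime.dvd_mul hp).1 h with h | h
    · exact hnd (h.trans (Nat.gcd_dvd_right 2 (p ^ f - 1)))
    · exact hnd h
  have hMp : ¬ p ∣ ((p ^ f) ^ 2 - 1) * (p ^ f - 1) := by
    intro h
    rcases (Nat.Prime.dvd_mul hp).1 h with h | h
    · exact hnd2 h
    · exact hnd h
  have hg : 1 ≤ Nat.gcd 2 (p ^ f - 1) := Nat.gcd_pos_of_pos_left _ (by norm_num)
  have hM : ((p ^ f) ^ 2 - 1) * (p ^ f - 1) < Nat.gcd 2 (p ^ f - 1) * (p ^ f - 1) * (p ^ f) ^ 2 := by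
    calc ((p ^ f) ^ 2 - 1) * (p ^ f - 1) < (p ^ f) ^ 2 * (p ^ f - 1) :=
          Nat.mul_lt_mul_of_pos_right (by omega) (by omega)
      _ = 1 * ((p ^ f - 1) * (p ^ f) ^ 2) := by rw [one_mul, mul_comm]
      _ ≤ Nat.gcd 2 (p ^ f - 1) * ((p ^ f - 1) * (p ^ f) ^ 2) := Nat.mul_le_mul_right _ hg
      _ = Nat.gcd 2 (p ^ f - 1) * (p ^ f - 1) * (p ^ f) ^ 2 := (mul_assoc _ _ _).symm
  obtain ⟨hfac, hlt⟩ := h53_lo_arith hp f hf _ n 1 _ 2 hc hcp hMp hM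
  rw [mul_one] at hfac
  rw [hfac]
  refine ⟨?_, rfl⟩
  calc n < (p ^ f) ^ (1 + 2) := hlt
    _ = p ^ (3 * f) := by rw [← pow_mul, mul_comm]

/-- PSL2 (racing copy). -/
theorem h30_lo_psl_two {F : Type} [Field F] [Fintype F] (p : ℕ) (hp : p.Prime) [CharP F p] :
    Nat.card (Matrix.ProjectiveSpecialLinearGroup (Fin 2) F) <
        p ^ (3 * (Nat.card (Matrix.ProjectiveSpecialLinearGroup (Fin 2) F)).factorization p) ∧
      Fintype.card F = p ^ (Nat.card (Matrix.ProjectiveSpecialLinearGroup (Fin 2) F)).factorization p := by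
  obtain ⟨f, -, hcard⟩ := FiniteField.card F p
  have hf : 1 ≤ (f : ℕ) := f.pos
  have hS := Cfsg.Agent.S0243.result (F := F) (q := p ^ (f : ℕ)) hcard 2 le_rfl
  rw [Fin.prod_univ_two] at hS
  simp only [Fin.val_zero, Fin.val_one, pow_zero, pow_one] at hS
  obtain ⟨h1, h2⟩ := h30_lo_psl2_core hp (f : ℕ) hf _ hS
  exact ⟨h1, hcard.trans h2⟩

end Cfsg.Agent.Lib.helper44.LO
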