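import Cfsg.Agent.Lib.helper88.CSE1
import Cfsg.Agent.Lib.helper89.FusionClosed

/-!
Maps of a fusion system as functions `Ω → Ω` restricted to a subgroup (helper30).

`MapOn F U f` says that the restriction of `f : Ω → Ω` to the subgroup `U` is a map of the fusion
system `F`.  This removes the dependent types from compositions, restrictions and inverses.
-/

set_option autoImplicit false

namespace Cfsg.Agent.Lib.helper30.CseClosed

open Cfsg Cfsg.FusionSystem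
open Cfsg.Agent.Lib.helper88

variable {Ω : Type*} [Group Ω] {S : Subgroup Ω}

/-- The restriction of `f` to `U` is a map of the system. -/
def MapOn (F : FusionSystem S) (U : Subgroup Ω) (f : Ω → Ω) : Prop :=
  ∃ φ ∈ F.Hom U, ∀ x : U, φ x = f x

open Classical in
/-- Extension of a homomorphism on `U` to a function on `Ω` (value `1` outside `U`). -/
noncomputable def extFun {U : Subgroup Ω} (φ : U →* Ω) (x : Ω) : Ω :=
  if h : x ∈ U then φ ⟨x, h⟩ else 1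

open Classical in
theorem extFun_mem {U : Subgroup Ω} (φ : U →* Ω) {x : Ω} (h : x ∈ U) :
    extFun φ x = φ ⟨x, h⟩ := by
  unfold extFun
  exact dif_pos h

theorem extFun_coe {U : Subgroup Ω} (φ : U →* Ω) (x : U) : extFun φ (x : Ω) = φ x :=
  extFun_mem φ x.2

theorem mapOn_extFun (F : FusionSystem S) {U : Subgroup Ω} {φ : U →* Ω} (hφ : φ ∈ F.Hom U) :
    MapOn F U (extFun φ) :=
  ⟨φ, hφ, fun x => (extFun_coe φ x).symm⟩

namespace MapOn

variable {F : FusionSystem S} {U V : Subgroup Ω} {f g : Ω → Ω}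

theorem le (h : MapOn F U f) : U ≤ S := by
  obtain ⟨φ, hφ, -⟩ := h
  exact (F.le_of_mem hφ).1

theorem mem_S (h : MapOn F U f) {x : Ω} (hx : x ∈ U) : f x ∈ S := by
  obtain ⟨φ, hφ, hf⟩ := h
  have := (F.le_of_mem hφ).2 ⟨x, hx⟩
  rwa [hf ⟨x, hx⟩] at this

theorem map_mul (h : MapOn F U f) {x y : Ω} (hx : x ∈ U) (hy : y ∈ U) :
    f (x * y) = f x * f y := by
  obtain ⟨φ, -, hf⟩ := h
  have h1 := hf ⟨x, hx⟩
  have h2 := hf ⟨y, hy⟩
  have h3 := hf (⟨x, hx⟩ * ⟨y, hy⟩)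
  rw [_root_.map_mul, h1, h2] at h3
  exact h3.symm

theorem map_one (h : MapOn F U f) : f 1 = 1 := by
  obtain ⟨φ, -, hf⟩ := h
  have h3 := hf 1
  rw [_root_.map_one] at h3
  exact h3.symm

theorem map_inv (h : MapOn F U f) {x : Ω} (hx : x ∈ U) : f x⁻¹ = (f x)⁻¹ := by
  have h1 := h.map_mul hx (U.inv_mem hx)
  rw [mul_inv_cancel, h.map_one] at h1
  exact (eq_inv_of_mul_eq_one_right h1.symm)

theorem inj (h : MapOn F U f) {x y : Ω} (hx : x ∈ U) (hy : y ∈ U) (hxy : f x = f y) : x = y := by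
  obtain ⟨φ, hφ, hf⟩ := h
  have h1 : φ ⟨x, hx⟩ = φ ⟨y, hy⟩ := by rw [hf, hf]; exact hxy
  exact congrArg Subtype.val (F.injective_of_mem hφ h1)

theorem congr (h : MapOn F U f) (hfg : ∀ x ∈ U, f x = g x) : MapOn F U g := by
  obtain ⟨φ, hφ, hf⟩ := h
  exact ⟨φ, hφ, fun x => (hf x).trans (hfg x x.2)⟩

theorem restrict (h : MapOn F U f) (hVU : V ≤ U) : MapOn F V f := by
  obtain ⟨φ, hφ, hf⟩ := h
  exact ⟨φ.comp (Subgroup.inclusion hVU), restrict_mem F hVU hφ, fun x => hf ⟨x, hVU x.2⟩⟩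

theorem comp (h : MapOn F U f) (hg : MapOn F V g) (hfV : ∀ x ∈ U, f x ∈ V) :
    MapOn F U (fun x => g (f x)) := by
  obtain ⟨φ, hφ, hf⟩ := h
  obtain ⟨ψ, hψ, hg⟩ := hg
  have h' : ∀ x : U, φ x ∈ V := fun x => by rw [hf]; exact hfV x x.2
  refine ⟨ψ.comp (φ.codRestrict V h'), F.comp_mem hφ hψ h', fun x => ?_⟩
  have h1 := hg ⟨φ x, h' x⟩
  show ψ ⟨φ x, h' x⟩ = g (f x)
  rw [h1]
  show g (φ x) = g (f x)
  rw [hf]

theorem exists_inv (h : MapOn F U f) (hV : ∀ y, y ∈ V ↔ ∃ x ∈ U, f x = y) :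
    ∃ g, MapOn F V g ∧ ∀ x ∈ U, g (f x) = x := by
  obtain ⟨φ, hφ, hf⟩ := h
  obtain ⟨ψ, hψ, hinv⟩ := F.inv_mem hφ
  have hVe : V = φ.range := by
    ext y
    rw [hV]
    constructor
    · rintro ⟨x, hx, rfl⟩
      exact ⟨⟨x, hx⟩, hf ⟨x, hx⟩⟩
    · rintro ⟨x, rfl⟩
      exact ⟨x, x.2, (hf x).symm⟩
  refine ⟨extFun (ψ.comp (Subgroup.inclusion hVe.le)), mapOn_extFun F (cast_mem F hVe hψ),
    fun x hx => ?_⟩
  have hfx : f x ∈ V := (hV _).mpr ⟨x, hx, rfl⟩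
  rw [extFun_mem _ hfx]
  have h1 := hinv ⟨x, hx⟩
  have h2 : (Subgroup.inclusion hVe.le ⟨f x, hfx⟩ : φ.range) = ⟨φ ⟨x, hx⟩, ⟨⟨x, hx⟩, rfl⟩⟩ :=
    Subtype.ext (hf ⟨x, hx⟩).symm
  show ψ (Subgroup.inclusion hVe.le ⟨f x, hfx⟩) = x
  rw [h2]
  exact h1

end MapOn

/-- The image of `U` under `f`, as a subgroup. -/
def img (f : Ω → Ω) (U : Subgroup Ω) : Subgroup Ω := Subgroup.closure (f '' (U : Set Ω))

variable {F : FusionSystem S} {U V : Subgroup Ω} {f g : Ω → Ω}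

theorem MapOn.mem_img (h : MapOn F U f) {y : Ω} : y ∈ img f U ↔ ∃ x ∈ U, f x = y := by
  constructor
  · intro hy
    refine Subgroup.closure_induction (p := fun y _ => ∃ x ∈ U, f x = y) ?_ ?_ ?_ ?_ hy
    · rintro _ ⟨x, hx, rfl⟩
      exact ⟨x, hx, rfl⟩
    · exact ⟨1, U.one_mem, h.map_one⟩
    · rintro _ _ - - ⟨x, hx, rfl⟩ ⟨y, hy, rfl⟩
      exact ⟨x * y, U.mul_mem hx hy, h.map_mul hx hy⟩
    · rintro _ - ⟨x, hx, rfl⟩
      exact ⟨x⁻¹, U.inv_mem hx, h.map_inv hx⟩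
  · rintro ⟨x, hx, rfl⟩
    exact Subgroup.subset_closure ⟨x, hx, rfl⟩

theorem MapOn.img_mem (h : MapOn F U f) {x : Ω} (hx : x ∈ U) : f x ∈ img f U :=
  h.mem_img.mpr ⟨x, hx, rfl⟩

theorem MapOn.img_le (h : MapOn F U f) : img f U ≤ S := by
  intro y hy
  obtain ⟨x, hx, rfl⟩ := h.mem_img.mp hy
  exact h.mem_S hx

/-- The inverse of a map of the system, on the image. -/
theorem MapOn.exists_inv' (h : MapOn F U f) :
    ∃ g, MapOn F (img f U) g ∧ ∀ x ∈ U, g (f x) = x :=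
  h.exists_inv (fun _ => h.mem_img)

theorem mapOn_conj (F : FusionSystem S) (hU : U ≤ S) {g : Ω} (hg : g ∈ S) :
    MapOn F U (fun x => g * x * g⁻¹) :=
  ⟨conjHom U g, F.conj_mem hU hg, fun _ => rfl⟩

theorem mapOn_id (F : FusionSystem S) (hU : U ≤ S) : MapOn F U (fun x => x) :=
  ⟨U.subtype, subtype_mem F hU, fun _ => rfl⟩

theorem MapOn.sc {T : Subgroup Ω} (hT : F.StronglyClosed T) (h : MapOn F U f) {x : Ω}
    (hx : x ∈ U) (hxT : x ∈ T) : f x ∈ T := by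
  obtain ⟨φ, hφ, hf⟩ := h
  have := CSE.map_mem_sc F hT hφ ⟨x, hx⟩ hxT
  rwa [hf ⟨x, hx⟩] at this

theorem MapOn.sc_inv {T : Subgroup Ω} (hT : F.StronglyClosed T) (h : MapOn F U f) {x : Ω}
    (hx : x ∈ U) (hxT : f x ∈ T) : x ∈ T := by
  obtain ⟨g, hg, hgf⟩ := h.exists_inv'
  have := hg.sc hT (h.img_mem hx) hxT
  rwa [hgf x hx] at this

theorem MapOn.forall_mem_sup {A B : Subgroup Ω} (h : MapOn F (A ⊔ B) f) (K : Subgroup Ω)
    (hA : ∀ x ∈ A, f x ∈ K) (hB : ∀ x ∈ B, f x ∈ K) : ∀ x ∈ A ⊔ B, f x ∈ K := by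
  obtain ⟨φ, -, hf⟩ := h
  intro x hx
  have := Cfsg.Agent.Lib.helper87.Craven.sup_forall_mem φ K
    (fun y hy => by rw [hf]; exact hA y hy) (fun y hy => by rw [hf]; exact hB y hy) ⟨x, hx⟩
  rwa [hf ⟨x, hx⟩] at this

theorem MapOn.surj_of_maps [Finite S] (h : MapOn F U f) (hm : ∀ x ∈ U, f x ∈ U) :
    ∀ y ∈ U, ∃ x ∈ U, f x = y := by
  obtain ⟨φ, hφ, hf⟩ := h
  have hr := CSE.range_eq_of_maps F hφ (fun u => by rw [hf]; exact hm u u.2)
  intro y hy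
  rw [← hr] at hy
  obtain ⟨x, rfl⟩ := hy
  exact ⟨x, x.2, (hf x).symm⟩

theorem MapOn.exists_aut [Finite S] (h : MapOn F U f) (hm : ∀ x ∈ U, f x ∈ U) :
    ∃ α ∈ F.autGroup U, ∀ u : U, ((α u : U) : Ω) = f u := by
  obtain ⟨φ, hφ, hf⟩ := h
  obtain ⟨α, hα, hα'⟩ := CSE.exists_aut_of_maps F hφ (fun u => by rw [hf]; exact hm u u.2)
  exact ⟨α, hα, fun u => (hα' u).trans (hf u)⟩

theorem mapOn_of_aut (F : FusionSystem S) (hU : U ≤ S) {α : MulAut U} (hα : α ∈ F.autGroup U) :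
    MapOn F U (extFun (U.subtype.comp α.toMonoidHom)) :=
  mapOn_extFun F ((mem_autGroup_iff' F hU α).mp hα)

theorem extFun_aut {α : MulAut U} {x : Ω} (hx : x ∈ U) :
    extFun (U.subtype.comp α.toMonoidHom) x = ((α ⟨x, hx⟩ : U) : Ω) :=
  extFun_mem _ hx

theorem MapOn.card_img (h : MapOn F U f) : Nat.card (img f U) = Nat.card U := by
  have hb : Function.Bijective (fun x : U => (⟨f x, h.img_mem x.2⟩ : img f U)) := by
    constructor
    · intro x y hxy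
      exact Subtype.ext (h.inj x.2 y.2 (congrArg Subtype.val hxy))
    · rintro ⟨y, hy⟩
      obtain ⟨x, hx, rfl⟩ := h.mem_img.mp hy
      exact ⟨⟨x, hx⟩, rfl⟩
  exact (Nat.card_congr (Equiv.ofBijective _ hb)).symm

theorem MapOn.img_inf {T : Subgroup Ω} (hT : F.StronglyClosed T) (h : MapOn F U f) :
    img f U ⊓ T = img f (U ⊓ T) := by
  have h' : MapOn F (U ⊓ T) f := h.restrict inf_le_left
  ext y
  rw [Subgroup.mem_inf, h.mem_img, h'.mem_img]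
  constructor
  · rintro ⟨⟨x, hx, rfl⟩, hy⟩
    exact ⟨x, ⟨hx, h.sc_inv hT hx hy⟩, rfl⟩
  · rintro ⟨x, ⟨hx, hxT⟩, rfl⟩
    exact ⟨⟨x, hx, rfl⟩, h.sc hT hx hxT⟩

theorem MapOn.card_img_inf {T : Subgroup Ω} (hT : F.StronglyClosed T) (h : MapOn F U f) :
    Nat.card ↥(img f U ⊓ T) = Nat.card ↥(U ⊓ T) := by
  rw [h.img_inf hT]
  exact (h.restrict inf_le_left).card_img

/-- Extension of a map onto a receptive subgroup to the subgroup generated by a set of elements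
satisfying the extender condition. -/
theorem MapOn.exists_ext_of_receptive {P R : Subgroup Ω} (h : MapOn F P f)
    (hrec : F.IsReceptive R) (hR : ∀ y, y ∈ R ↔ ∃ x ∈ P, f x = y) (s : Set Ω)
    (hs : ∀ g ∈ s, g ∈ S ∧ g ∈ Subgroup.normalizer (P : Set Ω) ∧
      ∃ k ∈ S, ∀ x ∈ P, f (g * x * g⁻¹) = k * f x * k⁻¹) :
    ∃ f', MapOn F (Subgroup.closure s) f' ∧ ∀ x ∈ P, x ∈ Subgroup.closure s → f' x = f x := by
  obtain ⟨φ, hφ, hf⟩ := h
  have hφR : φ.range = R := by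
    ext y
    rw [hR]
    constructor
    · rintro ⟨x, rfl⟩
      exact ⟨x, x.2, (hf x).symm⟩
    · rintro ⟨x, hx, rfl⟩
      exact ⟨⟨x, hx⟩, hf ⟨x, hx⟩⟩
  obtain ⟨ψ, hψ, hψx⟩ := Cfsg.Agent.Lib.helper89.exists_extension_closure F hrec hφ hφR s (by
    intro g hg
    obtain ⟨h1, h2, k, hk, hk'⟩ := hs g hg
    refine ⟨h1, h2, k, hk, fun x hx => ?_⟩
    rw [hf x]
    have := hf ⟨g * x * g⁻¹, hx⟩
    rw [this]
    exact hk' x x.2)
  refine ⟨extFun ψ, mapOn_extFun F hψ, fun x hxP hxN => ?_⟩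
  rw [extFun_mem ψ hxN, hψx x hxP hxN]
  exact hf ⟨x, hxP⟩

theorem card_lt_of_mem_of_notMem {G : Type*} [Group G] {A B : Subgroup G} [Finite B] (hAB : A ≤ B)
    {x : G} (hxB : x ∈ B) (hxA : x ∉ A) : Nat.card A < Nat.card B := by
  by_contra hlt
  push Not at hlt
  have := Subgroup.eq_of_le_of_card_ge hAB hlt
  exact hxA (this ▸ hxB)

end Cfsg.Agent.Lib.helper30.CseClosed
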