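import Mathlib
import Cfsg.Agent.Lib.helper30.NarrowChain
import Cfsg.Agent.Lib.helper30.NarrowAut
import Cfsg.Agent.Lib.helper30.PCentral

/-!
# Characteristic chains in `p`-groups with a small maximal elementary abelian subgroup

`HasCharChain p R` is the conclusion of `narrow_chain`.  It holds as soon as `R` (`p` odd, rank at
least three) has a maximal elementary abelian subgroup of order `p ^ 2`
(`hasCharChain_of_max_elemAb`), in particular when some elementary abelian subgroup `E` has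
centralizer of rank at most two (`hasCharChain_of_centralizer_rank`).  `char_chain_aut` is the
consequence for groups of automorphisms (B-G 5.5 (a), (b) in this generality), and
`centralizer_rank_aut` is the form used for B-G Theorem 4.20.
-/

set_option autoImplicit false

namespace Cfsg.Agent.Lib.helper30

open scoped commutatorElement

universe u

/-- The conclusion of `narrow_chain`: a chain of characteristic subgroups with factors of order at
most `p` whose top term is elementary abelian and contains all elements of order dividing `p` of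
its centralizer. -/
def HasCharChain (p : ℕ) (R : Type*) [Group R] : Prop :=
  ∃ (F : ℕ → Subgroup R) (n : ℕ), F 0 = ⊥ ∧ (∀ i, F i ≤ F (i + 1)) ∧
      (∀ i, Nat.card (F (i + 1)) ≤ p * Nat.card (F i)) ∧
      (∀ (α : MulAut R) (i : ℕ) (x : R), x ∈ F i → α x ∈ F i) ∧
      (∀ x ∈ F n, ∀ y ∈ F n, x * y = y * x) ∧ (∀ x ∈ F n, x ^ p = 1) ∧
      (∀ x : R, (∀ e ∈ F n, x * e = e * x) → x ^ p = 1 → x ∈ F n)

theorem hasCharChain_of_narrow {R : Type*} [Group R] [Finite R] (p : ℕ) [Fact p.Prime]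
    (hp : p ≠ 2) (hR : IsPGroup p R) (hr : ¬ Cfsg.PRankLE p 2 R) (hn : Cfsg.IsNarrow p R) :
    HasCharChain p R := narrow_chain p hp hR hr hn

/-- A `p`-group of rank at least three (`p` odd) with a maximal elementary abelian subgroup of
order `p ^ 2` has a characteristic chain. -/
theorem hasCharChain_of_max_elemAb {R : Type*} [Group R] [Finite R] (p : ℕ) [Fact p.Prime]
    (hp : p ≠ 2) (hR : IsPGroup p R) (hr : ¬ Cfsg.PRankLE p 2 R) (E₀ : Subgroup R)
    (hE₀ab : ∀ x ∈ E₀, ∀ y ∈ E₀, x * y = y * x) (hE₀card : Nat.card E₀ = p ^ 2)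
    (hext : ∀ x : R, x ^ p = 1 → (∀ e ∈ E₀, x * e = e * x) → x ∈ E₀) : HasCharChain p R := by
  classical
  have hpp : p.Prime := Fact.out
  have hE₀p : IsPGroup p E₀ := hR.to_subgroup E₀
  -- the subgroups `Z` and `W`
  obtain ⟨Z, hZ⟩ := exists_omega p hp (Subgroup.center R) (by
    intro x hx y hy z hz
    exact Subgroup.mem_center_iff.mp hz _)
  obtain ⟨W, hW⟩ := exists_omega p hp (Subgroup.upperCentralSeries R 2) (by
    intro x hx y hy z hz
    have h1 := (mem_ucs_two x).mp hx y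
    exact (Subgroup.mem_center_iff.mp h1 z).symm)
  obtain ⟨hZcard, hWcard, hET, -, hZE, hZW, -, -⟩ :=
    narrow_core p hp hR hr E₀ hE₀ab hE₀card hext Z W hZ hW
  have hZcen : ∀ z ∈ Z, z ∈ Subgroup.center R := fun z hz => ((hZ z).mp hz).1
  -- an element of `E₀` outside `Z`
  obtain ⟨r₀, hr₀E, hr₀Z⟩ : ∃ r₀ ∈ E₀, r₀ ∉ Z := by
    by_contra h
    push Not at h
    have h1 := Subgroup.card_le_of_le (show E₀ ≤ Z from h)
    rw [hE₀card, hZcard] at h1
    nlinarith [hpp.one_lt]
  have hgen : Subgroup.closure ((Z : Set R) ∪ {r₀}) = E₀ :=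
    closure_eq_of_card_sq p hR Z E₀ hZE (by rw [hZcard]) (by rw [hE₀card]) r₀ hr₀E hr₀Z
  -- the key property of `r₀`
  have hK : ∀ x : R, x ^ p = 1 → x * r₀ = r₀ * x → x ∈ Subgroup.centralizer (W : Set R) →
      x ∈ Z := by
    intro x hxp hxr hxW
    have hxE : x ∈ E₀ := by
      apply hext x hxp
      rw [← hgen]
      apply commute_closure
      rintro s (hs | hs)
      · exact (Subgroup.mem_center_iff.mp (hZcen s hs) x)
      · rw [Set.mem_singleton_iff] at hs
        subst hs
        exact hxr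
    have hZT : Z ≤ E₀ ⊓ Subgroup.centralizer (W : Set R) := by
      intro z hz
      refine Subgroup.mem_inf.mpr ⟨hZE hz, ?_⟩
      rw [Subgroup.mem_centralizer_iff]
      intro w _
      exact Subgroup.mem_center_iff.mp (hZcen z hz) w
    have hlt : E₀ ⊓ Subgroup.centralizer (W : Set R) < E₀ := by
      refine lt_of_le_of_ne inf_le_left ?_
      intro h
      apply hET
      rw [← h]
      exact inf_le_right
    have h1 := pgroup_lt_card p _ _ hE₀p hlt
    rw [hE₀card] at h1
    have h2 : Nat.card (E₀ ⊓ Subgroup.centralizer (W : Set R) : Subgroup R) ≤ Nat.card Z := by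
      rw [hZcard]
      have : p * Nat.card (E₀ ⊓ Subgroup.centralizer (W : Set R) : Subgroup R) ≤ p * p := by
        rw [← sq]; exact h1
      exact Nat.le_of_mul_le_mul_left this hpp.pos
    have h3 := Subgroup.eq_of_le_of_card_ge hZT h2
    rw [h3]
    exact ⟨hxE, hxW⟩
  -- a maximal characteristic elementary abelian subgroup containing `W`
  have hWab : ∀ x ∈ W, ∀ y ∈ W, x * y = y * x := by
    have h1 : IsMulCommutative W := IsPGroup.isMulCommutative_of_card_eq_prime_sq hWcard
    intro x hx y hy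
    exact congrArg Subtype.val (isMulCommutative_iff.mp h1 ⟨x, hx⟩ ⟨y, hy⟩)
  have hWinv : ∀ (α : MulAut R), ∀ x ∈ W, α x ∈ W := by
    intro α w hw
    rw [hW]
    obtain ⟨hw2, hwp⟩ := (hW w).mp hw
    refine ⟨?_, ?_⟩
    · have h1 : (Subgroup.upperCentralSeries R 2).Characteristic := inferInstance
      exact Subgroup.characteristic_iff_le_comap.mp h1 α hw2
    · rw [← map_pow, hwp, map_one]
  obtain ⟨Em, hWEm, hEm⟩ := Finite.exists_le_maximal
    (p := fun F : Subgroup R => W ≤ F ∧ (∀ (α : MulAut R), ∀ x ∈ F, α x ∈ F) ∧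
      (∀ x ∈ F, ∀ y ∈ F, x * y = y * x) ∧ (∀ x ∈ F, x ^ p = 1)) (a := W)
    ⟨le_refl W, hWinv, hWab, fun w hw => ((hW w).mp hw).2⟩
  obtain ⟨-, hEminv, hEmab, hEmexp⟩ := hEm.1
  have hEmmax := hEm.2
  have hEmn : Em.Normal := by
    constructor
    intro x hx g
    have := hEminv (MulAut.conj g) x hx
    simpa using this
  have hEmW : ∀ x ∈ Subgroup.centralizer (Em : Set R), x ∈ Subgroup.centralizer (W : Set R) :=
    fun x hx => Subgroup.centralizer_le hWEm hx
  have hEmT : ∀ x ∈ Em, x ∈ Subgroup.centralizer (W : Set R) := by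
    intro x hx
    rw [Subgroup.mem_centralizer_iff]
    intro w hw
    exact hEmab w (hWEm hw) x hx
  have hZEm : Z ≤ Em := hZW.trans hWEm
  -- the Ω-property
  have hP1 : ∀ x ∈ lev Em 1, x ^ p = 1 → x ∈ Em := by
    intro x hx hxp
    have hcl : ∀ a ∈ lev Em 1, ∀ b ∈ lev Em 1, ∀ c ∈ lev Em 1,
        (a * b * a⁻¹ * b⁻¹) * c = c * (a * b * a⁻¹ * b⁻¹) := by
      intro a ha b hb c hc
      rw [mem_lev_succ] at ha hc
      have h1 : a * b * a⁻¹ * b⁻¹ ∈ Em := (mem_lev_zero Em hEmab _).mp (ha.2 b)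
      exact Subgroup.mem_centralizer_iff.mp hc.1 _ h1
    obtain ⟨B, hB⟩ := exists_omega p hp (lev Em 1) hcl
    have hBlev : ∀ y ∈ B, y ∈ Subgroup.centralizer (Em : Set R) ∧ ∀ r : R, y * r * y⁻¹ * r⁻¹ ∈ Em := by
      intro y hy
      have h1 := ((hB y).mp hy).1
      rw [mem_lev_succ] at h1
      exact ⟨h1.1, fun r => (mem_lev_zero Em hEmab _).mp (h1.2 r)⟩
    have hEl : Em ≤ lev Em 1 := by
      intro y hy
      rw [mem_lev_succ]
      refine ⟨Subgroup.mem_centralizer_iff.mpr (fun e he => hEmab e he y hy), fun r => ?_⟩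
      rw [mem_lev_zero Em hEmab]
      have := hEmn.conj_mem _ (Em.inv_mem hy) r
      have h2 : y * r * y⁻¹ * r⁻¹ = y * (r * y⁻¹ * r⁻¹) := by group
      rw [h2]
      exact Em.mul_mem hy this
    have hEmB : Em ≤ B := fun y hy => (hB y).mpr ⟨hEl hy, hEmexp y hy⟩
    have hBexp : ∀ y ∈ B, y ^ p = 1 := fun y hy => ((hB y).mp hy).2
    have hBinv : ∀ (α : MulAut R), ∀ y ∈ B, α y ∈ B := by
      intro α y hy
      obtain ⟨hyC, hyl⟩ := hBlev y hy
      rw [hB, mem_lev_succ]
      refine ⟨⟨?_, ?_⟩, ?_⟩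
      · rw [Subgroup.mem_centralizer_iff]
        intro e he
        have h1 := Subgroup.mem_centralizer_iff.mp hyC _ (hEminv α.symm e he)
        have h2 := congrArg α h1
        rw [map_mul, map_mul, MulEquiv.apply_symm_apply] at h2
        exact h2
      · intro r
        rw [mem_lev_zero Em hEmab]
        have h1 := hEminv α _ (hyl (α.symm r))
        rw [map_mul, map_mul, map_mul, map_inv, map_inv, MulEquiv.apply_symm_apply] at h1
        exact h1
      · rw [← map_pow, hBexp y hy, map_one]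
    -- `|B| ≤ p |Em|`
    have hBcard : Nat.card B ≤ Nat.card Em * p := by
      have h1 := card_le_mul_card_centralizer B Em r₀ (fun y hy => by
        have := Em.inv_mem ((hBlev y hy).2 r₀)
        have h2 : r₀ * y * r₀⁻¹ * y⁻¹ = (y * r₀ * y⁻¹ * r₀⁻¹)⁻¹ := by group
        rw [h2]; exact this) (fun z hz y hy =>
          (Subgroup.mem_centralizer_iff.mp (hBlev y hy).1 z hz))
      have h2 : (B ⊓ Subgroup.centralizer {r₀} : Subgroup R) ≤ Z := by
        intro y hy
        have hyr : y * r₀ = r₀ * y := by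
          have : y ∈ Subgroup.centralizer {r₀} := hy.2
          rw [Subgroup.mem_centralizer_singleton_iff] at this
          exact this
        exact hK y (hBexp y hy.1) hyr (hEmW y (hBlev y hy.1).1)
      calc Nat.card B ≤ Nat.card Em * Nat.card (B ⊓ Subgroup.centralizer {r₀} : Subgroup R) := h1
        _ ≤ Nat.card Em * Nat.card Z := Nat.mul_le_mul_left _ (Subgroup.card_le_of_le h2)
        _ = Nat.card Em * p := by rw [hZcard]
    -- `B` is abelian
    have hBab : ∀ u ∈ B, ∀ v ∈ B, u * v = v * u := by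
      have hcq : Nat.card (↥B ⧸ Em.subgroupOf B) ∣ p := by
        have h1 : Nat.card ↥B = Nat.card (↥B ⧸ Em.subgroupOf B) * Nat.card (Em.subgroupOf B) :=
          Subgroup.card_eq_card_quotient_mul_card_subgroup _
        rw [Nat.card_congr (Subgroup.subgroupOfEquivOfLe hEmB).toEquiv] at h1
        have h2 : Nat.card (↥B ⧸ Em.subgroupOf B) ≤ p := by
          have h3 : Nat.card (↥B ⧸ Em.subgroupOf B) * Nat.card Em ≤ p * Nat.card Em := by
            rw [← h1, mul_comm p]; exact hBcard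
          exact Nat.le_of_mul_le_mul_right h3 Nat.card_pos
        have hq : IsPGroup p (↥B ⧸ Em.subgroupOf B) := (hR.to_subgroup B).to_quotient _
        obtain ⟨k, hk⟩ := hq.exists_card_eq
        rw [hk] at h2 ⊢
        have hk1 : k ≤ 1 := by
          by_contra h
          have h4 : p ^ 2 ≤ p ^ k := Nat.pow_le_pow_right hpp.pos (by omega)
          nlinarith [hpp.one_lt]
        exact pow_dvd_pow p hk1 |>.trans (by rw [pow_one])
      have hcyc : IsCyclic (↥B ⧸ Em.subgroupOf B) := isCyclic_of_card_dvd_prime hcq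
      intro u hu v hv
      have hker : (QuotientGroup.mk' (Em.subgroupOf B)).ker ≤ Subgroup.center ↥B := by
        rw [QuotientGroup.ker_mk']
        intro e he
        rw [Subgroup.mem_center_iff]
        intro b
        apply Subtype.ext
        simp only [Subgroup.coe_mul]
        exact (Subgroup.mem_centralizer_iff.mp (hBlev b b.2).1 e
          (Subgroup.mem_subgroupOf.mp he)).symm
      have := (MonoidHom.isMulCommutative_of_isCyclic_of_ker_le_center
        (QuotientGroup.mk' (Em.subgroupOf B)) hker).is_comm.comm ⟨u, hu⟩ ⟨v, hv⟩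
      exact congrArg Subtype.val this
    have hBle := hEmmax (y := B) ⟨hWEm.trans hEmB, hBinv, hBab, hBexp⟩ hEmB
    exact hBle ((hB x).mpr ⟨hx, hxp⟩)
  have hΩ := omega_centralizer_le_of_level_one p hp hR Em hEmab hEmexp hP1
  -- the chain
  obtain ⟨n, hn⟩ := (hR.isNilpotent).nilpotent
  refine ⟨fun i => Em ⊓ Subgroup.upperCentralSeries R i, n, ?_, ?_, ?_, ?_, ?_, ?_, ?_⟩
  · show Em ⊓ Subgroup.upperCentralSeries R 0 = ⊥
    rw [Subgroup.upperCentralSeries_zero, inf_bot_eq]
  · intro i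
    exact inf_le_inf_left _ (Subgroup.upperCentralSeries_mono _ (Nat.le_succ i))
  · intro i
    show Nat.card (Em ⊓ Subgroup.upperCentralSeries R (i + 1) : Subgroup R)
      ≤ p * Nat.card (Em ⊓ Subgroup.upperCentralSeries R i : Subgroup R)
    have h1 := card_le_mul_card_centralizer (Em ⊓ Subgroup.upperCentralSeries R (i + 1))
      (Em ⊓ Subgroup.upperCentralSeries R i) r₀ (fun y hy => by
        refine ⟨?_, ?_⟩
        · have := hEmn.conj_mem y hy.1 r₀
          exact Em.mul_mem this (Em.inv_mem hy.1)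
        · have h2 := Subgroup.mem_upperCentralSeries_succ_iff.mp hy.2 r₀
          rw [commutatorElement_def] at h2
          have h3 : r₀ * y * r₀⁻¹ * y⁻¹ = (y * r₀ * y⁻¹ * r₀⁻¹)⁻¹ := by group
          rw [h3]
          exact Subgroup.inv_mem _ h2) (fun z hz y hy => hEmab z hz.1 y hy.1)
    have h2 : ((Em ⊓ Subgroup.upperCentralSeries R (i + 1)) ⊓ Subgroup.centralizer {r₀} :
        Subgroup R) ≤ Z := by
      intro y hy
      have hyr : y * r₀ = r₀ * y := by
        have : y ∈ Subgroup.centralizer {r₀} := hy.2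
        rw [Subgroup.mem_centralizer_singleton_iff] at this
        exact this
      exact hK y (hEmexp y hy.1.1) hyr (hEmT y hy.1.1)
    calc _ ≤ Nat.card (Em ⊓ Subgroup.upperCentralSeries R i : Subgroup R) *
          Nat.card ((Em ⊓ Subgroup.upperCentralSeries R (i + 1)) ⊓ Subgroup.centralizer {r₀} :
            Subgroup R) := h1
      _ ≤ Nat.card (Em ⊓ Subgroup.upperCentralSeries R i : Subgroup R) * Nat.card Z :=
          Nat.mul_le_mul_left _ (Subgroup.card_le_of_le h2)
      _ = p * Nat.card (Em ⊓ Subgroup.upperCentralSeries R i : Subgroup R) := by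
          rw [hZcard, mul_comm]
  · intro α i x hx
    refine ⟨hEminv α x hx.1, ?_⟩
    have h1 : (Subgroup.upperCentralSeries R i).Characteristic := inferInstance
    exact Subgroup.characteristic_iff_le_comap.mp h1 α hx.2
  · intro x hx y hy
    exact hEmab x hx.1 y hy.1
  · intro x hx
    exact hEmexp x hx.1
  · intro x hxE hxp
    show x ∈ Em ⊓ Subgroup.upperCentralSeries R n
    rw [hn]
    refine ⟨hΩ x ?_ hxp, Subgroup.mem_top _⟩
    rw [Subgroup.mem_centralizer_iff]
    intro e he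
    exact (hxE e ⟨he, by rw [hn]; exact Subgroup.mem_top _⟩).symm

/-- A maximal elementary abelian subgroup of order `p ^ 2` from an elementary abelian subgroup
whose centralizer has rank at most two. -/
theorem exists_max_elemAb {R : Type*} [Group R] [Finite R] (p : ℕ) [Fact p.Prime]
    (hR : IsPGroup p R) (hr : ¬ Cfsg.PRankLE p 2 R) (E : Subgroup R)
    (hEab : ∀ x ∈ E, ∀ y ∈ E, x * y = y * x) (hEexp : ∀ x ∈ E, x ^ p = 1)
    (hrk : ∀ B : Subgroup R, (∀ b ∈ B, ∀ e ∈ E, b * e = e * b) →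
      (∀ x ∈ B, ∀ y ∈ B, x * y = y * x) → (∀ x ∈ B, x ^ p = 1) → Nat.card B ≤ p ^ 2) :
    ∃ E₀ : Subgroup R, (∀ x ∈ E₀, ∀ y ∈ E₀, x * y = y * x) ∧ Nat.card E₀ = p ^ 2 ∧
      ∀ x : R, x ^ p = 1 → (∀ e ∈ E₀, x * e = e * x) → x ∈ E₀ := by
  classical
  have hpp : p.Prime := Fact.out
  obtain ⟨E₀, hEE₀, hE₀⟩ := Finite.exists_le_maximal
    (p := fun F : Subgroup R => (∀ x ∈ F, ∀ y ∈ F, x * y = y * x) ∧ (∀ x ∈ F, x ^ p = 1)) (a := E)
    ⟨hEab, hEexp⟩
  obtain ⟨hE₀ab, hE₀exp⟩ := hE₀.1
  have hE₀max := hE₀.2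
  have hext : ∀ x : R, x ^ p = 1 → (∀ e ∈ E₀, x * e = e * x) → x ∈ E₀ := by
    intro x hxp hxE
    have hcomm : ∀ s ∈ (E₀ : Set R) ∪ {x}, ∀ t ∈ (E₀ : Set R) ∪ {x}, s * t = t * s := by
      rintro s (hs | hs) t (ht | ht)
      · exact hE₀ab s hs t ht
      · rw [Set.mem_singleton_iff] at ht
        subst ht
        exact (hxE s hs).symm
      · rw [Set.mem_singleton_iff] at hs
        subst hs
        exact hxE t ht
      · rw [Set.mem_singleton_iff] at hs ht
        subst hs
        subst ht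
        rfl
    have hexp : ∀ s ∈ (E₀ : Set R) ∪ {x}, s ^ p = 1 := by
      rintro s (hs | hs)
      · exact hE₀exp s hs
      · rw [Set.mem_singleton_iff] at hs
        subst hs
        exact hxp
    have hle := hE₀max (y := Subgroup.closure ((E₀ : Set R) ∪ {x}))
      ⟨closure_comm _ hcomm, closure_exp_of_comm p _ hcomm hexp⟩
      (fun e he => Subgroup.subset_closure (Or.inl he))
    exact hle (Subgroup.subset_closure (Or.inr rfl))
  have hE₀le : Nat.card E₀ ≤ p ^ 2 :=
    hrk E₀ (fun b hb e he => hE₀ab b hb e (hEE₀ he)) hE₀ab hE₀exp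
  refine ⟨E₀, hE₀ab, ?_, hext⟩
  have hE₀p : IsPGroup p E₀ := hR.to_subgroup E₀
  obtain ⟨k, hk⟩ := hE₀p.exists_card_eq
  have hk2 : k ≤ 2 := by
    rw [hk] at hE₀le
    exact (Nat.pow_le_pow_iff_right hpp.one_lt).mp hE₀le
  by_contra hne
  have hk1 : k ≤ 1 := by
    rcases Nat.lt_or_ge k 2 with h | h
    · omega
    · exfalso
      apply hne
      rw [hk, le_antisymm hk2 h]
  have hcardp : Nat.card E₀ ≤ p := by
    rw [hk]
    calc p ^ k ≤ p ^ 1 := Nat.pow_le_pow_right hpp.pos hk1
      _ = p := pow_one p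
  -- a central element of order `p`
  have hRnt : Nontrivial R := by
    by_contra hnt
    rw [not_nontrivial_iff_subsingleton] at hnt
    apply hr
    intro B _ _
    have : Nat.card B = 1 := Nat.card_unique
    rw [this]
    exact Nat.one_le_pow _ _ hpp.pos
  have hcnt : Nontrivial (Subgroup.center R) := hR.center_nontrivial
  obtain ⟨z0, hz0⟩ := exists_ne (1 : Subgroup.center R)
  obtain ⟨y0, hy0, hy0p⟩ := exists_pow_prime_eq_one p (hR.to_subgroup (Subgroup.center R)) z0 hz0
  have hyc : (y0 : R) ∈ Subgroup.center R := y0.2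
  have hyp : (y0 : R) ^ p = 1 := by
    have := congrArg Subtype.val hy0p
    simpa using this
  have hyne : (y0 : R) ≠ 1 := fun h => hy0 (Subtype.ext h)
  have hyE : (y0 : R) ∈ E₀ := hext _ hyp (fun e _ => (Subgroup.mem_center_iff.mp hyc e).symm)
  have hzz : Subgroup.zpowers (y0 : R) = E₀ := by
    apply Subgroup.eq_of_le_of_card_ge ((Subgroup.zpowers_le).mpr hyE)
    rw [Nat.card_zpowers]
    have h1 : orderOf (y0 : R) ∣ p := orderOf_dvd_of_pow_eq_one hyp
    rcases (Nat.dvd_prime hpp).mp h1 with h | h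
    · exact absurd (orderOf_eq_one_iff.mp h) hyne
    · rw [h]; exact hcardp
  have hE₀c : ∀ e ∈ E₀, e ∈ Subgroup.center R := by
    intro e he
    rw [← hzz] at he
    exact (Subgroup.zpowers_le (H := Subgroup.center R)).mpr hyc he
  apply hr
  intro B _ hBexp
  have hBE : B ≤ E₀ := by
    intro b hb
    exact hext b (hBexp b hb) (fun e he => (Subgroup.mem_center_iff.mp (hE₀c e he) b))
  calc Nat.card B ≤ Nat.card E₀ := Subgroup.card_le_of_le hBE
    _ ≤ p := hcardp
    _ ≤ p ^ 2 := by nlinarith [hpp.one_lt]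

/-- A `p`-group of rank at least three (`p` odd) with an elementary abelian subgroup whose
centralizer has rank at most two has a characteristic chain. -/
theorem hasCharChain_of_centralizer_rank {R : Type*} [Group R] [Finite R] (p : ℕ) [Fact p.Prime]
    (hp : p ≠ 2) (hR : IsPGroup p R) (hr : ¬ Cfsg.PRankLE p 2 R) (E : Subgroup R)
    (hEab : ∀ x ∈ E, ∀ y ∈ E, x * y = y * x) (hEexp : ∀ x ∈ E, x ^ p = 1)
    (hrk : ∀ B : Subgroup R, (∀ b ∈ B, ∀ e ∈ E, b * e = e * b) →
      (∀ x ∈ B, ∀ y ∈ B, x * y = y * x) → (∀ x ∈ B, x ^ p = 1) → Nat.card B ≤ p ^ 2) :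
    HasCharChain p R := by
  obtain ⟨E₀, hE₀ab, hE₀card, hext⟩ := exists_max_elemAb p hR hr E hEab hEexp hrk
  exact hasCharChain_of_max_elemAb p hp hR hr E₀ hE₀ab hE₀card hext

/-- The characteristic chain inside a group, invariant under `N_G(R)`, with the Thompson
property. -/
theorem char_chain_grp {G : Type*} [Group G] [Finite G] (p : ℕ) [Fact p.Prime] (hp : p ≠ 2)
    (R : Subgroup G) (hR : IsPGroup p R) (hc : HasCharChain p R) :
    ∃ (F : ℕ → Subgroup G) (n : ℕ), F 0 = ⊥ ∧ (∀ i, F i ≤ F (i + 1)) ∧ (∀ i, F i ≤ R) ∧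
      (∀ i, Nat.card (F (i + 1)) ≤ p * Nat.card (F i)) ∧
      (∀ i, Subgroup.normalizer (R : Set G) ≤ Subgroup.normalizer (F i : Set G)) ∧
      (∀ a ∈ Subgroup.normalizer (R : Set G), (orderOf a).Coprime p →
        (∀ e ∈ F n, a * e = e * a) → ∀ r ∈ R, a * r = r * a) := by
  obtain ⟨F', n, hF0, hFmono, hFcard, hFinv, hFab, hFexp, hFΩ⟩ := hc
  refine ⟨fun i => (F' i).map R.subtype, n, ?_, ?_, ?_, ?_, ?_, ?_⟩
  · show (F' 0).map R.subtype = ⊥
    rw [hF0, Subgroup.map_bot]
  · intro i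
    exact Subgroup.map_mono (hFmono i)
  · intro i
    exact Subgroup.map_subtype_le _
  · intro i
    show Nat.card ((F' (i + 1)).map R.subtype) ≤ p * Nat.card ((F' i).map R.subtype)
    rw [Subgroup.card_subtype, Subgroup.card_subtype]
    exact hFcard i
  · intro i a ha
    apply mem_normalizer_of_conj
    · rintro _ ⟨y, hy, rfl⟩
      exact ⟨conjAut R a ha y, hFinv (conjAut R a ha) i y hy, rfl⟩
    · rintro _ ⟨y, hy, rfl⟩
      have ha' : a⁻¹ ∈ Subgroup.normalizer (R : Set G) := Subgroup.inv_mem _ ha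
      refine ⟨conjAut R a⁻¹ ha' y, hFinv (conjAut R a⁻¹ ha') i y hy, ?_⟩
      show R.subtype (conjAut R a⁻¹ ha' y) = a⁻¹ * R.subtype y * a
      simp [conjAut_apply]
  · intro a haR hcop hae
    refine Cfsg.Agent.S1443.main p hp a hcop (Nat.card R) R ((F' n).map R.subtype) rfl hR haR
      (Subgroup.map_subtype_le _) ?_ ?_ ?_
    · rintro _ ⟨x, hx, rfl⟩ _ ⟨y, hy, rfl⟩
      have := hFab x hx y hy
      exact congrArg Subtype.val this
    · rintro _ ⟨x, hx, rfl⟩
      have := hFexp x hx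
      exact congrArg Subtype.val this
    · intro x hx hxp
      apply hae
      refine ⟨⟨x, hx.1⟩, ?_, rfl⟩
      apply hFΩ
      · intro e he
        apply Subtype.ext
        have h1 : x ∈ Subgroup.centralizer (((F' n).map R.subtype : Subgroup G) : Set G) := hx.2
        exact (Subgroup.mem_centralizer_iff.mp h1 (e : G) ⟨e, he, rfl⟩).symm
      · apply Subtype.ext
        exact hxp

/-- **B-G Theorem 5.5 (a), (b) for groups with a characteristic chain.**  Let `R` be a
`p`-subgroup with a characteristic chain, `p` odd, and `A ≤ N_G(R)`.  Then every `p'`-element of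
`A'` centralizes `R`, and for every `p'`-element `a` of `A` the power `a ^ (p - 1)` centralizes
`R`. -/
theorem char_chain_aut {G : Type u} [Group G] [Finite G] (p : ℕ) [Fact p.Prime] (hp : p ≠ 2)
    (R : Subgroup G) (hR : IsPGroup p R) (hc : HasCharChain p R)
    (A : Subgroup G) (hA : A ≤ Subgroup.normalizer (R : Set G)) :
    (∀ c ∈ ⁅A, A⁆, (orderOf c).Coprime p → ∀ r ∈ R, c * r = r * c) ∧
      (∀ a ∈ A, (orderOf a).Coprime p → ∀ r ∈ R, a ^ (p - 1) * r = r * a ^ (p - 1)) := by
  have hpp : p.Prime := Fact.out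
  obtain ⟨F, n, hF0, hFmono, hFR, hFcard, hFnorm, hFthom⟩ := char_chain_grp p hp R hR hc
  -- elements acting trivially on all factors and of `p'`-order centralize `R`
  have hstab : ∀ a ∈ Subgroup.normalizer (R : Set G), (orderOf a).Coprime p →
      (∀ i, ∀ u ∈ F (i + 1), a * u * a⁻¹ * u⁻¹ ∈ F i) → ∀ r ∈ R, a * r = r * a := by
    intro a haR hcop hT
    have hcent : ∀ i, a ∈ Subgroup.centralizer (F i : Set G) := by
      intro i
      induction i with
      | zero =>
        rw [hF0, Subgroup.mem_centralizer_iff]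
        intro e he
        have he' : e ∈ (⊥ : Subgroup G) := he
        rw [Subgroup.mem_bot] at he'
        rw [he']; simp
      | succ i ih =>
        exact Cfsg.Agent.Lib.helper26.mem_centralizer_of_stabilizes (F (i + 1)) (F i)
          (hR.to_le (hFR (i + 1))) (hFmono i) a ih (hT i) hcop
    apply hFthom a haR hcop
    intro e he
    exact (Subgroup.mem_centralizer_iff.mp (hcent n) e he).symm
  -- the section actions
  have hsec : ∀ i, ∃ (V : Type u) (_ : Group V) (ρ : A →* MulAut V), Nat.card V ∣ p ∧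
      ∀ a : A, ρ a = 1 ↔ ∀ u ∈ F (i + 1), (a : G) * u * (a : G)⁻¹ * u⁻¹ ∈ F i := by
    intro i
    have hUW : F (i + 1) ≤ Subgroup.normalizer (F i : Set G) :=
      (hFR (i + 1)).trans (Subgroup.le_normalizer.trans (hFnorm i))
    obtain ⟨V, hV, ρ, hcard, hρ⟩ := exists_section_action (F (i + 1)) (F i) A (hFmono i) hUW
      (hA.trans (hFnorm (i + 1))) (hA.trans (hFnorm i))
    refine ⟨V, hV, ρ, ?_, hρ⟩
    rw [hcard]
    have h1 : Nat.card ((F i).subgroupOf (F (i + 1))) * (F i).relIndex (F (i + 1))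
        = Nat.card (F (i + 1)) := Subgroup.card_mul_index _
    rw [Nat.card_congr (Subgroup.subgroupOfEquivOfLe (hFmono i)).toEquiv] at h1
    have h2 : (F i).relIndex (F (i + 1)) ≤ p := by
      have h3 : Nat.card (F i) * (F i).relIndex (F (i + 1)) ≤ Nat.card (F i) * p := by
        rw [h1, mul_comm]; exact hFcard i
      exact Nat.le_of_mul_le_mul_left h3 Nat.card_pos
    have hp1 : IsPGroup p (F (i + 1)) := hR.to_le (hFR (i + 1))
    obtain ⟨k, hk⟩ := hp1.exists_card_eq
    have h4 : (F i).relIndex (F (i + 1)) ∣ p ^ k := by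
      rw [← hk, ← h1]; exact dvd_mul_left _ _
    obtain ⟨j, -, hj⟩ := (Nat.dvd_prime_pow hpp).mp h4
    rw [hj] at h2 ⊢
    have hj1 : j ≤ 1 := by
      by_contra h
      have h5 : p ^ 2 ≤ p ^ j := Nat.pow_le_pow_right hpp.pos (by omega)
      nlinarith [hpp.one_lt]
    exact (pow_dvd_pow p hj1).trans (by rw [pow_one])
  refine ⟨?_, ?_⟩
  · intro c hc hcop
    have hcA : c ∈ A := Subgroup.commutator_le_self A hc
    apply hstab c (hA hcA) hcop
    intro i
    obtain ⟨V, hV, ρ, hcard, hρ⟩ := hsec i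
    obtain ⟨hcomm, -⟩ := mulAut_of_card_dvd_prime p hcard
    have hle : ⁅A, A⁆ ≤ ρ.ker.map A.subtype := by
      rw [Subgroup.commutator_le]
      intro g₁ hg₁ g₂ hg₂
      refine ⟨⁅(⟨g₁, hg₁⟩ : A), ⟨g₂, hg₂⟩⁆, ?_, rfl⟩
      show ⁅(⟨g₁, hg₁⟩ : A), ⟨g₂, hg₂⟩⁆ ∈ ρ.ker
      rw [MonoidHom.mem_ker, map_commutatorElement, commutatorElement_def,
        hcomm (ρ ⟨g₁, hg₁⟩) (ρ ⟨g₂, hg₂⟩)]
      group
    obtain ⟨c', hc', hcc'⟩ := hle hc
    have h1 := (hρ c').mp (MonoidHom.mem_ker.mp hc')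
    have hcc'' : (c' : G) = c := hcc'
    rw [hcc''] at h1
    exact h1
  · intro a ha hcop
    apply hstab (a ^ (p - 1)) (Subgroup.pow_mem _ (hA ha) _)
      (Nat.Coprime.coprime_dvd_left (orderOf_pow_dvd (p - 1)) hcop)
    intro i
    obtain ⟨V, hV, ρ, hcard, hρ⟩ := hsec i
    obtain ⟨-, hexp⟩ := mulAut_of_card_dvd_prime p hcard
    have h1 : ρ (⟨a, ha⟩ ^ (p - 1)) = 1 := by rw [map_pow, hexp]
    have h2 := (hρ _).mp h1
    simpa using h2

/-- **The form used for B-G Theorem 4.20.**  Let `R` be a `p`-subgroup of rank at least three, `p`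
odd, `E ≤ R` elementary abelian such that `C_R(E)` has rank at most two, and `A ≤ N_G(R)`.  Then
every `p'`-element of `A'` centralizes `R`, and for every `p'`-element `a` of `A` the power
`a ^ (p - 1)` centralizes `R`. -/
theorem centralizer_rank_aut {G : Type u} [Group G] [Finite G] (p : ℕ) [Fact p.Prime] (hp : p ≠ 2)
    (R : Subgroup G) (hR : IsPGroup p R) (hr : ¬ Cfsg.PRankLE p 2 R) (E : Subgroup G)
    (hER : E ≤ R) (hEab : ∀ x ∈ E, ∀ y ∈ E, x * y = y * x) (hEexp : ∀ x ∈ E, x ^ p = 1)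
    (hrk : ∀ B : Subgroup G, B ≤ R → (∀ b ∈ B, ∀ e ∈ E, b * e = e * b) →
      (∀ x ∈ B, ∀ y ∈ B, x * y = y * x) → (∀ x ∈ B, x ^ p = 1) → Nat.card B ≤ p ^ 2)
    (A : Subgroup G) (hA : A ≤ Subgroup.normalizer (R : Set G)) :
    (∀ c ∈ ⁅A, A⁆, (orderOf c).Coprime p → ∀ r ∈ R, c * r = r * c) ∧
      (∀ a ∈ A, (orderOf a).Coprime p → ∀ r ∈ R, a ^ (p - 1) * r = r * a ^ (p - 1)) := by
  apply char_chain_aut p hp R hR _ A hA
  apply hasCharChain_of_centralizer_rank p hp hR hr (E.subgroupOf R)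
  · intro x hx y hy
    apply Subtype.ext
    exact hEab _ (Subgroup.mem_subgroupOf.mp hx) _ (Subgroup.mem_subgroupOf.mp hy)
  · intro x hx
    apply Subtype.ext
    simpa using hEexp _ (Subgroup.mem_subgroupOf.mp hx)
  · intro B hBE hBab hBexp
    have h1 := hrk (B.map R.subtype) (Subgroup.map_subtype_le _) ?_ ?_ ?_
    · rwa [Subgroup.card_subtype] at h1
    · rintro _ ⟨b, hb, rfl⟩ e he
      have := hBE b hb ⟨e, hER he⟩ (Subgroup.mem_subgroupOf.mpr he)
      exact congrArg Subtype.val this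
    · rintro _ ⟨x, hx, rfl⟩ _ ⟨y, hy, rfl⟩
      exact congrArg Subtype.val (hBab x hx y hy)
    · rintro _ ⟨x, hx, rfl⟩
      have := congrArg Subtype.val (hBexp x hx)
      simpa using this

end Cfsg.Agent.Lib.helper30
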