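import Mathlib

namespace Cfsg.Agent.Lib.helper30

theorem norm_syl7 {G : Type*} [Group G] [Finite G] (hcard : Nat.card G = 126000) (x s : G)
    (hx : orderOf x = 7)
    (h : ∀ n : G, n * x * n⁻¹ ∈ Subgroup.zpowers x → ∃ j < 3, ∃ i < 7, n = s ^ j * x ^ i) :
    ∀ S : Sylow 7 G, Nat.card (Subgroup.normalizer ((S : Subgroup G) : Set G)) = 21 := by
  classical
  have hp7 : Fact (Nat.Prime 7) := ⟨by norm_num⟩
  have hPcard : Nat.card (Subgroup.zpowers x) = 7 := by
    rw [Nat.card_zpowers, hx]
  have hfac : (Nat.card G).factorization 7 = 1 := by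
    rw [hcard, show (126000 : ℕ) = 7 * 18000 by norm_num,
      Nat.factorization_mul (by norm_num) (by norm_num)]
    have h1 : (7 : ℕ).factorization 7 = 1 := Nat.Prime.factorization_self (by norm_num)
    have h2 : (18000 : ℕ).factorization 7 = 0 :=
      Nat.factorization_eq_zero_of_not_dvd (by norm_num)
    simp [h1, h2]
  let P : Sylow 7 G := Sylow.ofCard (Subgroup.zpowers x) (by rw [hPcard, hfac]; norm_num)
  have hPco : (P : Subgroup G) = Subgroup.zpowers x := rfl
  -- the normalizer of P
  have hNP : Nat.card (Subgroup.normalizer ((P : Subgroup G) : Set G)) = 21 := by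
    set N := Subgroup.normalizer ((P : Subgroup G) : Set G) with hN
    have hxP : x ∈ (P : Subgroup G) := by rw [hPco]; exact Subgroup.mem_zpowers x
    have hsub : (N : Set G) ⊆ Set.range (fun ji : Fin 3 × Fin 7 => s ^ (ji.1 : ℕ) * x ^ (ji.2 : ℕ)) := by
      intro n hn
      have hn' : n ∈ N := hn
      have h1 : n * x * n⁻¹ ∈ (P : Subgroup G) := by
        have := (Subgroup.mem_normalizer_iff.mp hn' x).mp hxP
        exact this
      rw [hPco] at h1
      obtain ⟨j, hj, i, hi, hni⟩ := h n h1
      exact ⟨(⟨j, hj⟩, ⟨i, hi⟩), hni.symm⟩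
    have hNle : Nat.card N ≤ 21 := by
      have h1 : Nat.card N = (N : Set G).ncard := by
        rw [← Nat.card_coe_set_eq]; rfl
      rw [h1]
      calc (N : Set G).ncard ≤ (Set.range (fun ji : Fin 3 × Fin 7 => s ^ (ji.1 : ℕ) * x ^ (ji.2 : ℕ))).ncard :=
            Set.ncard_le_ncard hsub (Set.toFinite _)
        _ ≤ Nat.card (Fin 3 × Fin 7) := by
            rw [← Nat.card_coe_set_eq]
            exact Nat.card_le_card_of_surjective _ (Set.rangeFactorization_surjective)
        _ = 21 := by simp
    have hPN : (P : Subgroup G) ≤ N := Subgroup.le_normalizer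
    have h7 : 7 ∣ Nat.card N := by
      have := Subgroup.card_dvd_of_le hPN
      rw [hPco, hPcard] at this
      exact this
    have hidx : N.index * Nat.card N = 126000 := by
      rw [Subgroup.index_mul_card, hcard]
    have hmod : N.index ≡ 1 [MOD 7] := by
      have h1 := card_sylow_modEq_one 7 G
      rw [Sylow.card_eq_index_normalizer P] at h1
      exact h1
    have hpos : 0 < Nat.card N := Nat.card_pos
    obtain ⟨k, hk⟩ := h7
    have hk1 : 1 ≤ k := by omega
    have hk3 : k ≤ 3 := by omega
    unfold Nat.ModEq at hmod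
    interval_cases k
    · exfalso
      have : N.index = 18000 := by rw [hk] at hidx; omega
      rw [this] at hmod; omega
    · exfalso
      have : N.index = 9000 := by rw [hk] at hidx; omega
      rw [this] at hmod; omega
    · rw [hk]
  intro S
  have h1 : (Subgroup.normalizer ((S : Subgroup G) : Set G)).index
      = (Subgroup.normalizer ((P : Subgroup G) : Set G)).index :=
    (Sylow.card_eq_index_normalizer S).symm.trans (Sylow.card_eq_index_normalizer P)
  have h2 := Subgroup.index_mul_card (Subgroup.normalizer ((S : Subgroup G) : Set G))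
  have h3 := Subgroup.index_mul_card (Subgroup.normalizer ((P : Subgroup G) : Set G))
  rw [h1] at h2
  rw [hNP, hcard] at h3
  rw [hcard] at h2
  have hi : (Subgroup.normalizer ((P : Subgroup G) : Set G)).index = 6000 := by omega
  rw [hi] at h2
  omega

end Cfsg.Agent.Lib.helper30
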