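import Mathlib
import Cfsg.Agent.Lib.helper65.PearlBasic

set_option autoImplicit false

namespace Cfsg.Agent.Lib.helper30

/-- marker for the S5238L A1 piece -/
theorem h30_pearl_a1_marker : True := by trivial

end Cfsg.Agent.Lib.helper30

namespace Cfsg.Agent.Lib.helper65.PearlPow

open Cfsg.Agent.Lib.helper68

variable {H : Type*} [Group H]

/-- own copy of D1: differences of related sequences are related one weight higher -/
theorem h30_rel_dl {u v : ℕ} {s s' : ℕ → H} (hs : PolySeq v s) (h : Rel u s s') :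
    Rel (u + 1) (dl s) (dl s') := by
  unfold Rel at h ⊢
  have e1 : (fun n : ℕ => (dl s n)⁻¹ * dl s' n) =
      fun n => com (dl s n) ((s n)⁻¹ * s' n) *
        (((s n)⁻¹ * s' n)⁻¹ * ((s (n + 1))⁻¹ * s' (n + 1))) := by
    funext n
    unfold dl com
    group
  rw [e1]
  have hd : PolySeq (v + 1) (dl s) := PolySeq.diff hs
  exact PolySeq.mul (PolySeq.mono (by omega) (PolySeq.comm hd h)) (PolySeq.diff h)

/-- the inductive step of A1: after `i ≤ k` differences the atom has become `a ^ choose n (k - i)` -/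
theorem h30_atom_step {v : ℕ} (hv : 1 ≤ v) {s : ℕ → H} (hs : PolySeq v s) (k : ℕ)
    (a : H) (ha : a ∈ gam H (k + v)) (i : ℕ) (hi : i ≤ k) :
    Rel (v + i + 1) (fun n => (a ^ (n.choose (k - i)))⁻¹ * dl^[i] s n)
      (dl^[i] (fun n => (a ^ (n.choose k))⁻¹ * s n)) := by
  induction i with
  | zero =>
    refine rel_of_eq _ ?_
    funext n
    simp
  | succ i ih =>
    have hi' : i ≤ k := by omega
    have ih' := ih hi'
    have hrP : PolySeq (v + i) (dl^[i] s) := polyseq_dl_iter hs i
    obtain ⟨r, hr⟩ : ∃ r : ℕ → H, r = dl^[i] s := ⟨_, rfl⟩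
    rw [Function.iterate_succ_apply', Function.iterate_succ_apply']
    rw [← hr] at ih' hrP ⊢
    have hB : PolySeq (v + i) (fun n : ℕ => a ^ (n.choose (k - i))) := by
      apply PolySeq.atom (k - i) (v + i) a
      have e : k - i + (v + i) = k + v := by omega
      rw [e]
      exact ha
    have hB' : PolySeq (v + i + 1) (fun n : ℕ => a ^ (n.choose (k - (i + 1)))) := by
      apply PolySeq.atom (k - (i + 1)) (v + i + 1) a
      have e : k - (i + 1) + (v + i + 1) = k + v := by omega
      rw [e]
      exact ha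
    have ht : PolySeq (v + i) (fun n => (a ^ (n.choose (k - i)))⁻¹ * r n) :=
      PolySeq.mul (PolySeq.inv hB) hrP
    have h1 := h30_rel_dl ht ih'
    have h2 : Rel (v + (i + 1) + 1) (fun n => (a ^ (n.choose (k - (i + 1))))⁻¹ * dl r n)
        (dl (fun n => (a ^ (n.choose (k - i)))⁻¹ * r n)) := by
      unfold Rel
      have e2 : (fun n : ℕ => ((a ^ (n.choose (k - (i + 1))))⁻¹ * dl r n)⁻¹ *
            dl (fun m => (a ^ (m.choose (k - i)))⁻¹ * r m) n) =
          fun n => (dl r n)⁻¹ * com ((a ^ (n.choose (k - (i + 1))))⁻¹) (r n) * dl r n := by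
        funext n
        have hpas : a ^ ((n + 1).choose (k - i)) =
            a ^ (n.choose (k - (i + 1))) * a ^ (n.choose (k - i)) := by
          have e : k - i = (k - (i + 1)) + 1 := by omega
          rw [e, Nat.choose_succ_succ, pow_add]
        simp only [dl, com]
        rw [hpas]
        group
      rw [e2]
      exact PolySeq.mono (by omega)
        (polyseq_conj (PolySeq.comm (PolySeq.inv hB') hrP) (PolySeq.diff hrP))
    exact rel_trans h2 (rel_mono (by omega) h1)

/-- A1 (M/L). Removing an atom does not change the high differences. Prove for `i ≤ k`: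
`Rel (v + i + 1) (fun n => (a ^ (n.choose (k - i)))⁻¹ * dl^[i] s n) (dl^[i] s')` by induction on `i`
(`dl (atom_{k-i}⁻¹ * r) n = (r n)⁻¹ * (a ^ (n.choose (k-i-1)))⁻¹ * r n * dl r n`, `rel_dl`), then one
more `dl` kills the constant `a⁻¹`, then `rel_dl` for the remaining steps. -/
theorem atom_remove {v : ℕ} (hv : 1 ≤ v) {s : ℕ → H} (hs : PolySeq v s) (k : ℕ) (hk : 1 ≤ k)
    (a : H) (ha : a ∈ gam H (k + v)) (j : ℕ) (hj : k + 1 ≤ j) :
    Rel (v + j + 1) (dl^[j] s) (dl^[j] (fun n => (a ^ (n.choose k))⁻¹ * s n)) := by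
  have hC := h30_atom_step hv hs k a ha k le_rfl
  have hk1 : Rel (v + (k + 1) + 1) (dl^[k + 1] s)
      (dl^[k + 1] (fun n => (a ^ (n.choose k))⁻¹ * s n)) := by
    have hrP : PolySeq (v + k) (dl^[k] s) := polyseq_dl_iter hs k
    have hconst : PolySeq (v + k) (fun _ : ℕ => a) :=
      polyseq_const (by rw [add_comm]; exact ha)
    have ht : PolySeq (v + k) (fun n => (a ^ (n.choose (k - k)))⁻¹ * dl^[k] s n) := by
      have e : (fun n : ℕ => (a ^ (n.choose (k - k)))⁻¹ * dl^[k] s n) =
          fun n => a⁻¹ * dl^[k] s n := by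
        funext n
        rw [Nat.sub_self, Nat.choose_zero_right, pow_one]
      rw [e]
      exact PolySeq.mul (PolySeq.inv hconst) hrP
    have h1 := h30_rel_dl ht hC
    have e3 : dl (fun n => (a ^ (n.choose (k - k)))⁻¹ * dl^[k] s n) = dl (dl^[k] s) := by
      funext n
      simp only [dl, Nat.sub_self, Nat.choose_zero_right, pow_one]
      group
    rw [e3] at h1
    rw [Function.iterate_succ_apply', Function.iterate_succ_apply']
    exact rel_mono (by omega) h1
  obtain ⟨d, rfl⟩ : ∃ d, j = k + 1 + d := ⟨j - (k + 1), by omega⟩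
  clear hj
  induction d with
  | zero => exact hk1
  | succ d ih =>
    have hP : PolySeq (v + (k + 1 + d)) (dl^[k + 1 + d] s) := polyseq_dl_iter hs _
    have h1 := h30_rel_dl hP ih
    have e4 : k + 1 + (d + 1) = (k + 1 + d) + 1 := by omega
    rw [e4, Function.iterate_succ_apply', Function.iterate_succ_apply']
    exact rel_mono (by omega) h1

end Cfsg.Agent.Lib.helper65.PearlPow
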