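import Mathlib
import Cfsg.Agent.Lib.helper44.PresDefs

/-!
# S2286 piece X1, core (helper30): the parametrisation `x : F → G` from an abstract word map `W`
-/

set_option autoImplicit false

namespace Cfsg.Agent.Lib.helper30.Pres

open Polynomial

/-- Core of X1: `W` plays the role of `polyWord g u`. -/
theorem h30_exists_param_core {G : Type*} [Group G] {F : Type*} [Field F] {p : ℕ}
    [Fact p.Prime] [Algebra (ZMod p) F] (u g : G) (μ : F)
    (hμ : Algebra.adjoin (ZMod p) {μ} = ⊤) (W : (ZMod p)[X] → G)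
    (hW1 : W 1 = u) (hWX : ∀ f, W (X * f) = g * W f * g⁻¹)
    (hWadd : ∀ f f', W (f + f') = W f * W f')
    (hrel : W (minpoly (ZMod p) μ) = 1) :
    ∃ x : F → G, x 1 = u ∧ (∀ a b, x (a + b) = x a * x b) ∧ (∀ a, g * x a * g⁻¹ = x (μ * a)) ∧
      ∀ f : (ZMod p)[X], x (aeval μ f) = W f := by
  classical
  have hW0 : W 0 = 1 := by
    have h := hWadd 0 0
    rw [add_zero] at h
    exact (mul_eq_left.mp h.symm)
  have hWneg : ∀ f, W (-f) = (W f)⁻¹ := by
    intro f
    have h := hWadd (-f) f
    rw [neg_add_cancel, hW0] at h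
    exact eq_inv_of_mul_eq_one_left h.symm
  have hWnsmul : ∀ (n : ℕ) (f : (ZMod p)[X]), W (n • f) = W f ^ n := by
    intro n f
    induction n with
    | zero => simp [hW0]
    | succ n ih => rw [succ_nsmul, hWadd, ih, pow_succ]
  -- the kernel is closed under multiplication by polynomials
  have hC : ∀ (c : ZMod p) (f : (ZMod p)[X]), W f = 1 → W (C c * f) = 1 := by
    intro c f hf
    have h1 : C c * f = c.val • f := by
      rw [nsmul_eq_mul]
      congr 1
      rw [← C_eq_natCast, ZMod.natCast_zmod_val]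
    rw [h1, hWnsmul, hf, one_pow]
  have hmul : ∀ (q f : (ZMod p)[X]), W f = 1 → W (q * f) = 1 := by
    intro q f hf
    induction q using Polynomial.induction_on with
    | C a => exact hC a f hf
    | add q1 q2 h1 h2 => rw [add_mul, hWadd, h1, h2, one_mul]
    | monomial n a ih =>
      have e : C a * X ^ (n + 1) * f = X * (C a * X ^ n * f) := by ring
      rw [e, hWX, ih]; group
  have hker : ∀ f : (ZMod p)[X], aeval μ f = 0 → W f = 1 := by
    intro f hf
    obtain ⟨q, rfl⟩ := minpoly.dvd (ZMod p) μ hf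
    rw [mul_comm]
    exact hmul q _ hrel
  have hwd : ∀ f f' : (ZMod p)[X], aeval μ f = aeval μ f' → W f = W f' := by
    intro f f' h
    have h1 : aeval μ (f - f') = 0 := by rw [map_sub, h, sub_self]
    have h2 := hker _ h1
    have h3 : f = (f - f') + f' := by ring
    rw [h3, hWadd, h2, one_mul]
  have hsurj : ∀ a : F, ∃ f : (ZMod p)[X], aeval μ f = a := by
    intro a
    have h1 : a ∈ (Algebra.adjoin (ZMod p) {μ} : Subalgebra (ZMod p) F) := by
      rw [hμ]; exact Algebra.mem_top
    rw [Algebra.adjoin_singleton_eq_range_aeval] at h1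
    exact h1
  choose fa hfa using hsurj
  have hx : ∀ f : (ZMod p)[X], W (fa (aeval μ f)) = W f := fun f => hwd _ _ (hfa _)
  refine ⟨fun a => W (fa a), ?_, ?_, ?_, hx⟩
  · have h1 := hx 1
    rw [map_one] at h1
    show W (fa 1) = u
    rw [h1, hW1]
  · intro a b
    show W (fa (a + b)) = W (fa a) * W (fa b)
    rw [← hWadd]
    apply hwd
    rw [hfa, map_add, hfa, hfa]
  · intro a
    show g * W (fa a) * g⁻¹ = W (fa (μ * a))
    rw [← hWX]
    apply hwd
    rw [hfa, map_mul, aeval_X, hfa]

end Cfsg.Agent.Lib.helper30.Pres
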