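import Mathlib
import Cfsg.Agent.Lib.helper30.RankTwoD
import Cfsg.Agent.Lib.helper92.Ess2d

/-!
# Automorphism groups of an elementary abelian group of order `p ^ 2` with two Sylow subgroups

Elementary "Dickson-lite" linear algebra, written multiplicatively: if a group `Γ` acts on an
elementary abelian group `V` of order `p ^ 2` with `p`-group kernel and has a non-normal Sylow
`p`-subgroup `T`, then for a suitable basis `e₁, e₂` of `V` (with `e₁` fixed by `T`) the group `Γ`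
contains, for every `l l' ≡ 1`, an element normalising `T` acting as `e₁ ↦ e₁ ^ l`,
`e₂ ↦ e₂ ^ l'`.
-/

set_option autoImplicit false

namespace Cfsg.Agent.Lib.helper30

section LA

variable {V : Type*} [CommGroup V] (p : ℕ) [hp : Fact p.Prime]

omit hp in
theorem la_pow_congr {e : V} (he : e ^ p = 1) {m n : ℕ} (h : m ≡ n [MOD p]) : e ^ m = e ^ n :=
  pow_eq_pow_iff_modEq.mpr (h.of_dvd (orderOf_dvd_of_pow_eq_one he))

theorem la_span [Finite V] (hexp : ∀ v : V, v ^ p = 1) (hcard : Nat.card V = p ^ 2)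
    (e₁ e₂ : V) (h1 : e₁ ≠ 1) (h2 : e₂ ∉ Subgroup.zpowers e₁) (v : V) :
    ∃ x y : ℕ, v = e₁ ^ x * e₂ ^ y := by
  have hpp : p.Prime := hp.out
  have hM : Subgroup.zpowers e₁ ⊔ Subgroup.zpowers e₂ = ⊤ := by
    have hc1 : Nat.card (Subgroup.zpowers e₁) = p :=
      card_zpowers_of_pow_eq_one p e₁ (hexp e₁) h1
    have hdvd : Nat.card ↥(Subgroup.zpowers e₁ ⊔ Subgroup.zpowers e₂) ∣ p ^ 2 := by
      rw [← hcard]; exact Subgroup.card_subgroup_dvd_card _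
    obtain ⟨k, hk, hkc⟩ := (Nat.dvd_prime_pow hpp).mp hdvd
    have hne : Subgroup.zpowers e₁ ≠ Subgroup.zpowers e₁ ⊔ Subgroup.zpowers e₂ := by
      intro h
      apply h2
      rw [h]
      exact (le_sup_right : Subgroup.zpowers e₂ ≤ _) (Subgroup.mem_zpowers e₂)
    have hk2 : k = 2 := by
      by_contra hk2
      have hk1 : k ≤ 1 := by omega
      apply hne
      apply Subgroup.eq_of_le_of_card_ge le_sup_left
      rw [hkc, hc1]
      calc p ^ k ≤ p ^ 1 := Nat.pow_le_pow_right hpp.pos hk1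
        _ = p := pow_one p
    rw [hk2, ← hcard] at hkc
    exact (Subgroup.card_eq_iff_eq_top _).mp hkc
  have hv : v ∈ Subgroup.zpowers e₁ ⊔ Subgroup.zpowers e₂ := by rw [hM]; trivial
  obtain ⟨a, ha, b, hb, hab⟩ := Subgroup.mem_sup.mp hv
  obtain ⟨x, rfl⟩ := exists_nat_pow_of_mem_zpowers ha
  obtain ⟨y, rfl⟩ := exists_nat_pow_of_mem_zpowers hb
  exact ⟨x, y, hab.symm⟩

theorem la_indep (hexp : ∀ v : V, v ^ p = 1) (e₁ e₂ : V) (h1 : e₁ ≠ 1)
    (h2 : e₂ ∉ Subgroup.zpowers e₁) {x y x' y' : ℕ}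
    (h : e₁ ^ x * e₂ ^ y = e₁ ^ x' * e₂ ^ y') : x ≡ x' [MOD p] ∧ y ≡ y' [MOD p] := by
  have hpp : p.Prime := hp.out
  have key : e₁ ^ (x + (p - 1) * x') * e₂ ^ (y + (p - 1) * y') = 1 := by
    have h3 : e₁ ^ (x + (p - 1) * x') * e₂ ^ (y + (p - 1) * y')
        = (e₁ ^ x * e₂ ^ y) * (e₁ ^ x' * e₂ ^ y') ^ (p - 1) := by
      rw [mul_pow, ← pow_mul, ← pow_mul, pow_add, pow_add, mul_comm x' (p - 1),
        mul_comm y' (p - 1)]
      exact mul_mul_mul_comm _ _ _ _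
    rw [h3, h, ← pow_succ', Nat.sub_add_cancel hpp.one_le, hexp]
  obtain ⟨ha, hb⟩ :=
    Cfsg.Agent.Lib.helper92.indep_base p hpp e₁ e₂ (hexp _) (hexp _) h1 h2 _ _ key
  have aux : ∀ u u' : ℕ, p ∣ u + (p - 1) * u' → u ≡ u' [MOD p] := by
    intro u u' hd
    rw [← ZMod.natCast_eq_natCast_iff]
    have h4 := (ZMod.natCast_eq_zero_iff _ p).mpr hd
    push_cast [Nat.cast_sub hpp.one_le] at h4
    rw [ZMod.natCast_self] at h4
    linear_combination h4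
  exact ⟨aux _ _ ha, aux _ _ hb⟩

theorem la_unip [Finite V] (hexp : ∀ v : V, v ^ p = 1) (hcard : Nat.card V = p ^ 2)
    (e₁ e₂ : V) (h1 : e₁ ≠ 1) (h2 : e₂ ∉ Subgroup.zpowers e₁) (σ : MulAut V) (n : ℕ)
    (hσ : σ ^ (p ^ n) = 1) (hfix : σ e₁ = e₁) : ∃ x : ℕ, σ e₂ = e₂ * e₁ ^ x := by
  obtain ⟨x, c, hxc⟩ := la_span p hexp hcard e₁ e₂ h1 h2 (σ e₂)
  have hk : ∀ k : ℕ, ∃ xk : ℕ, (σ ^ k) e₂ = e₁ ^ xk * e₂ ^ (c ^ k) := by
    intro k
    induction k with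
    | zero => exact ⟨0, by simp⟩
    | succ k ih =>
      obtain ⟨xk, hxk⟩ := ih
      refine ⟨xk + x * c ^ k, ?_⟩
      rw [pow_succ', MulAut.mul_apply, hxk, map_mul, map_pow, map_pow, hfix, hxc, mul_pow,
        ← pow_mul, ← pow_mul, pow_add, pow_succ']
      rw [mul_assoc]
  obtain ⟨xk, hxk⟩ := hk (p ^ n)
  rw [hσ, MulAut.one_apply] at hxk
  have h3 : e₁ ^ 0 * e₂ ^ 1 = e₁ ^ xk * e₂ ^ (c ^ (p ^ n)) := by
    rw [pow_zero, pow_one, one_mul]; exact hxk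
  obtain ⟨-, h4⟩ := la_indep p hexp e₁ e₂ h1 h2 h3
  have h5 : c ≡ 1 [MOD p] := by
    rw [← ZMod.natCast_eq_natCast_iff] at h4 ⊢
    push_cast at h4 ⊢
    rw [ZMod.pow_card_pow] at h4
    exact h4.symm
  refine ⟨x, ?_⟩
  rw [hxc, la_pow_congr p (hexp e₂) h5, pow_one, mul_comm]

theorem la_fix {Γ : Type*} [Group Γ] [Finite V] (hcard : Nat.card V = p ^ 2) (ρ : Γ →* MulAut V)
    (T : Subgroup Γ) (hT : IsPGroup p T) : ∃ e₁ : V, e₁ ≠ 1 ∧ ∀ t ∈ T, ρ t e₁ = e₁ := by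
  let _ : MulAction T V := MulAction.compHom V (ρ.comp T.subtype)
  have hsm : ∀ (t : T) (v : V), t • v = ρ (t : Γ) v := fun t v => rfl
  have hdvd : p ∣ Nat.card V := by rw [hcard]; exact dvd_pow_self p (by norm_num)
  have h1 : (1 : V) ∈ MulAction.fixedPoints T V := by
    intro t
    rw [hsm, map_one]
  obtain ⟨b, hb, hb1⟩ := hT.exists_fixed_point_of_prime_dvd_card_of_fixed_point V hdvd h1
  refine ⟨b, fun h => hb1 h.symm, fun t ht => ?_⟩
  have := hb ⟨t, ht⟩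
  rwa [hsm] at this

/-- Dickson-lite: two transvections with distinct axes generate the diagonal elements. -/
theorem la_dl {Γ : Type*} [Group Γ] (hexp : ∀ v : V, v ^ p = 1) (ρ : Γ →* MulAut V)
    (e₁ e₂ : V) (τ τ' : Γ) (a b : ℕ) (ha : ¬ p ∣ a) (hb : ¬ p ∣ b)
    (h11 : ρ τ e₁ = e₁) (h12 : ρ τ e₂ = e₂ * e₁ ^ a)
    (h21 : ρ τ' e₁ = e₁ * e₂ ^ b) (h22 : ρ τ' e₂ = e₂)
    (l l' : ℕ) (hl : l * l' ≡ 1 [MOD p]) :
    ∃ h ∈ Subgroup.closure ({τ, τ'} : Set Γ), ρ h e₁ = e₁ ^ l ∧ ρ h e₂ = e₂ ^ l' := by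
  have hpp : p.Prime := hp.out
  have ha0 : (a : ZMod p) ≠ 0 := fun h => ha ((ZMod.natCast_eq_zero_iff a p).mp h)
  have hb0 : (b : ZMod p) ≠ 0 := fun h => hb ((ZMod.natCast_eq_zero_iff b p).mp h)
  have hl' : (l : ZMod p) * (l' : ZMod p) = 1 := by
    have := (ZMod.natCast_eq_natCast_iff _ _ p).mpr hl
    push_cast at this
    exact this
  have hl0 : (l : ZMod p) ≠ 0 := by
    intro h; rw [h, zero_mul] at hl'; exact zero_ne_one hl'
  set E : ZMod p → ZMod p → V := fun x y => e₁ ^ x.val * e₂ ^ y.val with hE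
  have hEc : ∀ (x y : ZMod p) (m n : ℕ), (m : ZMod p) = x → (n : ZMod p) = y →
      e₁ ^ m * e₂ ^ n = E x y := by
    intro x y m n hm hn
    simp only [hE]
    congr 1
    · apply la_pow_congr p (hexp e₁)
      rw [← ZMod.natCast_eq_natCast_iff, hm, ZMod.natCast_zmod_val]
    · apply la_pow_congr p (hexp e₂)
      rw [← ZMod.natCast_eq_natCast_iff, hn, ZMod.natCast_zmod_val]
  have hτ : ∀ n : ℕ, (ρ τ ^ n) e₁ = e₁ ∧ (ρ τ ^ n) e₂ = e₂ * e₁ ^ (n * a) := by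
    intro n
    induction n with
    | zero => simp
    | succ n ih =>
      rw [pow_succ', MulAut.mul_apply, MulAut.mul_apply, ih.1, ih.2, map_mul, map_pow, h11, h12]
      refine ⟨rfl, ?_⟩
      rw [mul_assoc, ← pow_add, Nat.succ_mul, add_comm]
  have hτ' : ∀ n : ℕ, (ρ τ' ^ n) e₂ = e₂ ∧ (ρ τ' ^ n) e₁ = e₁ * e₂ ^ (n * b) := by
    intro n
    induction n with
    | zero => simp
    | succ n ih =>
      rw [pow_succ', MulAut.mul_apply, MulAut.mul_apply, ih.1, ih.2, map_mul, map_pow, h21, h22]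
      refine ⟨rfl, ?_⟩
      rw [mul_assoc, ← pow_add, Nat.succ_mul, add_comm]
  have hU : ∀ (c x y : ZMod p),
      (ρ τ ^ (c * (a : ZMod p)⁻¹).val) (E x y) = E (x + c * y) y := by
    intro c x y
    simp only [hE]
    rw [map_mul, map_pow, map_pow, (hτ _).1, (hτ _).2, mul_pow, ← pow_mul, mul_left_comm,
      ← pow_add]
    rw [mul_comm (e₂ ^ y.val)]
    apply hEc
    · push_cast
      rw [ZMod.natCast_zmod_val, ZMod.natCast_zmod_val, ZMod.natCast_zmod_val]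
      field_simp
    · rw [ZMod.natCast_zmod_val]
  have hL : ∀ (c x y : ZMod p),
      (ρ τ' ^ (c * (b : ZMod p)⁻¹).val) (E x y) = E x (y + c * x) := by
    intro c x y
    simp only [hE]
    rw [map_mul, map_pow, map_pow, (hτ' _).1, (hτ' _).2, mul_pow, ← pow_mul, mul_assoc,
      ← pow_add]
    apply hEc
    · rw [ZMod.natCast_zmod_val]
    · push_cast
      rw [ZMod.natCast_zmod_val, ZMod.natCast_zmod_val, ZMod.natCast_zmod_val]
      field_simp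
      ring
  have hp1 : Fact (1 < p) := ⟨hpp.one_lt⟩
  have hE10 : E 1 0 = e₁ := by
    simp only [hE]
    rw [ZMod.val_one, ZMod.val_zero, pow_one, pow_zero, mul_one]
  have hE01 : E 0 1 = e₂ := by
    simp only [hE]
    rw [ZMod.val_one, ZMod.val_zero, pow_one, pow_zero, one_mul]
  have hτm : τ ∈ Subgroup.closure ({τ, τ'} : Set Γ) := Subgroup.subset_closure (by simp)
  have hτ'm : τ' ∈ Subgroup.closure ({τ, τ'} : Set Γ) := Subgroup.subset_closure (by simp)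
  refine ⟨τ ^ ((l : ZMod p) * (a : ZMod p)⁻¹).val * τ' ^ ((-(l' : ZMod p)) * (b : ZMod p)⁻¹).val
      * τ ^ (((l : ZMod p) - 1) * (a : ZMod p)⁻¹).val * τ' ^ ((1 : ZMod p) * (b : ZMod p)⁻¹).val
      * τ ^ ((-1 : ZMod p) * (a : ZMod p)⁻¹).val, ?_, ?_, ?_⟩
  · exact Subgroup.mul_mem _ (Subgroup.mul_mem _ (Subgroup.mul_mem _ (Subgroup.mul_mem _
      (Subgroup.pow_mem _ hτm _) (Subgroup.pow_mem _ hτ'm _)) (Subgroup.pow_mem _ hτm _))
      (Subgroup.pow_mem _ hτ'm _)) (Subgroup.pow_mem _ hτm _)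
  · simp only [map_mul, map_pow, MulAut.mul_apply]
    conv_lhs => rw [← hE10]
    rw [hU, hL, hU, hL, hU]
    have h3 : e₁ ^ l = e₁ ^ l * e₂ ^ 0 := by rw [pow_zero, mul_one]
    rw [h3]
    symm
    apply hEc
    · linear_combination (l : ZMod p) * hl'
    · push_cast
      linear_combination hl'
  · simp only [map_mul, map_pow, MulAut.mul_apply]
    conv_lhs => rw [← hE01]
    rw [hU, hL, hU, hL, hU]
    have h3 : e₂ ^ l' = e₁ ^ 0 * e₂ ^ l' := by rw [pow_zero, one_mul]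
    rw [h3]
    symm
    apply hEc
    · push_cast
      linear_combination (-1 : ZMod p) * hl'
    · ring

/-- The elements acting "unitriangularly" with respect to `e₁, e₂` lie in the Sylow subgroup `T`
as soon as `T` acts that way and the kernel of the action is a `p`-group. -/
theorem la_AL {Γ : Type*} [Group Γ] [Finite V] (hexp : ∀ v : V, v ^ p = 1)
    (hcard : Nat.card V = p ^ 2) (ρ : Γ →* MulAut V)
    (hker : ∀ k : Γ, ρ k = 1 → ∃ n : ℕ, k ^ (p ^ n) = 1) (T : Sylow p Γ)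
    (e₁ e₂ : V) (h1 : e₁ ≠ 1) (h2 : e₂ ∉ Subgroup.zpowers e₁)
    (hT : ∀ t ∈ T, ρ t e₁ = e₁ ∧ ∃ x : ℕ, ρ t e₂ = e₂ * e₁ ^ x)
    (t : Γ) (ht1 : ρ t e₁ = e₁) (ht2 : ∃ x : ℕ, ρ t e₂ = e₂ * e₁ ^ x) : t ∈ T := by
  have hpp : p.Prime := hp.out
  let AL : Subgroup Γ :=
    { carrier := {t | ρ t e₁ = e₁ ∧ ∃ x : ℕ, ρ t e₂ = e₂ * e₁ ^ x}
      mul_mem' := by
        rintro s t ⟨hs1, xs, hs2⟩ ⟨ht1, xt, ht2⟩
        refine ⟨by rw [map_mul, MulAut.mul_apply, ht1, hs1], xs + xt, ?_⟩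
        rw [map_mul, MulAut.mul_apply, ht2, map_mul, map_pow, hs1, hs2, mul_assoc, ← pow_add]
      one_mem' := ⟨by rw [map_one, MulAut.one_apply], 0, by rw [map_one, MulAut.one_apply, pow_zero, mul_one]⟩
      inv_mem' := by
        rintro t ⟨ht1, x, ht2⟩
        have h3 : ρ t⁻¹ e₁ = e₁ := by
          rw [map_inv]
          conv_lhs => rw [← ht1]
          exact MulAut.inv_apply_self _ _ _
        refine ⟨h3, (p - 1) * x, ?_⟩
        have h4 : ρ t⁻¹ (e₂ * e₁ ^ x) = e₂ := by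
          rw [map_inv, ← ht2]
          exact MulAut.inv_apply_self _ _ _
        rw [map_mul, map_pow, h3] at h4
        have h5 : e₁ ^ x * e₁ ^ ((p - 1) * x) = 1 := by
          rw [← pow_add]
          have : x + (p - 1) * x = p * x := by
            have := Nat.sub_add_cancel hpp.one_le
            nlinarith
          rw [this, pow_mul, hexp, one_pow]
        calc ρ t⁻¹ e₂ = ρ t⁻¹ e₂ * (e₁ ^ x * e₁ ^ ((p - 1) * x)) := by rw [h5, mul_one]
          _ = (ρ t⁻¹ e₂ * e₁ ^ x) * e₁ ^ ((p - 1) * x) := by rw [mul_assoc]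
          _ = e₂ * e₁ ^ ((p - 1) * x) := by rw [h4] }
  have hALp : IsPGroup p AL := by
    rintro ⟨s, hs1, x, hs2⟩
    have hk : ∀ k : ℕ, (ρ s ^ k) e₁ = e₁ ∧ (ρ s ^ k) e₂ = e₂ * e₁ ^ (k * x) := by
      intro k
      induction k with
      | zero => simp
      | succ k ih =>
        rw [pow_succ', MulAut.mul_apply, MulAut.mul_apply, ih.1, ih.2, map_mul, map_pow, hs1,
          hs2]
        refine ⟨rfl, ?_⟩
        rw [mul_assoc, ← pow_add, Nat.succ_mul, add_comm]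
    have h3 : ρ (s ^ p) = 1 := by
      ext v
      obtain ⟨a, b, rfl⟩ := la_span p hexp hcard e₁ e₂ h1 h2 v
      rw [map_pow, map_mul, map_pow, map_pow, (hk p).1, (hk p).2, pow_mul, hexp, one_pow,
        mul_one, MulAut.one_apply]
    obtain ⟨n, hn⟩ := hker _ h3
    refine ⟨n + 1, ?_⟩
    apply Subtype.ext
    rw [Subgroup.coe_pow, Subgroup.coe_one, pow_succ', pow_mul]
    exact hn
  have hTle : (T : Subgroup Γ) ≤ AL := fun t ht => hT t ht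
  have hEq : AL = (T : Subgroup Γ) := T.is_maximal' hALp hTle
  have : t ∈ AL := ⟨ht1, ht2⟩
  rw [hEq] at this
  exact this

theorem la_main {Γ : Type*} [Group Γ] [Finite V] (hexp : ∀ v : V, v ^ p = 1)
    (hcard : Nat.card V = p ^ 2) (ρ : Γ →* MulAut V)
    (hker : ∀ k : Γ, ρ k = 1 → ∃ n : ℕ, k ^ (p ^ n) = 1)
    (T : Sylow p Γ) (γ : Γ) (t₀ : Γ) (ht₀ : t₀ ∈ T) (hγ : γ * t₀ * γ⁻¹ ∉ T) :
    ∃ e₁ e₂ : V, e₁ ≠ 1 ∧ e₂ ∉ Subgroup.zpowers e₁ ∧
      (∀ t ∈ T, ρ t e₁ = e₁ ∧ ∃ x : ℕ, ρ t e₂ = e₂ * e₁ ^ x) ∧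
      (∀ t : Γ, ρ t e₁ = e₁ → (∃ x : ℕ, ρ t e₂ = e₂ * e₁ ^ x) → t ∈ T) ∧
      ∀ l l' : ℕ, l * l' ≡ 1 [MOD p] →
        ∃ h : Γ, (∀ t ∈ T, h * t * h⁻¹ ∈ T) ∧ ρ h e₁ = e₁ ^ l ∧ ρ h e₂ = e₂ ^ l' := by
  have hpp : p.Prime := hp.out
  obtain ⟨e₁, he₁, hfix⟩ := la_fix p hcard ρ (T : Subgroup Γ) T.isPGroup'
  have hTpow : ∀ t ∈ T, ∃ n : ℕ, t ^ (p ^ n) = 1 := by
    intro t ht
    obtain ⟨n, hn⟩ := T.isPGroup' ⟨t, ht⟩
    exact ⟨n, by simpa using congrArg Subtype.val hn⟩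
  have hc1 : Nat.card (Subgroup.zpowers e₁) = p :=
    card_zpowers_of_pow_eq_one p e₁ (hexp e₁) he₁
  -- the unitriangular action of `T` w.r.t. any second basis vector
  have hT2 : ∀ e₂ : V, e₂ ∉ Subgroup.zpowers e₁ → ∀ t ∈ T,
      ρ t e₁ = e₁ ∧ ∃ x : ℕ, ρ t e₂ = e₂ * e₁ ^ x := by
    intro e₂ he₂ t ht
    obtain ⟨n, hn⟩ := hTpow t ht
    exact ⟨hfix t ht, la_unip p hexp hcard e₁ e₂ he₁ he₂ (ρ t) n (by rw [← map_pow, hn, map_one])
      (hfix t ht)⟩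
  obtain ⟨n₀, hn₀⟩ := hTpow t₀ ht₀
  have ht'pow : (γ * t₀ * γ⁻¹) ^ (p ^ n₀) = 1 := by
    rw [conj_pow, hn₀, mul_one, mul_inv_cancel]
  have hconj : ∀ v : V, ρ (γ * t₀ * γ⁻¹) (ρ γ v) = ρ γ (ρ t₀ v) := by
    intro v
    rw [map_mul, map_mul, MulAut.mul_apply, MulAut.mul_apply, map_inv, MulAut.inv_apply_self]
  have hf1 : ρ γ e₁ ≠ 1 := by
    intro h
    apply he₁
    have := (ρ γ).injective (h.trans (map_one (ρ γ)).symm)
    exact this
  have hffix : ρ (γ * t₀ * γ⁻¹) (ρ γ e₁) = ρ γ e₁ := by rw [hconj, hfix t₀ ht₀]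
  -- `f = γ e₁` is not on the axis of `T`
  have hf2 : ρ γ e₁ ∉ Subgroup.zpowers e₁ := by
    intro hf
    obtain ⟨e₃, he₃⟩ : ∃ v : V, v ∉ Subgroup.zpowers e₁ := by
      by_contra hall
      push Not at hall
      have htop : Subgroup.zpowers e₁ = ⊤ := (Subgroup.eq_top_iff' _).mpr hall
      have : Nat.card (Subgroup.zpowers e₁) = Nat.card V := by rw [htop, Subgroup.card_top]
      rw [hc1, hcard] at this
      have h2 : p < p ^ 2 := by
        calc p = p ^ 1 := (pow_one p).symm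
          _ < p ^ 2 := Nat.pow_lt_pow_right hpp.one_lt (by norm_num)
      omega
    have hz : Subgroup.zpowers e₁ = Subgroup.zpowers (ρ γ e₁) :=
      eq_zpowers_of_card_prime p _ hc1 _ hf hf1
    have he₁f : e₁ ∈ Subgroup.zpowers (ρ γ e₁) := by rw [← hz]; exact Subgroup.mem_zpowers e₁
    obtain ⟨i, hi⟩ := exists_nat_pow_of_mem_zpowers he₁f
    have h3 : ρ (γ * t₀ * γ⁻¹) e₁ = e₁ := by
      conv_lhs => rw [hi]
      rw [map_pow, hffix, ← hi]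
    have h4 := la_unip p hexp hcard e₁ e₃ he₁ he₃ (ρ (γ * t₀ * γ⁻¹)) n₀
      (by rw [← map_pow, ht'pow, map_one]) h3
    exact hγ (la_AL p hexp hcard ρ hker T e₁ e₃ he₁ he₃ (hT2 e₃ he₃) _ h3 h4)
  have hAL := la_AL p hexp hcard ρ hker T e₁ (ρ γ e₁) he₁ hf2 (hT2 _ hf2)
  obtain ⟨-, a, ha⟩ := hT2 _ hf2 t₀ ht₀
  have hap : ¬ p ∣ a := by
    intro hd
    obtain ⟨c, rfl⟩ := hd
    rw [pow_mul, hexp, one_pow, mul_one] at ha
    -- then `t₀` acts trivially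
    have h3 : ρ t₀ = 1 := by
      ext v
      obtain ⟨x, y, rfl⟩ := la_span p hexp hcard e₁ _ he₁ hf2 v
      rw [map_mul, map_pow, map_pow, hfix t₀ ht₀, ha, MulAut.one_apply]
    have h4 : ρ (γ * t₀ * γ⁻¹) = 1 := by
      rw [map_mul, map_mul, h3, mul_one, ← map_mul, mul_inv_cancel, map_one]
    apply hγ
    apply hAL
    · rw [h4, MulAut.one_apply]
    · exact ⟨0, by rw [h4, MulAut.one_apply, pow_zero, mul_one]⟩
  have he₁f : e₁ ∉ Subgroup.zpowers (ρ γ e₁) := by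
    intro h
    have hcf : Nat.card (Subgroup.zpowers (ρ γ e₁)) = p :=
      card_zpowers_of_pow_eq_one p _ (hexp _) hf1
    have hz := eq_zpowers_of_card_prime p _ hcf _ h he₁
    apply hf2
    rw [← hz]
    exact Subgroup.mem_zpowers _
  obtain ⟨b, hb⟩ := la_unip p hexp hcard (ρ γ e₁) e₁ hf1 he₁f (ρ (γ * t₀ * γ⁻¹)) n₀
    (by rw [← map_pow, ht'pow, map_one]) hffix
  have hbp : ¬ p ∣ b := by
    intro hd
    obtain ⟨c, rfl⟩ := hd
    rw [pow_mul, hexp, one_pow, mul_one] at hb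
    apply hγ
    apply hAL
    · exact hb
    · exact ⟨0, by rw [hffix, pow_zero, mul_one]⟩
  refine ⟨e₁, ρ γ e₁, he₁, hf2, hT2 _ hf2, hAL, ?_⟩
  intro l l' hl
  obtain ⟨h, -, hh1, hh2⟩ := la_dl p hexp ρ e₁ (ρ γ e₁) t₀ (γ * t₀ * γ⁻¹) a b hap hbp
    (hfix t₀ ht₀) ha hb hffix l l' hl
  refine ⟨h, ?_, hh1, hh2⟩
  intro t ht
  have hl2 : l' * l ≡ 1 [MOD p] := by rw [mul_comm]; exact hl
  have hi1 : ρ h⁻¹ e₁ = e₁ ^ l' := by
    have : ρ h (e₁ ^ l') = e₁ := by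
      rw [map_pow, hh1, ← pow_mul, la_pow_congr p (hexp e₁) hl, pow_one]
    conv_lhs => rw [← this]
    rw [map_inv]
    exact MulAut.inv_apply_self _ _ _
  have hi2 : ρ h⁻¹ (ρ γ e₁) = (ρ γ e₁) ^ l := by
    have : ρ h ((ρ γ e₁) ^ l) = ρ γ e₁ := by
      rw [map_pow, hh2, ← pow_mul, la_pow_congr p (hexp _) hl2, pow_one]
    conv_lhs => rw [← this]
    rw [map_inv]
    exact MulAut.inv_apply_self _ _ _
  obtain ⟨ht1, x, ht2⟩ := hT2 _ hf2 t ht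
  apply hAL
  · rw [map_mul, map_mul, MulAut.mul_apply, MulAut.mul_apply, hi1, map_pow, ht1, map_pow, hh1,
      ← pow_mul, la_pow_congr p (hexp e₁) hl, pow_one]
  · refine ⟨l * (x * l), ?_⟩
    rw [map_mul, map_mul, MulAut.mul_apply, MulAut.mul_apply, hi2, map_pow, ht2, mul_pow, map_mul,
      map_pow, map_pow, map_pow, hh1, hh2, ← pow_mul, la_pow_congr p (hexp _) hl2, pow_one,
      ← pow_mul, ← pow_mul]

end LA

end Cfsg.Agent.Lib.helper30
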