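import Mathlib
import Cfsg.Agent.Lib.helper30.RankTwoC
import Cfsg.Agent.Lib.helper30.NarrowIso

/-!
# A faithful small section for automorphisms of a `p`-group of rank at most two

`resChar`, `abAut`: automorphisms of `P` act on a characteristic subgroup `B` and on its
abelianisation.  `exists_faithful_section`: for a `p`-group of rank at most two (`p` odd) there is a
characteristic subgroup `B` of exponent `p` and class at most two with `|B / B'|` dividing `p ^ 2`
such that the automorphisms of `P` acting trivially on `B / B'` form a `p`-group (holomorph form of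
`exists_small_section'`).
-/

set_option autoImplicit false

namespace Cfsg.Agent.Lib.helper30

open scoped commutatorElement

universe u

theorem char_mem_iff {P : Type*} [Group P] (B : Subgroup P) [hB : B.Characteristic]
    (φ : MulAut P) (x : P) : φ x ∈ B ↔ x ∈ B := by
  have h := hB.fixed φ
  constructor
  · intro hx; rw [← h]; exact hx
  · intro hx; rw [← h] at hx; exact hx

/-- Restriction of automorphisms to a characteristic subgroup. -/
def resChar {P : Type*} [Group P] (B : Subgroup P) [B.Characteristic] : MulAut P →* MulAut B where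
  toFun φ :=
    { toFun := fun b => ⟨φ b, (char_mem_iff B φ b).mpr b.2⟩
      invFun := fun b => ⟨φ⁻¹ b, (char_mem_iff B φ⁻¹ b).mpr b.2⟩
      left_inv := fun b => Subtype.ext (by simp)
      right_inv := fun b => Subtype.ext (by simp)
      map_mul' := fun a b => Subtype.ext (by simp) }
  map_one' := by ext; rfl
  map_mul' := fun φ ψ => by ext; rfl

theorem resChar_apply {P : Type*} [Group P] (B : Subgroup P) [B.Characteristic] (φ : MulAut P)
    (b : B) : ((resChar B φ b : B) : P) = φ b := rfl

/-- The action of automorphisms on the abelianisation. -/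
def abAut (G : Type*) [Group G] : MulAut G →* MulAut (Abelianization G) where
  toFun φ := MulEquiv.abelianizationCongr φ
  map_one' := by
    ext x
    obtain ⟨y, rfl⟩ := QuotientGroup.mk_surjective x
    rfl
  map_mul' := fun φ ψ => by
    ext x
    obtain ⟨y, rfl⟩ := QuotientGroup.mk_surjective x
    rfl

theorem abAut_of (G : Type*) [Group G] (φ : MulAut G) (x : G) :
    abAut G φ (Abelianization.of x) = Abelianization.of (φ x) := rfl

/-- The action of `Aut P` on `B / B'` for a characteristic subgroup `B`. -/
def secAut {P : Type*} [Group P] (B : Subgroup P) [B.Characteristic] :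
    MulAut P →* MulAut (Abelianization B) :=
  (abAut B).comp (resChar B)

theorem secAut_of {P : Type*} [Group P] (B : Subgroup P) [B.Characteristic] (φ : MulAut P)
    (b : B) : secAut B φ (Abelianization.of b)
      = Abelianization.of (⟨φ b, (char_mem_iff B φ b).mpr b.2⟩ : B) := rfl

theorem secAut_eq_one_iff {P : Type*} [Group P] (B : Subgroup P) [B.Characteristic]
    (φ : MulAut P) : secAut B φ = 1 ↔ ∀ b ∈ B, φ b * b⁻¹ ∈ ⁅B, B⁆ := by
  have key : ∀ b : B, (secAut B φ (Abelianization.of b) = Abelianization.of b ↔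
      φ b * (b : P)⁻¹ ∈ ⁅B, B⁆) := by
    intro b
    rw [secAut_of, ← mul_inv_eq_one, ← map_inv, ← map_mul, ← MonoidHom.mem_ker,
      Abelianization.ker_of, ← Subgroup.map_subtype_commutator]
    constructor
    · intro h
      exact ⟨_, h, rfl⟩
    · rintro ⟨y, hy, hyx⟩
      have : y = ⟨φ b, (char_mem_iff B φ b).mpr b.2⟩ * b⁻¹ := Subtype.ext hyx
      rw [← this]
      exact hy
  constructor
  · intro h b hb
    rw [← key ⟨b, hb⟩, h, MulAut.one_apply]
  · intro h
    ext x
    obtain ⟨y, rfl⟩ := QuotientGroup.mk_surjective x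
    exact (key y).mpr (h y y.2)

theorem card_abelianization_subgroup {G : Type*} [Group G] (B : Subgroup G) :
    Nat.card (Abelianization B) = (⁅B, B⁆).relIndex B := by
  rw [Subgroup.relIndex, ← Subgroup.map_subtype_commutator, Subgroup.subgroupOf,
    Subgroup.comap_map_eq_self_of_injective B.subtype_injective, Subgroup.index_eq_card]
  rfl

theorem exists_faithful_section {P : Type u} [Group P] [Finite P] (p : ℕ) [Fact p.Prime]
    (hp : p ≠ 2) (hP : IsPGroup p P) (hr : Cfsg.PRankLE p 2 P) :
    ∃ B : Subgroup P, B.Characteristic ∧ (∀ b ∈ B, b ^ p = 1) ∧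
      (∀ x ∈ B, ∀ y ∈ B, ∀ z ∈ B, ⁅x, y⁆ * z = z * ⁅x, y⁆) ∧
      Nat.card (Abelianization B) ∣ p ^ 2 ∧
      ∀ φ : MulAut P, (∀ b ∈ B, φ b * b⁻¹ ∈ ⁅B, B⁆) → ∃ n : ℕ, φ ^ (p ^ n) = 1 := by
  have hpp : p.Prime := Fact.out
  let G := P ⋊[MonoidHom.id (MulAut P)] MulAut P
  have hfin : Finite G := Finite.of_equiv _ SemidirectProduct.equivProd.symm
  let i : P →* G := SemidirectProduct.inl
  have hi : Function.Injective i := SemidirectProduct.inl_injective
  let R : Subgroup G := i.range
  have hRn : R.Normal := by
    have : R = (SemidirectProduct.rightHom : G →* MulAut P).ker :=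
      SemidirectProduct.range_inl_eq_ker_rightHom
    rw [this]
    infer_instance
  have hRp : IsPGroup p R := hP.of_equiv (MonoidHom.ofInjective hi)
  have hRr : Cfsg.PRankLE p 2 R :=
    prankLE_of_injective p 2 (MonoidHom.ofInjective hi).symm.toMonoidHom
      (MonoidHom.ofInjective hi).symm.injective hr
  obtain ⟨B, hBR, hBN, hBexp, hBcl, hBidx, hBf⟩ := exists_small_section' p hp R hRp hRr
  have hnorm : ∀ g : G, g ∈ Subgroup.normalizer (R : Set G) := by
    intro g
    rw [Subgroup.mem_normalizer_iff]
    intro n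
    constructor
    · intro h
      exact hRn.conj_mem _ h g
    · intro h
      have := hRn.conj_mem _ h g⁻¹
      simpa [mul_assoc] using this
  have hconj : ∀ (φ : MulAut P) (x : P), i (φ x) = SemidirectProduct.inr φ * i x *
      (SemidirectProduct.inr φ)⁻¹ := by
    intro φ x
    have := SemidirectProduct.inl_aut (φ := MonoidHom.id (MulAut P)) φ x
    rw [map_inv] at this
    exact this
  have hmapB : (B.comap i).map i = B := by
    rw [Subgroup.map_comap_eq, inf_eq_right]
    exact hBR
  have hchar : (B.comap i).Characteristic := by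
    rw [Subgroup.characteristic_iff_le_comap]
    intro φ x hx
    rw [Subgroup.mem_comap] at hx ⊢
    change i (φ x) ∈ B
    rw [hconj]
    exact (Subgroup.mem_normalizer_iff.mp (hBN (hnorm (SemidirectProduct.inr φ))) _).mp hx
  have hcomm : ⁅B.comap i, B.comap i⁆.map i = ⁅B, B⁆ := by
    rw [Subgroup.map_commutator, hmapB]
  refine ⟨B.comap i, hchar, ?_, ?_, ?_, ?_⟩
  · intro b hb
    apply hi
    rw [map_pow, map_one]
    exact hBexp _ hb
  · intro x hx y hy z hz
    apply hi
    rw [map_mul, map_mul, map_commutatorElement, commutatorElement_def]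
    exact hBcl _ hx _ hy _ hz
  · rw [card_abelianization_subgroup]
    have h1 : (⁅B.comap i, B.comap i⁆).relIndex (B.comap i) = (⁅B, B⁆).relIndex B := by
      rw [← Subgroup.relIndex_map_map_of_injective _ _ hi, hcomm, hmapB]
    rw [h1]
    exact hBidx
  · intro φ hφ
    -- split the order of `φ` into its `p`-part and `p'`-part
    have ho : 0 < orderOf φ := orderOf_pos φ
    obtain ⟨n, m, hm, hnm⟩ := Nat.exists_eq_pow_mul_and_not_dvd ho.ne' p hpp.ne_one
    refine ⟨n, ?_⟩
    set ψ := φ ^ (p ^ n) with hψ
    have hψo : orderOf ψ = m := by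
      rw [hψ, orderOf_pow' _ (pow_pos hpp.pos n).ne', hnm, Nat.gcd_eq_right (dvd_mul_right _ _),
        Nat.mul_div_cancel_left _ (pow_pos hpp.pos n)]
    -- `ψ` also acts trivially on the section
    have hψB : ∀ b ∈ B.comap i, ψ b * b⁻¹ ∈ ⁅B.comap i, B.comap i⁆ := by
      have := hchar
      rw [← secAut_eq_one_iff] at hφ ⊢
      rw [hψ, map_pow, hφ, one_pow]
    have ha : (orderOf (SemidirectProduct.inr ψ : G)).Coprime p := by
      rw [orderOf_injective (SemidirectProduct.inr : MulAut P →* G)
        SemidirectProduct.inr_injective, hψo]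
      exact ((Nat.Prime.coprime_iff_not_dvd hpp).mpr hm).symm
    have h2 := hBf (SemidirectProduct.inr ψ) (hnorm _) ha (by
      intro u hu
      obtain ⟨b, rfl⟩ := hBR hu
      have hb : b ∈ B.comap i := hu
      rw [← hconj, ← map_inv, ← map_mul, ← hcomm]
      exact ⟨_, hψB b hb, rfl⟩)
    ext x
    have h3 := h2 (i x) ⟨x, rfl⟩
    rw [MulAut.one_apply]
    apply hi
    rw [hconj, h3, mul_inv_cancel_right]

end Cfsg.Agent.Lib.helper30
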