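import Mathlib
import Cfsg.Agent.Lib.helper30.RankTwoG
import Cfsg.Agent.Lib.helper97.PNilp
import Cfsg.Agent.Lib.helper3.Class2

/-!
# Rank two `p`-groups, `p > 3`: three lemmas on automorphisms

* `rank_two_nb` : an automorphism acting as `e₂ ↦ e₂ ^ c` modulo the derived group of a non-abelian
  subgroup `B` of exponent `p`, where some element of the group conjugates `e₂` to `e₂ e₁ ^ a`
  modulo `B'`, has `c ^ 2 ≡ 1`.
* `nc_exponent` : a group `⟨e₁, e₂⟩ ⟨g⟩` with a "diagonal" automorphism has exponent `p`.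
* `rank_two_pab` : an inverting automorphism on a central `Ω₁` forces the group to be abelian.
-/

set_option autoImplicit false

namespace Cfsg.Agent.Lib.helper30

open scoped commutatorElement

universe u

theorem commute_of_pow_commute {G : Type*} [Group G] (p : ℕ) [hp : Fact p.Prime] {x y : G}
    (hx : x ^ p = 1) {a : ℕ} (ha : ¬ p ∣ a) (h : Commute (x ^ a) y) : Commute x y := by
  have hpp : p.Prime := hp.out
  have hcop : Nat.Coprime a p := ((Nat.Prime.coprime_iff_not_dvd hpp).mpr ha).symm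
  obtain ⟨m, -, hm⟩ := Nat.exists_mul_mod_eq_one_of_coprime hcop hpp.one_lt
  have h1 : x = (x ^ a) ^ m := by
    rw [← pow_mul]
    conv_lhs => rw [← pow_one x]
    apply pow_eq_pow_iff_modEq.mpr
    apply Nat.ModEq.of_dvd (orderOf_dvd_of_pow_eq_one hx)
    change 1 % p = a * m % p
    rw [hm, Nat.mod_eq_of_lt hpp.one_lt]
  rw [h1]
  exact h.pow_left m

theorem rank_two_nb {N : Type u} [Group N] [Finite N] (p : ℕ) [Fact p.Prime] (hp : 3 < p)
    (hN : IsPGroup p N) (hr : Cfsg.PRankLE p 2 N)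
    (B : Subgroup N) (hBexp : ∀ b ∈ B, b ^ p = 1)
    (Z : Subgroup N) (hZB : Z ≤ ⁅B, B⁆) (hZc : ∀ z ∈ Z, ∀ b ∈ B, z * b = b * z)
    (e₁ e₂ : N) (he₁ : e₁ ∈ B) (he₂ : e₂ ∈ B) (hne : e₁ * e₂ ≠ e₂ * e₁)
    (g : N) (a : ℕ) (ha : ¬ p ∣ a) (z : N) (hz : z ∈ Z) (hg : g * e₂ * g⁻¹ = e₂ * e₁ ^ a * z)
    (φ : MulAut N) (c : ℕ) (z' : N) (hz' : z' ∈ Z) (hφ : φ e₂ = e₂ ^ c * z') :
    c * c ≡ 1 [MOD p] := by
  have hpp : p.Prime := Fact.out
  have hp2 : p ≠ 2 := by omega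
  obtain ⟨W, hW⟩ := exists_omega p hp2 (Subgroup.upperCentralSeries N 2) (by
    intro x hx y _ z _
    exact (Subgroup.mem_center_iff.mp ((mem_ucs_two x).mp hx y) z).symm)
  have hWn : W.Normal := omegaZ_normal hW
  -- if `e₁ ^ a * z` commutes with `e₂` we are done
  have hkey : ¬ Commute (e₁ ^ a * z) e₂ := by
    intro h
    have h1 : Commute z e₂ := hZc z hz e₂ he₂
    have h2 : Commute (e₁ ^ a) e₂ := by
      have := h.mul_left (h1.inv_left)
      rwa [mul_inv_cancel_right] at this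
    exact hne (commute_of_pow_commute p (hBexp e₁ he₁) ha h2)
  by_cases hWab : ∀ a ∈ W, ∀ b ∈ W, a * b = b * a
  swap
  · exfalso
    push Not at hWab
    obtain ⟨u, hu, v, hv, huv⟩ := hWab
    obtain ⟨R₂, h1, h2, -, -, h5⟩ := rank_two_extraspecial p hp2 hN hr W hW u v hu hv huv
    have hBW : B ≤ W := by
      intro b hb
      have hb' : b ∈ W ⊔ R₂ := by rw [h1]; trivial
      obtain ⟨w, hw, r, hr', rfl⟩ := Subgroup.mem_sup_of_normal_left.mp hb'
      have hwr : Commute w r := h2 w hw r hr'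
      have h3 := hBexp _ hb
      rw [hwr.mul_pow, omegaZ_pow hW w hw, one_mul] at h3
      have h4 : r ∈ ⁅W, W⁆ := by
        rw [← h5]
        exact Subgroup.subset_closure ⟨hr', h3⟩
      exact W.mul_mem hw (Subgroup.commutator_le_right W W h4)
    have h6 := (omegaZ_comm_mem' hW e₂ (hBW he₂) g).2
    rw [commutatorElement_def, hg] at h6
    apply hkey
    have h8 := Subgroup.mem_center_iff.mp h6 e₂
    have h9 : e₁ ^ a * z = e₂ * e₁ ^ a * z * e₂⁻¹ := by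
      calc e₁ ^ a * z = e₂⁻¹ * ((e₂ * e₁ ^ a * z * e₂⁻¹) * e₂) := by group
        _ = e₂⁻¹ * (e₂ * (e₂ * e₁ ^ a * z * e₂⁻¹)) := by rw [← h8]
        _ = e₂ * e₁ ^ a * z * e₂⁻¹ := by group
    change (e₁ ^ a * z) * e₂ = e₂ * (e₁ ^ a * z)
    nth_rewrite 1 [h9]
    group
  have hcyc : ¬ IsCyclic N := by
    intro h
    exact hne (mul_comm_of_isCyclic e₁ e₂)
  have hS : ¬ IsCyclic ↥(⊤ : Subgroup N) := by
    intro h
    apply hcyc
    exact isCyclic_of_surjective (Subgroup.topEquiv : (⊤ : Subgroup N) ≃* N)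
      Subgroup.topEquiv.surjective
  obtain ⟨V, -, hVn, hVe, hVcard⟩ := Cfsg.Agent.S0636.result hp2 hN ⊤ hS
  have hVW : V ≤ W := by
    intro v hv
    rw [hW]
    exact ⟨normal_card_sq_le_ucs_two p hN V hVcard hv, hVe.2 v hv⟩
  have hWcard : Nat.card W = p ^ 2 := by
    apply le_antisymm
    · exact card_le_of_prankLE p 2 hr W hWab (fun a ha => omegaZ_pow hW a ha)
    · rw [← hVcard]
      exact Subgroup.card_le_of_le hVW
  have hy : e₂ ^ p = 1 := hBexp e₂ he₂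
  have hyW : e₂ ∉ W := by
    intro h
    apply hkey
    have h1 : g * e₂ * g⁻¹ ∈ W := hWn.conj_mem _ h g
    have h2 := hWab _ h1 _ h
    rw [hg] at h2
    change (e₁ ^ a * z) * e₂ = e₂ * (e₁ ^ a * z)
    calc (e₁ ^ a * z) * e₂ = e₂⁻¹ * ((e₂ * e₁ ^ a * z) * e₂) := by group
      _ = e₂⁻¹ * (e₂ * (e₂ * e₁ ^ a * z)) := by rw [h2]
      _ = e₂ * (e₁ ^ a * z) := by group
  have hBsup : B ≤ W ⊔ Subgroup.zpowers e₂ := fun b hb =>
    bad_mem_B p hN hr W hW hWab hWcard hp e₂ hy hyW b (hBexp b hb)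
  have hmk : ∀ b ∈ B, (QuotientGroup.mk b : N ⧸ W) ∈ Subgroup.zpowers (QuotientGroup.mk e₂ : N ⧸ W) := by
    intro b hb
    obtain ⟨w, hw, r, hr', rfl⟩ := Subgroup.mem_sup_of_normal_left.mp (hBsup hb)
    obtain ⟨k, rfl⟩ := Subgroup.mem_zpowers_iff.mp hr'
    rw [QuotientGroup.mk_mul, (QuotientGroup.eq_one_iff w).mpr hw, one_mul, QuotientGroup.mk_zpow]
    exact Subgroup.zpow_mem _ (Subgroup.mem_zpowers _) _
  have hBBW : ⁅B, B⁆ ≤ W := by
    rw [Subgroup.commutator_le]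
    intro x hx y hy'
    rw [← QuotientGroup.eq_one_iff, commutatorElement_def]
    obtain ⟨i, hi⟩ := Subgroup.mem_zpowers_iff.mp (hmk x hx)
    obtain ⟨j, hj⟩ := Subgroup.mem_zpowers_iff.mp (hmk y hy')
    rw [QuotientGroup.mk_mul, QuotientGroup.mk_mul, QuotientGroup.mk_mul, QuotientGroup.mk_inv,
      QuotientGroup.mk_inv, ← hi, ← hj]
    have hc : Commute ((QuotientGroup.mk e₂ : N ⧸ W) ^ i) ((QuotientGroup.mk e₂ : N ⧸ W) ^ j) :=
      (Commute.refl _).zpow_zpow i j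
    rw [hc.eq, mul_inv_cancel_right, mul_inv_cancel]
  have hZW : Z ≤ W := hZB.trans hBBW
  obtain ⟨t, ht, hdc, hgen⟩ := bad_exists_t p hN hr W hW hWab hWcard hp e₂ hy hyW
  obtain ⟨ℓ, w', hw', hφy, hℓ⟩ := bad_aut p hN hr W hW hWab hWcard hp e₂ hy hyW t ht hdc hgen φ
  rw [hφ] at hφy
  have h1 : (QuotientGroup.mk e₂ : N ⧸ W) ^ c = (QuotientGroup.mk e₂ : N ⧸ W) ^ ℓ := by
    have := congrArg (QuotientGroup.mk : N → N ⧸ W) hφy
    rw [QuotientGroup.mk_mul, QuotientGroup.mk_mul, (QuotientGroup.eq_one_iff z').mpr (hZW hz'),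
      (QuotientGroup.eq_one_iff w').mpr hw', mul_one, mul_one, QuotientGroup.mk_pow,
      QuotientGroup.mk_pow] at this
    exact this
  have ho : orderOf (QuotientGroup.mk e₂ : N ⧸ W) = p := by
    apply orderOf_eq_prime
    · rw [← QuotientGroup.mk_pow, hy]; rfl
    · intro h
      exact hyW ((QuotientGroup.eq_one_iff e₂).mp h)
  have h2 : c ≡ ℓ [MOD p] := by
    rw [← ho]
    exact pow_eq_pow_iff_modEq.mp h1
  exact (h2.mul h2).trans hℓ

theorem nc_exponent {N : Type*} [Group N] (p : ℕ) [Fact p.Prime] (hp : p ≠ 2)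
    (e₁ e₂ g : N) (he₁ : e₁ ^ p = 1) (he₂ : e₂ ^ p = 1) (h12 : e₁ * e₂ = e₂ * e₁)
    (hne₁ : e₁ ≠ 1) (a : ℕ) (ha : ¬ p ∣ a) (hg1 : g * e₁ = e₁ * g)
    (hg2 : g * e₂ * g⁻¹ = e₂ * e₁ ^ a)
    (hgen : ∀ n : N, ∃ i x y : ℕ, n = g ^ i * (e₁ ^ x * e₂ ^ y))
    (hgp : ∃ x y : ℕ, g ^ p = e₁ ^ x * e₂ ^ y)
    (φ : MulAut N) (l l' : ℕ) (hl : l * l' ≡ 1 [MOD p]) (hl1 : ¬ l ≡ 1 [MOD p])
    (hφ1 : φ e₁ = e₁ ^ l) (hφ2 : φ e₂ = e₂ ^ l') : ∀ n : N, n ^ p = 1 := by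
  have hpp : p.Prime := Fact.out
  have ho1 : orderOf e₁ = p := orderOf_eq_prime he₁ hne₁
  have hc12 : Commute e₁ e₂ := h12
  have hcg1 : Commute g e₁ := hg1
  -- `e₁` is central
  have hcen : ∀ n : N, Commute e₁ n := by
    intro n
    obtain ⟨i, x, y, rfl⟩ := hgen n
    exact (hcg1.symm.pow_right i).mul_right (((Commute.refl e₁).pow_right x).mul_right
      (hc12.pow_right y))
  -- conjugation by powers of `g`
  have hconj : ∀ i : ℕ, g ^ i * e₂ * (g ^ i)⁻¹ = e₂ * e₁ ^ (i * a) := by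
    intro i
    induction i with
    | zero => simp
    | succ i ih =>
      have h1 : g ^ (i + 1) * e₂ * (g ^ (i + 1))⁻¹ = g * (g ^ i * e₂ * (g ^ i)⁻¹) * g⁻¹ := by
        rw [pow_succ']; group
      rw [h1, ih]
      have h2 : g * (e₂ * e₁ ^ (i * a)) * g⁻¹ = (g * e₂ * g⁻¹) * (g * e₁ ^ (i * a) * g⁻¹) := by
        group
      rw [h2, hg2, (hcg1.pow_right (i * a)).eq, mul_inv_cancel_right, mul_assoc, ← pow_add,
        Nat.succ_mul, add_comm]
  have hconj' : ∀ i x y : ℕ, g ^ i * (e₁ ^ x * e₂ ^ y) =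
      (e₁ ^ x * e₂ ^ y) * g ^ i * e₁ ^ (i * a * y) := by
    intro i x y
    have h1 : g ^ i * e₂ ^ y * (g ^ i)⁻¹ = e₂ ^ y * e₁ ^ (i * a * y) := by
      have h2 : g ^ i * e₂ ^ y * (g ^ i)⁻¹ = (g ^ i * e₂ * (g ^ i)⁻¹) ^ y := by
        rw [conj_pow]
      rw [h2, hconj, (hc12.symm.pow_right (i * a)).mul_pow, ← pow_mul]
    have h3 : g ^ i * e₂ ^ y = e₂ ^ y * e₁ ^ (i * a * y) * g ^ i := by
      rw [← h1]; group
    calc g ^ i * (e₁ ^ x * e₂ ^ y) = e₁ ^ x * (g ^ i * e₂ ^ y) := by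
          rw [← mul_assoc, ((hcg1.pow_left i).pow_right x).eq, mul_assoc]
      _ = e₁ ^ x * (e₂ ^ y * e₁ ^ (i * a * y) * g ^ i) := by rw [h3]
      _ = (e₁ ^ x * e₂ ^ y) * g ^ i * e₁ ^ (i * a * y) := by
          have := ((hcen (g ^ i)).pow_left (i * a * y)).eq
          rw [mul_assoc (e₂ ^ y), this]
          group
  have hchoose : p ∣ p.choose 2 := Cfsg.Agent.Lib.helper3.prime_dvd_choose_two hpp hp
  have hpk : ∀ c : N, c ^ p = 1 → c ^ (p.choose 2) = 1 := by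
    intro c hc
    obtain ⟨k, hk⟩ := hchoose
    rw [hk, pow_mul, hc, one_pow]
  have hpow : ∀ i x y : ℕ, (g ^ i * (e₁ ^ x * e₂ ^ y)) ^ p = (g ^ p) ^ i := by
    intro i x y
    rw [hconj']
    have hcc : Commute (e₁ ^ (i * a * y)) ((e₁ ^ x * e₂ ^ y) * g ^ i) :=
      (hcen _).pow_left _
    rw [hcc.symm.mul_pow]
    have h1 : g ^ i * (e₁ ^ x * e₂ ^ y) = (e₁ ^ x * e₂ ^ y) * g ^ i * e₁ ^ (i * a * y) :=
      hconj' i x y
    rw [Cfsg.Agent.Lib.helper97.mul_pow_class_two h1 ((hcen _).pow_left _) ((hcen _).pow_left _) p]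
    have h2 : (e₁ ^ x * e₂ ^ y) ^ p = 1 := by
      rw [(hc12.pow_pow x y).mul_pow, ← pow_mul, ← pow_mul, mul_comm x, mul_comm y, pow_mul,
        pow_mul, he₁, he₂, one_pow, one_pow, one_mul]
    have h3 : (e₁ ^ (i * a * y)) ^ p = 1 := by
      rw [← pow_mul, mul_comm, pow_mul, he₁, one_pow]
    rw [h2, one_mul, hpk _ h3, h3, mul_one, mul_one, ← pow_mul, ← pow_mul, mul_comm]
  -- `g ^ p` is a power of `e₁`
  obtain ⟨x₀, y₀, hx₀⟩ := hgp
  have hy₀ : e₂ ^ y₀ = 1 := by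
    have h1 : g * g ^ p * g⁻¹ = g ^ p := by
      rw [(Commute.refl g).pow_right p |>.eq, mul_inv_cancel_right]
    rw [hx₀] at h1
    have h2 : g * (e₁ ^ x₀ * e₂ ^ y₀) * g⁻¹ = e₁ ^ x₀ * (g ^ 1 * e₂ * (g ^ 1)⁻¹) ^ y₀ := by
      rw [pow_one, conj_pow, ← mul_assoc, ← mul_assoc, (hcg1.pow_right x₀).eq]
      group
    rw [h2, hconj, (hc12.symm.pow_right (1 * a)).mul_pow, ← pow_mul] at h1
    have h3 : e₁ ^ (1 * a * y₀) = 1 := by
      have h4 : e₁ ^ x₀ * e₂ ^ y₀ * e₁ ^ (1 * a * y₀) = e₁ ^ x₀ * e₂ ^ y₀ * 1 := by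
        rw [mul_one, mul_assoc]; exact h1
      exact mul_left_cancel h4
    have h5 : p ∣ 1 * a * y₀ := by
      rw [← ho1]; exact orderOf_dvd_of_pow_eq_one h3
    rw [one_mul] at h5
    have h6 : p ∣ y₀ := (hpp.dvd_mul.mp h5).resolve_left ha
    obtain ⟨k, rfl⟩ := h6
    rw [pow_mul, he₂, one_pow]
  rw [hy₀, mul_one] at hx₀
  -- the action of `φ` on `g`
  obtain ⟨i, x, y, hi⟩ := hgen (φ g)
  have hil : i ≡ l * l [MOD p] := by
    have h1 : φ (g * e₂ * g⁻¹) = e₂ ^ l' * e₁ ^ (l * a) := by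
      rw [hg2, map_mul, map_pow, hφ1, hφ2, ← pow_mul]
    have h2 : φ (g * e₂ * g⁻¹) = e₂ ^ l' * e₁ ^ (i * a * l') := by
      rw [map_mul, map_mul, map_inv, hi, hφ2]
      have h3 : g ^ i * (e₁ ^ x * e₂ ^ y) * e₂ ^ l' * (g ^ i * (e₁ ^ x * e₂ ^ y))⁻¹
          = g ^ i * e₂ ^ l' * (g ^ i)⁻¹ := by
        have h4 : Commute (e₁ ^ x * e₂ ^ y) (e₂ ^ l') :=
          (hc12.pow_pow x l').mul_left ((Commute.refl e₂).pow_pow y l')
        rw [mul_inv_rev, mul_assoc (g ^ i), h4.eq]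
        group
      rw [h3, ← conj_pow, hconj, (hc12.symm.pow_right (i * a)).mul_pow, ← pow_mul]
    rw [h1] at h2
    have h3 := mul_left_cancel h2
    have h4 : l * a ≡ i * a * l' [MOD p] := by
      rw [← ho1]; exact pow_eq_pow_iff_modEq.mp h3
    rw [← ZMod.natCast_eq_natCast_iff] at h4 hl ⊢
    push_cast at h4 hl ⊢
    have ha0 : (a : ZMod p) ≠ 0 := fun h => ha ((ZMod.natCast_eq_zero_iff a p).mp h)
    have h5 : (a : ZMod p) * ((i : ZMod p) - l * l) = 0 := by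
      linear_combination (-(l : ZMod p)) * h4 + (-((a : ZMod p) * i)) * hl
    rcases mul_eq_zero.mp h5 with h6 | h6
    · exact absurd h6 ha0
    · exact sub_eq_zero.mp h6
  have hx₀p : p ∣ x₀ := by
    have h1 : φ (g ^ p) = e₁ ^ (l * x₀) := by
      rw [hx₀, map_pow, hφ1, ← pow_mul]
    have h2 : φ (g ^ p) = e₁ ^ (x₀ * i) := by
      rw [map_pow, hi, hpow, hx₀, ← pow_mul]
    rw [h1] at h2
    have h4 : l * x₀ ≡ x₀ * i [MOD p] := by
      rw [← ho1]; exact pow_eq_pow_iff_modEq.mp h2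
    rw [← ZMod.natCast_eq_natCast_iff] at h4 hl hil
    push_cast at h4 hl hil
    have hl0 : (l : ZMod p) ≠ 0 := by
      intro h; rw [h, zero_mul] at hl; exact zero_ne_one hl
    have hl1' : (l : ZMod p) - 1 ≠ 0 := by
      intro h
      apply hl1
      rw [← ZMod.natCast_eq_natCast_iff]
      push_cast
      exact sub_eq_zero.mp h
    have h5 : (x₀ : ZMod p) * (l * (l - 1)) = 0 := by
      linear_combination (-1 : ZMod p) * h4 + (-(x₀ : ZMod p)) * hil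
    rcases mul_eq_zero.mp h5 with h6 | h6
    · exact (ZMod.natCast_eq_zero_iff x₀ p).mp h6
    · exact absurd h6 (mul_ne_zero hl0 hl1')
  have hgp1 : g ^ p = 1 := by
    obtain ⟨k, rfl⟩ := hx₀p
    rw [hx₀, pow_mul, he₁, one_pow]
  intro n
  obtain ⟨i, x, y, rfl⟩ := hgen n
  rw [hpow, hgp1, one_pow]

theorem rank_two_pab {P : Type u} [Group P] [Finite P] (p : ℕ) [Fact p.Prime] (hp : p ≠ 2)
    (hP : IsPGroup p P) (hr : Cfsg.PRankLE p 2 P) (B : Subgroup P) [B.Normal]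
    (hBexp : ∀ b ∈ B, b ^ p = 1) (hBcard : Nat.card B = p ^ 2)
    (hBc : ∀ x : P, ∀ b ∈ B, x * b = b * x)
    (hfaith : ∀ φ : MulAut P, (∀ b ∈ B, φ b = b) → ∃ n : ℕ, φ ^ (p ^ n) = 1)
    (α : MulAut P) (hα : ∀ b ∈ B, α b = b⁻¹) : ∀ x y : P, x * y = y * x := by
  have hpp : p.Prime := Fact.out
  have hodd : Odd p := hpp.odd_of_ne_two hp
  have hBab : ∀ a ∈ B, ∀ b ∈ B, a * b = b * a := fun a _ b hb => hBc a b hb
  have hΩ : ∀ y : P, y ^ p = 1 → y ∈ B := by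
    intro y hy
    by_contra hyB
    exact false_of_sup_zpowers p hr B hBab hBexp hBcard y hyB hy (fun a ha => hBc y a ha)
  obtain ⟨n, m, hm, hnm⟩ := Nat.exists_eq_pow_mul_and_not_dvd (orderOf_pos α).ne' p hpp.ne_one
  set β := α ^ (p ^ n) with hβ
  have hβo : orderOf β = m := by
    rw [hβ, orderOf_pow' _ (pow_pos hpp.pos n).ne', hnm, Nat.gcd_eq_right (dvd_mul_right _ _),
      Nat.mul_div_cancel_left _ (pow_pos hpp.pos n)]
  have hαk : ∀ k : ℕ, ∀ b ∈ B, (α ^ (2 * k + 1)) b = b⁻¹ := by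
    intro k
    induction k with
    | zero => intro b hb; simpa using hα b hb
    | succ k ih =>
      intro b hb
      have h1 : 2 * (k + 1) + 1 = (2 * k + 1) + 1 + 1 := by ring
      rw [h1, pow_succ', pow_succ', MulAut.mul_apply, MulAut.mul_apply, ih b hb,
        hα _ (B.inv_mem hb), inv_inv, hα b hb]
  have hβB : ∀ b ∈ B, β b = b⁻¹ := by
    obtain ⟨k, hk⟩ := hodd.pow (n := n)
    intro b hb
    rw [hβ, hk]
    exact hαk k b hb
  have hβ2 : β ^ 2 = 1 := by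
    obtain ⟨n', hn'⟩ := hfaith (β ^ 2) (by
      intro b hb
      rw [pow_two, MulAut.mul_apply, hβB b hb, hβB _ (B.inv_mem hb), inv_inv])
    rw [← pow_mul] at hn'
    have h1 : m ∣ 2 * p ^ n' := by rw [← hβo]; exact orderOf_dvd_of_pow_eq_one hn'
    have hcop : Nat.Coprime m (p ^ n') :=
      (((Nat.Prime.coprime_iff_not_dvd hpp).mpr hm).symm).pow_right n'
    have h2 : m ∣ 2 := hcop.dvd_of_dvd_mul_right h1
    rw [← hβo] at h2
    exact orderOf_dvd_iff_pow_eq_one.mp h2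
  have hfpf : ∀ x : P, β x = x → x = 1 := by
    intro x hx
    by_contra hx1
    obtain ⟨k, hk⟩ := (IsPGroup.iff_orderOf.mp hP) x
    have hk0 : k ≠ 0 := by
      rintro rfl
      rw [pow_zero, orderOf_eq_one_iff] at hk
      exact hx1 hk
    obtain ⟨j, rfl⟩ := Nat.exists_eq_succ_of_ne_zero hk0
    have hy1 : (x ^ (p ^ j)) ^ p = 1 := by
      rw [← pow_mul, ← pow_succ, ← hk, pow_orderOf_eq_one]
    have hy2 : x ^ (p ^ j) ≠ 1 := by
      intro h
      have := orderOf_dvd_of_pow_eq_one h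
      rw [hk] at this
      have h3 := Nat.le_of_dvd (pow_pos hpp.pos j) this
      have h4 : p ^ j < p ^ j.succ := Nat.pow_lt_pow_right hpp.one_lt (Nat.lt_succ_self j)
      exact absurd h3 (not_le.mpr h4)
    have h5 := hβB _ (hΩ _ hy1)
    rw [map_pow, hx] at h5
    have h6 : (x ^ (p ^ j)) ^ 2 = 1 := by
      rw [pow_two]
      nth_rewrite 2 [h5]
      exact mul_inv_cancel _
    have h7 : orderOf (x ^ (p ^ j)) ∣ Nat.gcd 2 p :=
      Nat.dvd_gcd (orderOf_dvd_of_pow_eq_one h6) (orderOf_dvd_of_pow_eq_one hy1)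
    have h8 : Nat.gcd 2 p = 1 := by
      rw [Nat.gcd_comm]
      exact (Nat.Prime.coprime_iff_not_dvd hpp).mpr (fun h => hp ((Nat.prime_dvd_prime_iff_eq hpp Nat.prime_two).mp h))
    rw [h8, Nat.dvd_one, orderOf_eq_one_iff] at h7
    exact hy2 h7
  have hinj : Function.Injective (fun x : P => x⁻¹ * β x) := by
    intro x y hxy
    have h1 : β (y * x⁻¹) = y * x⁻¹ := by
      have h2 : x⁻¹ * β x = y⁻¹ * β y := hxy
      rw [map_mul, map_inv]
      have h3 : β y = y * (x⁻¹ * β x) := by rw [h2]; group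
      rw [h3]; group
    have h4 := hfpf _ h1
    exact (mul_inv_eq_one.mp h4).symm
  have hsurj := Finite.injective_iff_surjective.mp hinj
  have hinv : ∀ y : P, β y = y⁻¹ := by
    intro y
    obtain ⟨x, rfl⟩ := hsurj y
    have h1 : β (β x) = x := by
      have := congrArg (fun f : MulAut P => f x) hβ2
      simpa [pow_two] using this
    change β (x⁻¹ * β x) = (x⁻¹ * β x)⁻¹
    rw [map_mul, map_inv, h1, mul_inv_rev, inv_inv]
  intro x y
  have h1 := hinv (x * y)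
  rw [map_mul, hinv, hinv, mul_inv_rev] at h1
  have h2 := congrArg (fun t => t⁻¹) h1
  simpa using h2.symm

end Cfsg.Agent.Lib.helper30
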