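import Mathlib
import Cfsg.Agent.Lib.helper30.RankTwoG
import Cfsg.Agent.Lib.helper3.PGroupFrattini

/-!
# Small group-theoretic complements for the rank two resistance theorem

* `la_small` : an automorphism of `p`-power order of a group of order dividing `p` is trivial.
* `comm_of_gen_ab` : a class two group generated modulo its derived group by two commuting elements
  is abelian.
* `rank_two_omega` : in a `p`-group of rank at most two (`p > 3`) the elements of order dividing `p`
  lie in a subgroup of order at most `p ^ 3`.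
* `index_frattini_le_of_comm` : an abelian `p`-group of rank at most two has Frattini index at
  most `p ^ 2`.
-/

set_option autoImplicit false

namespace Cfsg.Agent.Lib.helper30

open scoped commutatorElement

universe u

theorem la_small (p : ℕ) [Fact p.Prime] {V : Type*} [Group V] [Finite V] (hV : Nat.card V ∣ p)
    (σ : MulAut V) (n : ℕ) (hσ : σ ^ (p ^ n) = 1) : σ = 1 := by
  have hpp : p.Prime := Fact.out
  rcases (Nat.dvd_prime hpp).mp hV with h1 | h1
  · have : Subsingleton V := (Nat.card_eq_one_iff_unique.mp h1).1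
    ext v
    exact Subsingleton.elim _ _
  · have hT : IsPGroup p (Subgroup.zpowers σ) := by
      rintro ⟨t, ht⟩
      obtain ⟨k, rfl⟩ := Subgroup.mem_zpowers_iff.mp ht
      refine ⟨n, ?_⟩
      apply Subtype.ext
      rw [Subgroup.coe_pow, Subgroup.coe_one, ← zpow_natCast, ← zpow_mul, mul_comm, zpow_mul,
        zpow_natCast, hσ, one_zpow]
    have h2 : (1 : V) ∈ MulAction.fixedPoints (Subgroup.zpowers σ) V := by
      intro t
      exact map_one (t : MulAut V)
    obtain ⟨b, hb, hb1⟩ := hT.exists_fixed_point_of_prime_dvd_card_of_fixed_point V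
      (by rw [h1]) h2
    have hb' : σ b = b := hb ⟨σ, Subgroup.mem_zpowers σ⟩
    have htop : Subgroup.zpowers b = ⊤ := zpowers_eq_top_of_prime_card h1 (Ne.symm hb1)
    ext v
    have hv : v ∈ Subgroup.zpowers b := by rw [htop]; trivial
    obtain ⟨k, rfl⟩ := Subgroup.mem_zpowers_iff.mp hv
    rw [map_zpow, hb', MulAut.one_apply]

theorem comm_of_gen_ab {G : Type*} [Group G] (hcl : ∀ x y z : G, ⁅x, y⁆ * z = z * ⁅x, y⁆)
    (e₁ e₂ : G) (h : e₁ * e₂ = e₂ * e₁)
    (hgen : ∀ v : Abelianization G, ∃ x y : ℕ,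
      v = Abelianization.of e₁ ^ x * Abelianization.of e₂ ^ y) :
    ∀ a b : G, a * b = b * a := by
  have hc : commutator G ≤ Subgroup.center G := by
    rw [commutator_eq_closure, Subgroup.closure_le]
    rintro _ ⟨x, y, rfl⟩
    exact Subgroup.mem_center_iff.mpr (fun z => (hcl x y z).symm)
  have hrep : ∀ a : G, ∃ x y : ℕ, ∃ c ∈ Subgroup.center G, a = e₁ ^ x * e₂ ^ y * c := by
    intro a
    obtain ⟨x, y, hxy⟩ := hgen (Abelianization.of a)
    refine ⟨x, y, (e₁ ^ x * e₂ ^ y)⁻¹ * a, ?_, by group⟩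
    apply hc
    rw [← Abelianization.ker_of, MonoidHom.mem_ker, map_mul, map_inv, hxy, map_mul, map_pow,
      map_pow, inv_mul_cancel]
  have h12 : Commute e₁ e₂ := h
  intro a b
  obtain ⟨x, y, c, hc', rfl⟩ := hrep a
  obtain ⟨x', y', c', hc'', rfl⟩ := hrep b
  have hcc : ∀ z : G, Commute c z := fun z => (Subgroup.mem_center_iff.mp hc' z).symm
  have hcc' : ∀ z : G, Commute c' z := fun z => (Subgroup.mem_center_iff.mp hc'' z).symm
  have h1 : Commute (e₁ ^ x * e₂ ^ y) (e₁ ^ x' * e₂ ^ y') :=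
    (((Commute.refl e₁).pow_pow x x').mul_right (h12.pow_pow x y')).mul_left
      ((h12.symm.pow_pow y x').mul_right ((Commute.refl e₂).pow_pow y y'))
  exact ((h1.mul_right (hcc' _).symm).mul_left ((hcc _).mul_right (hcc _))).eq

theorem rank_two_omega {R : Type u} [Group R] [Finite R] (p : ℕ) [Fact p.Prime] (hp : 3 < p)
    (hR : IsPGroup p R) (hr : Cfsg.PRankLE p 2 R) :
    ∃ O : Subgroup R, (∀ x : R, x ^ p = 1 → x ∈ O) ∧ Nat.card O ≤ p ^ 3 := by
  have hpp : p.Prime := Fact.out
  have hp2 : p ≠ 2 := by omega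
  have h23 : p ^ 2 ≤ p ^ 3 := Nat.pow_le_pow_right hpp.pos (by norm_num)
  obtain ⟨W, hW⟩ := exists_omega p hp2 (Subgroup.upperCentralSeries R 2) (by
    intro x hx y _ z _
    exact (Subgroup.mem_center_iff.mp ((mem_ucs_two x).mp hx y) z).symm)
  have hWn : W.Normal := omegaZ_normal hW
  by_cases hWab : ∀ a ∈ W, ∀ b ∈ W, a * b = b * a
  swap
  · push Not at hWab
    obtain ⟨u, hu, v, hv, huv⟩ := hWab
    obtain ⟨R₂, h1, h2, h3, -, h5⟩ := rank_two_extraspecial p hp2 hR hr W hW u v hu hv huv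
    refine ⟨W, ?_, by rw [h3]⟩
    intro b hb
    have hb' : b ∈ W ⊔ R₂ := by rw [h1]; trivial
    obtain ⟨w, hw, r, hr', rfl⟩ := Subgroup.mem_sup_of_normal_left.mp hb'
    have hwr : Commute w r := h2 w hw r hr'
    rw [hwr.mul_pow, omegaZ_pow hW w hw, one_mul] at hb
    have h4 : r ∈ ⁅W, W⁆ := by
      rw [← h5]
      exact Subgroup.subset_closure ⟨hr', hb⟩
    exact W.mul_mem hw (Subgroup.commutator_le_right W W h4)
  by_cases hΩ : ∀ x : R, x ^ p = 1 → x ∈ W
  · exact ⟨W, hΩ, (card_le_of_prankLE p 2 hr W hWab (fun a ha => omegaZ_pow hW a ha)).trans h23⟩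
  push Not at hΩ
  obtain ⟨y, hy, hyW⟩ := hΩ
  have hcyc : ¬ IsCyclic R := by
    intro h
    apply hyW
    rw [hW]
    refine ⟨(mem_ucs_two y).mpr (fun r => ?_), hy⟩
    rw [mul_comm_of_isCyclic y r, mul_inv_cancel_right, mul_inv_cancel]
    exact Subgroup.one_mem _
  have hS : ¬ IsCyclic ↥(⊤ : Subgroup R) := by
    intro h
    apply hcyc
    exact isCyclic_of_surjective (Subgroup.topEquiv : (⊤ : Subgroup R) ≃* R)
      Subgroup.topEquiv.surjective
  obtain ⟨V, -, hVn, hVe, hVcard⟩ := Cfsg.Agent.S0636.result hp2 hR ⊤ hS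
  have hVW : V ≤ W := by
    intro v hv
    rw [hW]
    exact ⟨normal_card_sq_le_ucs_two p hR V hVcard hv, hVe.2 v hv⟩
  have hWcard : Nat.card W = p ^ 2 := by
    apply le_antisymm
    · exact card_le_of_prankLE p 2 hr W hWab (fun a ha => omegaZ_pow hW a ha)
    · rw [← hVcard]
      exact Subgroup.card_le_of_le hVW
  refine ⟨W ⊔ Subgroup.zpowers y, fun x hx => bad_mem_B p hR hr W hW hWab hWcard hp y hy hyW x hx,
    ?_⟩
  rw [bad_B_card p W hW y hy hyW hWcard]

theorem index_frattini_le_of_comm {P : Type*} [Group P] [Finite P] (p : ℕ) [Fact p.Prime]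
    (hP : IsPGroup p P) (hr : Cfsg.PRankLE p 2 P) (hab : ∀ x y : P, x * y = y * x) :
    (frattini P).index ≤ p ^ 2 := by
  let f : P →* P := MonoidHom.mk' (fun x => x ^ p) (fun a b => (show Commute a b from hab a b).mul_pow p)
  have hfr : f.range ≤ frattini P := by
    rintro _ ⟨x, rfl⟩
    exact Cfsg.Agent.Lib.helper3.pow_prime_mem_frattini hP x
  have h1 : (frattini P).index ∣ f.range.index := Subgroup.index_dvd_of_le hfr
  have h2 : f.range.index = Nat.card f.ker := by
    have h3 := f.range.card_mul_index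
    have h4 := f.ker.card_mul_index
    rw [Subgroup.index_ker] at h4
    have h5 : 0 < Nat.card f.range := Nat.card_pos
    have h6 : Nat.card f.range * f.range.index = Nat.card f.range * Nat.card f.ker := by
      rw [h3, mul_comm, h4]
    exact Nat.eq_of_mul_eq_mul_left h5 h6
  have h7 : Nat.card f.ker ≤ p ^ 2 := by
    apply hr f.ker
    · exact ⟨⟨fun a b => Subtype.ext (hab a b)⟩⟩
    · intro a ha
      exact ha
  have h8 : f.range.index ≠ 0 := Subgroup.index_ne_zero_of_finite
  exact (Nat.le_of_dvd (Nat.pos_of_ne_zero h8) h1).trans (h2 ▸ h7)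

end Cfsg.Agent.Lib.helper30
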