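import Mathlib
import Cfsg.Agent.Lib.helper30.ResB
import Cfsg.Agent.Lib.helper30.RankTwoD
import Cfsg.Agent.Lib.helper89.FusionSat
import Cfsg.Agent.Lib.helper88.Saturated

/-!
# Fusion-system glue for the rank two resistance theorem

* `prank_of_le` : subgroups of `S` inherit the rank bound.
* `exists_aut_normalizer` : an `F`-automorphism of a receptive subgroup `Q` normalising `Aut_S(Q)`
  extends to an `F`-automorphism of `N_S(Q)`.
* `secAut_apply_eq`, `ab_eq_iff` : reading off congruences modulo the derived subgroup.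
-/

set_option autoImplicit false

namespace Cfsg.Agent.Lib.helper30

open scoped commutatorElement
open Cfsg Cfsg.FusionSystem

theorem prank_of_le {Ω : Type*} [Group Ω] {S : Subgroup Ω} (p : ℕ)
    (hrank3 : ∀ E : Subgroup Ω, E ≤ S → Cfsg.IsElementaryAbelian p E → Nat.card E ≤ p ^ 2)
    {Q : Subgroup Ω} (hQ : Q ≤ S) : Cfsg.PRankLE p 2 ↥Q := by
  intro A hA hexp
  have h := hrank3 (A.map Q.subtype) ?_ ⟨⟨⟨?_⟩⟩, ?_⟩
  · rwa [Subgroup.card_map_of_injective Q.subtype_injective] at h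
  · rintro _ ⟨x, -, rfl⟩
    exact hQ x.2
  · rintro ⟨_, x, hx, rfl⟩ ⟨_, y, hy, rfl⟩
    apply Subtype.ext
    have := comm_of_isMulCommutative A hA x hx y hy
    change (x : Ω) * (y : Ω) = (y : Ω) * (x : Ω)
    rw [← Subgroup.coe_mul, this, Subgroup.coe_mul]
  · rintro _ ⟨x, hx, rfl⟩
    change ((x : Ω)) ^ p = 1
    rw [← Subgroup.coe_pow, hexp x hx, Subgroup.coe_one]

theorem ab_eq_iff {G : Type*} [Group G] (x y : G) :
    Abelianization.of x = Abelianization.of y ↔ ∃ z ∈ commutator G, x = y * z := by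
  constructor
  · intro h
    refine ⟨y⁻¹ * x, ?_, by group⟩
    rw [← Abelianization.ker_of, MonoidHom.mem_ker, map_mul, map_inv, h, inv_mul_cancel]
  · rintro ⟨z, hz, rfl⟩
    rw [← Abelianization.ker_of, MonoidHom.mem_ker] at hz
    rw [map_mul, hz, mul_one]

theorem secAut_apply_eq {P : Type*} [Group P] (B : Subgroup P) [B.Characteristic]
    (k : MulAut P) (b c : B) : secAut B k (Abelianization.of b) = Abelianization.of c ↔
      ∃ z ∈ ⁅B, B⁆, k (b : P) = (c : P) * z := by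
  rw [secAut_of, ab_eq_iff]
  constructor
  · rintro ⟨z, hz, hzz⟩
    refine ⟨(z : P), ?_, ?_⟩
    · rw [← Subgroup.map_subtype_commutator]
      exact ⟨z, hz, rfl⟩
    · have := congrArg (Subtype.val : B → P) hzz
      exact this
  · rintro ⟨z, hz, hzz⟩
    rw [← Subgroup.map_subtype_commutator] at hz
    obtain ⟨z', hz', rfl⟩ := hz
    exact ⟨z', hz', Subtype.ext hzz⟩

theorem exists_aut_normalizer {Ω : Type*} [Group Ω] {S : Subgroup Ω} [Finite S]
    (F : FusionSystem S) {Q : Subgroup Ω} (hQS : Q ≤ S) (hrec : F.IsReceptive Q) {h : MulAut Q}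
    (hh : h ∈ F.autGroup Q)
    (hnorm : ∀ β ∈ autInducedBy S Q, h * β * h⁻¹ ∈ autInducedBy S Q) :
    ∃ ψ : MulAut (normalizerIn S Q), ψ ∈ F.autGroup (normalizerIn S Q) ∧
      ∀ (x : Q) (hx : (x : Ω) ∈ normalizerIn S Q),
        ((ψ ⟨x, hx⟩ : normalizerIn S Q) : Ω) = ((h x : Q) : Ω) := by
  have hQfin : Finite Q := Cfsg.Agent.Lib.helper88.finite_of_le hQS
  have hNS : normalizerIn S Q ≤ S := inf_le_left
  have hNfin : Finite (normalizerIn S Q) := Cfsg.Agent.Lib.helper88.finite_of_le hNS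
  have hφ : Q.subtype.comp h.toMonoidHom ∈ F.Hom Q :=
    (Cfsg.Agent.Lib.helper88.mem_autGroup_iff' F hQS h).mp hh
  have hrange : (Q.subtype.comp h.toMonoidHom).range = Q := by
    ext y
    constructor
    · rintro ⟨x, rfl⟩
      exact (h x).2
    · intro hy
      exact ⟨h.symm ⟨y, hy⟩, by simp⟩
  obtain ⟨ψ, hψ, hψQ⟩ := Cfsg.Agent.Lib.helper89.exists_extension F hrec hφ hrange
    (normalizerIn S Q) (by
      intro g hg
      refine ⟨hg.1, hg.2, ?_⟩
      have hβ := hnorm _ (Cfsg.Agent.Lib.helper88.conjAut_mem S Q g hg.2 hg.1)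
      obtain ⟨s, hs, hsx⟩ := (Cfsg.Agent.Lib.helper88.mem_autInducedBy_iff S Q _).mp hβ
      refine ⟨s, hs, fun x hx => ?_⟩
      have h1 := hsx (h x)
      rw [MulAut.mul_apply, MulAut.mul_apply, MulAut.inv_apply_self] at h1
      have h2 : Cfsg.Agent.Lib.helper88.conjAut Q g hg.2 x = ⟨g * x * g⁻¹, hx⟩ :=
        Subtype.ext (Cfsg.Agent.Lib.helper88.conjAut_apply Q g hg.2 x)
      rw [h2] at h1
      exact h1)
  have hψS : ∀ n : normalizerIn S Q, ψ n ∈ normalizerIn S Q := by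
    intro n
    refine ⟨(F.le_of_mem hψ).2 n, ?_⟩
    apply Cfsg.Agent.Lib.helper88.mem_normalizer_of_conj_mem
    intro y hy
    set x : Q := h.symm ⟨y, hy⟩ with hx
    have hxN : (x : Ω) ∈ normalizerIn S Q := ⟨hQS x.2, Subgroup.le_normalizer x.2⟩
    have h1 : ψ ⟨x, hxN⟩ = y := by
      rw [hψQ x x.2 hxN]
      simp [hx]
    have h2 : (n : Ω) * x * (n : Ω)⁻¹ ∈ Q :=
      (Subgroup.mem_normalizer_iff.mp n.2.2 x).mp x.2
    have h3 : ψ n * y * (ψ n)⁻¹ = ψ ⟨(n : Ω) * x * (n : Ω)⁻¹,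
        (normalizerIn S Q).mul_mem ((normalizerIn S Q).mul_mem n.2 hxN)
          ((normalizerIn S Q).inv_mem n.2)⟩ := by
      rw [← h1, ← map_inv, ← map_mul, ← map_mul]
      rfl
    rw [h3, hψQ _ h2]
    exact (h _).2
  have hinj : Function.Injective (ψ.codRestrict (normalizerIn S Q) hψS) := by
    intro a b hab
    apply F.injective_of_mem hψ
    exact congrArg Subtype.val hab
  have hsurj := Finite.injective_iff_surjective.mp hinj
  have hψrange : ψ.range = normalizerIn S Q := by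
    ext y
    constructor
    · rintro ⟨n, rfl⟩
      exact hψS n
    · intro hy
      obtain ⟨n, hn⟩ := hsurj ⟨y, hy⟩
      exact ⟨n, congrArg Subtype.val hn⟩
  obtain ⟨e, he, hex⟩ := Cfsg.Agent.Lib.helper88.exists_isoEquiv F hψ hψrange
  refine ⟨e, (Cfsg.Agent.Lib.helper88.mem_autGroup_iff F hNS e).mpr he, ?_⟩
  intro x hx
  rw [hex, hψQ x x.2 hx]
  rfl

end Cfsg.Agent.Lib.helper30
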