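import Mathlib
import Cfsg.Agent.Lib.helper30.ResA
import Cfsg.Agent.Lib.helper30.ResE

/-!
# The section package: reading `la_main` inside a subgroup of a fusion system

For a subgroup `Q ≤ S`, a characteristic subgroup `B` of `Q` with `|B / B'| = p ^ 2` on which the
automorphisms acting trivially form a `p`-group, and a Sylow `p`-subgroup `Aut_S(Q)` of `Aut_F(Q)`
which is not normalised by some `γ ∈ Aut_F(Q)`, we obtain generators `b₁, b₂` of `B` modulo `B'`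
and the "diagonal" elements of `Aut_F(Q)` normalising `Aut_S(Q)`.
-/

set_option autoImplicit false

namespace Cfsg.Agent.Lib.helper30

open scoped commutatorElement
open Cfsg Cfsg.FusionSystem

universe u

theorem la_pow_apply {V : Type*} [CommGroup V] (σ : MulAut V) (e₁ e₂ : V) (a : ℕ)
    (h1 : σ e₁ = e₁) (h2 : σ e₂ = e₂ * e₁ ^ a) (n : ℕ) :
    (σ ^ n) e₁ = e₁ ∧ (σ ^ n) e₂ = e₂ * e₁ ^ (n * a) := by
  induction n with
  | zero => simp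
  | succ n ih =>
    rw [pow_succ', MulAut.mul_apply, MulAut.mul_apply, ih.1, ih.2, map_mul, map_pow, h1, h2]
    refine ⟨rfl, ?_⟩
    rw [mul_assoc, ← pow_add, Nat.succ_mul, add_comm]

set_option maxHeartbeats 800000 in
theorem sec_package {Ω : Type u} [Group Ω] {S : Subgroup Ω} [Finite S] (p : ℕ) [Fact p.Prime]
    (F : FusionSystem S) {Q : Subgroup Ω} (hQS : Q ≤ S)
    (B : Subgroup Q) [hBc : B.Characteristic] (hBexp : ∀ b ∈ B, b ^ p = 1)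
    (hcard : Nat.card (Abelianization B) = p ^ 2)
    (hfaith : ∀ φ : MulAut Q, (∀ b ∈ B, φ b * b⁻¹ ∈ ⁅B, B⁆) → ∃ n : ℕ, φ ^ (p ^ n) = 1)
    (T : Sylow p (F.autGroup Q))
    (hT : (T : Subgroup (F.autGroup Q)) = (autInducedBy S Q).subgroupOf (F.autGroup Q))
    (γ : MulAut Q) (hγ : γ ∈ F.autGroup Q) (t₀ : MulAut Q) (ht₀ : t₀ ∈ autInducedBy S Q)
    (hγt : γ * t₀ * γ⁻¹ ∉ autInducedBy S Q) :
    ∃ b₁ b₂ : Q, b₁ ∈ B ∧ b₂ ∈ B ∧ b₁ ∉ ⁅B, B⁆ ∧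
      (∀ b ∈ B, ∃ x y : ℕ, ∃ z ∈ ⁅B, B⁆, b = b₁ ^ x * b₂ ^ y * z) ∧
      (∀ t ∈ autInducedBy S Q, (∃ z ∈ ⁅B, B⁆, t b₁ = b₁ * z) ∧
        ∃ x : ℕ, ∃ z ∈ ⁅B, B⁆, t b₂ = b₂ * b₁ ^ x * z) ∧
      (∀ t ∈ F.autGroup Q, (∃ z ∈ ⁅B, B⁆, t b₁ = b₁ * z) →
        (∃ x : ℕ, ∃ z ∈ ⁅B, B⁆, t b₂ = b₂ * b₁ ^ x * z) → t ∈ autInducedBy S Q) ∧
      (∀ t : MulAut Q, (∃ z ∈ ⁅B, B⁆, t b₁ = b₁ * z) → (∃ z ∈ ⁅B, B⁆, t b₂ = b₂ * z) →
        secAut B t = 1) ∧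
      (∀ t ∈ autInducedBy S Q, ∀ u ∈ autInducedBy S Q, secAut B u ≠ 1 →
        ∃ m : ℕ, secAut B (t * (u ^ m)⁻¹) = 1) ∧
      (∀ t ∈ autInducedBy S Q, secAut B (t ^ p) = 1) ∧
      ∀ l l' : ℕ, l * l' ≡ 1 [MOD p] → ∃ h ∈ F.autGroup Q,
        (∀ t ∈ autInducedBy S Q, h * t * h⁻¹ ∈ autInducedBy S Q) ∧
        (∃ z ∈ ⁅B, B⁆, h b₁ = b₁ ^ l * z) ∧ (∃ z ∈ ⁅B, B⁆, h b₂ = b₂ ^ l' * z) := by
  have hpp : p.Prime := Fact.out
  have hVfin : Finite (Abelianization B) :=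
    Nat.finite_of_card_ne_zero (by rw [hcard]; exact (pow_pos hpp.pos 2).ne')
  have hA : autInducedBy S Q ≤ F.autGroup Q :=
    Cfsg.Agent.Lib.helper88.autInducedBy_le_autGroup F hQS
  have hexpV : ∀ v : Abelianization B, v ^ p = 1 := by
    intro v
    obtain ⟨b, rfl⟩ := QuotientGroup.mk_surjective v
    change Abelianization.of b ^ p = 1
    rw [← map_pow, Subtype.ext (a1 := b ^ p) (a2 := 1) (hBexp b b.2), map_one]
  set ρ : F.autGroup Q →* MulAut (Abelianization B) :=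
    (secAut B).comp (F.autGroup Q).subtype with hρ
  have hker : ∀ k : F.autGroup Q, ρ k = 1 → ∃ n : ℕ, k ^ (p ^ n) = 1 := by
    intro k hk
    obtain ⟨n, hn⟩ := hfaith (k : MulAut Q) ((secAut_eq_one_iff B _).mp hk)
    exact ⟨n, Subtype.ext hn⟩
  have hmemT : ∀ x : F.autGroup Q, x ∈ T ↔ (x : MulAut Q) ∈ autInducedBy S Q := by
    intro x
    change x ∈ (T : Subgroup (F.autGroup Q)) ↔ _
    rw [hT, Subgroup.mem_subgroupOf]
  obtain ⟨e₁, e₂, he₁, he₂, hTV, hAL, hdl⟩ := la_main p hexpV hcard ρ hker T ⟨γ, hγ⟩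
    ⟨t₀, hA ht₀⟩ ((hmemT _).mpr ht₀) (fun h => hγt ((hmemT _).mp h))
  have hspanV := la_span p hexpV hcard e₁ e₂ he₁ he₂
  obtain ⟨b₁, hb₁⟩ := QuotientGroup.mk_surjective e₁
  obtain ⟨b₂, hb₂⟩ := QuotientGroup.mk_surjective e₂
  have hb₁' : Abelianization.of b₁ = e₁ := hb₁
  have hb₂' : Abelianization.of b₂ = e₂ := hb₂
  -- two generators determine the action
  have hgenV : ∀ σ τ : MulAut (Abelianization B), σ e₁ = τ e₁ → σ e₂ = τ e₂ → σ = τ := by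
    intro σ τ h1 h2
    ext v
    obtain ⟨x, y, rfl⟩ := hspanV v
    rw [map_mul, map_pow, map_pow, h1, h2, map_mul, map_pow, map_pow]
  have hc1 : ∀ (k : MulAut Q), secAut B k e₁ = e₁ ↔ ∃ z ∈ ⁅B, B⁆, k (b₁ : Q) = (b₁ : Q) * z := by
    intro k
    rw [← hb₁', secAut_apply_eq]
  have hc2 : ∀ (k : MulAut Q) (x : ℕ), secAut B k e₂ = e₂ * e₁ ^ x ↔
      ∃ z ∈ ⁅B, B⁆, k (b₂ : Q) = (b₂ : Q) * (b₁ : Q) ^ x * z := by
    intro k x
    rw [← hb₁', ← hb₂', ← map_pow, ← map_mul, secAut_apply_eq]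
    rfl
  have hc3 : ∀ (k : MulAut Q) (x : ℕ), secAut B k e₁ = e₁ ^ x ↔
      ∃ z ∈ ⁅B, B⁆, k (b₁ : Q) = (b₁ : Q) ^ x * z := by
    intro k x
    rw [← hb₁', ← map_pow, secAut_apply_eq]
    rfl
  have hc4 : ∀ (k : MulAut Q) (x : ℕ), secAut B k e₂ = e₂ ^ x ↔
      ∃ z ∈ ⁅B, B⁆, k (b₂ : Q) = (b₂ : Q) ^ x * z := by
    intro k x
    rw [← hb₂', ← map_pow, secAut_apply_eq]
    rfl
  have hc5 : ∀ (k : MulAut Q), secAut B k e₂ = e₂ ↔ ∃ z ∈ ⁅B, B⁆, k (b₂ : Q) = (b₂ : Q) * z := by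
    intro k
    rw [← hb₂', secAut_apply_eq]
  have hTV' : ∀ t ∈ autInducedBy S Q, secAut B t e₁ = e₁ ∧ ∃ x : ℕ, secAut B t e₂ = e₂ * e₁ ^ x :=
    fun t ht => hTV ⟨t, hA ht⟩ ((hmemT _).mpr ht)
  refine ⟨b₁, b₂, b₁.2, b₂.2, ?_, ?_, ?_, ?_, ?_, ?_, ?_, ?_⟩
  · intro h
    apply he₁
    rw [← hb₁', ← MonoidHom.mem_ker, Abelianization.ker_of]
    rw [← Subgroup.map_subtype_commutator] at h
    obtain ⟨z, hz, hzb⟩ := h
    have : z = b₁ := Subtype.ext hzb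
    rw [← this]
    exact hz
  · intro b hb
    obtain ⟨x, y, hxy⟩ := hspanV (Abelianization.of (⟨b, hb⟩ : B))
    rw [← hb₁', ← hb₂', ← map_pow, ← map_pow, ← map_mul, ab_eq_iff] at hxy
    obtain ⟨z, hz, hzz⟩ := hxy
    refine ⟨x, y, (z : Q), ?_, ?_⟩
    · rw [← Subgroup.map_subtype_commutator]
      exact ⟨z, hz, rfl⟩
    · exact congrArg (Subtype.val : B → Q) hzz
  · intro t ht
    obtain ⟨h1, x, h2⟩ := hTV' t ht
    exact ⟨(hc1 t).mp h1, x, (hc2 t x).mp h2⟩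
  · intro t ht h1 h2
    obtain ⟨x, h2⟩ := h2
    have := hAL ⟨t, ht⟩ ((hc1 t).mpr h1) ⟨x, (hc2 t x).mpr h2⟩
    exact (hmemT _).mp this
  · intro t h1 h2
    apply hgenV
    · rw [MulAut.one_apply]; exact (hc1 t).mpr h1
    · rw [MulAut.one_apply]; exact (hc5 t).mpr h2
  · intro t ht u hu hu1
    obtain ⟨ht1, j, ht2⟩ := hTV' t ht
    obtain ⟨hu1', k, hu2⟩ := hTV' u hu
    have hk : ¬ p ∣ k := by
      intro hd
      obtain ⟨c, rfl⟩ := hd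
      rw [pow_mul, hexpV, one_pow, mul_one] at hu2
      apply hu1
      apply hgenV
      · rw [MulAut.one_apply]; exact hu1'
      · rw [MulAut.one_apply]; exact hu2
    have hcop : Nat.Coprime k p := ((Nat.Prime.coprime_iff_not_dvd hpp).mpr hk).symm
    obtain ⟨k', -, hk'⟩ := Nat.exists_mul_mod_eq_one_of_coprime hcop hpp.one_lt
    refine ⟨k' * j, ?_⟩
    have heq : secAut B t = secAut B u ^ (k' * j) := by
      apply hgenV
      · rw [(la_pow_apply _ e₁ e₂ k hu1' hu2 _).1, ht1]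
      · rw [(la_pow_apply _ e₁ e₂ k hu1' hu2 _).2, ht2]
        congr 1
        apply la_pow_congr p (hexpV e₁)
        have h3 : k * k' ≡ 1 [MOD p] := by
          change k * k' % p = 1 % p
          rw [hk', Nat.mod_eq_of_lt hpp.one_lt]
        have h4 := h3.mul_right j
        rw [one_mul] at h4
        have h5 : k' * j * k = k * k' * j := by ring
        rw [h5]
        exact h4.symm
    rw [map_mul, map_inv, map_pow, heq, mul_inv_cancel]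
  · intro t ht
    obtain ⟨ht1, j, ht2⟩ := hTV' t ht
    rw [map_pow]
    apply hgenV
    · rw [(la_pow_apply _ e₁ e₂ j ht1 ht2 _).1, MulAut.one_apply]
    · rw [(la_pow_apply _ e₁ e₂ j ht1 ht2 _).2, MulAut.one_apply, pow_mul, hexpV, one_pow,
        mul_one]
  · intro l l' hl
    obtain ⟨h, hnorm, hh1, hh2⟩ := hdl l l' hl
    refine ⟨(h : MulAut Q), h.2, ?_, (hc3 _ l).mp hh1, (hc4 _ l').mp hh2⟩
    intro t ht
    have := hnorm ⟨t, hA ht⟩ ((hmemT _).mpr ht)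
    exact (hmemT _).mp this

end Cfsg.Agent.Lib.helper30
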