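import Mathlib
import Cfsg.Agent.Lib.helper30.ResC
import Cfsg.Agent.Lib.helper30.ResE

/-!
# `rank_two_nb` and `nc_exponent` for subgroups of an ambient group

The two automorphism lemmas of `ResC`, restated for a subgroup `M ≤ S` of the ambient group `Ω`
and an automorphism of `↥M`, with all elements living in `Ω`.
-/

set_option autoImplicit false

namespace Cfsg.Agent.Lib.helper30

open scoped commutatorElement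
open Cfsg Cfsg.FusionSystem

universe u

theorem nb_omega {Ω : Type u} [Group Ω] {S : Subgroup Ω} [Finite S] (p : ℕ) [Fact p.Prime]
    (hp : 3 < p) (hS : IsPGroup p S)
    (hrank3 : ∀ E : Subgroup Ω, E ≤ S → Cfsg.IsElementaryAbelian p E → Nat.card E ≤ p ^ 2)
    (M : Subgroup Ω) (hMS : M ≤ S) (B : Subgroup Ω) (hBM : B ≤ M) (hBexp : ∀ b ∈ B, b ^ p = 1)
    (hBcl : ∀ z ∈ ⁅B, B⁆, ∀ b ∈ B, z * b = b * z)
    (e₁ e₂ : Ω) (he₁ : e₁ ∈ B) (he₂ : e₂ ∈ B) (hne : e₁ * e₂ ≠ e₂ * e₁)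
    (g : Ω) (hg : g ∈ M) (a : ℕ) (ha : ¬ p ∣ a) (z : Ω) (hz : z ∈ ⁅B, B⁆)
    (hge : g * e₂ * g⁻¹ = e₂ * e₁ ^ a * z)
    (φ : MulAut M) (c : ℕ) (z' : Ω) (hz' : z' ∈ ⁅B, B⁆)
    (hφ : ((φ ⟨e₂, hBM he₂⟩ : M) : Ω) = e₂ ^ c * z') : c * c ≡ 1 [MOD p] := by
  have hMfin : Finite M := Cfsg.Agent.Lib.helper88.finite_of_le hMS
  have hMp : IsPGroup p M := hS.to_le hMS
  have hMr : Cfsg.PRankLE p 2 M := prank_of_le p hrank3 hMS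
  have hDB : ⁅B, B⁆ ≤ B := by
    rw [Subgroup.commutator_le]
    intro x hx y hy
    rw [commutatorElement_def]
    exact B.mul_mem (B.mul_mem (B.mul_mem hx hy) (B.inv_mem hx)) (B.inv_mem hy)
  have hDM : ⁅B, B⁆ ≤ M := hDB.trans hBM
  have hcomm : ⁅B.subgroupOf M, B.subgroupOf M⁆ = (⁅B, B⁆).subgroupOf M := by
    apply Subgroup.map_injective M.subtype_injective
    rw [Subgroup.map_commutator, Subgroup.map_subgroupOf_eq_of_le hBM,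
      Subgroup.map_subgroupOf_eq_of_le hDM]
  refine rank_two_nb p hp hMp hMr (B.subgroupOf M) ?_ ((⁅B, B⁆).subgroupOf M) (by rw [hcomm]) ?_
    ⟨e₁, hBM he₁⟩ ⟨e₂, hBM he₂⟩ (Subgroup.mem_subgroupOf.mpr he₁) (Subgroup.mem_subgroupOf.mpr he₂)
    ?_ ⟨g, hg⟩ a ha ⟨z, hDM hz⟩ (Subgroup.mem_subgroupOf.mpr hz) ?_ φ c ⟨z', hDM hz'⟩
    (Subgroup.mem_subgroupOf.mpr hz') ?_
  · intro b hb
    exact Subtype.ext (hBexp b (Subgroup.mem_subgroupOf.mp hb))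
  · intro z hz b hb
    exact Subtype.ext (hBcl z (Subgroup.mem_subgroupOf.mp hz) b (Subgroup.mem_subgroupOf.mp hb))
  · intro h
    exact hne (congrArg Subtype.val h)
  · exact Subtype.ext hge
  · exact Subtype.ext hφ

theorem nc_omega {Ω : Type*} [Group Ω] (p : ℕ) [Fact p.Prime] (hp : p ≠ 2) (M : Subgroup Ω)
    (e₁ e₂ g : Ω) (he₁M : e₁ ∈ M) (he₂M : e₂ ∈ M) (hgM : g ∈ M) (he₁ : e₁ ^ p = 1)
    (he₂ : e₂ ^ p = 1) (h12 : e₁ * e₂ = e₂ * e₁) (hne₁ : e₁ ≠ 1) (a : ℕ) (ha : ¬ p ∣ a)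
    (hg1 : g * e₁ = e₁ * g) (hg2 : g * e₂ * g⁻¹ = e₂ * e₁ ^ a)
    (hgen : ∀ n ∈ M, ∃ i x y : ℕ, n = g ^ i * (e₁ ^ x * e₂ ^ y))
    (hgp : ∃ x y : ℕ, g ^ p = e₁ ^ x * e₂ ^ y)
    (φ : MulAut M) (l l' : ℕ) (hl : l * l' ≡ 1 [MOD p]) (hl1 : ¬ l ≡ 1 [MOD p])
    (hφ1 : ((φ ⟨e₁, he₁M⟩ : M) : Ω) = e₁ ^ l) (hφ2 : ((φ ⟨e₂, he₂M⟩ : M) : Ω) = e₂ ^ l') :
    ∀ n ∈ M, n ^ p = 1 := by
  have key := nc_exponent p hp (⟨e₁, he₁M⟩ : M) ⟨e₂, he₂M⟩ ⟨g, hgM⟩ (Subtype.ext he₁)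
    (Subtype.ext he₂) (Subtype.ext h12) (fun h => hne₁ (congrArg Subtype.val h)) a ha
    (Subtype.ext hg1) (Subtype.ext hg2) (by
      intro n
      obtain ⟨i, x, y, h⟩ := hgen n n.2
      exact ⟨i, x, y, Subtype.ext h⟩) (by
      obtain ⟨x, y, h⟩ := hgp
      exact ⟨x, y, Subtype.ext h⟩) φ l l' hl hl1 (Subtype.ext hφ1) (Subtype.ext hφ2)
  intro n hn
  exact congrArg Subtype.val (key ⟨n, hn⟩)

end Cfsg.Agent.Lib.helper30
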