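import Mathlib
import Cfsg.Agent.Lib.helper30.ResD
import Cfsg.Agent.Lib.helper30.ResF
import Cfsg.Agent.Lib.helper30.ResG
import Cfsg.Agent.Lib.helper92.Ess3a
import Cfsg.Agent.Lib.helper92.Ess3b

/-!
# The last configuration of the rank two resistance theorem

`final_config`: `P ≅ C_p × C_p` with `N_S(P)` extraspecial of order `p ^ 3` and exponent `p`,
`N_S(P) ≠ S`, and an `F`-automorphism of `N_S(P)` acting on `b₂ ∈ P` as the power `(p + 1) / 2`:
impossible in a `p`-group `S` of rank two, `p ≥ 5`.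
-/

set_option autoImplicit false

namespace Cfsg.Agent.Lib.helper30

open scoped commutatorElement
open Cfsg Cfsg.FusionSystem

universe u

theorem arith_half (p : ℕ) (hp : 5 ≤ p) (l' : ℕ) (h2 : 2 * l' = p + 1)
    (h : l' * l' ≡ 1 [MOD p]) : False := by
  have h3 : 4 * (l' * l') ≡ 4 * 1 [MOD p] := h.mul_left 4
  have h4 : 4 * (l' * l') = (p + 1) * (p + 1) := by rw [← h2]; ring
  have h5 : (p + 1) * (p + 1) ≡ 1 * 1 [MOD p] := Nat.ModEq.mul (by simp [Nat.ModEq]) (by simp [Nat.ModEq])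
  rw [h4] at h3
  have h6 : 1 ≡ 4 [MOD p] := by simpa using h5.symm.trans h3
  have h7 : p ∣ 4 - 1 := (Nat.modEq_iff_dvd' (by norm_num)).mp h6
  have h8 := Nat.le_of_dvd (by norm_num) h7
  omega

theorem comm_central_left {G : Type*} [Group G] (c x b : G) (hc : ∀ g : G, c * g = g * c) :
    ⁅c * x, b⁆ = ⁅x, b⁆ := by
  rw [commutatorElement_def, commutatorElement_def]
  calc c * x * b * (c * x)⁻¹ * b⁻¹ = (c * (x * b * x⁻¹) * c⁻¹) * b⁻¹ := by group
    _ = (x * b * x⁻¹) * b⁻¹ := by rw [hc (x * b * x⁻¹), mul_inv_cancel_right]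

theorem comm_central_right {G : Type*} [Group G] (c a y : G) (hc : ∀ g : G, c * g = g * c) :
    ⁅a, c * y⁆ = ⁅a, y⁆ := by
  rw [commutatorElement_def, commutatorElement_def]
  have h1 : a * c * a⁻¹ = c := by rw [← hc a, mul_inv_cancel_right]
  calc a * (c * y) * a⁻¹ * (c * y)⁻¹ = (a * c * a⁻¹) * (a * y * a⁻¹ * y⁻¹) * c⁻¹ := by group
    _ = c * (a * y * a⁻¹ * y⁻¹) * c⁻¹ := by rw [h1]
    _ = a * y * a⁻¹ * y⁻¹ := by rw [hc (a * y * a⁻¹ * y⁻¹), mul_inv_cancel_right]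

/-- Automorphisms of a class two group of exponent `p` acting trivially modulo the derived group
have order dividing `p`. -/
theorem faith_top {H : Type*} [Group H] (p : ℕ) (hexp : ∀ h : H, h ^ p = 1)
    (hcen : ∀ z ∈ ⁅(⊤ : Subgroup H), (⊤ : Subgroup H)⁆, ∀ g : H, z * g = g * z)
    (φ : MulAut H) (hφ : ∀ b ∈ (⊤ : Subgroup H), φ b * b⁻¹ ∈ ⁅(⊤ : Subgroup H), (⊤ : Subgroup H)⁆) :
    ∃ n : ℕ, φ ^ (p ^ n) = 1 := by
  have hd : ∀ b : H, ∃ d ∈ ⁅(⊤ : Subgroup H), (⊤ : Subgroup H)⁆, φ b = d * b := by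
    intro b
    exact ⟨φ b * b⁻¹, hφ b (Subgroup.mem_top b), by group⟩
  have hfixD : ∀ z ∈ ⁅(⊤ : Subgroup H), (⊤ : Subgroup H)⁆, φ z = z := by
    intro z hz
    have h1 : Set.EqOn φ.toMonoidHom (MonoidHom.id H)
        {g | ∃ g₁ ∈ (⊤ : Subgroup H), ∃ g₂ ∈ (⊤ : Subgroup H), ⁅g₁, g₂⁆ = g} := by
      rintro _ ⟨x, -, y, -, rfl⟩
      change φ ⁅x, y⁆ = ⁅x, y⁆
      obtain ⟨dx, hdx, hx⟩ := hd x
      obtain ⟨dy, hdy, hy⟩ := hd y
      rw [map_commutatorElement, hx, hy, comm_central_left _ _ _ (hcen dx hdx),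
        comm_central_right _ _ _ (hcen dy hdy)]
    exact MonoidHom.eqOn_closure h1 hz
  refine ⟨1, ?_⟩
  rw [pow_one]
  ext h
  obtain ⟨d, hd', hh⟩ := hd h
  have h2 : h⁻¹ * φ h = d := by
    rw [hh, hcen d hd' h, inv_mul_cancel_left]
  rw [Cfsg.Agent.Lib.helper92.aut_pow_apply_of_fix φ h (by rw [h2]; exact hfixD d hd') p, h2,
    hexp, mul_one, MulAut.one_apply]

set_option maxHeartbeats 1600000 in
theorem final_config {Ω : Type u} [Group Ω] {S : Subgroup Ω} [Finite S] (p : ℕ) [Fact p.Prime]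
    (hS : IsPGroup p S) (F : FusionSystem S) (hF : F.IsSaturated p) (hp : 5 ≤ p)
    (hrank3 : ∀ E : Subgroup Ω, E ≤ S → Cfsg.IsElementaryAbelian p E → Nat.card E ≤ p ^ 2)
    (P : Subgroup Ω) (hPS : P ≤ S) (b₁ b₂ w : Ω) (hb₁ : b₁ ∈ P) (hb₂ : b₂ ∈ P)
    (hPgen : ∀ x ∈ P, ∃ i j : ℕ, x = b₁ ^ i * b₂ ^ j)
    (hb₁p : b₁ ^ p = 1) (h12 : b₁ * b₂ = b₂ * b₁) (hb₁1 : b₁ ≠ 1)
    (hw : w ∈ normalizerIn S P) (a : ℕ) (ha : ¬ p ∣ a) (hw1 : w * b₁ = b₁ * w)
    (hw2 : w * b₂ * w⁻¹ = b₂ * b₁ ^ a)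
    (hNgen : ∀ n ∈ normalizerIn S P, ∃ i x y : ℕ, n = w ^ i * (b₁ ^ x * b₂ ^ y))
    (hNexp : ∀ n ∈ normalizerIn S P, n ^ p = 1) (hNcard : Nat.card (normalizerIn S P) = p ^ 3)
    (hlt : normalizerIn S P ≠ S)
    (ψ : MulAut (normalizerIn S P)) (hψ : ψ ∈ F.autGroup (normalizerIn S P)) (l' : ℕ)
    (hl' : 2 * l' = p + 1)
    (hψ2 : ((ψ ⟨b₂, Cfsg.Agent.Lib.helper88.le_normalizerIn hPS hb₂⟩ : normalizerIn S P) : Ω)
      = b₂ ^ l') : False := by
  have hpp : p.Prime := Fact.out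
  have hp3 : 3 < p := by omega
  have hNS : normalizerIn S P ≤ S := inf_le_left
  have hPN : P ≤ normalizerIn S P := Cfsg.Agent.Lib.helper88.le_normalizerIn hPS
  have hNfin : Finite (normalizerIn S P) := Cfsg.Agent.Lib.helper88.finite_of_le hNS
  have hPfin : Finite P := Cfsg.Agent.Lib.helper88.finite_of_le hPS
  have hSr : Cfsg.PRankLE p 2 S := prank_of_le p hrank3 le_rfl
  have hb₁N : b₁ ∈ normalizerIn S P := hPN hb₁
  have hb₂N : b₂ ∈ normalizerIn S P := hPN hb₂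
  have ho1 : orderOf b₁ = p := orderOf_eq_prime hb₁p hb₁1
  have hwp : w ^ p = 1 := hNexp w hw
  -- `N_S(P)` is normal in `S`
  obtain ⟨O, hO, hOcard⟩ := rank_two_omega p hp3 hS hSr
  have hNO : (normalizerIn S P).subgroupOf S ≤ O := by
    intro x hx
    apply hO
    exact Subtype.ext (hNexp x.1 (Subgroup.mem_subgroupOf.mp hx))
  have hNOeq : (normalizerIn S P).subgroupOf S = O := by
    apply Subgroup.eq_of_le_of_card_ge hNO
    rw [Nat.card_congr (Subgroup.subgroupOfEquivOfLe hNS).toEquiv, hNcard]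
    exact hOcard
  have hSN : ∀ s ∈ S, s ∈ Subgroup.normalizer ((normalizerIn S P : Subgroup Ω) : Set Ω) := by
    intro s hs
    apply Cfsg.Agent.Lib.helper88.mem_normalizer_of_conj_mem
    intro x hx
    have h1 : (⟨s * x * s⁻¹, S.mul_mem (S.mul_mem hs (hNS hx)) (S.inv_mem hs)⟩ : S) ∈ O := by
      apply hO
      apply Subtype.ext
      change (s * x * s⁻¹) ^ p = 1
      rw [conj_pow, hNexp x hx, mul_one, mul_inv_cancel]
    rw [← hNOeq] at h1
    exact Subgroup.mem_subgroupOf.mp h1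
  have hM : normalizerIn S (normalizerIn S P) = S := inf_eq_left.mpr (fun s hs => hSN s hs)
  have hfnN : F.IsFullyNormalized (normalizerIn S P) := by
    refine ⟨hNS, fun Q _ => ?_⟩
    rw [hM]
    exact Subgroup.card_le_of_le inf_le_left
  obtain ⟨hfaN, hrecN⟩ :=
    Cfsg.Agent.Lib.helper88.fullyAutomized_receptive_of_fullyNormalized hS F hF hfnN
  obtain ⟨-, R', hR'⟩ := hfaN
  -- `b₁` is central in `N_S(P)`
  have hb₁cen : ∀ n ∈ normalizerIn S P, b₁ * n = n * b₁ := by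
    intro n hn
    obtain ⟨i, x, y, rfl⟩ := hNgen n hn
    have h1 : Commute b₁ w := hw1.symm
    have h2 : Commute b₁ b₂ := h12
    exact ((h1.pow_right i).mul_right (((Commute.refl b₁).pow_right x).mul_right
      (h2.pow_right y))).eq
  have hwb₂ : w * b₂ ≠ b₂ * w := by
    intro h
    have h1 : w * b₂ * w⁻¹ = b₂ := by rw [h, mul_inv_cancel_right]
    rw [hw2] at h1
    have h2 : b₁ ^ a = 1 := by
      have : b₂ * b₁ ^ a = b₂ * 1 := by rw [h1, mul_one]
      exact mul_left_cancel this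
    exact ha (ho1 ▸ orderOf_dvd_of_pow_eq_one h2)
  -- elements of `N_S(P)` commuting with `b₂` lie in `P`
  have key1 : ∀ n ∈ normalizerIn S P, n * b₂ = b₂ * n → n ∈ P := by
    intro n hn hcomm
    obtain ⟨i, x, y, rfl⟩ := hNgen n hn
    have hu : Commute (b₁ ^ x * b₂ ^ y) b₂ :=
      ((show Commute b₁ b₂ from h12).pow_left x).mul_left ((Commute.refl b₂).pow_left y)
    have hwi : Commute (w ^ i) b₂ := by
      have h1 : Commute (w ^ i * (b₁ ^ x * b₂ ^ y)) b₂ := hcomm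
      have h2 := h1.mul_left hu.inv_left
      rwa [mul_inv_cancel_right] at h2
    have hi : p ∣ i := by
      by_contra hi
      exact hwb₂ (commute_of_pow_commute p hwp hi hwi).eq
    obtain ⟨k, rfl⟩ := hi
    rw [pow_mul, hwp, one_pow, one_mul]
    exact P.mul_mem (P.pow_mem hb₁ x) (P.pow_mem hb₂ y)
  have hnc : ∃ u v : normalizerIn S P, u * v ≠ v * u :=
    ⟨⟨w, hw⟩, ⟨b₂, hb₂N⟩, fun h => hwb₂ (congrArg Subtype.val h)⟩
  obtain ⟨hZcard, hcc, -, -, -, -⟩ :=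
    Cfsg.Agent.Lib.helper92.nonabelian_cube_facts p hNcard hnc
  have hBcl : ∀ z ∈ ⁅normalizerIn S P, normalizerIn S P⁆, ∀ b ∈ normalizerIn S P,
      z * b = b * z := by
    have h1 : ⁅normalizerIn S P, normalizerIn S P⁆ ≤
        Subgroup.centralizer ((normalizerIn S P : Subgroup Ω) : Set Ω) := by
      rw [Subgroup.commutator_le]
      intro x hx y hy
      rw [Subgroup.mem_centralizer_iff]
      intro h hh
      have h2 := Subgroup.mem_center_iff.mp (hcc ⟨x, hx⟩ ⟨y, hy⟩) ⟨h, hh⟩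
      have h3 := congrArg Subtype.val h2
      rw [commutatorElement_def]
      exact h3
    intro z hz b hb
    exact (Subgroup.mem_centralizer_iff.mp (h1 hz) b hb).symm
  have hmapD : Subgroup.map (normalizerIn S P).subtype
      ⁅(⊤ : Subgroup (normalizerIn S P)), (⊤ : Subgroup (normalizerIn S P))⁆
      = ⁅normalizerIn S P, normalizerIn S P⁆ := by
    rw [Subgroup.map_commutator, ← MonoidHom.range_eq_map, Subgroup.range_subtype]
  have hDcen : ∀ z ∈ ⁅(⊤ : Subgroup (normalizerIn S P)), (⊤ : Subgroup (normalizerIn S P))⁆, ∀ g : normalizerIn S P,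
      z * g = g * z := by
    intro z hz g
    apply Subtype.ext
    refine hBcl z.1 ?_ g.1 g.2
    rw [← hmapD]
    exact ⟨z, hz, rfl⟩
  obtain ⟨s, hsS, hsN⟩ : ∃ s ∈ S, s ∉ normalizerIn S P :=
    SetLike.exists_of_lt (lt_of_le_of_ne hNS hlt)
  have hl2 : 2 * l' ≡ 1 [MOD p] := by
    rw [hl']
    simp [Nat.ModEq]
  by_cases hψn : ∀ β ∈ autInducedBy S (normalizerIn S P),
      ψ * β * ψ⁻¹ ∈ autInducedBy S (normalizerIn S P)
  · obtain ⟨Ψ, -, hΨ⟩ := exists_aut_normalizer F hNS hrecN hψ hψn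
    have hc : s * b₂ * s⁻¹ ∈ normalizerIn S P :=
      (Subgroup.mem_normalizer_iff.mp (hSN s hsS) b₂).mp hb₂N
    have hcP : s * b₂ * s⁻¹ ∉ P := by
      intro hcP
      apply hsN
      have hb₁c : s * b₁ * s⁻¹ ∈ P := by
        have h1 : s * b₁ * s⁻¹ ∈ normalizerIn S P :=
          (Subgroup.mem_normalizer_iff.mp (hSN s hsS) b₁).mp hb₁N
        apply key1 _ h1
        have h2 : s⁻¹ * b₂ * s ∈ normalizerIn S P :=
          (Subgroup.mem_normalizer_iff''.mp (hSN s hsS) b₂).mp hb₂N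
        have h3 := hb₁cen _ h2
        calc s * b₁ * s⁻¹ * b₂ = s * (b₁ * (s⁻¹ * b₂ * s)) * s⁻¹ := by group
          _ = s * ((s⁻¹ * b₂ * s) * b₁) * s⁻¹ := by rw [h3]
          _ = b₂ * (s * b₁ * s⁻¹) := by group
      refine ⟨hsS, Cfsg.Agent.Lib.helper88.mem_normalizer_of_conj_mem (fun x hx => ?_)⟩
      obtain ⟨i, j, rfl⟩ := hPgen x hx
      have h4 : s * (b₁ ^ i * b₂ ^ j) * s⁻¹ = (s * b₁ * s⁻¹) ^ i * (s * b₂ * s⁻¹) ^ j := by
        rw [conj_pow, conj_pow]; group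
      rw [h4]
      exact P.mul_mem (P.pow_mem hb₁c i) (P.pow_mem hcP j)
    have hcc' := nb_omega p hp3 hS hrank3 (normalizerIn S (normalizerIn S P)) inf_le_left
      (normalizerIn S P) (Cfsg.Agent.Lib.helper88.le_normalizerIn hNS) hNexp hBcl
      (b₂⁻¹ * (s * b₂ * s⁻¹)) b₂ ((normalizerIn S P).mul_mem ((normalizerIn S P).inv_mem hb₂N) hc)
      hb₂N (by
        intro h
        apply hcP
        apply key1 _ hc
        calc s * b₂ * s⁻¹ * b₂ = b₂ * (b₂⁻¹ * (s * b₂ * s⁻¹) * b₂) := by group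
          _ = b₂ * (b₂ * (b₂⁻¹ * (s * b₂ * s⁻¹))) := by rw [h]
          _ = b₂ * (s * b₂ * s⁻¹) := by group)
      s ⟨hsS, hSN s hsS⟩ 1 (by
        intro h
        exact hpp.one_lt.ne' (Nat.dvd_one.mp h)) 1 (Subgroup.one_mem _) (by group) Ψ l' 1
      (Subgroup.one_mem _) (by
        rw [mul_one, ← hψ2]
        exact hΨ ⟨b₂, hb₂N⟩ _)
    exact arith_half p hp l' hl' hcc'
  · push Not at hψn
    obtain ⟨β, hβ, hβn⟩ := hψn
    have hcomm_le : commutator (normalizerIn S P) ≤ Subgroup.center (normalizerIn S P) := by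
      rw [commutator_eq_closure, Subgroup.closure_le]
      rintro _ ⟨x, y, rfl⟩
      have := hcc x y
      rwa [← commutatorElement_def] at this
    have hcomm_ne : commutator (normalizerIn S P) ≠ ⊥ := by
      intro h
      obtain ⟨u, v, huv⟩ := hnc
      apply huv
      have h1 : ⁅u, v⁆ ∈ commutator (normalizerIn S P) :=
        Subgroup.commutator_mem_commutator (Subgroup.mem_top u) (Subgroup.mem_top v)
      rw [h, Subgroup.mem_bot] at h1
      exact commutatorElement_eq_one_iff_mul_comm.mp h1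
    have hcomm_card : Nat.card (commutator (normalizerIn S P)) = p := by
      have h1 : Nat.card (commutator (normalizerIn S P)) ∣ p := by
        rw [← hZcard]
        exact Subgroup.card_dvd_of_le hcomm_le
      rcases (Nat.dvd_prime hpp).mp h1 with h2 | h2
      · exact absurd (Subgroup.eq_bot_of_card_eq _ h2) hcomm_ne
      · exact h2
    have hcardV : Nat.card (Abelianization (⊤ : Subgroup (normalizerIn S P))) = p ^ 2 := by
      rw [card_abelianization_subgroup, Subgroup.relIndex_top_right]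
      have h1 := (commutator (normalizerIn S P)).card_mul_index
      rw [hcomm_card, hNcard] at h1
      have h2 : p * (commutator (normalizerIn S P)).index = p * p ^ 2 := by rw [h1]; ring
      exact Nat.eq_of_mul_eq_mul_left hpp.pos h2
    obtain ⟨c₁, c₂, -, -, -, hspan, hTact, hTmem, hC7, -, -, hdl⟩ :=
      sec_package p F hNS (⊤ : Subgroup (normalizerIn S P))
        (fun b _ => Subtype.ext (hNexp b.1 b.2)) hcardV
        (fun φ hφ => faith_top p (fun h => Subtype.ext (hNexp h.1 h.2)) hDcen φ hφ)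
        R' hR' ψ hψ β hβ hβn
    have hDn : (⁅(⊤ : Subgroup (normalizerIn S P)), (⊤ : Subgroup (normalizerIn S P))⁆).Normal := inferInstance
    obtain ⟨⟨z₁, hz₁, hβ1⟩, x, z₂, hz₂, hβ2⟩ := hTact β hβ
    have hA : autInducedBy S (normalizerIn S P) ≤ F.autGroup (normalizerIn S P) :=
      Cfsg.Agent.Lib.helper88.autInducedBy_le_autGroup F hNS
    have hx : ¬ p ∣ x := by
      intro hd
      obtain ⟨k, rfl⟩ := hd
      have hc₁p : c₁ ^ p = 1 := Subtype.ext (hNexp c₁.1 c₁.2)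
      rw [pow_mul, hc₁p, one_pow, mul_one] at hβ2
      have h1 : secAut (⊤ : Subgroup (normalizerIn S P)) β = 1 :=
        hC7 β ⟨z₁, hz₁, hβ1⟩ ⟨z₂, hz₂, hβ2⟩
      have h2 : secAut (⊤ : Subgroup (normalizerIn S P)) (ψ * β * ψ⁻¹) = 1 := by
        rw [map_mul, map_mul, h1, mul_one, ← map_mul, mul_inv_cancel, map_one]
      have h3 := (secAut_eq_one_iff _ _).mp h2
      apply hβn
      apply hTmem _ (Subgroup.mul_mem _ (Subgroup.mul_mem _ hψ (hA hβ)) (Subgroup.inv_mem _ hψ))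
      · refine ⟨c₁⁻¹ * ((ψ * β * ψ⁻¹) c₁ * c₁⁻¹) * c₁, ?_, by group⟩
        have := hDn.conj_mem _ (h3 c₁ (Subgroup.mem_top _)) c₁⁻¹
        rwa [inv_inv] at this
      · refine ⟨0, c₂⁻¹ * ((ψ * β * ψ⁻¹) c₂ * c₂⁻¹) * c₂, ?_, by group⟩
        have := hDn.conj_mem _ (h3 c₂ (Subgroup.mem_top _)) c₂⁻¹
        rwa [inv_inv] at this
    obtain ⟨s', hs'S, hs'⟩ :=
      (Cfsg.Agent.Lib.helper88.mem_autInducedBy_iff S (normalizerIn S P) β).mp hβ
    obtain ⟨h, hh, hhn, -, ⟨z₃, hz₃, hh2⟩⟩ := hdl 2 l' hl2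
    obtain ⟨Ψ, -, hΨ⟩ := exists_aut_normalizer F hNS hrecN hh hhn
    have hmemD : ∀ z ∈ ⁅(⊤ : Subgroup (normalizerIn S P)), (⊤ : Subgroup (normalizerIn S P))⁆,
        (z : Ω) ∈ ⁅normalizerIn S P, normalizerIn S P⁆ := by
      intro z hz
      rw [← hmapD]
      exact ⟨z, hz, rfl⟩
    have hcc' := nb_omega p hp3 hS hrank3 (normalizerIn S (normalizerIn S P)) inf_le_left
      (normalizerIn S P) (Cfsg.Agent.Lib.helper88.le_normalizerIn hNS) hNexp hBcl
      (c₁ : Ω) (c₂ : Ω) c₁.2 c₂.2 (by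
        intro h12'
        have h12'' : c₁ * c₂ = c₂ * c₁ := Subtype.ext h12'
        obtain ⟨u, v, huv⟩ := hnc
        apply huv
        obtain ⟨i, j, z, hz, rfl⟩ := hspan u (Subgroup.mem_top u)
        obtain ⟨i', j', z', hz', rfl⟩ := hspan v (Subgroup.mem_top v)
        have hcz : ∀ g : normalizerIn S P, Commute z g := fun g => hDcen z hz g
        have hcz' : ∀ g : normalizerIn S P, Commute z' g := fun g => hDcen z' hz' g
        have hc12 : Commute c₁ c₂ := h12''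
        have h1 : Commute (c₁ ^ i * c₂ ^ j) (c₁ ^ i' * c₂ ^ j') :=
          (((Commute.refl c₁).pow_pow i i').mul_right (hc12.pow_pow i j')).mul_left
            ((hc12.symm.pow_pow j i').mul_right ((Commute.refl c₂).pow_pow j j'))
        exact ((h1.mul_right (hcz' _).symm).mul_left ((hcz _).mul_right (hcz _))).eq)
      s' ⟨hs'S, hSN s' hs'S⟩ x hx (z₂ : Ω) (hmemD z₂ hz₂) (by
        rw [← hs' c₂, hβ2]
        rfl) Ψ l' (z₃ : Ω) (hmemD z₃ hz₃) (by
        rw [hΨ c₂ _, hh2]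
        rfl)
    exact arith_half p hp l' hl' hcc'

end Cfsg.Agent.Lib.helper30
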