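import Mathlib
import Cfsg.Agent.Lib.helper30.ResH
import Cfsg.Agent.Lib.helper30.RankTwoD
import Cfsg.Agent.Lib.helper86.NormalCrit
import Cfsg.Agent.Lib.helper86.EssentialNeeded
import Cfsg.Agent.Lib.helper92.EssQ3
import Cfsg.Agent.Lib.helper92.Ess2a
import Cfsg.Agent.S5178
import Cfsg.Agent.S5187

/-!
# Rank two `p`-groups, `p ≥ 5`: no essential subgroups

`no_essential`: a saturated fusion system over a `p`-group `S` of rank two, `p ≥ 5`, which is not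
extraspecial of order `p ^ 3` and exponent `p`, has no essential subgroup.
-/

set_option autoImplicit false

namespace Cfsg.Agent.Lib.helper30

open scoped commutatorElement
open Cfsg Cfsg.FusionSystem

universe u

theorem h88_conjAut_pow_apply {Ω : Type*} [Group Ω] (P : Subgroup Ω) (w : Ω)
    (hw : w ∈ Subgroup.normalizer (P : Set Ω)) (m : ℕ) (x : P) :
    (((Cfsg.Agent.Lib.helper88.conjAut P w hw) ^ m) x : Ω) = w ^ m * (x : Ω) * (w ^ m)⁻¹ := by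
  induction m generalizing x with
  | zero => simp
  | succ k ih =>
    rw [pow_succ, MulAut.mul_apply, ih, Cfsg.Agent.Lib.helper88.conjAut_apply, pow_succ]
    group

theorem h88_conjAut_pow_inv_apply {Ω : Type*} [Group Ω] (P : Subgroup Ω) (w : Ω)
    (hw : w ∈ Subgroup.normalizer (P : Set Ω)) (m : ℕ) (x : P) :
    ((((Cfsg.Agent.Lib.helper88.conjAut P w hw) ^ m)⁻¹ x : P) : Ω)
      = (w ^ m)⁻¹ * (x : Ω) * w ^ m := by
  have h := h88_conjAut_pow_apply P w hw m (((Cfsg.Agent.Lib.helper88.conjAut P w hw) ^ m)⁻¹ x)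
  rw [MulAut.apply_inv_self] at h
  rw [h]
  group

theorem pm_one_sq (p : ℕ) (hp : 2 ≤ p) : (p - 1) * (p - 1) ≡ 1 [MOD p] := by
  obtain ⟨q, hq⟩ : ∃ q, p = q + 2 := ⟨p - 2, by omega⟩
  have e : (p - 1) * (p - 1) = 1 + p * q := by
    have h1 : p - 1 = q + 1 := by omega
    rw [h1, hq]
    ring
  rw [e]
  simp [Nat.ModEq]

set_option maxHeartbeats 1600000 in
theorem ess_data {Ω : Type u} [Group Ω] {S : Subgroup Ω} [Finite S] (p : ℕ) [Fact p.Prime]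
    (hS : IsPGroup p S) (F : FusionSystem S) (hF : F.IsSaturated p) (hp : 5 ≤ p)
    (hrank3 : ∀ E : Subgroup Ω, E ≤ S → Cfsg.IsElementaryAbelian p E → Nat.card E ≤ p ^ 2)
    (P : Subgroup Ω) (hPS : P ≤ S) (hess : F.IsEssential p P) :
    ∃ (B : Subgroup ↥P) (_ : B.Characteristic) (b₁ b₂ : ↥P) (w : Ω) (a l' : ℕ)
      (ψ : MulAut (normalizerIn S P)) (α : MulAut ↥P),
      (∀ b ∈ B, b ^ p = 1) ∧
      (∀ x ∈ B, ∀ y ∈ B, ∀ z ∈ B, ⁅x, y⁆ * z = z * ⁅x, y⁆) ∧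
      Nat.card (Abelianization B) = p ^ 2 ∧
      (∀ φ : MulAut ↥P, (∀ b ∈ B, φ b * b⁻¹ ∈ ⁅B, B⁆) → ∃ n : ℕ, φ ^ (p ^ n) = 1) ∧
      b₁ ∈ B ∧ b₂ ∈ B ∧ b₁ ∉ ⁅B, B⁆ ∧
      (∀ b ∈ B, ∃ x y : ℕ, ∃ z ∈ ⁅B, B⁆, b = b₁ ^ x * b₂ ^ y * z) ∧
      w ∈ normalizerIn S P ∧ w ∉ P ∧ ¬ p ∣ a ∧
      (∃ z ∈ ⁅B, B⁆, w * (b₁ : Ω) * w⁻¹ = ((b₁ * z : ↥P) : Ω)) ∧
      (∃ z ∈ ⁅B, B⁆, w * (b₂ : Ω) * w⁻¹ = ((b₂ * b₁ ^ a * z : ↥P) : Ω)) ∧
      (∀ x : ↥P, ∀ b ∈ B, x * b * x⁻¹ * b⁻¹ ∈ ⁅B, B⁆) ∧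
      (∀ n ∈ normalizerIn S P, ∃ m : ℕ, ∃ u ∈ P, n = w ^ m * u) ∧
      w ^ p ∈ P ∧ 2 * l' = p + 1 ∧ ψ ∈ F.autGroup (normalizerIn S P) ∧
      (∃ z ∈ ⁅B, B⁆, ((ψ ⟨(b₁ : Ω), Cfsg.Agent.Lib.helper88.le_normalizerIn hPS b₁.2⟩ :
        normalizerIn S P) : Ω) = ((b₁ ^ 2 * z : ↥P) : Ω)) ∧
      (∃ z ∈ ⁅B, B⁆, ((ψ ⟨(b₂ : Ω), Cfsg.Agent.Lib.helper88.le_normalizerIn hPS b₂.2⟩ :
        normalizerIn S P) : Ω) = ((b₂ ^ l' * z : ↥P) : Ω)) ∧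
      (∃ z ∈ ⁅B, B⁆, α b₁ = b₁ ^ (p - 1) * z) ∧ (∃ z ∈ ⁅B, B⁆, α b₂ = b₂ ^ (p - 1) * z) := by
  have hpp : p.Prime := Fact.out
  have hp2 : p ≠ 2 := by omega
  have hPlt : P < S := Cfsg.Agent.Lib.helper86.essential_lt hS F hF hess
  obtain ⟨g, hg, hgspe⟩ := Cfsg.Agent.S5178.exists_spe_elt hS F hF hess
  obtain ⟨hcen, hfn, hN, E, hE⟩ := hess
  have hPfin : Finite P := Cfsg.Agent.Lib.helper88.finite_of_le hPS
  have hPp : IsPGroup p P := hS.to_le hPS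
  have hPr : PRankLE p 2 P := prank_of_le p hrank3 hPS
  obtain ⟨hfa, hrec⟩ :=
    Cfsg.Agent.Lib.helper88.fullyAutomized_receptive_of_fullyNormalized hS F hF hfn
  obtain ⟨-, R, hR⟩ := hfa
  obtain ⟨B, hBchar, hBexp, hBcl, hBcard, hfaith⟩ := exists_faithful_section p hp2 hPp hPr
  obtain ⟨w, hw, hwP⟩ := SetLike.exists_of_lt (Cfsg.Agent.Lib.helper89.lt_normalizerIn hS hPlt)
  have hcw : Cfsg.Agent.Lib.helper88.conjAut P w hw.2 ∈ autInducedBy S P :=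
    Cfsg.Agent.Lib.helper88.conjAut_mem S P w hw.2 hw.1
  have hinn : ∀ (c : MulAut ↥P) (s : Ω), s ∈ S → (∀ x : ↥P, ((c x : ↥P) : Ω) = s * (x : Ω) * s⁻¹) →
      c ∈ Cfsg.Inn ↥P → s ∈ P := by
    intro c s hs hc hcI
    by_contra hsP
    exact Cfsg.Agent.Lib.helper92.conj_not_mem_inn_of_centric F hcen hs hsP hc hcI
  have hcwI : Cfsg.Agent.Lib.helper88.conjAut P w hw.2 ∉ Cfsg.Inn ↥P := fun h =>
    hwP (hinn _ w hw.1 (Cfsg.Agent.Lib.helper88.conjAut_apply P w hw.2) h)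
  have hgc : g * Cfsg.Agent.Lib.helper88.conjAut P w hw.2 * g⁻¹ ∉ autInducedBy S P :=
    fun h => hcwI (hgspe _ hcw h)
  have hKn : (secAut B).ker.Normal := inferInstance
  have hKp : IsPGroup p (secAut B).ker := by
    rintro ⟨φ, hφ⟩
    obtain ⟨n, hn⟩ := hfaith φ ((secAut_eq_one_iff B φ).mp (MonoidHom.mem_ker.mp hφ))
    exact ⟨n, Subtype.ext hn⟩
  have hKinn : ∀ φ ∈ F.autGroup P, secAut B φ = 1 → φ ∈ Cfsg.Inn ↥P := by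
    intro φ hφ h1
    have hNn := hN
    have h2 := (Cfsg.Agent.Lib.helper92.spe_data p (secAut B).ker hKn hKp (F.autGroup P)
      ((Cfsg.Inn ↥P).subgroupOf (F.autGroup P)) E hE).1 ⟨φ, hφ⟩ (MonoidHom.mem_ker.mpr h1)
    exact Subgroup.mem_subgroupOf.mp h2
  have hAp : IsPGroup p (autInducedBy S P) := Cfsg.Agent.Lib.helper88.isPGroup_autInducedBy hS P
  have hA : autInducedBy S P ≤ F.autGroup P :=
    Cfsg.Agent.Lib.helper88.autInducedBy_le_autGroup F hPS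
  have hcw1 : secAut B (Cfsg.Agent.Lib.helper88.conjAut P w hw.2) ≠ 1 :=
    fun h => hcwI (hKinn _ (hA hcw) h)
  have hcard : Nat.card (Abelianization B) = p ^ 2 := by
    obtain ⟨k, hk, hk'⟩ := (Nat.dvd_prime_pow hpp).mp hBcard
    have hk2 : k = 2 := by
      by_contra hk2
      have hdvd : Nat.card (Abelianization B) ∣ p := by
        rw [hk']
        have : k = 0 ∨ k = 1 := by omega
        rcases this with rfl | rfl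
        · simp
        · simp
      obtain ⟨n, hn⟩ := hAp ⟨_, hcw⟩
      have hn' : (Cfsg.Agent.Lib.helper88.conjAut P w hw.2) ^ (p ^ n) = 1 := by
        simpa using congrArg Subtype.val hn
      exact hcw1 (la_small p hdvd _ n (by rw [← map_pow, hn', map_one]))
    rw [hk', hk2]
  obtain ⟨b₁, b₂, hb₁, hb₂, hb₁D, hspan, hTact, hTmem, hC7, hC8, hC9, hdl⟩ :=
    sec_package p F hPS B hBexp hcard hfaith R hR g hg _ hcw hgc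
  obtain ⟨⟨z₁, hz₁, hw1⟩, a, z₂, hz₂, hw2⟩ := hTact _ hcw
  have ha : ¬ p ∣ a := by
    rintro ⟨k, rfl⟩
    have hb₁p : b₁ ^ p = 1 := hBexp b₁ hb₁
    rw [pow_mul, hb₁p, one_pow, mul_one] at hw2
    exact hcw1 (hC7 _ ⟨z₁, hz₁, hw1⟩ ⟨z₂, hz₂, hw2⟩)
  have hN1 : ∀ x : ↥P, secAut B (MulAut.conj x) = 1 := by
    intro x
    by_contra hx
    have hxA : MulAut.conj x ∈ autInducedBy S P :=
      (Cfsg.Agent.Lib.helper88.mem_autInducedBy_iff S P _).mpr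
        ⟨(x : Ω), hPS x.2, fun y => by simp⟩
    obtain ⟨m, hm⟩ := hC8 _ hcw (MulAut.conj x) hxA hx
    have h1 := hKinn _ (Subgroup.mul_mem _ (hA hcw)
      (Subgroup.inv_mem _ (Subgroup.pow_mem _ (hA hxA) m))) hm
    apply hcwI
    have h0 : MulAut.conj x ∈ Cfsg.Inn ↥P := ⟨x, rfl⟩
    have h2 : MulAut.conj x ^ m ∈ Cfsg.Inn ↥P := Subgroup.pow_mem _ h0 m
    have h3 := Subgroup.mul_mem _ h1 h2
    rwa [inv_mul_cancel_right] at h3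
  have hN2 : ∀ n ∈ normalizerIn S P, ∃ m : ℕ, ∃ u ∈ P, n = w ^ m * u := by
    intro n hn
    have hcn : Cfsg.Agent.Lib.helper88.conjAut P n hn.2 ∈ autInducedBy S P :=
      Cfsg.Agent.Lib.helper88.conjAut_mem S P n hn.2 hn.1
    obtain ⟨m, hm⟩ := hC8 _ hcn _ hcw hcw1
    have h1 := hKinn _ (Subgroup.mul_mem _ (hA hcn)
      (Subgroup.inv_mem _ (Subgroup.pow_mem _ (hA hcw) m))) hm
    have h2 : n * (w ^ m)⁻¹ ∈ P := by
      refine hinn _ (n * (w ^ m)⁻¹) (S.mul_mem hn.1 (S.inv_mem (S.pow_mem hw.1 m))) ?_ h1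
      intro x
      rw [MulAut.mul_apply, Cfsg.Agent.Lib.helper88.conjAut_apply, h88_conjAut_pow_inv_apply]
      group
    have hwm : w ^ m ∈ Subgroup.normalizer (P : Set Ω) := Subgroup.pow_mem _ hw.2 m
    refine ⟨m, (w ^ m)⁻¹ * (n * (w ^ m)⁻¹) * w ^ m,
      (Subgroup.mem_normalizer_iff''.mp hwm _).mp h2, by group⟩
  have hN3 : w ^ p ∈ P := by
    refine hinn ((Cfsg.Agent.Lib.helper88.conjAut P w hw.2) ^ p) (w ^ p) (S.pow_mem hw.1 p)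
      (h88_conjAut_pow_apply P w hw.2 p) ?_
    exact hKinn _ (Subgroup.pow_mem _ (hA hcw) p) (hC9 _ hcw)
  obtain ⟨l', hl'⟩ : ∃ l', 2 * l' = p + 1 := by
    obtain ⟨k, hk⟩ := hpp.odd_of_ne_two hp2
    exact ⟨k + 1, by omega⟩
  have hl2 : 2 * l' ≡ 1 [MOD p] := by
    rw [hl']
    simp [Nat.ModEq]
  obtain ⟨h, hh, hhn, ⟨z₃, hz₃, hh1⟩, ⟨z₄, hz₄, hh2⟩⟩ := hdl 2 l' hl2
  obtain ⟨ψ, hψ, hψspec⟩ := exists_aut_normalizer F hPS hrec hh hhn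
  obtain ⟨α, -, -, hα1, hα2⟩ := hdl (p - 1) (p - 1) (pm_one_sq p (by omega))
  refine ⟨B, hBchar, b₁, b₂, w, a, l', ψ, α, hBexp, hBcl, hcard, hfaith, hb₁, hb₂, hb₁D, hspan,
    hw, hwP, ha, ⟨z₁, hz₁, ?_⟩, ⟨z₂, hz₂, ?_⟩, ?_, hN2, hN3, hl', hψ, ⟨z₃, hz₃, ?_⟩,
    ⟨z₄, hz₄, ?_⟩, hα1, hα2⟩
  · rw [← hw1]
    exact (Cfsg.Agent.Lib.helper88.conjAut_apply P w hw.2 b₁).symm
  · rw [← hw2]
    exact (Cfsg.Agent.Lib.helper88.conjAut_apply P w hw.2 b₂).symm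
  · intro x b hb
    exact (secAut_eq_one_iff B _).mp (hN1 x) b hb
  · rw [hψspec b₁ _, hh1]
  · rw [hψspec b₂ _, hh2]

set_option maxHeartbeats 1600000 in
theorem ess_nonab {Ω : Type u} [Group Ω] {S : Subgroup Ω} [Finite S] (p : ℕ) [Fact p.Prime]
    (hS : IsPGroup p S) (hp : 5 ≤ p)
    (hrank3 : ∀ E : Subgroup Ω, E ≤ S → Cfsg.IsElementaryAbelian p E → Nat.card E ≤ p ^ 2)
    (P : Subgroup Ω) (hPS : P ≤ S) (B : Subgroup ↥P)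
    (b₁ b₂ : ↥P) (w : Ω) (a l' : ℕ) (ψ : MulAut (normalizerIn S P))
    (hBexp : ∀ b ∈ B, b ^ p = 1)
    (hBcl : ∀ x ∈ B, ∀ y ∈ B, ∀ z ∈ B, ⁅x, y⁆ * z = z * ⁅x, y⁆)
    (hb₁ : b₁ ∈ B) (hb₂ : b₂ ∈ B)
    (hspan : ∀ b ∈ B, ∃ x y : ℕ, ∃ z ∈ ⁅B, B⁆, b = b₁ ^ x * b₂ ^ y * z)
    (hw : w ∈ normalizerIn S P) (ha : ¬ p ∣ a)
    (hw2 : ∃ z ∈ ⁅B, B⁆, w * (b₂ : Ω) * w⁻¹ = ((b₂ * b₁ ^ a * z : ↥P) : Ω))
    (hl' : 2 * l' = p + 1)
    (hψ2 : ∃ z ∈ ⁅B, B⁆, ((ψ ⟨(b₂ : Ω), Cfsg.Agent.Lib.helper88.le_normalizerIn hPS b₂.2⟩ :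
        normalizerIn S P) : Ω) = ((b₂ ^ l' * z : ↥P) : Ω))
    (hnab : ∃ x ∈ B, ∃ y ∈ B, x * y ≠ y * x) : False := by
  have hp3 : 3 < p := by omega
  have hPN : P ≤ normalizerIn S P := Cfsg.Agent.Lib.helper88.le_normalizerIn hPS
  have hDcen : ∀ z ∈ ⁅B, B⁆, ∀ b ∈ B, z * b = b * z := by
    have h1 : ⁅B, B⁆ ≤ Subgroup.centralizer (B : Set ↥P) := by
      rw [Subgroup.commutator_le]
      intro x hx y hy
      rw [Subgroup.mem_centralizer_iff]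
      intro h hh
      exact (hBcl x hx y hy h hh).symm
    intro z hz b hb
    exact (Subgroup.mem_centralizer_iff.mp (h1 hz) b hb).symm
  have hDB : ⁅B, B⁆ ≤ B := by
    rw [Subgroup.commutator_le]
    intro x hx y hy
    rw [commutatorElement_def]
    exact B.mul_mem (B.mul_mem (B.mul_mem hx hy) (B.inv_mem hx)) (B.inv_mem hy)
  have hmap : ⁅B.map P.subtype, B.map P.subtype⁆ = (⁅B, B⁆).map P.subtype :=
    (Subgroup.map_commutator B B P.subtype).symm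
  have hBM : B.map P.subtype ≤ normalizerIn S P := by
    rintro _ ⟨b, -, rfl⟩
    exact hPN b.2
  have hne : (b₁ : Ω) * (b₂ : Ω) ≠ (b₂ : Ω) * (b₁ : Ω) := by
    intro h12
    have h12' : Commute b₁ b₂ := Subtype.ext h12
    obtain ⟨x, hx, y, hy, hxy⟩ := hnab
    apply hxy
    obtain ⟨i, j, z, hz, rfl⟩ := hspan x hx
    obtain ⟨i', j', z', hz', rfl⟩ := hspan y hy
    have hu : b₁ ^ i * b₂ ^ j ∈ B := B.mul_mem (B.pow_mem hb₁ i) (B.pow_mem hb₂ j)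
    have hu' : b₁ ^ i' * b₂ ^ j' ∈ B := B.mul_mem (B.pow_mem hb₁ i') (B.pow_mem hb₂ j')
    have h1 : Commute (b₁ ^ i * b₂ ^ j) (b₁ ^ i' * b₂ ^ j') :=
      (((Commute.refl b₁).pow_pow i i').mul_right (h12'.pow_pow i j')).mul_left
        ((h12'.symm.pow_pow j i').mul_right ((Commute.refl b₂).pow_pow j j'))
    have h2 : Commute (b₁ ^ i * b₂ ^ j) z' := (hDcen z' hz' _ hu).symm
    have h3 : Commute z (b₁ ^ i' * b₂ ^ j') := hDcen z hz _ hu'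
    have h4 : Commute z z' := hDcen z hz z' (hDB hz')
    exact ((h1.mul_right h2).mul_left (h3.mul_right h4)).eq
  obtain ⟨z₂, hz₂, hw2⟩ := hw2
  obtain ⟨z₃, hz₃, hψ2⟩ := hψ2
  have hcc := nb_omega p hp3 hS hrank3 (normalizerIn S P) inf_le_left (B.map P.subtype) hBM
    (by
      rintro _ ⟨b, hb, rfl⟩
      rw [← map_pow, hBexp b hb, map_one])
    (by
      rw [hmap]
      rintro _ ⟨z, hz, rfl⟩ _ ⟨b, hb, rfl⟩
      rw [← map_mul, ← map_mul, hDcen z hz b hb])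
    (b₁ : Ω) (b₂ : Ω) ⟨b₁, hb₁, rfl⟩ ⟨b₂, hb₂, rfl⟩ hne w hw a ha (z₂ : Ω)
    (by rw [hmap]; exact ⟨z₂, hz₂, rfl⟩) (hw2.trans (by simp)) ψ l' (z₃ : Ω)
    (by rw [hmap]; exact ⟨z₃, hz₃, rfl⟩) (hψ2.trans (by simp))
  exact arith_half p hp l' hl' hcc

set_option maxHeartbeats 1600000 in
theorem ess_ab {Ω : Type u} [Group Ω] {S : Subgroup Ω} [Finite S] (p : ℕ) [Fact p.Prime]
    (hS : IsPGroup p S) (F : FusionSystem S) (hF : F.IsSaturated p) (hp : 5 ≤ p)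
    (hrank3 : ∀ E : Subgroup Ω, E ≤ S → Cfsg.IsElementaryAbelian p E → Nat.card E ≤ p ^ 2)
    (hnotE : ¬ (Nat.card S = p ^ 3 ∧ Monoid.exponent ↥S = p))
    (P : Subgroup Ω) (hPS : P ≤ S) (hess : F.IsEssential p P)
    (B : Subgroup ↥P) [hBc : B.Characteristic]
    (b₁ b₂ : ↥P) (w : Ω) (a l' : ℕ) (ψ : MulAut (normalizerIn S P)) (α : MulAut ↥P)
    (hBexp : ∀ b ∈ B, b ^ p = 1)
    (hcard : Nat.card (Abelianization B) = p ^ 2)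
    (hfaith : ∀ φ : MulAut ↥P, (∀ b ∈ B, φ b * b⁻¹ ∈ ⁅B, B⁆) → ∃ n : ℕ, φ ^ (p ^ n) = 1)
    (hb₁ : b₁ ∈ B) (hb₂ : b₂ ∈ B) (hb₁D : b₁ ∉ ⁅B, B⁆)
    (hspan : ∀ b ∈ B, ∃ x y : ℕ, ∃ z ∈ ⁅B, B⁆, b = b₁ ^ x * b₂ ^ y * z)
    (hw : w ∈ normalizerIn S P) (hwP : w ∉ P) (ha : ¬ p ∣ a)
    (hw1 : ∃ z ∈ ⁅B, B⁆, w * (b₁ : Ω) * w⁻¹ = ((b₁ * z : ↥P) : Ω))
    (hw2 : ∃ z ∈ ⁅B, B⁆, w * (b₂ : Ω) * w⁻¹ = ((b₂ * b₁ ^ a * z : ↥P) : Ω))
    (hN1 : ∀ x : ↥P, ∀ b ∈ B, x * b * x⁻¹ * b⁻¹ ∈ ⁅B, B⁆)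
    (hN2 : ∀ n ∈ normalizerIn S P, ∃ m : ℕ, ∃ u ∈ P, n = w ^ m * u)
    (hN3 : w ^ p ∈ P) (hl' : 2 * l' = p + 1) (hψ : ψ ∈ F.autGroup (normalizerIn S P))
    (hψ1 : ∃ z ∈ ⁅B, B⁆, ((ψ ⟨(b₁ : Ω), Cfsg.Agent.Lib.helper88.le_normalizerIn hPS b₁.2⟩ :
        normalizerIn S P) : Ω) = ((b₁ ^ 2 * z : ↥P) : Ω))
    (hψ2 : ∃ z ∈ ⁅B, B⁆, ((ψ ⟨(b₂ : Ω), Cfsg.Agent.Lib.helper88.le_normalizerIn hPS b₂.2⟩ :
        normalizerIn S P) : Ω) = ((b₂ ^ l' * z : ↥P) : Ω))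
    (hα1 : ∃ z ∈ ⁅B, B⁆, α b₁ = b₁ ^ (p - 1) * z) (hα2 : ∃ z ∈ ⁅B, B⁆, α b₂ = b₂ ^ (p - 1) * z)
    (hab : ∀ x ∈ B, ∀ y ∈ B, x * y = y * x) : False := by
  have hpp : p.Prime := Fact.out
  have hp2 : p ≠ 2 := by omega
  have hPfin : Finite P := Cfsg.Agent.Lib.helper88.finite_of_le hPS
  have hPp : IsPGroup p P := hS.to_le hPS
  have hPr : PRankLE p 2 P := prank_of_le p hrank3 hPS
  have hPN : P ≤ normalizerIn S P := Cfsg.Agent.Lib.helper88.le_normalizerIn hPS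
  have hD : ⁅B, B⁆ = ⊥ := by
    rw [eq_bot_iff, Subgroup.commutator_le]
    intro x hx y hy
    rw [Subgroup.mem_bot, commutatorElement_eq_one_iff_mul_comm]
    exact hab x hx y hy
  have hDmem : ∀ z ∈ ⁅B, B⁆, z = 1 := fun z hz => by
    rw [hD] at hz
    exact Subgroup.mem_bot.mp hz
  have hBcard : Nat.card B = p ^ 2 := by
    rw [← hcard, card_abelianization_subgroup, hD, Subgroup.relIndex_bot_left]
  have hBcen : ∀ (x b : ↥P), b ∈ B → x * b = b * x := by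
    intro x b hb
    have h1 := hDmem _ (hN1 x b hb)
    calc x * b = (x * b * x⁻¹ * b⁻¹) * (b * x) := by group
      _ = b * x := by rw [h1, one_mul]
  have hb₁p : b₁ ^ p = 1 := hBexp b₁ hb₁
  have hb₂p : b₂ ^ p = 1 := hBexp b₂ hb₂
  have hinv : ∀ b : ↥P, b ^ p = 1 → b ^ (p - 1) = b⁻¹ := by
    intro b hb
    apply eq_inv_of_mul_eq_one_left
    rw [← pow_succ, Nat.sub_add_cancel hpp.pos, hb]
  have h12P : Commute b₁ b₂ := hab b₁ hb₁ b₂ hb₂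
  have hα : ∀ b ∈ B, α b = b⁻¹ := by
    intro b hb
    obtain ⟨x, y, z, hz, rfl⟩ := hspan b hb
    obtain ⟨z₅, hz₅, hα1⟩ := hα1
    obtain ⟨z₆, hz₆, hα2⟩ := hα2
    rw [hDmem z₅ hz₅, mul_one, hinv b₁ hb₁p] at hα1
    rw [hDmem z₆ hz₆, mul_one, hinv b₂ hb₂p] at hα2
    rw [hDmem z hz, mul_one, map_mul, map_pow, map_pow, hα1, hα2, mul_inv_rev, inv_pow, inv_pow]
    exact ((h12P.pow_pow x y).inv_inv).eq
  have hfaith' : ∀ φ : MulAut ↥P, (∀ b ∈ B, φ b = b) → ∃ n : ℕ, φ ^ (p ^ n) = 1 := by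
    intro φ hφ
    apply hfaith
    intro b hb
    rw [hφ b hb, mul_inv_cancel]
    exact Subgroup.one_mem _
  have hPab : ∀ x y : ↥P, x * y = y * x :=
    rank_two_pab p hp2 hPp hPr B hBexp hBcard hBcen hfaith' α hα
  have hPcomm : IsMulCommutative ↥P := ⟨⟨hPab⟩⟩
  have hEl := Cfsg.Agent.S5187.result p hS F hF P hess hPcomm
    (index_frattini_le_of_comm p hPp hPr hPab)
  rcases hEl with ⟨-, hPcard⟩ | ⟨hp3, -⟩
  swap
  · omega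
  have hBtop : B = ⊤ := Subgroup.eq_top_of_card_eq B (by rw [hBcard, hPcard])
  have hPgen : ∀ x ∈ P, ∃ i j : ℕ, x = (b₁ : Ω) ^ i * (b₂ : Ω) ^ j := by
    intro x hx
    obtain ⟨i, j, z, hz, h⟩ := hspan ⟨x, hx⟩ (by rw [hBtop]; exact Subgroup.mem_top _)
    refine ⟨i, j, ?_⟩
    rw [hDmem z hz, mul_one] at h
    have h' := congrArg Subtype.val h
    simpa using h'
  have he₁p : (b₁ : Ω) ^ p = 1 := by
    have h' := congrArg Subtype.val hb₁p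
    simpa using h'
  have he₂p : (b₂ : Ω) ^ p = 1 := by
    have h' := congrArg Subtype.val hb₂p
    simpa using h'
  have h12 : (b₁ : Ω) * (b₂ : Ω) = (b₂ : Ω) * (b₁ : Ω) := congrArg Subtype.val (hPab b₁ b₂)
  have he₁1 : (b₁ : Ω) ≠ 1 := by
    intro h
    apply hb₁D
    have h' : b₁ = 1 := Subtype.ext h
    rw [h']
    exact Subgroup.one_mem _
  obtain ⟨z₁, hz₁, hw1⟩ := hw1
  obtain ⟨z₂, hz₂, hw2⟩ := hw2
  rw [hDmem z₁ hz₁, mul_one] at hw1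
  rw [hDmem z₂ hz₂, mul_one] at hw2
  have hw1' : w * (b₁ : Ω) = (b₁ : Ω) * w := by
    calc w * (b₁ : Ω) = (w * (b₁ : Ω) * w⁻¹) * w := by group
      _ = (b₁ : Ω) * w := by rw [hw1]
  have hw2' : w * (b₂ : Ω) * w⁻¹ = (b₂ : Ω) * (b₁ : Ω) ^ a := hw2.trans (by simp)
  have hNgen : ∀ n ∈ normalizerIn S P, ∃ i x y : ℕ,
      n = w ^ i * ((b₁ : Ω) ^ x * (b₂ : Ω) ^ y) := by
    intro n hn
    obtain ⟨m, u, hu, rfl⟩ := hN2 n hn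
    obtain ⟨i, j, rfl⟩ := hPgen u hu
    exact ⟨m, i, j, rfl⟩
  have hgp : ∃ x y : ℕ, w ^ p = (b₁ : Ω) ^ x * (b₂ : Ω) ^ y := hPgen _ hN3
  obtain ⟨z₃, hz₃, hψ1⟩ := hψ1
  obtain ⟨z₄, hz₄, hψ2⟩ := hψ2
  rw [hDmem z₃ hz₃, mul_one] at hψ1
  rw [hDmem z₄ hz₄, mul_one] at hψ2
  have hl2 : 2 * l' ≡ 1 [MOD p] := by
    rw [hl']
    simp [Nat.ModEq]
  have hl1 : ¬ 2 ≡ 1 [MOD p] := by
    intro h
    have h7 : p ∣ 2 - 1 := (Nat.modEq_iff_dvd' (by norm_num)).mp h.symm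
    have h8 := Nat.le_of_dvd (by norm_num) h7
    omega
  have hNexp : ∀ n ∈ normalizerIn S P, n ^ p = 1 :=
    nc_omega p hp2 (normalizerIn S P) (b₁ : Ω) (b₂ : Ω) w (hPN b₁.2) (hPN b₂.2) hw he₁p he₂p h12
      he₁1 a ha hw1' hw2' hNgen hgp ψ 2 l' hl2 hl1 (hψ1.trans (by simp)) (hψ2.trans (by simp))
  have hNfin : Finite (normalizerIn S P) := Cfsg.Agent.Lib.helper88.finite_of_le inf_le_left
  have hNcard : Nat.card (normalizerIn S P) = p ^ 3 := by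
    have h1 := card_sup_zpowers_of_mem_normalizer p (P.subgroupOf (normalizerIn S P))
      (⟨w, hw⟩ : normalizerIn S P)
      (Subgroup.mem_normalizer_iff.mpr (fun h => by
        rw [Subgroup.mem_subgroupOf, Subgroup.mem_subgroupOf]
        exact Subgroup.mem_normalizer_iff.mp hw.2 (h : Ω)))
      (fun h => hwP (Subgroup.mem_subgroupOf.mp h))
      (Subgroup.mem_subgroupOf.mpr hN3)
    have h2 : P.subgroupOf (normalizerIn S P) ⊔ Subgroup.zpowers (⟨w, hw⟩ : normalizerIn S P)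
        = ⊤ := by
      rw [eq_top_iff]
      rintro ⟨n, hn⟩ -
      obtain ⟨m, u, hu, hnu⟩ := hN2 n hn
      have e : (⟨n, hn⟩ : normalizerIn S P) = ⟨w, hw⟩ ^ m * ⟨u, hPN hu⟩ := Subtype.ext hnu
      rw [e]
      exact Subgroup.mul_mem _
        (Subgroup.mem_sup_right (Subgroup.pow_mem _ (Subgroup.mem_zpowers _) m))
        (Subgroup.mem_sup_left (Subgroup.mem_subgroupOf.mpr hu))
    rw [h2, Subgroup.card_top, Nat.card_congr (Subgroup.subgroupOfEquivOfLe hPN).toEquiv,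
      hPcard] at h1
    rw [h1]
    ring
  by_cases hNS : normalizerIn S P = S
  · apply hnotE
    have hcS : Nat.card ↥S = Nat.card ↥(normalizerIn S P) := by rw [hNS]
    refine ⟨by rw [hcS, hNcard], ?_⟩
    have hexpS : ∀ s : S, s ^ p = 1 := fun s =>
      Subtype.ext (hNexp s.1 (by rw [hNS]; exact s.2))
    have h1 : Monoid.exponent ↥S ∣ p := Monoid.exponent_dvd_of_forall_pow_eq_one hexpS
    rcases (Nat.dvd_prime hpp).mp h1 with h2 | h2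
    · exfalso
      have h3 : Subsingleton S := Monoid.exp_eq_one_iff.mp h2
      apply hwP
      have h4 : (⟨w, hw.1⟩ : S) = 1 := Subsingleton.elim _ _
      have h5 : w = 1 := congrArg Subtype.val h4
      rw [h5]
      exact P.one_mem
    · exact h2
  · exact final_config p hS F hF hp hrank3 P hPS (b₁ : Ω) (b₂ : Ω) w b₁.2 b₂.2 hPgen he₁p h12
      he₁1 hw a ha hw1' hw2' hNgen hNexp hNcard hNS ψ hψ l' hl' (hψ2.trans (by simp))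

theorem no_essential {Ω : Type u} [Group Ω] {S : Subgroup Ω} [Finite S] (p : ℕ) [Fact p.Prime]
    (hS : IsPGroup p S) (F : FusionSystem S) (hF : F.IsSaturated p) (hp : 5 ≤ p)
    (hrank3 : ∀ E : Subgroup Ω, E ≤ S → Cfsg.IsElementaryAbelian p E → Nat.card E ≤ p ^ 2)
    (hnotE : ¬ (Nat.card S = p ^ 3 ∧ Monoid.exponent ↥S = p))
    (P : Subgroup Ω) (hess : F.IsEssential p P) : False := by
  have hPS : P ≤ S := hess.1.1
  obtain ⟨B, hBc, b₁, b₂, w, a, l', ψ, α, hBexp, hBcl, hcard, hfaith, hb₁, hb₂, hb₁D, hspan, hw,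
    hwP, ha, hw1, hw2, hN1, hN2, hN3, hl', hψ, hψ1, hψ2, hα1, hα2⟩ :=
    ess_data p hS F hF hp hrank3 P hPS hess
  by_cases hab : ∀ x ∈ B, ∀ y ∈ B, x * y = y * x
  · exact ess_ab p hS F hF hp hrank3 hnotE P hPS hess B b₁ b₂ w a l' ψ α hBexp hcard hfaith hb₁
      hb₂ hb₁D hspan hw hwP ha hw1 hw2 hN1 hN2 hN3 hl' hψ hψ1 hψ2 hα1 hα2 hab
  · push Not at hab
    exact ess_nonab p hS hp hrank3 P hPS B b₁ b₂ w a l' ψ hBexp hBcl hb₁ hb₂ hspan hw ha hw2 hl'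
      hψ2 hab

end Cfsg.Agent.Lib.helper30
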