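import Mathlib
import Cfsg.Agent.Lib.helper26.S4409Defs
import Cfsg.Agent.Lib.helper71.Frattini
import Cfsg.Agent.Lib.helper24.PFrattini

/-!
# S4409 piece SPEC, racer copy (helper30): `P' = Z(P)` and squares central ⇒ `P` special
-/

set_option autoImplicit false

namespace Cfsg.Agent.Lib.helper30

/-- SPEC (racer copy) -/
theorem h30_spec {P : Type*} [Group P] [Finite P] (hP : IsPGroup 2 P)
    (h1 : _root_.commutator P = Subgroup.center P) (h2 : ∀ x : P, x * x ∈ Subgroup.center P) :
    Cfsg.IsSpecial 2 P := by
  refine ⟨hP, ?_, h1⟩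
  apply le_antisymm
  · apply Cfsg.Agent.Lib.helper71.frattini_le_of_comm_pow Nat.prime_two
    · intro x y
      rw [← h1, commutator_def]
      have := Subgroup.commutator_mem_commutator (Subgroup.mem_top x) (Subgroup.mem_top y)
      rwa [commutatorElement_def] at this
    · intro x
      rw [pow_two]; exact h2 x
  · rw [← h1]
    unfold frattini Order.radical
    apply le_iInf₂
    intro M hM
    have : Fact (Nat.Prime 2) := ⟨Nat.prime_two⟩
    obtain ⟨hMn, hidx⟩ := Cfsg.Agent.Lib.helper24.pgroup_coatom_normal_index hP hM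
    have hcard : Nat.card (P ⧸ M) = 2 := hidx
    have hcyc : IsCyclic (P ⧸ M) := isCyclic_of_prime_card hcard
    exact Subgroup.Normal.quotient_commutative_iff_commutator_le.1 IsCyclic.isMulCommutative

end Cfsg.Agent.Lib.helper30
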