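import Mathlib
import Cfsg.Agent.Lib.helper89.S60Defs

/-!
S6000 split, piece EX3 (part a): Hurwitz-unit identities in a ring, and word identities for four
pairwise anticommuting involutions.
-/

set_option autoImplicit false
set_option linter.unusedSimpArgs false

namespace Cfsg.Agent.Lib.helper30

section Hurwitz

variable {A : Type*} [Ring A]

theorem h30_hur_PN (I J : A) (hI : I * I = -1) (hJ : J * J = -1) (hJI : J * I = -(I * J)) :
    (1 + I + J + I * J) * (1 - I - J - I * J) = 1 + 1 + 1 + 1 := by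
  have hI' : ∀ x : A, I * (I * x) = -x := fun x => by rw [← mul_assoc, hI, neg_mul, one_mul]
  have hJ' : ∀ x : A, J * (J * x) = -x := fun x => by rw [← mul_assoc, hJ, neg_mul, one_mul]
  have hJI' : ∀ x : A, J * (I * x) = -(I * (J * x)) := fun x => by
    rw [← mul_assoc, hJI, neg_mul, mul_assoc]
  simp only [mul_add, add_mul, mul_sub, sub_mul, mul_one, one_mul, mul_assoc, hI, hJ, hJI, hI',
    hJ', hJI', mul_neg, neg_mul, neg_neg]
  abel

theorem h30_hur_NP (I J : A) (hI : I * I = -1) (hJ : J * J = -1) (hJI : J * I = -(I * J)) :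
    (1 - I - J - I * J) * (1 + I + J + I * J) = 1 + 1 + 1 + 1 := by
  have hI' : ∀ x : A, I * (I * x) = -x := fun x => by rw [← mul_assoc, hI, neg_mul, one_mul]
  have hJ' : ∀ x : A, J * (J * x) = -x := fun x => by rw [← mul_assoc, hJ, neg_mul, one_mul]
  have hJI' : ∀ x : A, J * (I * x) = -(I * (J * x)) := fun x => by
    rw [← mul_assoc, hJI, neg_mul, mul_assoc]
  simp only [mul_add, add_mul, mul_sub, sub_mul, mul_one, one_mul, mul_assoc, hI, hJ, hJI, hI',
    hJ', hJI', mul_neg, neg_mul, neg_neg]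
  abel

theorem h30_hur_cube (I J : A) (hI : I * I = -1) (hJ : J * J = -1) (hJI : J * I = -(I * J)) :
    (1 + I + J + I * J) * (1 + I + J + I * J) * (1 + I + J + I * J) =
      -(1 + 1 + 1 + 1 + 1 + 1 + 1 + 1) := by
  have hI' : ∀ x : A, I * (I * x) = -x := fun x => by rw [← mul_assoc, hI, neg_mul, one_mul]
  have hJ' : ∀ x : A, J * (J * x) = -x := fun x => by rw [← mul_assoc, hJ, neg_mul, one_mul]
  have hJI' : ∀ x : A, J * (I * x) = -(I * (J * x)) := fun x => by
    rw [← mul_assoc, hJI, neg_mul, mul_assoc]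
  simp only [mul_add, add_mul, mul_one, one_mul, mul_assoc, hI, hJ, hJI, hI',
    hJ', hJI', mul_neg, neg_mul, neg_neg]
  abel

/-- `s` anticommutes with `I` and `J`. -/
theorem h30_hur_aa (I J s : A) (hI : I * I = -1) (hJ : J * J = -1) (hJI : J * I = -(I * J))
    (hsI : s * I = -(I * s)) (hsJ : s * J = -(J * s)) :
    (1 + I + J + I * J) * s * (1 - I - J - I * J) = J * s + J * s + J * s + J * s := by
  have hI' : ∀ x : A, I * (I * x) = -x := fun x => by rw [← mul_assoc, hI, neg_mul, one_mul]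
  have hJ' : ∀ x : A, J * (J * x) = -x := fun x => by rw [← mul_assoc, hJ, neg_mul, one_mul]
  have hJI' : ∀ x : A, J * (I * x) = -(I * (J * x)) := fun x => by
    rw [← mul_assoc, hJI, neg_mul, mul_assoc]
  have hsI' : ∀ x : A, s * (I * x) = -(I * (s * x)) := fun x => by
    rw [← mul_assoc, hsI, neg_mul, mul_assoc]
  have hsJ' : ∀ x : A, s * (J * x) = -(J * (s * x)) := fun x => by
    rw [← mul_assoc, hsJ, neg_mul, mul_assoc]
  simp only [mul_add, add_mul, mul_sub, sub_mul, mul_one, one_mul, mul_assoc, hI, hJ, hJI, hI',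
    hJ', hJI', hsI, hsJ, hsI', hsJ', mul_neg, neg_mul, neg_neg]
  abel

/-- `s` commutes with `I` and anticommutes with `J`. -/
theorem h30_hur_ca (I J s : A) (hI : I * I = -1) (hJ : J * J = -1) (hJI : J * I = -(I * J))
    (hsI : s * I = I * s) (hsJ : s * J = -(J * s)) :
    (1 + I + J + I * J) * s * (1 - I - J - I * J) =
      I * (J * s) + I * (J * s) + I * (J * s) + I * (J * s) := by
  have hI' : ∀ x : A, I * (I * x) = -x := fun x => by rw [← mul_assoc, hI, neg_mul, one_mul]
  have hJ' : ∀ x : A, J * (J * x) = -x := fun x => by rw [← mul_assoc, hJ, neg_mul, one_mul]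
  have hJI' : ∀ x : A, J * (I * x) = -(I * (J * x)) := fun x => by
    rw [← mul_assoc, hJI, neg_mul, mul_assoc]
  have hsI' : ∀ x : A, s * (I * x) = I * (s * x) := fun x => by
    rw [← mul_assoc, hsI, mul_assoc]
  have hsJ' : ∀ x : A, s * (J * x) = -(J * (s * x)) := fun x => by
    rw [← mul_assoc, hsJ, neg_mul, mul_assoc]
  simp only [mul_add, add_mul, mul_sub, sub_mul, mul_one, one_mul, mul_assoc, hI, hJ, hJI, hI',
    hJ', hJI', hsI, hsJ, hsI', hsJ', mul_neg, neg_mul, neg_neg]
  abel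

/-- `s` anticommutes with `I` and commutes with `J`. -/
theorem h30_hur_ac (I J s : A) (hI : I * I = -1) (hJ : J * J = -1) (hJI : J * I = -(I * J))
    (hsI : s * I = -(I * s)) (hsJ : s * J = J * s) :
    (1 + I + J + I * J) * s * (1 - I - J - I * J) = I * s + I * s + I * s + I * s := by
  have hI' : ∀ x : A, I * (I * x) = -x := fun x => by rw [← mul_assoc, hI, neg_mul, one_mul]
  have hJ' : ∀ x : A, J * (J * x) = -x := fun x => by rw [← mul_assoc, hJ, neg_mul, one_mul]
  have hJI' : ∀ x : A, J * (I * x) = -(I * (J * x)) := fun x => by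
    rw [← mul_assoc, hJI, neg_mul, mul_assoc]
  have hsI' : ∀ x : A, s * (I * x) = -(I * (s * x)) := fun x => by
    rw [← mul_assoc, hsI, neg_mul, mul_assoc]
  have hsJ' : ∀ x : A, s * (J * x) = J * (s * x) := fun x => by
    rw [← mul_assoc, hsJ, mul_assoc]
  simp only [mul_add, add_mul, mul_sub, sub_mul, mul_one, one_mul, mul_assoc, hI, hJ, hJI, hI',
    hJ', hJI', hsI, hsJ, hsI', hsJ', mul_neg, neg_mul, neg_neg]
  abel

/-- `s` commutes with `I` and `J`. -/
theorem h30_hur_cc (I J s : A) (hI : I * I = -1) (hJ : J * J = -1) (hJI : J * I = -(I * J))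
    (hsI : s * I = I * s) (hsJ : s * J = J * s) :
    (1 + I + J + I * J) * s * (1 - I - J - I * J) = s + s + s + s := by
  have hI' : ∀ x : A, I * (I * x) = -x := fun x => by rw [← mul_assoc, hI, neg_mul, one_mul]
  have hJ' : ∀ x : A, J * (J * x) = -x := fun x => by rw [← mul_assoc, hJ, neg_mul, one_mul]
  have hJI' : ∀ x : A, J * (I * x) = -(I * (J * x)) := fun x => by
    rw [← mul_assoc, hJI, neg_mul, mul_assoc]
  have hsI' : ∀ x : A, s * (I * x) = I * (s * x) := fun x => by
    rw [← mul_assoc, hsI, mul_assoc]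
  have hsJ' : ∀ x : A, s * (J * x) = J * (s * x) := fun x => by
    rw [← mul_assoc, hsJ, mul_assoc]
  simp only [mul_add, add_mul, mul_sub, sub_mul, mul_one, one_mul, mul_assoc, hI, hJ, hJI, hI',
    hJ', hJI', hsI, hsJ, hsI', hsJ', mul_neg, neg_mul, neg_neg]
  abel

/-- Word identities for four pairwise anticommuting involutions. -/
theorem h30_words (a b c d : A) (haa : a * a = 1) (hbb : b * b = 1) (hcc : c * c = 1)
    (hdd : d * d = 1) (hba : b * a = -(a * b)) (hca : c * a = -(a * c)) (hda : d * a = -(a * d))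
    (hcb : c * b = -(b * c)) (hdb : d * b = -(b * d)) (hdc : d * c = -(c * d)) :
    (a * b * c) * (a * b * c) = -1 ∧ (a * b * d) * (a * b * d) = -1 ∧
    (a * b * d) * (a * b * c) = -((a * b * c) * (a * b * d)) ∧
    a * (a * b * c) = (a * b * c) * a ∧ b * (a * b * c) = (a * b * c) * b ∧
    a * (a * b * d) = (a * b * d) * a ∧ b * (a * b * d) = (a * b * d) * b ∧
    (a * b * c) * d = -(d * (a * b * c)) ∧ (a * b * d) * c = -(c * (a * b * d)) ∧
    ((a * b * c) * (a * b * d)) * c = -(c * ((a * b * c) * (a * b * d))) := by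
  have haa' : ∀ x : A, a * (a * x) = x := fun x => by rw [← mul_assoc, haa, one_mul]
  have hbb' : ∀ x : A, b * (b * x) = x := fun x => by rw [← mul_assoc, hbb, one_mul]
  have hcc' : ∀ x : A, c * (c * x) = x := fun x => by rw [← mul_assoc, hcc, one_mul]
  have hdd' : ∀ x : A, d * (d * x) = x := fun x => by rw [← mul_assoc, hdd, one_mul]
  have hba' : ∀ x : A, b * (a * x) = -(a * (b * x)) := fun x => by
    rw [← mul_assoc, hba, neg_mul, mul_assoc]
  have hca' : ∀ x : A, c * (a * x) = -(a * (c * x)) := fun x => by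
    rw [← mul_assoc, hca, neg_mul, mul_assoc]
  have hda' : ∀ x : A, d * (a * x) = -(a * (d * x)) := fun x => by
    rw [← mul_assoc, hda, neg_mul, mul_assoc]
  have hcb' : ∀ x : A, c * (b * x) = -(b * (c * x)) := fun x => by
    rw [← mul_assoc, hcb, neg_mul, mul_assoc]
  have hdb' : ∀ x : A, d * (b * x) = -(b * (d * x)) := fun x => by
    rw [← mul_assoc, hdb, neg_mul, mul_assoc]
  have hdc' : ∀ x : A, d * (c * x) = -(c * (d * x)) := fun x => by
    rw [← mul_assoc, hdc, neg_mul, mul_assoc]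
  refine ⟨?_, ?_, ?_, ?_, ?_, ?_, ?_, ?_, ?_, ?_⟩ <;>
  simp only [mul_assoc, haa, hbb, hcc, hdd, hba, hca, hda, hcb, hdb, hdc, haa', hbb', hcc', hdd',
    hba', hca', hda', hcb', hdb', hdc', mul_neg, neg_mul, neg_neg, mul_one, one_mul]

end Hurwitz

end Cfsg.Agent.Lib.helper30
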