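import Mathlib
import Cfsg.Agent.Lib.helper89.S60Defs
import Cfsg.Agent.Lib.helper30.S60EX3a

/-!
S6000 split (architect helper89), piece EX3: elements of order 3 of `N(R)` with traces `1` and `-2`
(Hurwitz units `(1 + I + J + IJ)/2` built from the frame of `R`).
-/

set_option autoImplicit false
set_option linter.unusedSimpArgs false

namespace Cfsg.Agent.Lib.helper30

open Matrix Cfsg Cfsg.Geo Cfsg.Agent.Lib.helper89.S60

section S60EX3

variable {F : Type*} [Field F]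

/-- `X` is the matrix of an element of `R`. -/
def h30_InR (R : Subgroup (GL (Fin 4) F)) (X : Matrix (Fin 4) (Fin 4) F) : Prop :=
  ∃ r ∈ R, (r : Matrix (Fin 4) (Fin 4) F) = X

theorem h30_InR_one (R : Subgroup (GL (Fin 4) F)) : h30_InR R 1 := ⟨1, R.one_mem, rfl⟩

theorem h30_InR_mul {R : Subgroup (GL (Fin 4) F)} {X Y : Matrix (Fin 4) (Fin 4) F}
    (hX : h30_InR R X) (hY : h30_InR R Y) : h30_InR R (X * Y) := by
  obtain ⟨r, hr, rfl⟩ := hX
  obtain ⟨s, hs, rfl⟩ := hY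
  exact ⟨r * s, R.mul_mem hr hs, Units.val_mul r s⟩

theorem h30_InR_smul {R : Subgroup (GL (Fin 4) F)} {w : F}
    (hwR : ∃ z ∈ R, (z : Matrix (Fin 4) (Fin 4) F) = w • (1 : Matrix (Fin 4) (Fin 4) F))
    {X : Matrix (Fin 4) (Fin 4) F} (hX : h30_InR R X) : h30_InR R (w • X) := by
  obtain ⟨z, hz, hzw⟩ := hwR
  obtain ⟨r, hr, rfl⟩ := hX
  refine ⟨z * r, R.mul_mem hz hr, ?_⟩
  rw [Units.val_mul, hzw, smul_mul_assoc, one_mul]

theorem h30_InR_smul_pow {R : Subgroup (GL (Fin 4) F)} {w : F}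
    (hwR : ∃ z ∈ R, (z : Matrix (Fin 4) (Fin 4) F) = w • (1 : Matrix (Fin 4) (Fin 4) F))
    (e : ℕ) {X : Matrix (Fin 4) (Fin 4) F} (hX : h30_InR R X) : h30_InR R (w ^ e • X) := by
  induction e with
  | zero => simpa using hX
  | succ e ih =>
    rw [pow_succ, mul_comm, mul_smul]
    exact h30_InR_smul hwR ih

theorem h30_InR_neg {R : Subgroup (GL (Fin 4) F)} {w : F} (hw : w * w = -1)
    (hwR : ∃ z ∈ R, (z : Matrix (Fin 4) (Fin 4) F) = w • (1 : Matrix (Fin 4) (Fin 4) F))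
    {X : Matrix (Fin 4) (Fin 4) F} (hX : h30_InR R X) : h30_InR R (-X) := by
  have h := h30_InR_smul hwR (h30_InR_smul hwR hX)
  rwa [smul_smul, hw, neg_smul, one_smul] at h

theorem h30_quarter (h2 : (2 : F) ≠ 0) (X : Matrix (Fin 4) (Fin 4) F) :
    ((2⁻¹ : F) * 2⁻¹) • (X + X + X + X) = X := by
  have h : X + X + X + X = (4 : F) • X := by module
  rw [h, smul_smul]
  have h4 : (2⁻¹ : F) * 2⁻¹ * 4 = 1 := by field_simp; norm_num
  rw [h4, one_smul]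

/-- The Hurwitz unit `(1 + I + J + IJ)/2`. -/
def h30_hU (I J : Matrix (Fin 4) (Fin 4) F) : Matrix (Fin 4) (Fin 4) F :=
  (2⁻¹ : F) • (1 + I + J + I * J)

/-- Its inverse `(1 - I - J - IJ)/2`. -/
def h30_hV (I J : Matrix (Fin 4) (Fin 4) F) : Matrix (Fin 4) (Fin 4) F :=
  (2⁻¹ : F) • (1 - I - J - I * J)

theorem h30_hU_hV (h2 : (2 : F) ≠ 0) (I J : Matrix (Fin 4) (Fin 4) F) (hI : I * I = -1)
    (hJ : J * J = -1) (hJI : J * I = -(I * J)) : h30_hU I J * h30_hV I J = 1 := by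
  unfold h30_hU h30_hV
  rw [smul_mul_assoc, mul_smul_comm, smul_smul, h30_hur_PN I J hI hJ hJI]
  exact h30_quarter h2 1

theorem h30_hV_hU (h2 : (2 : F) ≠ 0) (I J : Matrix (Fin 4) (Fin 4) F) (hI : I * I = -1)
    (hJ : J * J = -1) (hJI : J * I = -(I * J)) : h30_hV I J * h30_hU I J = 1 := by
  unfold h30_hU h30_hV
  rw [smul_mul_assoc, mul_smul_comm, smul_smul, h30_hur_NP I J hI hJ hJI]
  exact h30_quarter h2 1

theorem h30_hU_cube (h2 : (2 : F) ≠ 0) (I J : Matrix (Fin 4) (Fin 4) F) (hI : I * I = -1)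
    (hJ : J * J = -1) (hJI : J * I = -(I * J)) : h30_hU I J ^ 3 = -1 := by
  unfold h30_hU
  rw [smul_pow]
  have e : (1 + I + J + I * J) ^ 3 = -(1 + 1 + 1 + 1 + 1 + 1 + 1 + 1) := by
    rw [pow_succ, pow_two]
    exact h30_hur_cube I J hI hJ hJI
  rw [e]
  have h : -(1 + 1 + 1 + 1 + 1 + 1 + 1 + 1 : Matrix (Fin 4) (Fin 4) F) =
      (-8 : F) • (1 : Matrix (Fin 4) (Fin 4) F) := by module
  rw [h, smul_smul]
  have h8 : (2⁻¹ : F) ^ 3 * (-8) = -1 := by field_simp; norm_num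
  rw [h8, neg_smul, one_smul]

theorem h30_hur_conj (h2 : (2 : F) ≠ 0) (R : Subgroup (GL (Fin 4) F))
    (I J s : Matrix (Fin 4) (Fin 4) F) (hI : I * I = -1) (hJ : J * J = -1)
    (hJI : J * I = -(I * J)) (hIR : h30_InR R I) (hJR : h30_InR R J) (hsR : h30_InR R s)
    (hsI : s * I = I * s ∨ s * I = -(I * s)) (hsJ : s * J = J * s ∨ s * J = -(J * s)) :
    h30_InR R (h30_hU I J * s * h30_hV I J) := by
  have e : h30_hU I J * s * h30_hV I J =
      ((2⁻¹ : F) * 2⁻¹) • ((1 + I + J + I * J) * s * (1 - I - J - I * J)) := by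
    unfold h30_hU h30_hV
    rw [smul_mul_assoc, smul_mul_assoc, mul_smul_comm, smul_smul]
  rw [e]
  rcases hsI with hsI | hsI <;> rcases hsJ with hsJ | hsJ
  · rw [h30_hur_cc I J s hI hJ hJI hsI hsJ, h30_quarter h2]
    exact hsR
  · rw [h30_hur_ca I J s hI hJ hJI hsI hsJ, h30_quarter h2]
    exact h30_InR_mul hIR (h30_InR_mul hJR hsR)
  · rw [h30_hur_ac I J s hI hJ hJI hsI hsJ, h30_quarter h2]
    exact h30_InR_mul hIR hsR
  · rw [h30_hur_aa I J s hI hJ hJI hsI hsJ, h30_quarter h2]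
    exact h30_InR_mul hJR hsR

theorem h30_conj_closed (R : Subgroup (GL (Fin 4) F)) (w : F)
    (hwR : ∃ z ∈ R, (z : Matrix (Fin 4) (Fin 4) F) = w • (1 : Matrix (Fin 4) (Fin 4) F))
    (t : Fin 4 → GL (Fin 4) F) (hfr : Frame R w t) (U V : Matrix (Fin 4) (Fin 4) F)
    (hUV : U * V = 1) (hVU : V * U = 1)
    (hgen : ∀ j, h30_InR R (U * (t j : Matrix (Fin 4) (Fin 4) F) * V)) :
    ∀ X, h30_InR R X → h30_InR R (U * X * V) := by
  rintro X ⟨n, hn, rfl⟩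
  obtain ⟨a, e, hne⟩ := hfr.2.2.2 n hn
  rw [hne]
  have hone : h30_InR R (U * 1 * V) := by
    rw [mul_one, hUV]
    exact h30_InR_one R
  have hA : ∀ j, h30_InR R (U * (if a j then (t j : Matrix (Fin 4) (Fin 4) F) else 1) * V) := by
    intro j
    split_ifs
    · exact hgen j
    · exact hone
  have h0 := hA 0
  have h1 := hA 1
  have h2 := hA 2
  have h3 := hA 3
  generalize (if a 0 then (t 0 : Matrix (Fin 4) (Fin 4) F) else 1) = A0 at h0 ⊢
  generalize (if a 1 then (t 1 : Matrix (Fin 4) (Fin 4) F) else 1) = A1 at h1 ⊢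
  generalize (if a 2 then (t 2 : Matrix (Fin 4) (Fin 4) F) else 1) = A2 at h2 ⊢
  generalize (if a 3 then (t 3 : Matrix (Fin 4) (Fin 4) F) else 1) = A3 at h3 ⊢
  have hVU' : ∀ x, V * (U * x) = x := fun x => by rw [← mul_assoc, hVU, one_mul]
  have key : U * (w ^ e • (A0 * A1 * A2 * A3)) * V =
      w ^ e • ((U * A0 * V) * (U * A1 * V) * (U * A2 * V) * (U * A3 * V)) := by
    simp only [mul_assoc, hVU', smul_mul_assoc, mul_smul_comm]
  rw [key]
  exact h30_InR_smul_pow hwR e (h30_InR_mul (h30_InR_mul (h30_InR_mul h0 h1) h2) h3)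

theorem h30_trace_zero_of_anticomm (h2 : (2 : F) ≠ 0) (X T : Matrix (Fin 4) (Fin 4) F)
    (hT : T * T = 1) (h : X * T = -(T * X)) : Matrix.trace X = 0 := by
  have h1 : Matrix.trace X = Matrix.trace (T * (X * T)) := by
    rw [Matrix.trace_mul_comm, mul_assoc, hT, mul_one]
  rw [h, mul_neg, ← mul_assoc, hT, one_mul, Matrix.trace_neg] at h1
  have h3 : (2 : F) * Matrix.trace X = 0 := by linear_combination h1
  exact (mul_eq_zero.mp h3).resolve_left h2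

theorem h30_anti_mul_comm {X Y T : Matrix (Fin 4) (Fin 4) F} (hX : X * T = -(T * X))
    (hY : Commute T Y) : (X * Y) * T = -(T * (X * Y)) := by
  rw [mul_assoc X Y T, ← hY.eq, ← mul_assoc X T Y, hX, neg_mul, mul_assoc T X Y]

theorem h30_mem_normalizer_of_cube (R : Subgroup (GL (Fin 4) F)) (g : GL (Fin 4) F)
    (hg3 : g ^ 3 = 1) (hconj : ∀ n ∈ R, g * n * g⁻¹ ∈ R) : g ∈ subgroupNormalizer R := by
  unfold subgroupNormalizer
  rw [Subgroup.mem_normalizer_iff]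
  intro n
  refine ⟨hconj n, fun h => ?_⟩
  have h1 := hconj _ (hconj _ h)
  have e : g * (g * (g * n * g⁻¹) * g⁻¹) * g⁻¹ = g ^ 3 * n * (g ^ 3)⁻¹ := by
    simp only [pow_succ, pow_zero, one_mul, _root_.mul_inv_rev, mul_assoc]
  rw [e, hg3] at h1
  simpa using h1

theorem h30_conj_mem_of_InR (R : Subgroup (GL (Fin 4) F)) (g n : GL (Fin 4) F)
    (h : h30_InR R ((g : Matrix (Fin 4) (Fin 4) F) * (n : Matrix (Fin 4) (Fin 4) F) *
      ((g⁻¹ : GL (Fin 4) F) : Matrix (Fin 4) (Fin 4) F))) : g * n * g⁻¹ ∈ R := by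
  obtain ⟨r, hr, hrX⟩ := h
  have e : r = g * n * g⁻¹ := Units.ext (by rw [hrX]; rfl)
  rw [← e]
  exact hr

theorem h30_s60_exists_three (h2 : (2 : F) ≠ 0) (R : Subgroup (GL (Fin 4) F)) (w : F)
    (hG : Good R w) :
    ∃ hA hB : GL (Fin 4) F, hA ∈ subgroupNormalizer R ∧ hB ∈ subgroupNormalizer R ∧ hA ^ 3 = 1 ∧
      hB ^ 3 = 1 ∧ Matrix.trace (hA : Matrix (Fin 4) (Fin 4) F) = 1 ∧
      Matrix.trace (hB : Matrix (Fin 4) (Fin 4) F) = -2 := by
  obtain ⟨t, hfr⟩ := hG.frame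
  have hw := hG.wsq
  have hwR := hG.wmem
  obtain ⟨ht, ht2, hta, -⟩ := id hfr
  obtain ⟨a, ha⟩ : ∃ a : Matrix (Fin 4) (Fin 4) F, a = (t 0 : Matrix (Fin 4) (Fin 4) F) := ⟨_, rfl⟩
  obtain ⟨b, hb⟩ : ∃ b : Matrix (Fin 4) (Fin 4) F, b = (t 1 : Matrix (Fin 4) (Fin 4) F) := ⟨_, rfl⟩
  obtain ⟨c, hc⟩ : ∃ c : Matrix (Fin 4) (Fin 4) F, c = (t 2 : Matrix (Fin 4) (Fin 4) F) := ⟨_, rfl⟩
  obtain ⟨d, hd⟩ : ∃ d : Matrix (Fin 4) (Fin 4) F, d = (t 3 : Matrix (Fin 4) (Fin 4) F) := ⟨_, rfl⟩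
  have haR : h30_InR R a := ⟨t 0, ht 0, ha.symm⟩
  have hbR : h30_InR R b := ⟨t 1, ht 1, hb.symm⟩
  have hcR : h30_InR R c := ⟨t 2, ht 2, hc.symm⟩
  have hdR : h30_InR R d := ⟨t 3, ht 3, hd.symm⟩
  have haa : a * a = 1 := by rw [ha]; exact ht2 0
  have hbb : b * b = 1 := by rw [hb]; exact ht2 1
  have hcc : c * c = 1 := by rw [hc]; exact ht2 2
  have hdd : d * d = 1 := by rw [hd]; exact ht2 3
  have hba : b * a = -(a * b) := by rw [ha, hb]; exact hta 1 0 (by decide)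
  have hca : c * a = -(a * c) := by rw [ha, hc]; exact hta 2 0 (by decide)
  have hda : d * a = -(a * d) := by rw [ha, hd]; exact hta 3 0 (by decide)
  have hcb : c * b = -(b * c) := by rw [hb, hc]; exact hta 2 1 (by decide)
  have hdb : d * b = -(b * d) := by rw [hb, hd]; exact hta 3 1 (by decide)
  have hdc : d * c = -(c * d) := by rw [hc, hd]; exact hta 3 2 (by decide)
  have hab : a * b = -(b * a) := by rw [hba, neg_neg]
  obtain ⟨W1, W2, W3, W4, W5, W6, W7, W8, W9, W10⟩ :=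
    h30_words a b c d haa hbb hcc hdd hba hca hda hcb hdb hdc
  have hdich : ∀ X Y : Matrix (Fin 4) (Fin 4) F, h30_InR R X → h30_InR R Y →
      X * Y = Y * X ∨ X * Y = -(Y * X) := by
    rintro X Y ⟨r, hr, rfl⟩ ⟨s, hs, rfl⟩
    exact hG.comm r hr s hs
  have hgenR : ∀ j, h30_InR R (t j : Matrix (Fin 4) (Fin 4) F) := fun j => ⟨t j, ht j, rfl⟩
  -- first pair
  obtain ⟨I1, hI1d⟩ : ∃ I1 : Matrix (Fin 4) (Fin 4) F, I1 = w • a := ⟨_, rfl⟩
  obtain ⟨J1, hJ1d⟩ : ∃ J1 : Matrix (Fin 4) (Fin 4) F, J1 = w • b := ⟨_, rfl⟩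
  have hI1 : I1 * I1 = -1 := by
    rw [hI1d, smul_mul_assoc, mul_smul_comm, smul_smul, hw, haa, neg_smul, one_smul]
  have hJ1 : J1 * J1 = -1 := by
    rw [hJ1d, smul_mul_assoc, mul_smul_comm, smul_smul, hw, hbb, neg_smul, one_smul]
  have hJI1 : J1 * I1 = -(I1 * J1) := by
    rw [hI1d, hJ1d, smul_mul_assoc, mul_smul_comm, smul_mul_assoc, mul_smul_comm, hba, smul_neg,
      smul_neg]
  have hI1R : h30_InR R I1 := by rw [hI1d]; exact h30_InR_smul hwR haR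
  have hJ1R : h30_InR R J1 := by rw [hJ1d]; exact h30_InR_smul hwR hbR
  -- second pair
  obtain ⟨I2, hI2d⟩ : ∃ I2 : Matrix (Fin 4) (Fin 4) F, I2 = -(a * b * c) := ⟨_, rfl⟩
  obtain ⟨J2, hJ2d⟩ : ∃ J2 : Matrix (Fin 4) (Fin 4) F, J2 = -(a * b * d) := ⟨_, rfl⟩
  have hI2 : I2 * I2 = -1 := by rw [hI2d, neg_mul_neg, W1]
  have hJ2 : J2 * J2 = -1 := by rw [hJ2d, neg_mul_neg, W2]
  have hJI2 : J2 * I2 = -(I2 * J2) := by rw [hI2d, hJ2d, neg_mul_neg, neg_mul_neg, W3]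
  have hI2R : h30_InR R I2 := by
    rw [hI2d]
    exact h30_InR_neg hw hwR (h30_InR_mul (h30_InR_mul haR hbR) hcR)
  have hJ2R : h30_InR R J2 := by
    rw [hJ2d]
    exact h30_InR_neg hw hwR (h30_InR_mul (h30_InR_mul haR hbR) hdR)
  have hUV1 := h30_hU_hV h2 I1 J1 hI1 hJ1 hJI1
  have hVU1 := h30_hV_hU h2 I1 J1 hI1 hJ1 hJI1
  have hUV2 := h30_hU_hV h2 I2 J2 hI2 hJ2 hJI2
  have hVU2 := h30_hV_hU h2 I2 J2 hI2 hJ2 hJI2
  have hcube1 := h30_hU_cube h2 I1 J1 hI1 hJ1 hJI1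
  have hcube2 := h30_hU_cube h2 I2 J2 hI2 hJ2 hJI2
  have hcl1 : ∀ X, h30_InR R X → h30_InR R (h30_hU I1 J1 * X * h30_hV I1 J1) :=
    h30_conj_closed R w hwR t hfr _ _ hUV1 hVU1 (fun j =>
      h30_hur_conj h2 R I1 J1 _ hI1 hJ1 hJI1 hI1R hJ1R (hgenR j) (hdich _ _ (hgenR j) hI1R)
        (hdich _ _ (hgenR j) hJ1R))
  have hcl2 : ∀ X, h30_InR R X → h30_InR R (h30_hU I2 J2 * X * h30_hV I2 J2) :=
    h30_conj_closed R w hwR t hfr _ _ hUV2 hVU2 (fun j =>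
      h30_hur_conj h2 R I2 J2 _ hI2 hJ2 hJI2 hI2R hJ2R (hgenR j) (hdich _ _ (hgenR j) hI2R)
        (hdich _ _ (hgenR j) hJ2R))
  -- commutation
  have hcaI2 : Commute a I2 := by
    rw [hI2d]
    exact (show Commute a (a * b * c) from W4).neg_right
  have hcbI2 : Commute b I2 := by
    rw [hI2d]
    exact (show Commute b (a * b * c) from W5).neg_right
  have hcaJ2 : Commute a J2 := by
    rw [hJ2d]
    exact (show Commute a (a * b * d) from W6).neg_right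
  have hcbJ2 : Commute b J2 := by
    rw [hJ2d]
    exact (show Commute b (a * b * d) from W7).neg_right
  have hcaP2 : Commute a (1 + I2 + J2 + I2 * J2) :=
    (((Commute.one_right a).add_right hcaI2).add_right hcaJ2).add_right (hcaI2.mul_right hcaJ2)
  have hcbP2 : Commute b (1 + I2 + J2 + I2 * J2) :=
    (((Commute.one_right b).add_right hcbI2).add_right hcbJ2).add_right (hcbI2.mul_right hcbJ2)
  obtain ⟨U2, hU2d⟩ : ∃ U2 : Matrix (Fin 4) (Fin 4) F, U2 = h30_hU I2 J2 := ⟨_, rfl⟩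
  have hU2d' : U2 = (2⁻¹ : F) • (1 + I2 + J2 + I2 * J2) := hU2d
  have hcaU2 : Commute a U2 := by rw [hU2d']; exact hcaP2.smul_right _
  have hcbU2 : Commute b U2 := by rw [hU2d']; exact hcbP2.smul_right _
  have hcI1U2 : Commute I1 U2 := by rw [hI1d]; exact hcaU2.smul_left w
  have hcJ1U2 : Commute J1 U2 := by rw [hJ1d]; exact hcbU2.smul_left w
  have hcU1U2 : Commute (h30_hU I1 J1) U2 := by
    have h : Commute (1 + I1 + J1 + I1 * J1) U2 :=
      (((Commute.one_left _).add_left hcI1U2).add_left hcJ1U2).add_left (hcI1U2.mul_left hcJ1U2)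
    exact h.smul_left _
  -- traces
  have tra : Matrix.trace a = 0 := h30_trace_zero_of_anticomm h2 a b hbb hab
  have trb : Matrix.trace b = 0 := h30_trace_zero_of_anticomm h2 b a haa hba
  have trab : Matrix.trace (a * b) = 0 :=
    h30_trace_zero_of_anticomm h2 (a * b) a haa (by rw [mul_assoc, hba, mul_neg])
  have h24 : (2⁻¹ : F) * 4 = 2 := by field_simp; norm_num
  have trP1 : Matrix.trace (1 + I1 + J1 + I1 * J1) = 4 := by
    rw [hI1d, hJ1d, smul_mul_assoc, mul_smul_comm]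
    simp [Matrix.trace_add, Matrix.trace_smul, tra, trb, trab, Matrix.trace_one]
  have trU1 : Matrix.trace (h30_hU I1 J1) = 2 := by
    unfold h30_hU
    rw [Matrix.trace_smul, trP1, smul_eq_mul, h24]
  have trI2 : Matrix.trace (a * b * c) = 0 := h30_trace_zero_of_anticomm h2 _ d hdd W8
  have trJ2 : Matrix.trace (a * b * d) = 0 := h30_trace_zero_of_anticomm h2 _ c hcc W9
  have trK2 : Matrix.trace ((a * b * c) * (a * b * d)) = 0 :=
    h30_trace_zero_of_anticomm h2 _ c hcc W10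
  have trP2 : Matrix.trace (1 + I2 + J2 + I2 * J2) = 4 := by
    rw [hI2d, hJ2d, neg_mul_neg]
    simp [Matrix.trace_add, Matrix.trace_neg, trI2, trJ2, trK2, Matrix.trace_one]
  have trU2 : Matrix.trace U2 = 2 := by
    rw [hU2d', Matrix.trace_smul, trP2, smul_eq_mul, h24]
  have hI1b : I1 * b = -(b * I1) := by
    rw [hI1d, smul_mul_assoc, mul_smul_comm, hab, smul_neg]
  have hJ1a : J1 * a = -(a * J1) := by
    rw [hJ1d, smul_mul_assoc, mul_smul_comm, hba, smul_neg]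
  have hI1a : I1 * a = a * I1 := by
    rw [hI1d, smul_mul_assoc, mul_smul_comm]
  have hK1a : (I1 * J1) * a = -(a * (I1 * J1)) := by
    rw [mul_assoc I1 J1 a, hJ1a, mul_neg, ← mul_assoc I1 a J1, hI1a, mul_assoc a I1 J1]
  have tr1 : Matrix.trace (I1 * U2) = 0 :=
    h30_trace_zero_of_anticomm h2 _ b hbb (h30_anti_mul_comm hI1b hcbU2)
  have tr2 : Matrix.trace (J1 * U2) = 0 :=
    h30_trace_zero_of_anticomm h2 _ a haa (h30_anti_mul_comm hJ1a hcaU2)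
  have tr3 : Matrix.trace (I1 * J1 * U2) = 0 :=
    h30_trace_zero_of_anticomm h2 _ a haa (h30_anti_mul_comm hK1a hcaU2)
  have trA : Matrix.trace (h30_hU I1 J1 * U2) = 1 := by
    have e : h30_hU I1 J1 * U2 = (2⁻¹ : F) • (U2 + I1 * U2 + J1 * U2 + I1 * J1 * U2) := by
      unfold h30_hU
      rw [smul_mul_assoc, add_mul, add_mul, add_mul, one_mul]
    rw [e, Matrix.trace_smul, Matrix.trace_add, Matrix.trace_add, Matrix.trace_add, tr1, tr2, tr3,
      trU2, smul_eq_mul, add_zero, add_zero, add_zero]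
    field_simp
  -- the two units
  obtain ⟨gB, hgBv, hgBi⟩ : ∃ g : GL (Fin 4) F,
      (g : Matrix (Fin 4) (Fin 4) F) = -h30_hU I1 J1 ∧
      ((g⁻¹ : GL (Fin 4) F) : Matrix (Fin 4) (Fin 4) F) = -h30_hV I1 J1 :=
    ⟨⟨-h30_hU I1 J1, -h30_hV I1 J1, by rw [neg_mul_neg, hUV1], by rw [neg_mul_neg, hVU1]⟩,
      rfl, rfl⟩
  obtain ⟨gA, hgAv, hgAi⟩ : ∃ g : GL (Fin 4) F,
      (g : Matrix (Fin 4) (Fin 4) F) = h30_hU I1 J1 * U2 ∧
      ((g⁻¹ : GL (Fin 4) F) : Matrix (Fin 4) (Fin 4) F) = h30_hV I2 J2 * h30_hV I1 J1 :=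
    ⟨⟨h30_hU I1 J1 * U2, h30_hV I2 J2 * h30_hV I1 J1,
      by rw [hU2d, mul_assoc, ← mul_assoc (h30_hU I2 J2), hUV2, one_mul, hUV1],
      by rw [hU2d, mul_assoc, ← mul_assoc (h30_hV I1 J1), hVU1, one_mul, hVU2]⟩, rfl, rfl⟩
  have hA3 : gA ^ 3 = 1 := by
    apply Units.ext
    rw [Units.val_pow_eq_pow_val, Units.val_one, hgAv, hcU1U2.mul_pow, hcube1, hU2d, hcube2,
      neg_mul_neg, one_mul]
  have hB3 : gB ^ 3 = 1 := by
    apply Units.ext
    rw [Units.val_pow_eq_pow_val, Units.val_one, hgBv, Odd.neg_pow ⟨1, by norm_num⟩, hcube1,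
      neg_neg]
  refine ⟨gA, gB, ?_, ?_, hA3, hB3, ?_, ?_⟩
  · refine h30_mem_normalizer_of_cube R gA hA3 (fun n hn => h30_conj_mem_of_InR R gA n ?_)
    rw [hgAv, hgAi, hU2d]
    have e : h30_hU I1 J1 * h30_hU I2 J2 * (n : Matrix (Fin 4) (Fin 4) F) *
        (h30_hV I2 J2 * h30_hV I1 J1) =
        h30_hU I1 J1 * (h30_hU I2 J2 * (n : Matrix (Fin 4) (Fin 4) F) * h30_hV I2 J2) *
          h30_hV I1 J1 := by
      simp only [mul_assoc]
    rw [e]
    exact hcl1 _ (hcl2 _ ⟨n, hn, rfl⟩)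
  · refine h30_mem_normalizer_of_cube R gB hB3 (fun n hn => h30_conj_mem_of_InR R gB n ?_)
    rw [hgBv, hgBi, neg_mul, neg_mul, mul_neg, neg_neg]
    exact hcl1 _ ⟨n, hn, rfl⟩
  · rw [hgAv]
    exact trA
  · rw [hgBv, Matrix.trace_neg, trU1]

end S60EX3

end Cfsg.Agent.Lib.helper30

namespace Cfsg.Agent.Lib.helper89.S60

open Matrix Cfsg Cfsg.Geo

theorem s60_exists_three {F : Type*} [Field F] [Fintype F] (h2 : (2 : F) ≠ 0) (R : Subgroup (GL (Fin 4) F)) (w : F) (hG : Good R w) :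
    ∃ hA hB : GL (Fin 4) F, hA ∈ subgroupNormalizer R ∧ hB ∈ subgroupNormalizer R ∧ hA ^ 3 = 1 ∧ hB ^ 3 = 1 ∧
      Matrix.trace (hA : Matrix (Fin 4) (Fin 4) F) = 1 ∧ Matrix.trace (hB : Matrix (Fin 4) (Fin 4) F) = -2 :=
  Cfsg.Agent.Lib.helper30.h30_s60_exists_three h2 R w hG

end Cfsg.Agent.Lib.helper89.S60
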