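import Mathlib

set_option autoImplicit false

namespace Cfsg.Agent.Lib.helper30

/-- marker for the S2333 ARITH piece -/
theorem h30_spe_arith_marker : True := by trivial

/-- `q^3 ≤ (q-1)(q+1)^2`-type inequality, shifted `q = p + 2`. -/
theorem h30_spe_arith_aux (p : ℕ) :
    (p + 2) ^ 4 ≤ (p + 2 + 1) * ((p + 2) * (p + 1) * (p + 2 + 1)) := by
  have h : (p + 2 + 1) * ((p + 2) * (p + 1) * (p + 2 + 1)) =
      (p + 2) ^ 4 + (p + 2) * (p ^ 2 + 3 * p + 1) := by ring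
  rw [h]
  exact Nat.le_add_right _ _

end Cfsg.Agent.Lib.helper30

namespace Cfsg.Agent.Lib.helper49.SPE

/-- ARITH (S/M) -/
theorem arith_h (q n T : ℕ) (hq : 2 ≤ q) (hn : 2 ≤ n) (hT : q * (q - 1) * (q + 1) ≤ 2 * T) :
    (q ^ n - 1) * (q ^ n - q) / (2 * (q + 1)) ≤ T * q ^ (n - 2) * q ^ (n - 2) := by
  apply Nat.div_le_of_le_mul
  obtain ⟨m, rfl⟩ : ∃ m, n = m + 2 := ⟨n - 2, by omega⟩
  obtain ⟨p, rfl⟩ : ∃ p, q = p + 2 := ⟨q - 2, by omega⟩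
  have h3 : (p + 2 - 1) = p + 1 := by omega
  have h4 : m + 2 - 2 = m := by omega
  rw [h3] at hT
  rw [h4]
  have h1 : (p + 2) ^ (m + 2) - 1 ≤ (p + 2) ^ (m + 2) := Nat.sub_le _ _
  have h2 : (p + 2) ^ (m + 2) - (p + 2) ≤ (p + 2) ^ (m + 2) := Nat.sub_le _ _
  calc ((p + 2) ^ (m + 2) - 1) * ((p + 2) ^ (m + 2) - (p + 2))
        ≤ (p + 2) ^ (m + 2) * (p + 2) ^ (m + 2) := Nat.mul_le_mul h1 h2
    _ = (p + 2) ^ 4 * ((p + 2) ^ m * (p + 2) ^ m) := by ring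
    _ ≤ ((p + 2 + 1) * ((p + 2) * (p + 1) * (p + 2 + 1))) * ((p + 2) ^ m * (p + 2) ^ m) :=
        Nat.mul_le_mul_right _ (Cfsg.Agent.Lib.helper30.h30_spe_arith_aux p)
    _ ≤ ((p + 2 + 1) * (2 * T)) * ((p + 2) ^ m * (p + 2) ^ m) :=
        Nat.mul_le_mul_right _ (Nat.mul_le_mul_left _ hT)
    _ = 2 * (p + 2 + 1) * (T * (p + 2) ^ m * (p + 2) ^ m) := by ring

end Cfsg.Agent.Lib.helper49.SPE
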