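import Mathlib
import Cfsg.Prelude.Def_Classical
import Cfsg.Agent.Lib.helper99.UGen1
import Cfsg.Agent.Lib.helper44.SUWDefs
import Cfsg.Agent.Lib.helper9.SUWUMEM
import Cfsg.Agent.Lib.helper29.SUWFSIG

/-!
# S2335 piece LEVI, racer copy (helper30)

`g = P * diag(B, (B⁻¹)†) * P⁻¹` with the scalar block matrices `P = [[1, a], [ε, ε c]]`,
`P⁻¹ = [[-c, -σε a], [1, σε]]`, where `c + σ c = -1`, `a = 1 + c`.
-/

set_option autoImplicit false

namespace Cfsg.Agent.Lib.helper30

open Matrix Cfsg Cfsg.Agent.Lib.helper99 Cfsg.Agent.Lib.helper44.SUW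

/-- scalar block matrices -/
def h30_sb {K : Type*} [Field K] (m : ℕ) (x y z w : K) :
    Matrix (Fin m ⊕ Fin m) (Fin m ⊕ Fin m) K :=
  Matrix.fromBlocks (x • 1) (y • 1) (z • 1) (w • 1)

theorem h30_sb_mul {K : Type*} [Field K] (m : ℕ) (x y z w x' y' z' w' : K) :
    h30_sb m x y z w * h30_sb m x' y' z' w' =
      h30_sb m (x * x' + y * z') (x * y' + y * w') (z * x' + w * z') (z * y' + w * w') := by
  unfold h30_sb
  rw [Matrix.fromBlocks_multiply]
  simp only [Matrix.smul_mul, Matrix.mul_smul, Matrix.one_mul, smul_smul, ← add_smul]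
  congr 1 <;> (congr 1; ring)

theorem h30_sb_transpose {K : Type*} [Field K] (m : ℕ) (x y z w : K) :
    (h30_sb m x y z w)ᵀ = h30_sb m x z y w := by
  unfold h30_sb
  rw [Matrix.fromBlocks_transpose]
  simp only [Matrix.transpose_smul, Matrix.transpose_one]

theorem h30_sb_map {K : Type*} [Field K] (m : ℕ) (σ : K →+* K) (x y z w : K) :
    (h30_sb m x y z w).map σ = h30_sb m (σ x) (σ y) (σ z) (σ w) := by
  unfold h30_sb
  rw [Matrix.fromBlocks_map]
  have h : ∀ t : K, (t • (1 : Matrix (Fin m) (Fin m) K)).map σ =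
      σ t • (1 : Matrix (Fin m) (Fin m) K) := by
    intro t
    ext i j
    simp only [Matrix.map_apply, Matrix.smul_apply, Matrix.one_apply, smul_eq_mul]
    split_ifs <;> simp
  rw [h, h, h, h]

theorem h30_sb_one {K : Type*} [Field K] (m : ℕ) : h30_sb m (1 : K) 0 0 1 = 1 := by
  unfold h30_sb
  rw [one_smul, zero_smul, Matrix.fromBlocks_one]

/-- LEVI (racer copy) -/
theorem h30_levi {K : Type*} [Field K] [Fintype K] {q m : ℕ} (hK : Fintype.card K = q ^ 2)
    (σ : K →+* K) (hσ : ∀ x, σ x = x ^ q) (ε : K) (hε : ε * σ ε = -1)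
    (B : Matrix (Fin m) (Fin m) K) (hB : B.det = 1) :
    ∃ g : ↥(Cfsg.SU (m + m) K q), ∀ C ∈ skewH σ m,
      suMat g * uMat σ ε C = uMat σ ε (B * C * (B.map σ)ᵀ) * suMat g := by
  classical
  obtain ⟨hσσ, hσid⟩ := sigma_facts hK σ hσ
  -- the scalar c
  have hθ : ∃ θ : K, θ + σ θ ≠ 0 := by
    by_contra hcon
    push Not at hcon
    have h1 := hcon 1
    rw [map_one] at h1
    apply hσid
    ext x
    have h2 := hcon x
    have h3 : x + x = 0 := by linear_combination x * h1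
    rw [RingHom.id_apply]
    linear_combination h2 - h3
  obtain ⟨θ, hθ⟩ := hθ
  have hθ' : σ θ + θ ≠ 0 := by rwa [add_comm]
  obtain ⟨c, hc⟩ : ∃ c : K, c + σ c = -1 := by
    refine ⟨-θ / (θ + σ θ), ?_⟩
    rw [map_div₀, map_neg, map_add, hσσ]
    field_simp
    ring
  have hσc : σ c = -1 - c := by linear_combination hc
  -- the matrices
  obtain ⟨P, hP⟩ : ∃ P : Matrix (Fin m ⊕ Fin m) (Fin m ⊕ Fin m) K,
      P = h30_sb m (1 : K) (1 + c) ε (ε * c) := ⟨_, rfl⟩
  obtain ⟨Pi, hPi⟩ : ∃ Pi : Matrix (Fin m ⊕ Fin m) (Fin m ⊕ Fin m) K,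
      Pi = h30_sb m (-c) (-(σ ε * (1 + c))) (1 : K) (σ ε) := ⟨_, rfl⟩
  obtain ⟨J, hJ⟩ : ∃ J : Matrix (Fin m ⊕ Fin m) (Fin m ⊕ Fin m) K,
      J = h30_sb m (0 : K) 1 1 0 := ⟨_, rfl⟩
  have hPPi : P * Pi = 1 := by
    rw [hP, hPi, h30_sb_mul, ← h30_sb_one]
    congr 1
    · ring
    · ring
    · ring
    · linear_combination (-1 : K) * hε
  have hPiP : Pi * P = 1 := mul_eq_one_comm.1 hPPi
  have hPtPσ : Pᵀ * P.map σ = J := by
    rw [hP, hJ, h30_sb_transpose, h30_sb_map, h30_sb_mul]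
    simp only [map_one, map_add, map_mul, hσc]
    congr 1
    · linear_combination hε
    · linear_combination (-(1 + c)) * hε
    · linear_combination c * hε
    · linear_combination (-(c * (1 + c))) * hε
  have hPiJ : Piᵀ * J * Pi.map σ = 1 := by
    rw [hPi, hJ, h30_sb_transpose, h30_sb_map, h30_sb_mul, h30_sb_mul, ← h30_sb_one]
    simp only [map_one, map_add, map_mul, map_neg, hσc, hσσ]
    congr 1
    · ring
    · ring
    · ring
    · linear_combination (-1 : K) * hε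
  -- B, its inverse, and D
  have hBu : IsUnit B.det := by rw [hB]; exact isUnit_one
  have hBiB : B⁻¹ * B = 1 := Matrix.nonsing_inv_mul B hBu
  obtain ⟨D, hD⟩ : ∃ D : Matrix (Fin m) (Fin m) K, D = ((B⁻¹).map σ)ᵀ := ⟨_, rfl⟩
  have hmap1 : (1 : Matrix (Fin m) (Fin m) K).map σ = 1 :=
    Matrix.map_one σ (map_zero σ) (map_one σ)
  have hED : (B.map σ)ᵀ * D = 1 := by
    rw [hD, ← Matrix.transpose_mul, ← Matrix.map_mul, hBiB, hmap1, Matrix.transpose_one]
  have hDtBσ : Dᵀ * B.map σ = 1 := by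
    rw [hD, Matrix.transpose_transpose, ← Matrix.map_mul, hBiB, hmap1]
  have hBtDσ : Bᵀ * D.map σ = 1 := by
    have h1 : D.map σ = (B⁻¹)ᵀ := by
      rw [hD]
      ext i j
      simp [hσσ]
    rw [h1, ← Matrix.transpose_mul, hBiB, Matrix.transpose_one]
  obtain ⟨X, hX⟩ : ∃ X : Matrix (Fin m ⊕ Fin m) (Fin m ⊕ Fin m) K,
      X = Matrix.fromBlocks B 0 0 D := ⟨_, rfl⟩
  have hJb : J = Matrix.fromBlocks (0 : Matrix (Fin m) (Fin m) K) 1 1 0 := by
    rw [hJ]
    unfold h30_sb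
    rw [one_smul, zero_smul]
  have hXJ : Xᵀ * J * X.map σ = J := by
    rw [hJb, hX, Matrix.fromBlocks_transpose, Matrix.fromBlocks_map, Matrix.fromBlocks_multiply,
      Matrix.fromBlocks_multiply]
    simp [hDtBσ, hBtDσ]
  obtain ⟨G, hG⟩ : ∃ G : Matrix (Fin m ⊕ Fin m) (Fin m ⊕ Fin m) K, G = P * X * Pi := ⟨_, rfl⟩
  have hGu : Gᵀ * G.map σ = 1 := by
    calc Gᵀ * G.map σ = Piᵀ * (Xᵀ * (Pᵀ * P.map σ) * X.map σ) * Pi.map σ := by
          rw [hG]
          simp only [Matrix.transpose_mul, Matrix.map_mul, Matrix.mul_assoc]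
      _ = Piᵀ * (Xᵀ * J * X.map σ) * Pi.map σ := by rw [hPtPσ]
      _ = Piᵀ * J * Pi.map σ := by rw [hXJ]
      _ = 1 := hPiJ
  have hGdet : G.det = 1 := by
    have h1 : P.det * Pi.det = 1 := by rw [← Matrix.det_mul, hPPi, Matrix.det_one]
    have h2 : X.det = B.det * D.det := by rw [hX, Matrix.det_fromBlocks_zero₂₁]
    have h3 : D.det = 1 := by
      have h4 : (B⁻¹).det = 1 := by
        have := congrArg Matrix.det hBiB
        rw [Matrix.det_mul, hB, mul_one, Matrix.det_one] at this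
        exact this
      rw [hD, Matrix.det_transpose]
      have h5 := RingHom.map_det σ (B⁻¹)
      rw [RingHom.mapMatrix_apply] at h5
      rw [← h5, h4, map_one]
    rw [hG, Matrix.det_mul, Matrix.det_mul, h2, hB, h3]
    linear_combination h1
  -- the Siegel element in terms of P, Pi
  have hU : ∀ C : Matrix (Fin m) (Fin m) K,
      Matrix.fromBlocks (1 + C) (σ ε • C) (ε • C) (1 - C) =
        1 + P * Matrix.fromBlocks 0 C 0 0 * Pi := by
    intro C
    rw [hP, hPi]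
    unfold h30_sb
    rw [Matrix.fromBlocks_multiply, Matrix.fromBlocks_multiply, ← Matrix.fromBlocks_one,
      Matrix.fromBlocks_add]
    congr 1
    · simp
    · simp
    · simp
    · have hε' : σ ε * ε = -1 := by rw [mul_comm]; exact hε
      simp only [Matrix.mul_zero, Matrix.zero_mul, zero_add, add_zero, Matrix.smul_mul,
        Matrix.mul_smul, Matrix.one_mul, Matrix.mul_one, smul_smul, hε', neg_smul, one_smul]
      rw [sub_eq_add_neg]
  have hcomm : ∀ C : Matrix (Fin m) (Fin m) K,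
      G * Matrix.fromBlocks (1 + C) (σ ε • C) (ε • C) (1 - C) =
        Matrix.fromBlocks (1 + B * C * (B.map σ)ᵀ) (σ ε • (B * C * (B.map σ)ᵀ))
          (ε • (B * C * (B.map σ)ᵀ)) (1 - B * C * (B.map σ)ᵀ) * G := by
    intro C
    rw [hU C, hU (B * C * (B.map σ)ᵀ)]
    have hXN : X * Matrix.fromBlocks 0 C 0 0 =
        Matrix.fromBlocks 0 (B * C * (B.map σ)ᵀ) 0 0 * X := by
      rw [hX, Matrix.fromBlocks_multiply, Matrix.fromBlocks_multiply]
      simp [Matrix.mul_assoc, hED]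
    have h1 : G * (P * Matrix.fromBlocks 0 C 0 0 * Pi) =
        P * (X * Matrix.fromBlocks 0 C 0 0) * Pi := by
      calc G * (P * Matrix.fromBlocks 0 C 0 0 * Pi)
          = P * X * (Pi * P) * Matrix.fromBlocks 0 C 0 0 * Pi := by
            rw [hG]; simp only [Matrix.mul_assoc]
        _ = P * (X * Matrix.fromBlocks 0 C 0 0) * Pi := by
            rw [hPiP, Matrix.mul_one, Matrix.mul_assoc P X]
    have h2 : (P * Matrix.fromBlocks 0 (B * C * (B.map σ)ᵀ) 0 0 * Pi) * G =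
        P * (Matrix.fromBlocks 0 (B * C * (B.map σ)ᵀ) 0 0 * X) * Pi := by
      calc (P * Matrix.fromBlocks 0 (B * C * (B.map σ)ᵀ) 0 0 * Pi) * G
          = P * Matrix.fromBlocks 0 (B * C * (B.map σ)ᵀ) 0 0 * (Pi * P) * X * Pi := by
            rw [hG]; simp only [Matrix.mul_assoc]
        _ = P * (Matrix.fromBlocks 0 (B * C * (B.map σ)ᵀ) 0 0 * X) * Pi := by
            rw [hPiP, Matrix.mul_one, Matrix.mul_assoc P _ X]
    rw [Matrix.mul_add, Matrix.add_mul, Matrix.mul_one, Matrix.one_mul, h1, h2, hXN]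
  -- transfer to `Fin (m + m)`
  have hgdet : (G.submatrix finSumFinEquiv.symm finSumFinEquiv.symm).det = 1 := by
    rw [Matrix.det_submatrix_equiv_self]; exact hGdet
  have hgu : (G.submatrix finSumFinEquiv.symm finSumFinEquiv.symm)ᵀ *
      (G.submatrix finSumFinEquiv.symm finSumFinEquiv.symm).map σ = 1 := by
    rw [Matrix.transpose_submatrix, ← Matrix.submatrix_map, Matrix.submatrix_mul_equiv, hGu,
      Matrix.submatrix_one_equiv]
  refine ⟨mkSU (G.submatrix finSumFinEquiv.symm finSumFinEquiv.symm) hgdet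
    (fun u v => helper9_form_of_unitary σ hσ _ hgu u v), ?_⟩
  intro C _
  rw [suMat_mkSU]
  unfold uMat
  rw [Matrix.submatrix_mul_equiv, Matrix.submatrix_mul_equiv, hcomm C]

end Cfsg.Agent.Lib.helper30
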