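import Mathlib
import Cfsg.Agent.Lib.helper45.SVDefs

/-!
# S2425 piece FIXB, racer copy (helper30): `GL_n` is transitive on flags of given dimensions

`h30_flag_equiv`: two chains of subspaces with the same dimensions (in spaces of the same
dimension) are mapped to each other by a linear equivalence (induction on the length of the chain).
-/

set_option autoImplicit false
open scoped MatrixGroups

universe u

namespace Cfsg.Agent.Lib.helper30

open Cfsg.Agent.Lib.helper45.SV

/-- two chains with the same dimensions are equivalent -/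
theorem h30_flag_equiv {F : Type*} [Field F] (m : ℕ) :
    ∀ (V V' : Type u) [AddCommGroup V] [Module F V] [FiniteDimensional F V]
      [AddCommGroup V'] [Module F V'] [FiniteDimensional F V'],
      Module.finrank F V = Module.finrank F V' →
      ∀ (A : ℕ → Submodule F V) (A' : ℕ → Submodule F V'),
        (∀ i j, i ≤ j → j < m → A i ≤ A j) → (∀ i j, i ≤ j → j < m → A' i ≤ A' j) →
        (∀ j, j < m → Module.finrank F (A j) = Module.finrank F (A' j)) →
        ∃ φ : V ≃ₗ[F] V', ∀ j, j < m → (A j).map (φ : V →ₗ[F] V') = A' j := by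
  induction m with
  | zero =>
    intro V V' _ _ _ _ _ _ hdim A A' _ _ _
    exact ⟨LinearEquiv.ofFinrankEq V V' hdim, fun j hj => absurd hj (Nat.not_lt_zero j)⟩
  | succ m ih =>
    intro V V' _ _ _ _ _ _ hdim A A' hA hA' hd
    have hAB : ∀ j, j ≤ m → A j ≤ A m := fun j hj => hA j m hj (Nat.lt_succ_self m)
    have hAB' : ∀ j, j ≤ m → A' j ≤ A' m := fun j hj => hA' j m hj (Nat.lt_succ_self m)
    obtain ⟨ψ, hψ⟩ := ih (A m) (A' m) (hd m (Nat.lt_succ_self m))
      (fun j => (A j).comap (A m).subtype) (fun j => (A' j).comap (A' m).subtype)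
      (fun i j hij hj => Submodule.comap_mono (hA i j hij (Nat.lt_succ_of_lt hj)))
      (fun i j hij hj => Submodule.comap_mono (hA' i j hij (Nat.lt_succ_of_lt hj)))
      (fun j hj => by
        rw [(Submodule.comapSubtypeEquivOfLe (hAB j hj.le)).finrank_eq,
          (Submodule.comapSubtypeEquivOfLe (hAB' j hj.le)).finrank_eq]
        exact hd j (Nat.lt_succ_of_lt hj))
    obtain ⟨C, hC⟩ := Submodule.exists_isCompl (A m)
    obtain ⟨C', hC'⟩ := Submodule.exists_isCompl (A' m)
    have hdimC : Module.finrank F C = Module.finrank F C' := by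
      have h1 := Submodule.finrank_add_eq_of_isCompl hC
      have h2 := Submodule.finrank_add_eq_of_isCompl hC'
      have h3 := hd m (Nat.lt_succ_self m)
      omega
    let χ : C ≃ₗ[F] C' := LinearEquiv.ofFinrankEq C C' hdimC
    let φ : V ≃ₗ[F] V' := (Submodule.prodEquivOfIsCompl (A m) C hC).symm ≪≫ₗ
      (ψ.prodCongr χ) ≪≫ₗ (Submodule.prodEquivOfIsCompl (A' m) C' hC')
    have hφ : ∀ b : A m, φ (b : V) = (ψ b : V') := by
      intro b
      simp [φ]
    refine ⟨φ, ?_⟩
    intro j hj
    rcases Nat.lt_succ_iff_lt_or_eq.1 hj with hj' | rfl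
    · ext y
      simp only [Submodule.mem_map, LinearEquiv.coe_coe]
      constructor
      · rintro ⟨b, hb, rfl⟩
        have hbB : b ∈ A m := hAB j hj'.le hb
        have h1 : ψ ⟨b, hbB⟩ ∈ (A' j).comap (A' m).subtype := by
          rw [← hψ j hj']
          exact Submodule.mem_map_of_mem (show (⟨b, hbB⟩ : A m) ∈ (A j).comap (A m).subtype from hb)
        have h2 : φ b = (ψ ⟨b, hbB⟩ : V') := hφ ⟨b, hbB⟩
        rw [h2]
        exact h1
      · intro hy
        have hyB : y ∈ A' m := hAB' j hj'.le hy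
        have h1 : (⟨y, hyB⟩ : A' m) ∈ ((A j).comap (A m).subtype).map (ψ : A m →ₗ[F] A' m) := by
          rw [hψ j hj']
          exact hy
        obtain ⟨x, hx, hxy⟩ := h1
        refine ⟨(x : V), hx, ?_⟩
        rw [hφ x]
        have h3 : ψ x = ⟨y, hyB⟩ := hxy
        rw [h3]
    · ext y
      simp only [Submodule.mem_map, LinearEquiv.coe_coe]
      constructor
      · rintro ⟨b, hb, rfl⟩
        have h2 : φ b = (ψ ⟨b, hb⟩ : V') := hφ ⟨b, hb⟩
        rw [h2]
        exact (ψ ⟨b, hb⟩).2
      · intro hy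
        refine ⟨((ψ.symm ⟨y, hy⟩ : A j) : V), (ψ.symm ⟨y, hy⟩).2, ?_⟩
        rw [hφ, LinearEquiv.apply_symm_apply]

theorem h30_csum_mono {n : ℕ} (μ : Fin n → ℕ) {i j : Fin n} (hij : i ≤ j) :
    csum μ i ≤ csum μ j := by
  unfold csum
  apply Finset.sum_le_sum_of_subset
  intro k hk
  rw [Finset.mem_filter] at hk ⊢
  exact ⟨hk.1, hk.2.trans hij⟩

theorem h30_stdFlag_mono {F : Type*} [Field F] {n : ℕ} (μ : Fin n → ℕ) {i j : Fin n}
    (hij : i ≤ j) : stdFlag F μ i ≤ stdFlag F μ j := by
  intro v hv k hk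
  exact hv k ((h30_csum_mono μ hij).trans hk)

theorem h30_stdFlag_finrank {F : Type*} [Field F] {n : ℕ} (μ : Fin n → ℕ) (j : Fin n)
    (hc : csum μ j ≤ n) : Module.finrank F (stdFlag F μ j) = csum μ j := by
  let e : stdFlag F μ j ≃ₗ[F] ({i : Fin n // i.val < csum μ j} → F) :=
    { toFun := fun v i => v.1 i.1
      map_add' := fun v w => rfl
      map_smul' := fun a v => rfl
      invFun := fun w => ⟨fun i => if h : i.val < csum μ j then w ⟨i, h⟩ else 0, fun i hi => by
        show (if h : i.val < csum μ j then w ⟨i, h⟩ else 0) = 0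
        rw [dif_neg (by omega)]⟩
      left_inv := fun v => by
        apply Subtype.ext
        funext i
        show (if h : i.val < csum μ j then v.1 i else 0) = v.1 i
        split_ifs with h
        · rfl
        · exact (v.2 i (by omega)).symm
      right_inv := fun w => by
        funext i
        show (if h : i.1.val < csum μ j then w ⟨i.1, h⟩ else 0) = w i
        rw [dif_pos i.2] }
  rw [e.finrank_eq, Module.finrank_fintype_fun_eq_card,
    Fintype.card_congr (Fin.castLEOrderIso hc).toEquiv.symm, Fintype.card_fin]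

/-- FIXB (racer copy) -/
theorem h30_exists_gl_flag {F : Type*} [Field F] {n : ℕ} (μ : Fin n → ℕ)
    (W : Fin n → Submodule F (Fin n → F)) (hW : Monotone W)
    (hd : ∀ j, Module.finrank F (W j) = csum μ j) :
    ∃ g : GL (Fin n) F, ∀ j,
      (stdFlag F μ j).map (Matrix.toLin' (g : Matrix (Fin n) (Fin n) F)) = W j := by
  have hc : ∀ j, csum μ j ≤ n := by
    intro j
    rw [← hd j]
    calc Module.finrank F (W j) ≤ Module.finrank F (Fin n → F) := Submodule.finrank_le _
      _ = n := by simp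
  let A : ℕ → Submodule F (Fin n → F) := fun k => if h : k < n then stdFlag F μ ⟨k, h⟩ else ⊤
  let A' : ℕ → Submodule F (Fin n → F) := fun k => if h : k < n then W ⟨k, h⟩ else ⊤
  obtain ⟨φ, hφ⟩ := h30_flag_equiv (F := F) n (Fin n → F) (Fin n → F) rfl A A'
    (fun i j hij hj => by
      have hi : i < n := lt_of_le_of_lt hij hj
      simp only [A, dif_pos hi, dif_pos hj]
      exact h30_stdFlag_mono μ (show (⟨i, hi⟩ : Fin n) ≤ ⟨j, hj⟩ from hij))
    (fun i j hij hj => by
      have hi : i < n := lt_of_le_of_lt hij hj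
      simp only [A', dif_pos hi, dif_pos hj]
      exact hW (show (⟨i, hi⟩ : Fin n) ≤ ⟨j, hj⟩ from hij))
    (fun j hj => by
      have hA_eq : A j = stdFlag F μ ⟨j, hj⟩ := dif_pos hj
      have hA'_eq : A' j = W ⟨j, hj⟩ := dif_pos hj
      rw [hA_eq, hA'_eq, h30_stdFlag_finrank μ ⟨j, hj⟩ (hc _), hd])
  let M : Matrix (Fin n) (Fin n) F := LinearMap.toMatrix' (φ : (Fin n → F) →ₗ[F] (Fin n → F))
  let M' : Matrix (Fin n) (Fin n) F :=
    LinearMap.toMatrix' (φ.symm : (Fin n → F) →ₗ[F] (Fin n → F))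
  have h1 : M * M' = 1 := by
    rw [← LinearMap.toMatrix'_comp, LinearEquiv.comp_coe, LinearEquiv.symm_trans_self,
      LinearEquiv.refl_toLinearMap, LinearMap.toMatrix'_id]
  have h2 : M' * M = 1 := by
    rw [← LinearMap.toMatrix'_comp, LinearEquiv.comp_coe, LinearEquiv.self_trans_symm,
      LinearEquiv.refl_toLinearMap, LinearMap.toMatrix'_id]
  refine ⟨⟨M, M', h1, h2⟩, fun j => ?_⟩
  have h3 := hφ j.val j.isLt
  have hA_eq : A j.val = stdFlag F μ j := dif_pos j.isLt
  have hA'_eq : A' j.val = W j := dif_pos j.isLt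
  rw [hA_eq, hA'_eq] at h3
  show (stdFlag F μ j).map (Matrix.toLin' M) = W j
  rw [Matrix.toLin'_toMatrix']
  exact h3

end Cfsg.Agent.Lib.helper30
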