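import Mathlib
import Cfsg.Agent.Lib.helper24.SffDefs
import Cfsg.Agent.Lib.helper7.SffC3A
import Cfsg.Agent.Lib.helper18.SffC3B
import Cfsg.Agent.Lib.helper99.SubfD

/-!
# S5965, piece N3 (helper30, racing copy): a derangement when `r ∤ q - 1`.
-/

set_option autoImplicit false

namespace Cfsg.Agent.Lib.helper30

/-- marker (file of helper30). -/
theorem sffn3_marker : True := by trivial

end Cfsg.Agent.Lib.helper30

namespace Cfsg.Agent.Lib.helper24

open Module Matrix

/-- an `r`-th root of unity is trivial when `r ∤ q - 1`. -/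
theorem h30_eq_one_of_pow_eq_one {F : Type*} [Field F] [Fintype F] (r : ℕ) [Fact r.Prime]
    (hnd : ¬ r ∣ Fintype.card F - 1) (d : F) (hd : d ^ r = 1) : d = 1 := by
  have hr : r.Prime := Fact.out
  have hd0 : d ≠ 0 := by
    rintro rfl
    rw [zero_pow hr.ne_zero] at hd
    exact zero_ne_one hd
  have h1 : d ^ (Fintype.card F - 1) = 1 := FiniteField.pow_card_sub_one_eq_one d hd0
  have h2 : d ^ Nat.gcd r (Fintype.card F - 1) = 1 := pow_gcd_eq_one.mpr ⟨hd, h1⟩
  have h3 : Nat.gcd r (Fintype.card F - 1) = 1 := (Nat.Prime.coprime_iff_not_dvd hr).mpr hnd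
  rw [h3, pow_one] at h2
  exact h2

/-- powers of a matrix over a subfield are over the subfield. -/
theorem h30_pow_mem_subfield {F : Type*} [Field F] (F₀ : Subfield F) {n : ℕ}
    (M : Matrix (Fin n) (Fin n) F) (hM : ∀ i j, M i j ∈ F₀) (k : ℕ) :
    ∀ i j, (M ^ k) i j ∈ F₀ := by
  induction k with
  | zero =>
    intro i j
    rw [pow_zero, Matrix.one_apply]
    split_ifs
    · exact one_mem _
    · exact zero_mem _
  | succ k ih =>
    intro i j
    rw [pow_succ, Matrix.mul_apply]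
    exact sum_mem fun l _ => mul_mem (ih i l) (hM l j)

/-- conjugate matrices have fixed spaces of the same dimension. -/
theorem h30_finrank_ker_conj {F : Type*} [Field F] {n : ℕ} (y P M : Matrix (Fin n) (Fin n) F)
    (hP : P.det ≠ 0) (h : y * P = P * M) :
    finrank F (LinearMap.ker (Matrix.toLin' M - 1)) =
      finrank F (LinearMap.ker (Matrix.toLin' y - 1)) := by
  have hPu : IsUnit P.det := isUnit_iff_ne_zero.mpr hP
  have h1 : P * P⁻¹ = 1 := Matrix.mul_nonsing_inv P hPu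
  have h2 : P⁻¹ * P = 1 := Matrix.nonsing_inv_mul P hPu
  let e : (Fin n → F) ≃ₗ[F] (Fin n → F) :=
    LinearEquiv.ofLinearMap (Matrix.toLin' P) (Matrix.toLin' P⁻¹)
      (by rw [← Matrix.toLin'_mul, h1, Matrix.toLin'_one])
      (by rw [← Matrix.toLin'_mul, h2, Matrix.toLin'_one])
  have he : ∀ v, e v = P *ᵥ v := fun v => rfl
  have hmap : (LinearMap.ker (Matrix.toLin' M - 1)).map (e : (Fin n → F) →ₗ[F] (Fin n → F)) =
      LinearMap.ker (Matrix.toLin' y - 1) := by
    ext v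
    simp only [Submodule.mem_map, LinearMap.mem_ker, LinearMap.sub_apply, Matrix.toLin'_apply,
      Module.End.one_apply, LinearEquiv.coe_coe, sub_eq_zero]
    constructor
    · rintro ⟨w, hw, rfl⟩
      rw [he, Matrix.mulVec_mulVec, h, ← Matrix.mulVec_mulVec, hw]
    · intro hv
      refine ⟨P⁻¹ *ᵥ v, ?_, ?_⟩
      · have h3 : M = P⁻¹ * y * P := by
          rw [mul_assoc, h, ← mul_assoc, h2, one_mul]
        rw [h3, Matrix.mulVec_mulVec, mul_assoc, h1, mul_one, ← Matrix.mulVec_mulVec, hv]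
      · rw [he, Matrix.mulVec_mulVec, h1, Matrix.one_mulVec]
  rw [← hmap]
  exact (LinearEquiv.finrank_map_eq e _).symm

/-- N3 -/
theorem h30_sff_nec_nodvd {F : Type*} [Field F] [Fintype F] (F₀ : Subfield F) {n : ℕ} (r : ℕ)
    [Fact r.Prime] (hrF : (r : F) ≠ 0) (hnd : ¬ r ∣ Fintype.card F - 1) (j : ℕ) (hj : j ≤ n)
    (hj1 : r ∣ (Fintype.card F) ^ j - 1) (hj2 : ¬ r ∣ (Nat.card F₀) ^ j - 1) :
    SffDerang F₀ r n := by
  classical
  have hr : r.Prime := Fact.out
  have hj0 : j ≠ 0 := by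
    rintro rfl
    apply hj2
    simp
  -- the order of `q` modulo `r`
  obtain ⟨i, hidef⟩ : ∃ i, i = orderOf ((Fintype.card F : ℕ) : ZMod r) := ⟨_, rfl⟩
  have hqj : ((Fintype.card F : ℕ) : ZMod r) ^ j = 1 := by
    have h1 : ((Fintype.card F ^ j - 1 : ℕ) : ZMod r) = 0 :=
      (ZMod.natCast_eq_zero_iff _ _).mpr hj1
    rw [Nat.cast_sub (Nat.one_le_pow _ _ Fintype.card_pos), Nat.cast_pow, Nat.cast_one,
      sub_eq_zero] at h1
    exact h1
  have hij : i ∣ j := by
    rw [hidef]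
    exact orderOf_dvd_of_pow_eq_one hqj
  have hi1 : 1 ≤ i := Nat.pos_of_dvd_of_pos hij (Nat.pos_of_ne_zero hj0)
  have hin : i ≤ n := (Nat.le_of_dvd (Nat.pos_of_ne_zero hj0) hij).trans hj
  have hn1 : 1 ≤ n := hi1.trans hin
  obtain ⟨y, hyr, hyk⟩ := sff_exists_fix (F := F) (n := n) r hrF (hidef ▸ hin)
  rw [← hidef] at hyk
  let i0 : Fin n := ⟨0, by omega⟩
  refine ⟨y, ?_, ⟨1, by rw [hyr, one_smul]⟩, ?_, ?_⟩
  · -- determinant
    apply h30_eq_one_of_pow_eq_one r hnd
    rw [← Matrix.det_pow, hyr, Matrix.det_one]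
  · -- not scalar
    intro z hz
    have hzr : z ^ r = 1 := by
      have h1 := congrFun (congrFun hyr i0) i0
      rw [hz, smul_pow, one_pow, Matrix.smul_apply, Matrix.one_apply_eq, smul_eq_mul, mul_one]
        at h1
      exact h1
    have hz1 : z = 1 := h30_eq_one_of_pow_eq_one r hnd z hzr
    rw [hz1, one_smul] at hz
    rw [hz, Matrix.toLin'_one] at hyk
    have h2 : (LinearMap.id : (Fin n → F) →ₗ[F] (Fin n → F)) - 1 = 0 := sub_self _
    rw [h2, LinearMap.ker_zero, finrank_top, Module.finrank_fin_fun] at hyk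
    omega
  · -- not conjugate into the subfield group
    rintro ⟨P, M₀, σ, hP, hσ, hM₀, hx⟩
    have hPu : IsUnit P.det := isUnit_iff_ne_zero.mpr hP
    have hPi : P⁻¹ * P = 1 := Matrix.nonsing_inv_mul P hPu
    have hpow : ∀ k : ℕ, y ^ k * P = P * (σ • M₀) ^ k := by
      intro k
      induction k with
      | zero => rw [pow_zero, pow_zero, one_mul, mul_one]
      | succ k ih => rw [pow_succ, pow_succ, mul_assoc, hx, ← mul_assoc, ih, mul_assoc]
    have hMr : (σ • M₀) ^ r = 1 := by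
      have h1 := hpow r
      rw [hyr, one_mul] at h1
      calc (σ • M₀) ^ r = P⁻¹ * (P * (σ • M₀) ^ r) := by rw [← mul_assoc, hPi, one_mul]
        _ = 1 := by rw [← h1, hPi]
    -- `σ ^ r ∈ F₀`
    have ht : (M₀ ^ r) i0 i0 ∈ F₀ := h30_pow_mem_subfield F₀ M₀ hM₀ r i0 i0
    have hσt : σ ^ r * (M₀ ^ r) i0 i0 = 1 := by
      have h1 := congrFun (congrFun hMr i0) i0
      rw [smul_pow, Matrix.smul_apply, Matrix.one_apply_eq, smul_eq_mul] at h1
      exact h1
    have hσr : σ ^ r ∈ F₀ := by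
      have h1 : σ ^ r = ((M₀ ^ r) i0 i0)⁻¹ := eq_inv_of_mul_eq_one_left hσt
      rw [h1]
      exact inv_mem ht
    -- `σ ∈ F₀`
    have hq2 := Cfsg.Agent.Lib.helper99.Subf.two_le_card_subfield F₀
    have hσq : σ ^ Nat.card F₀ = σ := by
      have h1 := Cfsg.Agent.Lib.helper99.Subf.pow_card_subfield F₀ (σ ^ r) hσr
      have hσr0 : σ ^ r ≠ 0 := pow_ne_zero r hσ
      have h2 : (σ ^ (Nat.card F₀ - 1)) ^ r = 1 := by
        have h3 : (σ ^ (Nat.card F₀ - 1)) ^ r * σ ^ r = σ ^ r := by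
          rw [← mul_pow, ← pow_succ, Nat.sub_add_cancel (by omega), ← pow_mul, mul_comm,
            pow_mul]
          exact h1
        exact mul_right_cancel₀ hσr0 (h3.trans (one_mul _).symm)
      have h4 : σ ^ (Nat.card F₀ - 1) = 1 := h30_eq_one_of_pow_eq_one r hnd _ h2
      calc σ ^ Nat.card F₀ = σ ^ (Nat.card F₀ - 1) * σ := by
            rw [← pow_succ, Nat.sub_add_cancel (by omega)]
        _ = σ := by rw [h4, one_mul]
    have hσm : σ ∈ F₀ := Cfsg.Agent.Lib.helper99.Subf.mem_subfield_of_pow F₀ σ hσq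
    have hMm : ∀ a b, (σ • M₀) a b ∈ F₀ := by
      intro a b
      rw [Matrix.smul_apply, smul_eq_mul]
      exact mul_mem hσm (hM₀ a b)
    have hdvd := sff_fix_dvd F₀ r hrF (σ • M₀) hMm hMr
    rw [h30_finrank_ker_conj y P (σ • M₀) hP hx, hyk] at hdvd
    have hni : n - (n - i) = i := by omega
    rw [hni] at hdvd
    apply hj2
    exact hdvd.trans (Nat.pow_sub_one_dvd_pow_sub_one _ hij)

end Cfsg.Agent.Lib.helper24
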