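import Mathlib
import Cfsg.Prelude.Def_Classical
import Cfsg.Prelude.Def_GeometricClasses
import Cfsg.Agent.Lib.helper49.WittIso

set_option autoImplicit false

namespace Cfsg.Agent.Lib.helper30

/-- marker for the S5977A PAIR piece -/
theorem h30_sfk_pair_marker : True := by trivial

/-- a finite type of even cardinality has a fixed-point-free involution -/
theorem h30_fpf_invol {α : Type*} [Fintype α] (h : Even (Fintype.card α)) :
    ∃ g : α → α, (∀ x, g (g x) = x) ∧ ∀ x, g x ≠ x := by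
  obtain ⟨e⟩ : Nonempty (α ≃ Fin (Fintype.card α)) := ⟨Fintype.equivFin α⟩
  refine ⟨fun x => e.symm (Fin.rev (e x)), ?_, ?_⟩
  · intro x
    simp
  · intro x hx
    have h1 : Fin.rev (e x) = e x := by
      have h0 := congrArg e hx
      simpa using h0
    have h2 := congrArg Fin.val h1
    rw [Fin.val_rev] at h2
    have h3 := (e x).2
    obtain ⟨k, hk⟩ := h
    omega

end Cfsg.Agent.Lib.helper30

namespace Cfsg.Agent.Lib.helper59.Sfk

open Matrix Cfsg.Geo
open Cfsg.Agent.Lib.helper49 (detHom spinorSign)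

/-- PAIR (M; pure combinatorics): a fixed-point-free involution of `Fin n` preserving the signs. -/
theorem sfk_pairing {F : Type*} [Field F] [DecidableEq F] (h2 : (2 : F) ≠ 0) (n : ℕ) (hn : Even n)
    (ε : Fin n → F) (hε : ∀ i, ε i = 1 ∨ ε i = -1)
    (hneg : Even (Finset.univ.filter (fun i => ε i = -1)).card) :
    ∃ π : Fin n → Fin n, (∀ i, π (π i) = i) ∧ (∀ i, π i ≠ i) ∧ ∀ i, ε (π i) = ε i := by
  have hA : Even (Fintype.card {i : Fin n // ε i = -1}) := by
    rw [Fintype.card_subtype]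
    exact hneg
  have hle : Fintype.card {i : Fin n // ε i = -1} ≤ n := by
    simpa using Fintype.card_subtype_le (fun i : Fin n => ε i = -1)
  have hB : Even (Fintype.card {i : Fin n // ¬ ε i = -1}) := by
    rw [Fintype.card_subtype_compl, Fintype.card_fin]
    exact (Nat.even_sub hle).2 ⟨fun _ => hA, fun _ => hn⟩
  obtain ⟨gA, hgA1, hgA2⟩ := Cfsg.Agent.Lib.helper30.h30_fpf_invol hA
  obtain ⟨gB, hgB1, hgB2⟩ := Cfsg.Agent.Lib.helper30.h30_fpf_invol hB
  have key : ∃ π : Fin n → Fin n, (∀ (i : Fin n) (h : ε i = -1), π i = (gA ⟨i, h⟩).1) ∧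
      (∀ (i : Fin n) (h : ¬ ε i = -1), π i = (gB ⟨i, h⟩).1) :=
    ⟨fun i => if h : ε i = -1 then (gA ⟨i, h⟩).1 else (gB ⟨i, h⟩).1,
      fun i h => dif_pos h, fun i h => dif_neg h⟩
  obtain ⟨π, hπA, hπB⟩ := key
  refine ⟨π, ?_, ?_, ?_⟩
  · intro i
    by_cases h : ε i = -1
    · rw [hπA i h, hπA _ (gA ⟨i, h⟩).2]
      exact congrArg Subtype.val (hgA1 ⟨i, h⟩)
    · rw [hπB i h, hπB _ (gB ⟨i, h⟩).2]
      exact congrArg Subtype.val (hgB1 ⟨i, h⟩)
  · intro i
    by_cases h : ε i = -1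
    · rw [hπA i h]
      intro heq
      exact hgA2 ⟨i, h⟩ (Subtype.ext heq)
    · rw [hπB i h]
      intro heq
      exact hgB2 ⟨i, h⟩ (Subtype.ext heq)
  · intro i
    by_cases h : ε i = -1
    · rw [hπA i h, (gA ⟨i, h⟩).2, h]
    · rw [hπB i h]
      have h1 : ε (gB ⟨i, h⟩).1 = 1 := by
        rcases hε (gB ⟨i, h⟩).1 with h3 | h3
        · exact h3
        · exact absurd h3 (gB ⟨i, h⟩).2
      have h4 : ε i = 1 := by
        rcases hε i with h3 | h3
        · exact h3
        · exact absurd h3 h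
      rw [h1, h4]

end Cfsg.Agent.Lib.helper59.Sfk
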