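import Mathlib

/-!
# S5987 piece MARIE-S (helper30): `stm_arith_suff` (pure arithmetic; the minus type twin of
`stp_arith_suff`, parities exchanged)
-/

set_option autoImplicit false
set_option linter.unusedVariables false

namespace Cfsg.Agent.Lib.helper30

theorem h30_ite_even (A : ℕ) : (if Even A then 1 else 0) = 1 - A % 2 := by
  by_cases h : Even A
  · rw [if_pos h]
    have := Nat.even_iff.mp h
    omega
  · rw [if_neg h]
    have := Nat.odd_iff.mp (Nat.not_even_iff_odd.mp h)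
    omega

end Cfsg.Agent.Lib.helper30

namespace Cfsg.Agent.Lib.helper24

theorem stm_arith_suff (i t d m : ℕ) (hi : Even i) (hi0 : 0 < i) (ht : 1 ≤ t) (hm : 1 ≤ m)
    (hmd : m < d)
    (hC : i ≤ m ∧ t + 2 * (m / i) ≤ (2 * d) / i ∧
      ((2 * (m % i) ≤ i ∧ (2 * d) % i = 0 ∧ Even ((2 * d) / i) ∧ t + 2 * (m / i) < (2 * d) / i) ∨
       (2 * (m % i) ≤ (2 * d) % i ∧ Odd ((2 * d) / i)) ∨
       (2 * (m % i) < (2 * d) % i ∧ Even ((2 * d) / i))))
    (A S k' : ℕ) (hA : 1 ≤ A) (hdim : i * A + 2 * k' = 2 * d) (hAS : A ≤ 2 * S + t)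
    (hk0 : k' = 0 → Odd A) :
    ∃ B a : ℕ, B ≤ S ∧ a + i * B = m ∧ a + (if Even A then 1 else 0) ≤ k' := by
  obtain ⟨c, hc⟩ := hi
  obtain ⟨him, htJ, hcases⟩ := hC
  have hD : i * ((2 * d) / i) + (2 * d) % i = 2 * d := Nat.div_add_mod (2 * d) i
  have hρ : (2 * d) % i < i := Nat.mod_lt _ hi0
  have hmM : i * (m / i) + m % i = m := Nat.div_add_mod m i
  have hμ : m % i < i := Nat.mod_lt _ hi0
  generalize (2 * d) / i = J at hD htJ hcases
  generalize (2 * d) % i = ρ at hD hρ hcases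
  generalize m / i = M at hmM htJ hcases
  generalize m % i = μ at hmM hμ hcases
  simp only [Nat.odd_iff, Nat.even_iff] at hcases hk0
  rw [Cfsg.Agent.Lib.helper30.h30_ite_even A]
  have e1 : i * J = 2 * (c * J) := by rw [hc]; ring
  have e2 : i * A = 2 * (c * A) := by rw [hc]; ring
  have hi2 : 2 ≤ i := by omega
  rcases Nat.lt_or_ge S M with hSM | hMS
  · -- `S < M` : `B = S`
    have h1 : i * S ≤ i * M := Nat.mul_le_mul_left i hSM.le
    refine ⟨S, m - i * S, le_refl S, by omega, ?_⟩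
    obtain ⟨e, he⟩ : ∃ e, A + e = 2 * S + t := ⟨2 * S + t - A, by omega⟩
    obtain ⟨f, hf⟩ : ∃ f, J = t + 2 * M + f := ⟨J - (t + 2 * M), by omega⟩
    have pJ : i * J = i * t + 2 * (i * M) + i * f := by rw [hf]; ring
    have pA : i * A + i * e = 2 * (i * S) + i * t := by rw [← mul_add, he]; ring
    have hef : 2 ≤ e + f ∨ (e = 1 ∧ f = 0) ∨ (e = 0 ∧ f = 1) ∨ (e = 0 ∧ f = 0) := by omega
    rcases hef with h | ⟨h, h'⟩ | ⟨h, h'⟩ | ⟨h, h'⟩
    · have h2 : i * 2 ≤ i * (e + f) := Nat.mul_le_mul_left i h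
      rw [mul_add] at h2
      omega
    · subst h; subst h'
      rw [mul_one] at pA
      rw [mul_zero] at pJ
      omega
    · subst h; subst h'
      rw [mul_zero] at pA
      rw [mul_one] at pJ
      omega
    · subst h; subst h'
      rw [mul_zero] at pA
      rw [mul_zero] at pJ
      omega
  · -- `M ≤ S` : `B = M`
    refine ⟨M, μ, hMS, by omega, ?_⟩
    have hAJ : A ≤ J := by
      by_contra h
      have h' : J + 1 ≤ A := by omega
      have h2 := Nat.mul_le_mul_left i h'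
      rw [Nat.mul_succ] at h2
      omega
    have hcs : A + 2 ≤ J ∨ A + 1 = J ∨ A = J := by omega
    rcases hcs with h | h | h
    · have h2 := Nat.mul_le_mul_left i h
      rw [mul_add] at h2
      omega
    · have h2 : i * J = i * A + i := by rw [← h, Nat.mul_succ]
      omega
    · subst h
      omega

end Cfsg.Agent.Lib.helper24
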